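import Cfsg.Agent.BS.HigS
import Cfsg.Agent.H8.Dich3
import Cfsg.Agent.L0.Block4
import Cfsg.Agent.WA.PAb3

/- LINKED interface; the statements, proved in the imported files:

-- abelian Sylow 2-subgroup of rank at least three and 2-constrained involution centralizers 
theorem ab3 {G : Type*} [Group G] [Finite G] [IsSimpleGroup G] (hG : ¬ IsMulCommutative G) (S : Sylow 2 G)
    (hS : IsMulCommutative (S : Subgroup G)) (h3 : ¬ PRankLE 2 2 G)
    (hcon : ∀ t : G, orderOf t = 2 → IsPConstrained 2 (centralizer ({t} : Set G))) :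
    ∃ M : Subgroup G, IsStronglyEmbedded M
-/
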