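import Cfsg.Agent.WA.PR2
import Cfsg.Agent.WA.IAb3

/-! `WA.rank2` is proved in `PR2` (from `WA.lyons`, interface `ILy`); `WA.ab3` is the interface `IAb3`. -/
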