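import Cfsg.Agent.WA.WDef
import Cfsg.Agent.WA.IR2
import Cfsg.Agent.WA.W14

/- LINKED interface; the statements, proved in the imported files:

theorem walter {G : Type u} [Group G] [Finite G] [IsSimpleGroup G] (hG : ¬ IsMulCommutative G) (h : AB G) :
    Typ G
-/
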