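import Cfsg.Agent.WA.WDef
import Cfsg.Agent.H5.GWc3
import Cfsg.Agent.H5.GWc4
import Cfsg.Prelude.Def_TwoFusion

/-! Identification of the three types. -/

set_option autoImplicit false

namespace Cfsg.Agent.WA.W

open Subgroup H7 H8
open GW (Cz DS)
open scoped MatrixGroups commutatorElement

theorem ds_of_card_le {G : Type*} [Group G] [Finite G] (h : ∀ P : Subgroup G, IsPGroup 2 P → Nat.card P ≤ 4) :
    DS G := fun P hP => by
  by_cases h1 : ∃ ρ ∈ P, P ≤ zpowers ρ
  · obtain ⟨ρ, h1, h2⟩ := h1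
    exact ⟨ρ, h1, fun x hx h3 => (h3 (h2 hx)).elim, fun x hx y _ h3 => (h3 (h2 hx)).elim⟩
  push Not at h1
  have key : ∀ x ∈ P, 2 * orderOf x ≤ 4 := fun x hx => by
    have h2 := H9.card_mul_relIndex (zpowers_le.2 hx)
    have h3 : (zpowers x).relIndex P ≠ 1 := fun e => h1 x hx (relIndex_eq_one.1 e)
    have h4 : (zpowers x).relIndex P ≠ 0 := index_ne_zero_of_finite
    have := h P hP
    rw [Nat.card_zpowers] at h2
    have : 2 ≤ (zpowers x).relIndex P := by omega
    nlinarith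
  obtain ⟨ρ, hρ, h2⟩ := SetLike.not_le_iff_exists.1 (h1 1 P.one_mem)
  refine ⟨ρ, hρ, fun x hx _ => ?_, fun x hx y hy => Dich.mul_mem_of_relIndex_le ?_ hx hy⟩
  · have := key x hx
    have := orderOf_pos x
    rw [← pow_two, ← orderOf_dvd_iff_pow_eq_one]
    obtain e | e : orderOf x = 1 ∨ orderOf x = 2 := by omega
    all_goals simp [e]
  · have h3 := H9.card_mul_relIndex (zpowers_le.2 hρ)
    have := h P hP
    have h4 : orderOf ρ ≠ 1 := fun e => h2 (by rw [orderOf_eq_one_iff.1 e]; exact one_mem _)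
    have := orderOf_pos ρ
    rw [Nat.card_zpowers] at h3
    have : 2 ≤ orderOf ρ := by omega
    nlinarith

theorem exists_hyperplane_not_mem {G : Type*} [Group G] [Finite G] {T : Subgroup G} (hT : ∀ s ∈ T, s * s = 1)
    {t : G} (ht : t ∈ T) (h1 : t ≠ 1) : ∃ M : Subgroup G, M.relIndex T = 2 ∧ t ∉ M := by
  obtain ⟨M, ⟨h2, h3⟩, h4⟩ := Finite.exists_le_maximal (p := fun M : Subgroup G => M ≤ T ∧ t ∉ M) (a := ⊥)
    ⟨bot_le, h1⟩ |>.imp fun _ h => h.2
  have ab : ∀ v ∈ T, ∀ w ∈ T, v * w = w * v := fun v hv w hw =>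
    H9.comm_of_sq_eq_one (fun a ha => by rw [pow_two, hT a ha]) hv hw
  refine ⟨M, relIndex_eq_two_iff.2 ⟨t, ht, fun b hb => ?_⟩, h3⟩
  by_cases h5 : b ∈ M
  · exact Or.inr ⟨h5, fun e => h3 ((mul_mem_cancel_left h5).1 e)⟩
  refine Or.inl ⟨?_, h5⟩
  have h6 : t ∈ M ⊔ zpowers b := by_contra fun e =>
    h5 (h4 ⟨sup_le h2 (zpowers_le.2 hb), e⟩ le_sup_left (mem_sup_right (mem_zpowers b)))
  obtain ⟨m, hm, c, hc, rfl⟩ := (H9.mem_sup_of_le_normalizer' (zpowers_le.2 (H9.mem_normalizer_of_conj_mem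
    fun x hx => by rwa [ab b hb x (h2 hx), mul_inv_cancel_right]))).1 h6
  rcases (H9.mem_zpowers_of_mul_self (hT b hb)).1 hc with rfl | rfl
  · exact (h3 (by simpa using hm)).elim
  · rwa [ab m (h2 hm) c hb, ← mul_assoc, hT c hb, one_mul]

theorem final {G : Type*} [Group G] [Finite G] [IsSimpleGroup G] (hG : ¬ IsMulCommutative G) (h : Typ G) :
    (∃ (F : Type) (_ : Field F) (_ : Fintype F),
        (Fintype.card F % 8 = 0 ∨ Fintype.card F % 8 = 3 ∨ Fintype.card F % 8 = 5) ∧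
        Nonempty (G ≃* Matrix.ProjectiveSpecialLinearGroup (Fin 2) F)) ∨
    ((∀ S : Sylow 2 G, IsMulCommutative ↥(S : Subgroup G)) ∧
      ∃ t : G, orderOf t = 2 ∧ IsCoatom (Subgroup.centralizer ({t} : Set G)) ∧
        ∃ E : Subgroup G, Cfsg.IsInternalDirectProduct (Subgroup.zpowers t) E (Subgroup.centralizer ({t} : Set G)) ∧
          ∃ (F : Type) (_ : Field F) (_ : Fintype F), Odd (Fintype.card F) ∧ 3 < Fintype.card F ∧
            ∃ N : Subgroup ↥E, N.Normal ∧ Nonempty (↥N ≃* Matrix.ProjectiveSpecialLinearGroup (Fin 2) F) ∧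
              Subgroup.centralizer (N : Set ↥E) = ⊥) ∨
    (∃ (m : ℕ) (F : Type) (_ : Field F) (_ : Fintype F), 1 ≤ m ∧ Fintype.card F = 2 ^ (2 * m + 1) ∧
        Nonempty (G ≃* ↥(Cfsg.Lie.Sz F (2 ^ (m + 1))))) ∨
    (∃ (n : ℕ) (F : Type) (_ : Field F) (_ : Fintype F), 2 ≤ n ∧ Fintype.card F = 4 ^ n ∧
        Nonempty (G ≃* Cfsg.PSU 3 F (2 ^ n))) := by
  rcases h with ⟨M, hM⟩ | h | h
  · rcases BS.bender_simple hG hM with ⟨F, _, _, _, h4, ⟨e⟩⟩ | ⟨F, _, _, n, h1, h2, h3⟩ | ⟨F, _, _, m, h1⟩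
    · obtain ⟨⟨n, hn⟩, -, h5⟩ := FiniteField.card F 2
      by_cases h6 : Fintype.card F = 4
      · have := Fact.mk Nat.prime_five
        refine Or.inl ⟨ZMod 5, inferInstance, inferInstance, by simp, H5.equiv_PSL_five_of_card ?_ (ZMod.card 5)⟩
        have h7 : center SL(2, F) = ⊥ := eq_bot_iff.2 fun a ha => by
          rcases SL2_mem_center_iff.1 ha with rfl | rfl
          · exact one_mem _
          · refine mem_bot.2 (Subtype.ext (Matrix.ext fun i j => ?_))
            simp [CharTwo.neg_eq]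
        have h8 := (center SL(2, F)).card_mul_index
        rw [H5.card_SL2, h6, index, ← Nat.card_congr e.toEquiv, h7, card_bot] at h8
        omega
      · refine Or.inl ⟨F, inferInstance, inferInstance, Or.inl ?_, ⟨e⟩⟩
        rw [h5] at h4 h6 ⊢
        obtain ⟨k, rfl⟩ : ∃ k, n = k + 3 := Nat.exists_eq_add_of_le' (by
          by_contra h7
          have : n ≤ 2 := by omega
          interval_cases n <;> simp_all)
        simp [pow_add]
    · exact Or.inr (Or.inr (Or.inr ⟨n, F, inferInstance, inferInstance, h1, by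
        rw [h2, ← pow_mul, mul_comm, pow_mul]; rfl, h3⟩))
    · exact Or.inr (Or.inr (Or.inl ⟨m, F, inferInstance, inferInstance, h1⟩))
  · obtain ⟨S, hS⟩ := exists_isSylowIn 2 (⊤ : Subgroup G)
    have h1 := S.card_mul_index
    have h2 := hS.not_dvd_relIndex
    rw [relIndex_top_right] at h2
    rw [h S hS] at h1
    rcases GW.gw_psl hG (ds_of_card_le fun P hP => by
      obtain ⟨T, hT, h3⟩ := exists_isSylowIn_ge hP (le_top : P ≤ ⊤)
      exact h T hT ▸ card_le_of_le h3) with ⟨F, _, _, h3, ⟨e⟩⟩ | h3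
    · refine Or.inl ⟨F, inferInstance, inferInstance, Or.inr (H5.mod_eight_of_card h3
        (Nat.not_even_iff_odd.1 fun e => h2 e.two_dvd) ?_), ⟨e⟩⟩
      rw [← H5.card_of_psl h3 e, ← h1]; ring
    · omega
  refine Or.inr (Or.inl ⟨fun S => H9.isMulCommutative_of_comm (h.ab _ S.isPGroup'), ?_⟩)
  obtain ⟨S, hS⟩ := exists_isSylowIn 2 (⊤ : Subgroup G)
  obtain ⟨t, htS, ht⟩ := Dich.exists_inv_of_even (H := S) (by rw [h.card S hS]; decide)
  obtain ⟨h1, -, K, hK, hK', htK, hN, hC⟩ := h.cent t ht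
  have htt := H9.mul_self_of_orderOf_two ht
  have hSC : S ≤ Cz t := fun s hs => mem_centralizer_singleton_iff.2 (h.ab S hS.pgroup s hs t htS)
  obtain ⟨M, hM, htM⟩ := exists_hyperplane_not_mem (h.sq S hS) htS (H9.ne_one_of_orderOf_two ht)
  let t' : Cz t := ⟨t, hSC htS⟩
  obtain ⟨E, hE, htE⟩ := H6.exists_index_two_of_not_conj (H := S.subgroupOf (Cz t)) (M := M.subgroupOf (Cz t))
    (x := t') (Nat.not_even_iff_odd.1 fun e => (hS.of_le hSC le_top).not_dvd_relIndex e.two_dvd)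
    (by rw [relIndex_subgroupOf hSC, hM]) ⟨1, Subtype.ext (by simpa [pow_two] using htt)⟩
    (fun g e => htM (by
      have e' : (g : G)⁻¹ * t * g ∈ M := e
      rwa [mul_assoc, ← mem_centralizer_singleton_iff.1 g.2, inv_mul_cancel_left] at e'))
    fun k g hk _ => by
      obtain ⟨k, rfl⟩ := Nat.exists_eq_succ_of_ne_zero hk.ne'
      rw [pow_succ', pow_mul, show t' ^ 2 = 1 from Subtype.ext (by simpa [pow_two] using htt)]
      simp
  have mE : ∀ x : Cz t, (x : G) ∈ E.map (Cz t).subtype ↔ x ∈ E := fun x => mem_map_iff_mem (subtype_injective _)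
  have hEC : E.map (Cz t).subtype ≤ Cz t := map_subtype_le _
  have hKE : K ≤ E.map (Cz t).subtype := by
    rw [← hK.perfect, commutator_le]
    intro a ha b hb
    refine (mE ⁅(⟨a, hK.le ha⟩ : Cz t), (⟨b, hK.le hb⟩ : Cz t)⁆).2 ?_
    simp only [commutatorElement_def, mul_mem_iff_of_index_two hE, inv_mem_iff]
    tauto
  have hinf : zpowers t ⊓ E.map (Cz t).subtype = ⊥ := eq_bot_iff.2 fun x hx => by
    rcases (H9.mem_zpowers_of_mul_self htt).1 hx.1 with rfl | rfl
    exacts [one_mem _, (htE ((mE t').1 hx.2)).elim]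
  have hnc := QS.not_isMulCommutative hK.qs
  have h4 : ∀ P : Subgroup K, IsPGroup 2 P → Nat.card P ≤ 4 := fun P hP => by
    obtain ⟨T, hT, h3⟩ := exists_isSylowIn_ge (p := 2) (Q := zpowers t ⊔ P.map K.subtype)
      ((H9.isPGroup_zpowers ⟨1, by rw [pow_one, pow_two, htt]⟩).to_sup_of_normal_left' (hP.map _)
        (((map_subtype_le _).trans hK.le).trans (by
          rw [zpowers_eq_closure, Cz, ← centralizer_closure]; exact centralizer_le_normalizer _))) le_top
    have h5 := H9.card_mul_card_le_of_disjoint (le_sup_left.trans h3) (le_sup_right.trans h3)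
      (eq_bot_iff.2 ((inf_le_inf_left _ ((map_subtype_le _).trans hKE)).trans hinf.le))
    rw [h.card T hT, Nat.card_zpowers, ht, card_map_of_injective (subtype_injective _)] at h5
    omega
  refine ⟨t, ht, h1, E.map (Cz t).subtype, ⟨zpowers_le.2 t'.2, hEC, fun a ha b hb => ?_, hinf,
    le_antisymm (sup_le (zpowers_le.2 t'.2) hEC) fun c hc => ?_⟩, ?_⟩
  · obtain ⟨i, rfl⟩ := ha
    exact (Commute.zpow_right (mem_centralizer_singleton_iff.1 (hEC hb)) i).eq.symm
  · by_cases h5 : (⟨c, hc⟩ : Cz t) ∈ E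
    · exact mem_sup_right ((mE _).2 h5)
    · have h6 := (mul_mem_iff_of_index_two hE).2 (iff_of_false htE h5)
      rw [← one_mul c, ← htt, mul_assoc]
      exact mul_mem_sup (mem_zpowers t) ((mE _).2 h6)
  rcases GW.gw_psl hnc (ds_of_card_le h4) with ⟨F, _, _, h3, ⟨e⟩⟩ | h3
  · refine ⟨F, inferInstance, inferInstance, h3, H5.three_lt_card hnc h3 e, K.subgroupOf _,
      normal_subgroupOf_of_le_normalizer (hEC.trans hN), ⟨(subgroupOfEquivOfLe hKE).trans e⟩,
      eq_bot_iff.2 fun x hx => Subtype.ext (mem_bot.1 (hinf.le ⟨hC.le ⟨hEC x.2, fun k hk => ?_⟩, x.2⟩))⟩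
    exact congrArg Subtype.val (hx ⟨k, hKE hk⟩ hk)
  · obtain ⟨P, hP⟩ := Sylow.exists_subgroup_card_pow_prime (G := K) 2 (n := 3) (by rw [h3]; norm_num)
    have := h4 P (IsPGroup.of_card hP)
    omega

end Cfsg.Agent.WA.W
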