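import Cfsg.Agent.WA.ILk

/-! Assembly of the unitary component theorem in elementary abelian form. -/

set_option autoImplicit false

namespace Cfsg.Agent.WA.Lk

open Subgroup Cfsg.Agent.H1.U3 Cfsg.Agent.H8

variable {F : Type*} [Field F] [Finite F] {σ : F →+* F} [Ctx σ] {G : Type*} [Group G] [Finite G]

theorem Two.con (w : Two σ G) : w.Con := by
  by_cases h : ∀ g ∈ normalizer (w.S : Set G), cj g w.A = w.A
  · rcases w.card_E_cases with h2 | h4
    · exact w.con_tower h2 fun _ => h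
    · exact w.con_syl h4 (w.syl_of h)
  push Not at h
  obtain ⟨g, hg, hA⟩ := h
  by_cases hc : w.c = 0
  · by_cases hP : ∀ g ∈ normalizer (w.S : Set G), g ∈ normalizer (w.P0 : Set G) → cj g w.A = w.A
    · have hq : Nat.card w.E = w.q := by
        by_contra hq
        exact hA (hP g hg (w.char_P0 hc hq hg))
      exact w.con_swap hc hq (fun g hg => w.pair hc hq hP hg) ⟨g, hg, hA⟩
    · push Not at hP
      obtain ⟨k, hk, hkP, hkA⟩ := hP
      obtain ⟨t, Y, W, a₁, a₂, h6⟩ := w.exists_six hc hk hkP hkA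
      exact h6.con
  · rcases w.cls hg with h1 | ⟨t, ht, -⟩ | h1 | h1
    · exact absurd h1 hA
    · exact w.con_tower (w.inv_iff.2 ⟨t, ht⟩) fun h0 => absurd h0 hc
    · exact absurd h1.1 hc
    · exact absurd h1.1 hc

theorem Fr.con (f : Fr σ G) : f.Con := by
  by_cases h : ∀ s ∈ f.A, f.TC s → s ∈ f.E
  · exact f.con_one h
  push Not at h
  obtain ⟨s, hs, h1, h2⟩ := h
  obtain ⟨w, rfl⟩ := f.exists_two hs h1 h2
  exact w.con

end Cfsg.Agent.WA.Lk
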