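import Cfsg.Agent.WA.GoDef
import Cfsg.Agent.H1.SLn
import Cfsg.Agent.WA.GoNa
import Cfsg.Agent.WA.GoNb

/- LINKED interface; the statements, proved in the imported files:

variable {G : Type u} [Group G] [Finite G] {F : Type} [Field F] [Fintype F]
-- a group generated by full elation groups of `PG(2, F)` 
theorem rec3 {X : Type v} {Y : Type w} [MulAction G X] [MulAction G Y] (I : X → Y → Prop)
    (φ : (Fin 3 → F) → X) (ψ : (Fin 3 → F) → Y) (U : X → Y → Subgroup G)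
    (hφ : ∀ x, ∃ v, v ≠ 0 ∧ φ v = x) (hψ : ∀ l, ∃ f, f ≠ 0 ∧ ψ f = l)
    (hsm : ∀ (c : F) v, c ≠ 0 → v ≠ 0 → φ (c • v) = φ v)
    (hI : ∀ v f, v ≠ 0 → f ≠ 0 → (I (φ v) (ψ f) ↔ f ⬝ᵥ v = 0))
    (hinv : ∀ (g : G) x l, I x l → I (g • x) (g • l))
    (hfaith : ∀ g : G, (∀ x : X, g • x = x) → g = 1)
    (hcard : ∀ x l, I x l → Nat.card (U x l) = Fintype.card F)
    (hax : ∀ x l, I x l → ∀ g ∈ U x l, ∀ x', I x' l → g • x' = x')
    (hce : ∀ x l, I x l → ∀ g ∈ U x l, ∀ l', I x l' → g • l' = l')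
    (hgen : ∀ M : Subgroup G, (∀ x l, I x l → U x l ≤ M) → M = ⊤) :
    Nonempty (G ≃* ProjectiveSpecialLinearGroup (Fin 3) F)
-- a group generated by full groups of symmetries about the points of `W(F)` 
theorem rec4 (h2 : (2 : F) = 0) {X : Type v} [MulAction G X] (col : X → X → Prop)
    (φ : (Fin 4 → F) → X) (U : X → Subgroup G)
    (hφ : ∀ x, ∃ v, v ≠ 0 ∧ φ v = x)
    (hsm : ∀ (c : F) v, c ≠ 0 → v ≠ 0 → φ (c • v) = φ v)
    (hcol : ∀ v w, v ≠ 0 → w ≠ 0 → (col (φ v) (φ w) ↔ om v w = 0))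
    (hinv : ∀ (g : G) x y, col x y → col (g • x) (g • y))
    (hfaith : ∀ g : G, (∀ x : X, g • x = x) → g = 1)
    (hcard : ∀ x, Nat.card (U x) = Fintype.card F)
    (hfix : ∀ x, ∀ g ∈ U x, ∀ y, col x y → g • y = y)
    (hgen : ∀ M : Subgroup G, (∀ x, U x ≤ M) → M = ⊤) :
    Nonempty (G ≃* Cfsg.PSp 2 F)
-/
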