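import Cfsg.Agent.WA.IGoF
import Cfsg.Agent.WA.IGoN
import Cfsg.Agent.WA.GoG4

/- LINKED interface; the statements, proved in the imported files:

variable {G : Type u} [Group G] [Finite G] {S A B : Subgroup G}
theorem Loc.con [IsSimpleGroup G] (h : Loc S A B) : Con G (A.relIndex S)
-/
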