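import Cfsg.Agent.WA.Lk3b1

/-! The storey of order `q ^ 6`: the canonical pair and the action of `T`. -/

set_option autoImplicit false
set_option linter.unusedSectionVars false

namespace Cfsg.Agent.WA.Lk.X3b

open Subgroup Cfsg.Agent.H1.U3 Cfsg.Agent.H8 X1

variable {F : Type*} [Field F] [Finite F] {σ : F →+* F} [Ctx σ] {G : Type*} [Group G] [Finite G]
  {f : Fr σ G} {t : G} {Y W : Subgroup G} {a₁ a₂ : G → F}

/-- `g` maps the kernel of `b` into the kernel of `c` -/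
def Mp (Y : Subgroup G) (b c : G → F) (g : G) : Prop := ∀ y ∈ Y, b y = 0 → c (g * y * g⁻¹) = 0

theorem Mp.mul {b c d : G → F} {g g' : G} (hg : g ∈ normalizer (Y : Set G)) (h1 : Mp Y b c g) (h2 : Mp Y c d g') :
    Mp Y b d (g' * g) := fun y hy e => by
  rw [show g' * g * y * (g' * g)⁻¹ = g' * (g * y * g⁻¹) * g'⁻¹ by group]
  exact h2 _ (cjY hg hy) (h1 y hy e)

variable (h : f.Six t Y W a₁ a₂)
include h

theorem Sp.cm_surj {v₁ v₂ : G → F} (k : Sp σ Y W a₁ a₂ v₁ v₂) {y w : G} (hy : y ∈ Y) (h1 : a₁ y ≠ 0) (h2 : a₂ y ≠ 0)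
    (hw : w ∈ W) : ∃ x ∈ Y, y⁻¹ * (x * y * x⁻¹) = w := by
  obtain ⟨a, ha⟩ := exists_bl h1 (k.fix w hw).1
  obtain ⟨b, hb⟩ := exists_bl h2 (k.fix w hw).2
  obtain ⟨x, hx, rfl, rfl⟩ := h.surj a b
  exact ⟨x, hx, k.ext (cmW h hy hx) hw ((k.cm h hy hx).trans ha) ((k.symm.cm (X3b.symm h) hy hx).trans hb)⟩

theorem Ns.cm_surj {v : G → F} (k : Ns σ Y W a₁ a₂ v) {y w : G} (hy : y ∈ Y) (h1 : y ∉ W)
    (hw : w ∈ W) : ∃ x ∈ Y, y⁻¹ * (x * y * x⁻¹) = w := by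
  by_cases e : a₁ y = 0
  · have e2 : σ (a₂ y) ≠ 0 := fun e2 => h1 ((h.ker y hy).2 ⟨e, (map_eq_zero σ).1 e2⟩)
    obtain ⟨x, hx, x1, x2⟩ := h.surj (v w / σ (a₂ y)) 0
    exact ⟨x, hx, k.ext (cmW h hy hx) hw (by rw [k.cm h hy hx, e, x1, zero_mul, zero_add, div_mul_cancel₀ _ e2])⟩
  · obtain ⟨x, hx, x1, x2⟩ := h.surj 0 (σ (v w / a₁ y))
    exact ⟨x, hx, k.ext (cmW h hy hx) hw (by rw [k.cm h hy hx, x1, x2, invol, zero_mul, add_zero, mul_div_cancel₀ _ e])⟩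

theorem Ns.sq_iff {v : G → F} (k : Ns σ Y W a₁ a₂ v) {y : G} (hy : y ∈ Y) : y * y = 1 ↔ a₁ y = 0 ∨ a₂ y = 0 := by
  rw [← map_eq_zero σ (a := a₂ y), ← mul_eq_zero, ← k.sq y hy]
  exact ⟨fun e => by rw [e, add_one k.mul], k.inj _ (sqW h hy)⟩

theorem pair1 {g y : G} (hg : g ∈ normalizer (Y : Set G)) (hy : y ∈ Y) (e : a₁ y = 0) :
    a₁ (g * y * g⁻¹) = 0 ∨ a₂ (g * y * g⁻¹) = 0 := by
  rcases cases h with ⟨v₁, v₂, k⟩ | ⟨v, k⟩
  · by_contra hn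
    rw [not_or] at hn
    obtain ⟨p, hp, p1, p2⟩ := h.surj 1 0
    obtain ⟨x, hx, e1⟩ := k.cm_surj h (cjY hg hy) hn.1 hn.2 (cjW h hg (sqW h hp))
    have := k.cm h hy (cjY (inv_mem hg) hx)
    rw [e, zero_bl, show y⁻¹ * (g⁻¹ * x * g⁻¹⁻¹ * y * (g⁻¹ * x * g⁻¹⁻¹)⁻¹) =
      g⁻¹ * ((g * y * g⁻¹)⁻¹ * (x * (g * y * g⁻¹) * x⁻¹)) * g by group, e1,
      show g⁻¹ * (g * (p * p) * g⁻¹) * g = p * p by group, (k.sq p hp).1, p1, nm_one] at this
    exact one_ne_zero this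
  · rw [← k.sq_iff h (cjY hg hy), show g * y * g⁻¹ * (g * y * g⁻¹) = g * (y * y) * g⁻¹ by group,
      (k.sq_iff h hy).2 (Or.inl e), mul_one, mul_inv_cancel]

theorem pair2 {g : G} (hg : g ∈ normalizer (Y : Set G)) : Mp Y a₁ a₁ g ∨ Mp Y a₁ a₂ g := by
  by_contra hn
  simp only [not_or, Mp, not_forall] at hn
  obtain ⟨⟨x, hx, x1, x2⟩, y, hy, y1, y2⟩ := hn
  have x3 := (pair1 h hg hx x1).resolve_left x2
  have y3 := (pair1 h hg hy y1).resolve_right y2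
  have := pair1 h hg (mul_mem hx hy) (by rw [h.a₁_mul x hx y hy, x1, y1, add_zero])
  rw [show g * (x * y) * g⁻¹ = g * x * g⁻¹ * (g * y * g⁻¹) by group, h.a₁_mul _ (cjY hg hx) _ (cjY hg hy),
    h.a₂_mul _ (cjY hg hx) _ (cjY hg hy), x3, y3, add_zero, zero_add] at this
  exact this.elim x2 y2

theorem not_same {g : G} (hg : g ∈ normalizer (Y : Set G)) (h1 : Mp Y a₁ a₁ g) (h2 : Mp Y a₂ a₁ g) : False := by
  obtain ⟨p, hp, p1, -⟩ := h.surj 1 0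
  have hp' := cjY (inv_mem hg) hp
  obtain ⟨x, hx, x1, x2⟩ := h.surj (a₁ (g⁻¹ * p * g⁻¹⁻¹)) 0
  have := h1 _ (mul_mem (inv_mem hx) hp') (by rw [h.a₁_mul _ (inv_mem hx) _ hp', a_inv h hx, x1, aa σ])
  rw [show g * (x⁻¹ * (g⁻¹ * p * g⁻¹⁻¹)) * g⁻¹ = (g * x * g⁻¹)⁻¹ * p by group, h.a₁_mul _ (inv_mem (cjY hg hx)) _ hp,
    a_inv h (cjY hg hx), h2 x hx x2, p1, zero_add] at this
  exact one_ne_zero this

theorem not_both {g : G} (hg : g ∈ normalizer (Y : Set G)) (h1 : Mp Y a₁ a₁ g) (h2 : Mp Y a₁ a₂ g) : False := by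
  obtain ⟨p, hp, p1, p2⟩ := h.surj 0 1
  have := cjW h (inv_mem hg) ((h.ker _ (cjY hg hp)).2 ⟨h1 p hp p1, h2 p hp p1⟩)
  rw [show g⁻¹ * (g * p * g⁻¹) * g⁻¹⁻¹ = p by group] at this
  exact one_ne_zero (p2.symm.trans (a_W (symm h) this))

theorem pair {g : G} (hg : g ∈ normalizer (Y : Set G)) :
    (Mp Y a₁ a₁ g ∧ Mp Y a₂ a₂ g) ∨ (Mp Y a₁ a₂ g ∧ Mp Y a₂ a₁ g) :=
  (pair2 h hg).imp (fun e => ⟨e, (pair2 (symm h) hg).resolve_right (not_same h hg e)⟩)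
    fun e => ⟨e, (pair2 (symm h) hg).resolve_left fun e' => not_same (symm h) hg e' e⟩

theorem mp_t : Mp Y a₂ a₁ t := fun y hy e => by rw [tinv h, h.swap y hy, e]

omit h in
theorem act {b c : G → F} (hb : ∀ x ∈ Y, ∀ y ∈ Y, b (x * y) = b x + b y) (hc : ∀ x ∈ Y, ∀ y ∈ Y, c (x * y) = c x + c y)
    (jY : ∀ u, f.j u ∈ Y) (jb : ∀ u, b (f.j u) = u.a) (jc : ∀ u, c (f.j u) = u.a) {x : G}
    (hx : x ∈ normalizer (Y : Set G)) (hQ : x ∈ normalizer (f.Q : Set G)) (m : Mp Y b c x) {y : G} (hy : y ∈ Y) :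
    c (x * y * x⁻¹) = f.cc x * f.tt x (b y) := by
  have hu := jY (lift σ (b y))
  have := m _ (mul_mem (inv_mem hu) hy) (by rw [hb _ (inv_mem hu) _ hy, add_inv σ hb hu, jb, lift_a, aa σ])
  rw [show x * ((f.j (lift σ (b y)))⁻¹ * y) * x⁻¹ = (x * f.j (lift σ (b y)) * x⁻¹)⁻¹ * (x * y * x⁻¹) by group,
    hc _ (inv_mem (cjY hx hu)) _ (cjY hx hy), add_inv σ hc (cjY hx hu), f.conj_j hQ, jc, f.aut_a, lift_a] at this
  exact ((add0 σ).1 this).symm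

theorem act1 {x y : G} (hx : x ∈ f.T) (m : Mp Y a₁ a₁ x) (hy : y ∈ Y) : a₁ (x * y * x⁻¹) = f.cc x * f.tt x (a₁ y) :=
  act h.a₁_mul h.a₁_mul h.jY h.a₁_j h.a₁_j (h.TN hx) (f.T_N hx) m hy

theorem act2 {x y : G} (hx : x ∈ f.T) (m : Mp Y a₂ a₁ x) (hy : y ∈ Y) : a₁ (x * y * x⁻¹) = f.cc x * f.tt x (a₂ y) :=
  act h.a₂_mul h.a₁_mul h.jY h.a₂_j h.a₁_j (h.TN hx) (f.T_N hx) m hy

theorem tri {x y : G} (hx : x ∈ f.T) (e : f.tt x = 1) (hn : x ∉ Y) (hy : y ∈ Y) : a₁ (x * y * x⁻¹) = a₂ y := by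
  obtain ⟨s, hs, u, rfl⟩ := f.mem_T1.1 (f.mem_T1_of_two (f.T_le_D hx)
    ((f.T_syl.pgroup ⟨x, hx⟩).imp fun k hk => congrArg Subtype.val hk) e)
  rcases h.E2 s hs with rfl | rfl
  · exact absurd (by rw [one_mul]; exact h.jY u) hn
  · have := h.jY u
    rw [show s * f.j u * y * (s * f.j u)⁻¹ = s * (f.j u * y * (f.j u)⁻¹) * s⁻¹ by group, tinv h,
      h.swap _ (mul_mem (mul_mem this hy) (inv_mem this)), a_conj (symm h) this hy]

theorem a_mul_conj {y x p : G} (hy : y ∈ Y) (hx : x ∈ normalizer (Y : Set G)) (hp : p ∈ Y) :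
    a₁ (y * x * p * (y * x)⁻¹) = a₁ (x * p * x⁻¹) := by
  rw [show y * x * p * (y * x)⁻¹ = y * (x * p * x⁻¹) * y⁻¹ by group, a_conj h hy (cjY hx hp)]

/-- a normal subgroup of `R` not in `Y` meets `Y T - Y` -/
theorem cent {R K : Subgroup G} (hR : IsPGroup 2 R) (hN : R ≤ normalizer (Y : Set G)) (hT : f.T ≤ R) (hY : Y ≤ R)
    (hK : K ≤ R) (hn : R ≤ normalizer (K : Set G)) (hle : ¬ K ≤ Y) : ∃ y ∈ Y, ∃ x ∈ f.T, y * x ∈ K ∧ x ∉ Y := by
  have t2 := t2 h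
  let H : Subgroup G :=
    { carrier := {x | x ∈ Y ∨ t * x ∈ Y}
      one_mem' := Or.inl Y.one_mem
      mul_mem' := by
        rintro a b (ha | ha) (hb | hb)
        · exact Or.inl (mul_mem ha hb)
        · exact Or.inr (by
            rw [show t * (a * b) = t * a * (t * t) * b by rw [t2]; group, show t * a * (t * t) * b = t * a * t * (t * b) by group]
            exact mul_mem (tY h ha) hb)
        · exact Or.inr (by rw [← mul_assoc]; exact mul_mem ha hb)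
        · exact Or.inl (by
            rw [show a * b = t * t * a * (t * t) * b by rw [t2]; group,
              show t * t * a * (t * t) * b = t * (t * a) * t * (t * b) by group]
            exact mul_mem (tY h ha) hb)
      inv_mem' := by
        rintro a (ha | ha)
        · exact Or.inl (inv_mem ha)
        · exact Or.inr (by
            have := tY h (inv_mem ha)
            rwa [show t * (t * a)⁻¹ * t = t * a⁻¹ by group] at this) }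
  have tH : t ∈ H := Or.inr (t2 ▸ Y.one_mem)
  have HR : H ≤ R := by
    rintro a (ha | ha)
    · exact hY ha
    · exact (mul_mem_cancel_left (hT (tT h))).1 (hY ha)
  by_cases hKH : K ≤ H
  · obtain ⟨k, hk, hkY⟩ := SetLike.not_le_iff_exists.1 hle
    refine ⟨_, tY h ((hKH hk).resolve_left hkY), t, tT h, ?_, tnY h⟩
    rwa [mul_assoc, t2, mul_one, ← mul_assoc, t2, one_mul]
  · obtain ⟨n, ⟨hn1, hn2⟩, hn3⟩ := SetLike.exists_of_lt (lt_inf_normalizer_of_pgroup (P := H) (Q := H ⊔ K)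
      (hR.to_le (sup_le HR hK)) (left_lt_sup.2 hKH))
    replace hn1 : n ∈ ((H ⊔ K : Subgroup G) : Set G) := hn1
    rw [coe_mul_of_left_le_normalizer_right H K (HR.trans hn)] at hn1
    obtain ⟨a, ha, k, hk, rfl⟩ := hn1
    have k1 : k ∈ normalizer (H : Set G) := (mul_mem_cancel_left (le_normalizer ha)).1 hn2
    have k2 : t * (k * t * k⁻¹) ∈ Y := ((mem_normalizer_iff.1 k1 t).1 tH).resolve_left fun e =>
      tnY h ((mem_normalizer_iff.1 (hN (hK hk)) t).2 e)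
    obtain ⟨x, hx, e⟩ := conj_t h k2 (by
      rw [← mul_assoc t t, t2, one_mul, show k * t * k⁻¹ * (k * t * k⁻¹) = k * (t * t) * k⁻¹ by group, t2]; group)
    rw [← mul_assoc t t, t2, one_mul] at e
    have hC : x⁻¹ * k ∈ f.C := (f.mem_C h.tE h.t1).2 (by
      calc x⁻¹ * k * t = x⁻¹ * (k * t * k⁻¹) * k := by group
        _ = _ := by rw [← e]; group)
    have hm := f.T_syl.max (R ⊓ f.C) inf_le_right hR.to_inf_left (le_inf hT f.T_syl.le)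
    refine ⟨x, hx, x⁻¹ * k, hm.le ⟨R.mul_mem (inv_mem (hY hx)) (hK hk), hC⟩, by rwa [mul_inv_cancel_left], fun e => ?_⟩
    exact hn3 (mul_mem ha (Or.inl ((mul_mem_cancel_left (inv_mem hx)).1 e)))

end Cfsg.Agent.WA.Lk.X3b
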