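import Cfsg.Agent.WA.ISk2b
import Cfsg.Agent.WA.Sk3

/- LINKED interface; the statements, proved in the imported files:

variable {F : Type*} [Field F] [Finite F] {θ : RingAut F} {G : Type*} [Group G] [Finite G]
-- ### Sk3 
theorem One.Mv.conA {w : One θ G} {g : G} (h : w.Mv g) (hc : w.c = 0) : w.Con
-/
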