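import Cfsg.Agent.WA.ISkFa

/-! Field lemmas for `q = 8`, through an explicit model of the field. -/

set_option autoImplicit false
set_option linter.unusedSectionVars false

namespace Cfsg.Agent.WA.Sk

namespace Fc

/-- coordinates with respect to `1, ω, ω²`, where `ω³ = ω + 1` -/
abbrev V := Bool × Bool × Bool

def z : V := (false, false, false)
def one : V := (true, false, false)
def ad (x y : V) : V := (xor x.1 y.1, xor x.2.1 y.2.1, xor x.2.2 y.2.2)
def lin (p q r : V) : V → V
  | (false, false, false) => z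
  | (true, false, false) => p
  | (false, true, false) => q
  | (true, true, false) => ad p q
  | (false, false, true) => r
  | (true, false, true) => ad p r
  | (false, true, true) => ad q r
  | (true, true, true) => ad (ad p q) r
def sh : V → V := lin (false, true, false) (false, false, true) (true, true, false)
def mu (x : V) : V → V := lin x (sh x) (sh (sh x))
def th : V → V := lin one (false, true, true) (false, true, false)

instance (priority := high) decA (P : V → Prop) [DecidablePred P] : Decidable (∀ x, P x) :=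
  decidable_of_iff (P (false, false, false) ∧ P (true, false, false) ∧ P (false, true, false) ∧ P (true, true, false) ∧
    P (false, false, true) ∧ P (true, false, true) ∧ P (false, true, true) ∧ P (true, true, true))
    ⟨fun h ⟨a, b, c⟩ => by cases a <;> cases b <;> cases c <;> simp only [h], fun h => by simp only [h, and_self]⟩

instance (priority := high) decE (P : V → Prop) [DecidablePred P] : Decidable (∃ x, P x) :=
  decidable_of_iff (¬ ∀ x, ¬ P x) not_forall_not

def ev (g : V → V) : List V → V → V
  | [], x => x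
  | k :: w, x => mu k (g (ev g w x))
def dg (n : ℕ) : V := (n.testBit 0, n.testBit 1, n.testBit 2)
def cd (x : V) : ℕ := x.1.toNat + 2 * x.2.1.toNat + 4 * x.2.2.toNat
def wd (n : ℕ) : List V := [dg n, dg (n >>> 3), dg (n >>> 6), dg (n >>> 9)].filter (· ≠ z)
def tb : ℕ := 0x1091e100604900000000001b00018903a00000900000008901200000003a00900000002a0b200000001f00900000002f00004901c0001ba00000000004901203600900000000000000000000000000000000000001b0360590e300000000000000000000000000000002400000001b00010900900004900004900004900000900002900000000700001a00900002b0001090000090000b200000000014901201401300000000000000000000000000000000000300001b03900000900009200000002b00001200900000000000000000000000000003201b0000000c902d0000000b100000002d0001f215100000001b0001a211100015100001101b0000000121d900000000000000000000000000000000004901200000003b09200018900000900003d0000a200002400900000004902400000000000000000000000000000000012b1a100000001b1990000090000090000090000010000160160000001740090000000000000000000000000000000001c902400000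00f100900001b0000001510000c900900003a00000001d0000491da00000002d0190000000050090000000000000000000000000000e200903403400000000000001201215910a0000000000000000000000000000000000000001e100014901200000900001b00001200002d00000900000003d0000240d20000090000090000120000890000fb0000121790310330000000000000000000000000000000000001890f10020490000000000000000000000000000000000000000000bb0090220220000000000000230e902102d0000000040490000000891510000001e90920000000240240000001c901b026025000000000000049012012009000000000000000000000000000000000000000000000000000000000000000000000000000000000000000000000000000000000000000000000000000000000000000000000000000000000000000000000000000000000000000000000000000000000000000000000000000000000000000000000000000000000000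
def Good (φ : V → V) : Prop := (φ z ≠ z ∧ ∀ v, φ v = ad v (φ z)) ∨ (φ z = z ∧ (∀ v, φ (φ v) = v) ∧ ∃ v, φ v ≠ v) ∨
  ((∀ v, φ (φ (φ v)) = v) ∧ ∀ v, φ v = v ↔ v = z ∨ v = one)

instance (φ : V → V) : Decidable (Good φ) := by unfold Good; infer_instance

theorem cA : ∀ p q r : V, (∀ x, lin p q r x = z → x = z) →
    Good (ev (fun x => ad (lin p q r x) one) (wd (tb >>> (12 * (cd p + 8 * cd q + 64 * cd r))))) := by decide +kernel

theorem cL : ∀ p q r : V, (∀ x y, ad (mu x (th x)) (lin p q r x) = ad (mu y (th y)) (lin p q r y) → x = y) →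
    ∃ u, ∀ v, lin p q r v = ad (mu u (th v)) (mu v (th u)) := by decide +kernel

set_option synthInstance.maxSize 2000 in
theorem cC : ∀ p q r : V, (∀ x, lin p q r x = x ↔ x = z ∨ x = one) → (∀ x, lin p q r (lin p q r x) = x → lin p q r x = x) →
    (∀ x, lin p q r x = z → x = z) → ∀ p' q' r' : V, (∀ x, lin p' q' r' (lin p q r x) = lin p q r (lin p' q' r' x)) →
    (∀ x, lin p' q' r' (lin p' q' r' x) = x) → ∀ x, lin p' q' r' x = x := by decide +kernel

theorem cI : ∀ x : V, x ≠ z → ∃ y, mu x y = one := by decide +kernel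

theorem cT : ∀ r : V, mu r (mu r r) = ad r one → lin one r (mu r r) r = (false, false, true) →
    ∀ x, lin one r (mu r r) x = th x := by decide +kernel

theorem cD : ∀ x y : V, ad x y = z → x = y := by decide +kernel

variable {F : Type*} [Field F] [Finite F] {θ : RingAut F}

/-- a model of the field -/
structure Md (θ : RingAut F) (e : V → F) : Prop where
  inj : Function.Injective e
  surj : Function.Surjective e
  ad : ∀ x y, e (ad x y) = e x + e y
  mu : ∀ x y, e (mu x y) = e x * e y
  th : ∀ x, e (th x) = θ (e x)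
  z : e z = 0
  one : e one = 1

theorem lin_eq {e : V → F} (had : ∀ x y, e (ad x y) = e x + e y) (hz : e z = 0) {l : F → F}
    (hl : ∀ x y, l (x + y) = l x + l y) {p q r : V} (hp : e p = l (e one)) (hq : e q = l (e (false, true, false)))
    (hr : e r = l (e (false, false, true))) (x : V) : e (lin p q r x) = l (e x) := by
  have l0 : l 0 = 0 := by simpa using hl 0 0
  obtain ⟨a, b, c⟩ := x
  cases a <;> cases b <;> cases c <;> simp only [lin, had, hp, hq, hr, ← hl]
  · rw [show ((false, false, false) : V) = z from rfl, hz, l0]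
  all_goals (try simp only [← had]); rfl

theorem Md.ex {e : V → F} (m : Md θ e) {l : F → F} (hl : ∀ x y, l (x + y) = l x + l y) :
    ∃ p q r, ∀ x, e (lin p q r x) = l (e x) := by
  obtain ⟨p, hp⟩ := m.surj (l (e Fc.one))
  obtain ⟨q, hq⟩ := m.surj (l (e (false, true, false)))
  obtain ⟨r, hr⟩ := m.surj (l (e (false, false, true)))
  exact ⟨p, q, r, lin_eq m.ad m.z hl hp hq hr⟩

theorem exists_md (h : Fd θ) (h8 : Nat.card F = 8) : ∃ e, Md θ e := by
  have := Fintype.ofFinite F
  have t := h.two
  obtain ⟨ω, hω⟩ : ∃ ω : F, ω ^ 3 = ω + 1 := by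
    obtain ⟨k, -, k1⟩ := h.exists_ne 0 1
    have h7 := FiniteField.pow_card_sub_one_eq_one (k : F) k.ne_zero
    rw [← Nat.card_eq_fintype_card, h8] at h7
    have : ((k : F) - 1) * ((k ^ 3 + k + 1) * (k ^ 3 + k ^ 2 + 1)) = 0 := by
      linear_combination h7 + ((k : F) ^ 4 - k ^ 3) * t
    rcases mul_eq_zero.1 ((mul_eq_zero.1 this).resolve_left (sub_ne_zero.2 k1)) with e | e
    · exact ⟨k, by linear_combination e - ((k : F) + 1) * t⟩
    · exact ⟨k + 1, by linear_combination e + ((k : F) ^ 2 + k - 1) * t⟩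
  let ι : Bool → F := fun b => cond b 1 0
  have ιx : ∀ a b, ι (xor a b) = ι a + ι b := by
    intro a b; cases a <;> cases b <;> simp only [ι, Bool.xor, bne, Bool.not, cond, beq_self_eq_true] <;>
      first | linear_combination -t | simp
  let e : V → F := fun x => ι x.1 + ι x.2.1 * ω + ι x.2.2 * ω ^ 2
  have had : ∀ x y, e (ad x y) = e x + e y := fun x y => by simp only [e, ad, ιx]; ring
  have hz : e z = 0 := by simp [e, z, ι]
  have h1 : e one = 1 := by simp [e, one, ι]
  have h2 : e (false, true, false) = ω := by simp [e, ι]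
  have h3 : e (false, false, true) = ω ^ 2 := by simp [e, ι]
  have hs : ∀ x, e (sh x) = ω * e x := lin_eq had hz (mul_add ω) (by rw [h1, h2, mul_one]) (by rw [h2, h3, pow_two])
    (by rw [h3, show ((true, true, false) : V) = ad one (false, true, false) from rfl, had, h1, h2]; linear_combination -hω)
  have hm : ∀ x y, e (mu x y) = e x * e y := fun x => lin_eq had hz (mul_add (e x)) (by rw [h1, mul_one])
    (by rw [hs, h2, mul_comm]) (by rw [hs, hs, h3]; ring)
  have hi : Function.Injective e := fun x y c => cD x y (by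
    by_contra n
    obtain ⟨u, hu⟩ := cI _ n
    have := hm (ad x y) u
    rw [hu, h1, had, c, h.add_self, zero_mul] at this
    exact one_ne_zero this)
  have hsu := ((Nat.bijective_iff_injective_and_card e).2 ⟨hi, by rw [h8]; simp⟩).2
  obtain ⟨r, hr⟩ := hsu (θ ω)
  have hθ := lin_eq had hz (map_add θ) (p := one) (q := r) (r := mu r r) (by rw [h1, map_one]) (by rw [h2, hr])
    (by rw [hm, hr, h3, pow_two, map_mul])
  refine ⟨e, hi, hsu, had, hm, fun x => ?_, hz, h1⟩
  rw [← hθ, cT r (hi ?_) (hi ?_)]
  · rw [hm, hm, had, hr, h1, ← map_mul, ← map_mul, ← pow_three, hω, map_add, map_one]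
  · rw [hθ, hr, h.th, h3, pow_two]

end Fc

open Fc

variable {F : Type*} [Field F] [Finite F] {θ : RingAut F}

theorem Fd.lemL (h : Fd θ) (h8 : Nat.card F = 8) {l : F → F} (hl : ∀ x y, l (x + y) = l x + l y)
    (hi : Function.Injective fun v => ss θ v + l v) : ∃ u, ∀ v, l v = bb θ u v := by
  obtain ⟨e, m⟩ := exists_md h h8
  obtain ⟨p, q, r, H⟩ := m.ex hl
  obtain ⟨u, hu⟩ := cL p q r fun x y c => m.inj (hi (by
    have := congrArg e c
    simpa only [m.ad, m.mu, m.th, H, ss] using this))
  refine ⟨e u, fun v => ?_⟩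
  obtain ⟨v, rfl⟩ := m.surj v
  rw [← H, hu, m.ad, m.mu, m.mu, m.th, m.th, bb]

theorem Fd.comm3 (h : Fd θ) (h8 : Nat.card F = 8) {β γ : F → F} (hβ : ∀ x y, β (x + y) = β x + β y)
    (hγ : ∀ x y, γ (x + y) = γ x + γ y) (h3 : ∃ k, ∀ x, β^[3 ^ k] x = x) (hf : ∀ x, β x = x ↔ x = 0 ∨ x = 1)
    (hc : ∀ x, γ (β x) = β (γ x)) (h2 : ∀ x, γ (γ x) = x) (x : F) : γ x = x := by
  obtain ⟨e, m⟩ := exists_md h h8
  obtain ⟨p, q, r, H⟩ := m.ex hβ
  obtain ⟨p', q', r', H'⟩ := m.ex hγ
  obtain ⟨x, rfl⟩ := m.surj x
  obtain ⟨k, hk⟩ := h3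
  obtain ⟨n, hn⟩ : Odd (3 ^ k) := Odd.pow (by decide)
  rw [← H', cC p q r (fun x => by rw [← m.inj.eq_iff, ← m.inj.eq_iff, ← m.inj.eq_iff (b := one), H, m.z, m.one, hf])
    (fun x c => m.inj ?_) (fun x c => m.inj ?_) p' q' r' (fun x => m.inj (by rw [H', H, H, H', hc]))
    fun x => m.inj (by rw [H', H', h2])]
  · have c' := congrArg e c
    rw [H, H] at c'
    have := hk (e x)
    rw [hn, ← Nat.succ_eq_add_one, Function.iterate_succ_apply', Function.iterate_mul,
      Function.iterate_fixed (f := β^[2]) (x := e x) c'] at this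
    rw [H, this]
  · have c' := congrArg e c
    rw [H, m.z] at c'
    have := hk (e x)
    rw [hn, ← Nat.succ_eq_add_one, Function.iterate_succ_apply, c', Function.iterate_fixed ((hf 0).2 (Or.inl rfl))] at this
    rw [← this, m.z]

/-- a group of affine permutations of `F₈` containing the scalars, without translations -/
theorem Fd.aff8 (h : Fd θ) (h8 : Nat.card F = 8) {H : Subgroup (Equiv.Perm F)}
    (h1 : ∀ g ∈ H, ∀ u v, g (u + v) = g u + g v + g 0) (h2 : ∀ k : Fˣ, ∃ g ∈ H, ∀ v, g v = k * v)
    (h3 : ∃ g ∈ H, g 0 ≠ 0) (h4 : ∀ g ∈ H, (∀ v, g v = v + g 0) → g 0 = 0)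
    (h5 : ∀ g ∈ H, g 0 = 0 → g * g = 1 → g = 1) :
    ∃ g ∈ H, g ^ 3 = 1 ∧ ∀ v, g v = v ↔ v = 0 ∨ v = 1 := by
  obtain ⟨e, m⟩ := exists_md h h8
  obtain ⟨g, hg, g1⟩ : ∃ g ∈ H, g 0 = 1 := by
    obtain ⟨g, hg, g0⟩ := h3
    obtain ⟨s, hs, e⟩ := h2 (Units.mk0 _ g0)⁻¹
    exact ⟨s * g, mul_mem hs hg, by rw [Equiv.Perm.mul_apply, e]; simp [g0]⟩
  obtain ⟨p, q, r, L⟩ := m.ex (l := fun v => g v + 1) fun x y => by rw [h1 g hg, g1]; ring
  have L' : ∀ x, e (ad (lin p q r x) one) = g (e x) := fun x => by rw [m.ad, L, m.one, add_assoc, h.add_self, add_zero]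
  have W : ∀ w : List V, (∀ k ∈ w, k ≠ z) → ∃ f ∈ H, ∀ x, e (ev (fun x => ad (lin p q r x) one) w x) = f (e x) := by
    intro w
    induction w with
    | nil => exact fun _ => ⟨1, one_mem _, fun _ => rfl⟩
    | cons k w ih =>
      intro hw
      obtain ⟨f, hf, ef⟩ := ih fun k hk => hw k (List.mem_cons_of_mem _ hk)
      obtain ⟨s, hs, es⟩ := h2 (Units.mk0 (e k) fun c => hw k List.mem_cons_self (m.inj (c.trans m.z.symm)))
      exact ⟨s * (g * f), mul_mem hs (mul_mem hg hf), fun x => by
        rw [ev, m.mu, L', ef, Equiv.Perm.mul_apply, es]; rfl⟩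
  have G := cA p q r fun x c => m.inj (g.injective (by rw [← L', c, m.ad, m.z, m.one, g1, zero_add]))
  obtain ⟨f, hf, ef⟩ := W (wd (tb >>> (12 * (cd p + 8 * cd q + 64 * cd r)))) fun k hk => by
    simpa using (List.mem_filter.1 hk).2
  generalize ev _ _ = φ at G ef
  have f0 : f 0 = e (φ z) := by rw [ef, m.z]
  rcases G with ⟨a, b⟩ | ⟨a, b, v, c⟩ | ⟨a, b⟩
  · refine absurd (m.inj ((f0.symm.trans (h4 f hf fun v => ?_)).trans m.z.symm)) a
    obtain ⟨v, rfl⟩ := m.surj v
    rw [← ef, b, m.ad, f0]
  · refine absurd (m.inj ?_) c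
    rw [ef, h5 f hf (by rw [f0, a, m.z]) (Equiv.ext fun v => ?_)]
    · rfl
    obtain ⟨v, rfl⟩ := m.surj v
    rw [Equiv.Perm.mul_apply, ← ef, ← ef, b]; rfl
  · refine ⟨f, hf, Equiv.ext fun v => ?_, fun v => ?_⟩ <;> obtain ⟨v, rfl⟩ := m.surj v
    · rw [pow_three, Equiv.Perm.mul_apply, Equiv.Perm.mul_apply, ← ef, ← ef, ← ef, a]; rfl
    · rw [← ef, m.inj.eq_iff, b, ← m.z, ← m.one, m.inj.eq_iff, m.inj.eq_iff]

end Cfsg.Agent.WA.Sk
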