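import Cfsg.Agent.WA.ISkFa
import Cfsg.Agent.WA.SkFc

/- LINKED interface; the statements, proved in the imported files:

variable {F : Type*} [Field F] [Finite F] {θ : RingAut F}
-- ### SkFc (`q = 8`) 
theorem Fd.lemL (h : Fd θ) (h8 : Nat.card F = 8) {l : F → F} (hl : ∀ x y, l (x + y) = l x + l y)
    (hi : Function.Injective fun v => ss θ v + l v) : ∃ u, ∀ v, l v = bb θ u v
theorem Fd.comm3 (h : Fd θ) (h8 : Nat.card F = 8) {β γ : F → F} (hβ : ∀ x y, β (x + y) = β x + β y)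
    (hγ : ∀ x y, γ (x + y) = γ x + γ y) (h3 : ∃ k, ∀ x, β^[3 ^ k] x = x) (hf : ∀ x, β x = x ↔ x = 0 ∨ x = 1)
    (hc : ∀ x, γ (β x) = β (γ x)) (h2 : ∀ x, γ (γ x) = x) (x : F) : γ x = x
-- a group of affine permutations of `F₈` containing the scalars, without translations 
theorem Fd.aff8 (h : Fd θ) (h8 : Nat.card F = 8) {H : Subgroup (Equiv.Perm F)}
    (h1 : ∀ g ∈ H, ∀ u v, g (u + v) = g u + g v + g 0) (h2 : ∀ k : Fˣ, ∃ g ∈ H, ∀ v, g v = k * v)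
    (h3 : ∃ g ∈ H, g 0 ≠ 0) (h4 : ∀ g ∈ H, (∀ v, g v = v + g 0) → g 0 = 0)
    (h5 : ∀ g ∈ H, g 0 = 0 → g * g = 1 → g = 1) :
    ∃ g ∈ H, g ^ 3 = 1 ∧ ∀ v, g v = v ↔ v = 0 ∨ v = 1
-/
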