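import Cfsg.Agent.WA.ISk4a
import Cfsg.Agent.WA.ISkFc
import Cfsg.Agent.WA.Sk5a

/- LINKED interface; the statements, proved in the imported files:

variable {F : Type*} [Field F] [Finite F] {θ : RingAut F} {G : Type*} [Group G] [Finite G]
-- ### Sk5a 
theorem One.Bq.exists_ex {w : One θ G} {R : Subgroup G} (h : w.Bq R) (h8 : Nat.card F = 8) {y : G}
    (hy : y ∈ normalizer (R : Set G)) (h1 : y ∉ R) (h2 : y * y ∈ R) : ∃ ρ d, w.Ex R ρ d
-/
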