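import Cfsg.Agent.WA.ISk0b
import Cfsg.Agent.WA.Sk5b

/- LINKED interface; the statements, proved in the imported files:

variable {F : Type*} [Field F] [Finite F] {θ : RingAut F} {G : Type*} [Group G] [Finite G]
-- ### Sk5b 
theorem Fr.five (f : Fr θ G) (h8 : Nat.card F = 8) {ρ : G} (ht : ρ * f.t = f.t * ρ)
    (hU : ρ ∈ normalizer (f.U : Set G)) (h3 : ∃ k, ρ ^ 3 ^ k = 1)
    (hf : ∀ x y, (∃ y', ρ * f.j x y * ρ⁻¹ = f.j x y') ↔ x = 0 ∨ x = 1) :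
    (∃ y, ρ * f.j 1 y = f.j 1 y * ρ) ∧ (∀ y, ρ * f.j 0 y = f.j 0 y * ρ ↔ y = 0 ∨ y = 1) ∧
      {s | s ∈ f.A ∧ s * s = 1 ∧ s ≠ 1 ∧ ρ * s = s * ρ}.ncard = 5
-/
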