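import Cfsg.Agent.WA.ISk4a
import Cfsg.Agent.WA.ISk5b
import Cfsg.Agent.WA.ISkFc
import Cfsg.Agent.WA.Sk5c

/- LINKED interface; the statements, proved in the imported files:

variable {F : Type*} [Field F] [Finite F] {θ : RingAut F} {G : Type*} [Group G] [Finite G]
-- ### Sk5c 
theorem One.Ex.false {w : One θ G} {R : Subgroup G} {ρ d : G} (h : w.Ex R ρ d) : False
-/
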