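import Cfsg.Agent.WA.ISkE1
import Cfsg.Agent.WA.SkE2

/- LINKED interface; the statements, proved in the imported files:

variable {F : Type*} [Field F] [Finite F] {θ : RingAut F} {G : Type*} [Group G] [Finite G] {K : Type*} [Group K]
-- ### SkE2 
theorem Hy.exists_fr (h : Hy θ G K) : ∃ f : Fr θ G, f.t = h.t ∧ f.L = h.L
-/
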