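import Cfsg.Agent.WA.AlCh
import Cfsg.Agent.S3261

/-! S3218: degree six. -/

set_option autoImplicit false

namespace Cfsg.Agent.WA.Al

open Subgroup Equiv Cfsg.Agent.H9

universe u

/-- transport of a centralizer -/
def cenCongr {H H' : Type*} [Group H] [Group H'] (ω : H ≃* H') {x : H} {x' : H'} (h : ω x = x') :
    centralizer ({x} : Set H) ≃* centralizer ({x'} : Set H') :=
  (ω.subgroupMap _).trans (MulEquiv.subgroupCongr (by
    ext y
    simp only [mem_map, mem_centralizer_singleton_iff, MonoidHom.coe_coe]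
    constructor
    · rintro ⟨a, ha, rfl⟩
      rw [← h, ← map_mul, ← map_mul, ha]
    · intro hy
      refine ⟨ω.symm y, ω.injective ?_, ω.apply_symm_apply y⟩
      rw [map_mul, map_mul, ω.apply_symm_apply, h, hy]))

namespace Six

open S3261

theorem g1 : ∀ c : Perm (Fin 6), c * c = 1 → Perm.sign c = 1 → c ≠ 1 → c.support.card = 4 := by decide +kernel

theorem g2 : ∀ c : Perm (Fin 6), c * S3261.a0 = S3261.a0 * c → Perm.sign c = 1 → c * w0 = w0 * c → c * s0 = s0 * c →
    c = 1 ∨ c = S3261.a0 := by decide +kernel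

theorem g3 : Perm.sign S3261.a0 = 1 ∧ S3261.a0 * S3261.a0 = 1 := by decide +kernel

def A0 : Alt (Fin 6) := ⟨S3261.a0, Perm.mem_alternatingGroup.2 g3.1⟩

theorem odd_index {G : Type*} [Group G] [Finite G] {α : G} (hα : α ≠ 1) (h2 : IsPGroup 2 (centralizer ({α} : Set G)))
    (hc : ∀ β ∈ centralizer ({α} : Set G), β ≠ 1 → (∀ x ∈ centralizer ({α} : Set G), β * x = x * β) → β = α) :
    Odd (centralizer ({α} : Set G)).index := by
  haveI := Fact.mk Nat.prime_two
  obtain ⟨S, hS⟩ := h2.exists_le_sylow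
  have key : (S : Subgroup G) ≤ centralizer ({α} : Set G) := by
    by_contra hn
    have hlt : (centralizer ({α} : Set G)).subgroupOf S < ⊤ := by
      rw [lt_top_iff_ne_top, Ne, subgroupOf_eq_top]; exact hn
    haveI := S.isPGroup'.isNilpotent
    obtain ⟨g, hg, hg'⟩ := SetLike.exists_of_lt (Group.normalizerCondition_of_isNilpotent _ hlt)
    apply hg'
    have hαm : α ∈ centralizer ({α} : Set G) := mem_centralizer_singleton_iff.2 rfl
    have hn' : ∀ x : G, x ∈ centralizer ({α} : Set G) → (g : G) * x * (g : G)⁻¹ ∈ centralizer ({α} : Set G) :=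
      fun x hx => (mem_normalizer_iff.1 hg ⟨x, hS hx⟩).1 hx
    have hn'' : ∀ x : G, x ∈ centralizer ({α} : Set G) → (g : G)⁻¹ * x * (g : G) ∈ centralizer ({α} : Set G) :=
      fun x hx => by
        have := (mem_normalizer_iff.1 (inv_mem hg) ⟨x, hS hx⟩).1 hx
        simpa [mem_subgroupOf] using this
    have h3 := hc _ (hn' α hαm) (by simpa using hα) fun x hx => by
      have h4 := mem_centralizer_singleton_iff.1 (hn'' x hx)
      calc (g : G) * α * (g : G)⁻¹ * x = g * (α * ((g : G)⁻¹ * x * g)) * (g : G)⁻¹ := by group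
        _ = x * (g * α * (g : G)⁻¹) := by rw [← h4]; group
    rw [mem_subgroupOf, mem_centralizer_singleton_iff]
    exact mul_inv_eq_iff_eq_mul.1 h3
  exact (H6.sylow_two_index_odd S).of_dvd_nat (index_dvd_of_le key)

theorem card_cen : Nat.card (centralizer ({A0} : Set (Alt (Fin 6)))) = 8 := by
  have h : (Finset.univ.filter fun c : Perm (Fin 6) => Perm.sign c = 1 ∧ c * S3261.a0 = S3261.a0 * c).card = 8 := by decide +kernel
  rw [← h, ← Nat.card_eq_finsetCard]
  refine Nat.card_congr ⟨fun x => ⟨x.1.1, ?_⟩, fun c => ⟨⟨c.1, ?_⟩, ?_⟩, fun x => rfl, fun c => rfl⟩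
  · simp only [Finset.mem_filter, Finset.mem_univ, true_and]
    exact ⟨Perm.mem_alternatingGroup.1 x.1.2, congrArg Subtype.val (mem_centralizer_singleton_iff.1 x.2)⟩
  · exact Perm.mem_alternatingGroup.2 (Finset.mem_filter.1 c.2).2.1
  · exact mem_centralizer_singleton_iff.2 (Subtype.ext (Finset.mem_filter.1 c.2).2.2)

theorem six0 {G : Type*} [Group G] [Finite G] (hG : ∀ H : Subgroup G, H.index ≠ 2) {α : G} (hα : orderOf α = 2)
    (e : centralizer ({α} : Set G) ≃* centralizer ({A0} : Set (Alt (Fin 6)))) :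
    Nonempty (G ≃* Alt (Fin 6)) ∨ (IsSimpleGroup G ∧ Nat.card G = 168) := by
  obtain ⟨g1, g2', g3', g4, g5, g6, g7, g8, g9⟩ := f1
  have mk : ∀ b : Perm (Fin 6), Perm.sign b = 1 → b * S3261.a0 = S3261.a0 * b →
      ∃ x : centralizer ({A0} : Set (Alt (Fin 6))), x.1.1 = b :=
    fun b h1 h2 => ⟨⟨⟨b, Perm.mem_alternatingGroup.mpr h1⟩, mem_centralizer_singleton_iff.mpr (Subtype.ext h2)⟩, rfl⟩
  obtain ⟨w, hw⟩ := mk w0 g6 (by rw [← g1, mul_assoc])
  obtain ⟨s, hs⟩ := mk s0 g7 g8
  let φ : centralizer ({A0} : Set (Alt (Fin 6))) →* Perm (Fin 6) :=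
    (alternatingGroup (Fin 6)).subtype.comp (Subgroup.subtype _)
  have hφ : ∀ x, φ x = x.1.1 := fun x => rfl
  have hφi : Function.Injective φ := Subtype.val_injective.comp Subtype.val_injective
  have hw' : φ w = w0 := hw
  have hs' : φ s = s0 := hs
  haveI := Fact.mk Nat.prime_two
  have hα1 : α ≠ 1 := ne_one_of_orderOf_two hα
  have cen : ∀ β : centralizer ({α} : Set G), β ≠ 1 → (∀ x, β * x = x * β) → φ (e β) = S3261.a0 := fun β h1 h2 => by
    refine (g2 _ (congrArg Subtype.val (mem_centralizer_singleton_iff.1 (e β).2))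
      (Perm.mem_alternatingGroup.1 (e β).1.2) ?_ ?_).resolve_left fun h => h1 (e.injective (hφi (by rw [hφ, h]; simp)))
    · rw [← hw', ← hφ, ← map_mul, ← map_mul, ← e.apply_symm_apply w, ← map_mul, h2, map_mul]
    · rw [← hs', ← hφ, ← map_mul, ← map_mul, ← e.apply_symm_apply s, ← map_mul, h2, map_mul]
  have hodd : Odd (centralizer ({α} : Set G)).index := by
    refine odd_index hα1 (IsPGroup.of_card (n := 3) (by rw [Nat.card_congr e.toEquiv, card_cen]; rfl)) fun β hβ h1 h2 => ?_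
    have a1 := cen ⟨β, hβ⟩ (fun h => h1 (congrArg Subtype.val h)) fun x => Subtype.ext (h2 x x.2)
    have a2 := cen ⟨α, mem_centralizer_singleton_iff.2 rfl⟩ (fun h => hα1 (congrArg Subtype.val h))
      fun x => Subtype.ext (mem_centralizer_singleton_iff.1 x.2).symm
    exact congrArg Subtype.val (e.injective (hφi (a1.trans a2.symm)))
  have h := D8C.of_hom ((centralizer ({α} : Set G)).subtype.comp e.symm.toMonoidHom)
    (Subtype.val_injective.comp e.symm.injective) (w := w) (s := s)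
    (by
      rw [← orderOf_injective φ hφi, hw']
      exact orderOf_eq_prime_pow (p := 2) (n := 1) (by rw [pow_one, pow_two, g1]; exact g5) g4)
    (hφi (by rw [map_mul, hs', g2', map_one]))
    (hφi (by rw [map_mul, map_mul, map_inv, map_inv, hs', hw', g3']))
    (by
      rintro ⟨k, hk⟩
      apply g9
      rw [← hs', ← hw', ← map_mul, ← map_mul, ← hk]
      exact congrArg φ ((Commute.refl w).zpow_left k))
    hα (mem_centralizer_singleton_iff.mp (e.symm w).2)
    (fun c hc' => ⟨e ⟨c, mem_centralizer_singleton_iff.mpr hc'⟩, by simp, by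
      obtain ⟨b, hb⟩ : ∃ b, b = e ⟨c, mem_centralizer_singleton_iff.mpr hc'⟩ := ⟨_, rfl⟩
      rw [← hb]
      obtain ⟨k, hk⟩ := f2 (φ b) (congrArg Subtype.val (mem_centralizer_singleton_iff.mp b.2))
        (Perm.mem_alternatingGroup.mp b.1.2)
      rw [← hw', ← hs', ← map_pow, ← map_mul, hφi.eq_iff, hφi.eq_iff] at hk
      rcases hk with hk | hk
      · left; rw [hk]; exact npow_mem_zpowers _ _
      · right; rw [hk]; exact npow_mem_zpowers _ _⟩) hodd
  haveI := h.simple hG
  rcases h.card hG with h1 | h1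
  · exact Or.inr ⟨inferInstance, h1⟩
  · obtain ⟨x, hx, hxt⟩ := h.exists_three hG
    obtain ⟨H, hH, -⟩ := h.exists_sixty hG h1 hx h.ht hxt
    refine Or.inl (nonempty_equiv_alternating_six h1 hH
      ((normalCore_normal H).eq_bot_or_eq_top.resolve_right fun h2 => ?_))
    have h3 := card_le_of_le (h2 ▸ normalCore_le H)
    rw [card_top] at h3; omega

end Six

theorem six {G : Type*} [Group G] [Finite G] {α : Type} [Fintype α] [DecidableEq α] (h6 : Fintype.card α = 6)
    (hG : ∀ H : Subgroup G, H.index ≠ 2) {zt : Alt α} {z : G} (h1 : orderOf zt = 2) (h2 : orderOf z = 2)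
    (e : centralizer ({z} : Set G) ≃* centralizer ({zt} : Set (Alt α))) :
    Nat.card (centralizer ({z} : Set G)) = 8 ∧ (Nonempty (G ≃* Alt α) ∨ (IsSimpleGroup G ∧ Nat.card G = 168)) := by
  let ω : Alt α ≃* Alt (Fin 6) := (Fintype.equivFinOfCardEq h6).altCongrHom
  have h3 : ω zt * ω zt = 1 := by rw [← map_mul, mul_self_of_orderOf_two h1, map_one]
  have h4 : ω zt ≠ 1 := fun h => ne_one_of_orderOf_two h1 (ω.injective (by rw [h, map_one]))
  have h5 : Six.A0 * Six.A0 = 1 := Subtype.ext Six.g3.2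
  have h7 : IsConj (ω zt) Six.A0 := by
    refine isConj_of_supp h3 h5 ?_
    rw [Six.g1 _ (congrArg Subtype.val h3) (Perm.mem_alternatingGroup.1 (ω zt).2) fun h => h4 (Subtype.ext h)]
    exact (Six.g1 _ Six.g3.2 Six.g3.1 S3261.f1.2.2.2.2.1).symm
  obtain ⟨c, hc⟩ := isConj_iff.1 h7
  let e' := e.trans (cenCongr (ω.trans (MulAut.conj c)) (x := zt) (x' := Six.A0) hc)
  refine ⟨by rw [Nat.card_congr e'.toEquiv, Six.card_cen], ?_⟩
  exact (Six.six0 hG h2 e').imp_left fun ⟨f⟩ => ⟨f.trans ω.symm⟩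

end Cfsg.Agent.WA.Al
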