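import Cfsg.Agent.WA.AlDef

/-! S3218: an alternating subgroup that controls its involutions is the whole group. -/

set_option autoImplicit false

namespace Cfsg.Agent.WA.Al

open Subgroup Equiv

universe u

namespace Sur

/-- two involutions are conjugate or commute with a common involution -/
theorem dih {G : Type*} [Group G] [Finite G] (X : Subgroup G) {x y : G} (hx : x * x = 1) (hy : y * y = 1)
    (mx : x ∈ X) (my : y ∈ X) (nc : ∀ k ∈ X, k * x * k⁻¹ ≠ y) :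
    ∃ z ∈ X, z ≠ 1 ∧ z * z = 1 ∧ x * z = z * x ∧ y * z = z * y ∧
      (((∃ k ∈ X, k * x * k⁻¹ = x * z) ∧ ∃ k ∈ X, k * y * k⁻¹ = y * z) ∨
        ((∃ k ∈ X, k * y * k⁻¹ = x * z) ∧ ∃ k ∈ X, k * x * k⁻¹ = y * z)) := by
  set r := x * y with hr
  have xi : x⁻¹ = x := inv_eq_of_mul_eq_one_right hx
  have yi : y⁻¹ = y := inv_eq_of_mul_eq_one_right hy
  have ri : r⁻¹ = y * x := by rw [hr, mul_inv_rev, xi, yi]
  have mr : r ∈ X := X.mul_mem mx my
  have cx : x * r * x⁻¹ = r⁻¹ := by rw [ri, xi, hr, ← mul_assoc, hx, one_mul]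
  have cy : y * r * y⁻¹ = r⁻¹ := by rw [ri, yi, hr, mul_assoc, mul_assoc, hy, mul_one]
  have px : ∀ n : ℕ, x * r ^ n = (r ^ n)⁻¹ * x := fun n => by
    rw [← inv_pow, ← cx, conj_pow, inv_mul_cancel_right]
  have py : ∀ n : ℕ, y * r ^ n = (r ^ n)⁻¹ * y := fun n => by
    rw [← inv_pow, ← cy, conj_pow, inv_mul_cancel_right]
  have kx : ∀ n : ℕ, (r ^ n)⁻¹ * x * (r ^ n)⁻¹⁻¹ = x * r ^ (2 * n) := fun n => by
    rw [← px, inv_inv, mul_assoc, ← pow_add, two_mul]
  have ky : ∀ n : ℕ, (r ^ n)⁻¹ * y * (r ^ n)⁻¹⁻¹ = y * r ^ (2 * n) := fun n => by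
    rw [← py, inv_inv, mul_assoc, ← pow_add, two_mul]
  have mk : ∀ n : ℕ, (r ^ n)⁻¹ ∈ X := fun n => X.inv_mem (X.pow_mem mr n)
  have xr : x * r = y := by rw [hr, ← mul_assoc, hx, one_mul]
  have yr : y = x * r := xr.symm
  have pos : 0 < orderOf r := orderOf_pos r
  rcases Nat.even_or_odd' (orderOf r) with ⟨m, hm | hm⟩
  · have hz : r ^ m * r ^ m = 1 := by rw [← pow_add, ← two_mul, ← hm, pow_orderOf_eq_one]
    have zi : (r ^ m)⁻¹ = r ^ m := inv_eq_of_mul_eq_one_right hz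
    refine ⟨r ^ m, X.pow_mem mr m, pow_ne_one_of_lt_orderOf (by omega) (by omega), hz, by rw [px, zi],
      by rw [py, zi], ?_⟩
    rcases Nat.even_or_odd' m with ⟨l, hl | hl⟩
    · exact Or.inl ⟨⟨_, mk l, by rw [kx, hl]⟩, _, mk l, by rw [ky, hl]⟩
    · refine Or.inr ⟨⟨_, mk l, ?_⟩, _, mk (l + 1), ?_⟩
      · rw [ky, hl, pow_succ' r, ← mul_assoc, xr]
      · rw [kx, hl, yr, mul_assoc, ← pow_succ']; rfl
  · exfalso
    refine nc _ (mk (m + 1)) ?_
    rw [kx, show 2 * (m + 1) = orderOf r + 1 by omega, pow_succ, pow_orderOf_eq_one, one_mul, xr]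

variable {α : Type} [Fintype α] [DecidableEq α]

/-- size of the support -/
def w (p : Alt α) : ℕ := p.1.support.card

theorem sq {p : Alt α} (hp : p * p = 1) : p.1 ^ 2 = 1 := by
  rw [pow_two]; exact congrArg Subtype.val hp

theorem cyc {p : Alt α} (hp : p * p = 1) :
    p.1.cycleType = Multiset.replicate p.1.cycleType.card 2 ∧ w p = 2 * p.1.cycleType.card := by
  haveI : Fact (Nat.Prime 2) := ⟨Nat.prime_two⟩
  have h := Perm.cycleType_of_pow_prime_eq_one (sq hp)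
  refine ⟨h, ?_⟩
  have := Perm.sum_cycleType p.1
  rw [h, Multiset.sum_replicate, smul_eq_mul] at this
  unfold w; omega

theorem four_dvd {p : Alt α} (hp : p * p = 1) : 4 ∣ w p := by
  obtain ⟨h, h'⟩ := cyc hp
  have hs := Perm.sign_of_cycleType p.1
  rw [Perm.mem_alternatingGroup.1 p.2, Perm.sum_cycleType] at hs
  have : Even (p.1.support.card + p.1.cycleType.card) := by
    by_contra hne
    rw [Nat.not_even_iff_odd] at hne
    rw [hne.neg_one_pow] at hs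
    exact absurd hs (by decide)
  obtain ⟨k, hk⟩ := this
  unfold w at h' ⊢
  omega

theorem w_zero {p : Alt α} (h : w p = 0) : p = 1 := Subtype.ext (Perm.card_support_eq_zero.1 h)

theorem conj_supp {p q : Alt α} (hp : p * p = 1) (hq : q * q = 1) (h : w p = w q) : ∃ c, c * p * c⁻¹ = q := by
  obtain ⟨h1, h1'⟩ := cyc hp
  obtain ⟨h2, h2'⟩ := cyc hq
  have hc : IsConj p.1 q.1 := by
    rw [Perm.isConj_iff_cycleType_eq, h1, h2]; congr 1; omega
  obtain ⟨c, hc⟩ := isConj_iff.1 hc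
  by_cases hs : Perm.sign c = 1
  · exact ⟨⟨c, Perm.mem_alternatingGroup.2 hs⟩, Subtype.ext hc⟩
  by_cases p1 : p = 1
  · subst p1
    refine ⟨1, ?_⟩
    have : w q = 0 := by rw [← h]; simp [w]
    rw [w_zero this]; simp
  obtain ⟨a, ha⟩ : ∃ a, p.1 a ≠ a := by
    by_contra hn
    push Not at hn
    exact p1 (Subtype.ext (Perm.ext hn))
  have pp : p.1 (p.1 a) = a := by
    have := congrArg (fun t : Alt α => t.1 a) hp
    simpa using this
  have cm : swap a (p.1 a) * p.1 * (swap a (p.1 a))⁻¹ = p.1 := by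
    rw [mul_inv_eq_iff_eq_mul, eq_comm, ← mul_inv_eq_iff_eq_mul, ← swap_apply_apply, pp, swap_comm]
  refine ⟨⟨c * swap a (p.1 a), ?_⟩, Subtype.ext ?_⟩
  · rw [Perm.mem_alternatingGroup, map_mul, Perm.sign_swap ha.symm, (Int.units_eq_one_or _).resolve_left hs]; decide
  · show c * swap a (p.1 a) * p.1 * (c * swap a (p.1 a))⁻¹ = q.1
    rw [← hc, mul_inv_rev]
    conv_rhs => rw [← cm]
    group

theorem w_mul_le (p q : Alt α) : w (p * q) ≤ w p + w q :=
  (Finset.card_le_card (Perm.support_mul_le p.1 q.1)).trans (Finset.card_union_le _ _)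

theorem disj_of {p q : Alt α} (h : w (p * q) = w p + w q) : Perm.Disjoint p.1 q.1 := by
  rw [Perm.disjoint_iff_disjoint_support, ← Finset.card_union_eq_card_add_card]
  exact le_antisymm (Finset.card_union_le _ _) (h.ge.trans (Finset.card_le_card (Perm.support_mul_le p.1 q.1)))

theorem w_disj {p q : Alt α} (h : Perm.Disjoint p.1 q.1) : w (p * q) = w p + w q := h.card_support_mul

/-- the double transposition -/
def dt (a b c d : α) (h : [a, b, c, d].Nodup) : Alt α :=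
  ⟨swap a b * swap c d, by
    have h1 : a ≠ b := by grind
    have h2 : c ≠ d := by grind
    rw [Perm.mem_alternatingGroup, map_mul, Perm.sign_swap h1, Perm.sign_swap h2]; decide⟩

theorem w_dt (a b c d : α) (h : [a, b, c, d].Nodup) : w (dt a b c d h) = 4 := by
  have h1 : a ≠ b := by grind
  have h2 : c ≠ d := by grind
  show (swap a b * swap c d).support.card = 4
  rw [(Perm.disjoint_swap_swap h).card_support_mul, Perm.card_support_swap h1, Perm.card_support_swap h2]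

theorem dt_sq (a b c d : α) (h : [a, b, c, d].Nodup) : dt a b c d h * dt a b c d h = 1 := by
  apply Subtype.ext
  show swap a b * swap c d * (swap a b * swap c d) = 1
  rw [← pow_two, (Perm.disjoint_swap_swap h).commute.mul_pow, pow_two, pow_two, swap_mul_self, swap_mul_self, one_mul]

theorem pair {s : Alt α} (hs : s * s = 1) (h4 : 4 ≤ w s) : ∃ d h : Alt α, d * d = 1 ∧ h * h = 1 ∧ w d = 4 ∧ w h = 4 ∧
    d * s = s * d ∧ h * s = s * h ∧ w (d * s) + 4 = w s ∧ w (h * s) = w s := by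
  have ss : ∀ x, s.1 (s.1 x) = x := fun x => by
    have := congrArg (fun t : Alt α => t.1 x) hs
    simpa using this
  obtain ⟨a, ha⟩ : s.1.support.Nonempty := Finset.card_pos.1 (by unfold w at h4; omega)
  obtain ⟨b, hb, hb'⟩ : ∃ b ∈ s.1.support, b ∉ ({a, s.1 a} : Finset α) := by
    by_contra hn
    push Not at hn
    have := (Finset.card_le_card hn).trans Finset.card_le_two
    unfold w at h4; omega
  rw [Perm.mem_support] at ha hb
  simp only [Finset.mem_insert, Finset.mem_singleton, not_or] at hb'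
  have i1 : s.1 b ≠ a := fun h => hb'.2 (by rw [← h, ss])
  have i2 : s.1 b ≠ s.1 a := fun h => hb'.1 (s.1.injective h)
  have n1 : [a, s.1 a, b, s.1 b].Nodup := by grind
  have n2 : [a, b, s.1 a, s.1 b].Nodup := by grind
  have d2 := dt_sq _ _ _ _ n1
  refine ⟨dt _ _ _ _ n1, dt _ _ _ _ n2, d2, dt_sq _ _ _ _ n2, w_dt _ _ _ _ _, w_dt _ _ _ _ _, ?_, ?_, ?_, ?_⟩
  · apply Subtype.ext
    show swap _ _ * swap _ _ * s.1 = s.1 * (swap _ _ * swap _ _)
    rw [eq_comm, ← mul_inv_eq_iff_eq_mul, ← conj_mul, ← swap_apply_apply, ← swap_apply_apply, ss, ss, swap_comm a,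
      swap_comm b]
  · apply Subtype.ext
    show swap _ _ * swap _ _ * s.1 = s.1 * (swap _ _ * swap _ _)
    rw [eq_comm, ← mul_inv_eq_iff_eq_mul, ← conj_mul, ← swap_apply_apply, ← swap_apply_apply, ss, ss,
      (Perm.disjoint_swap_swap n2).commute.eq]
  · have hd : Perm.Disjoint (dt _ _ _ _ n1).1 (dt _ _ _ _ n1 * s).1 := by
      intro x
      show (swap a (s.1 a) * swap b (s.1 b) : Perm α) x = x ∨ (swap a (s.1 a) * swap b (s.1 b) * s.1 : Perm α) x = x
      simp only [Perm.mul_apply, swap_apply_def]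
      have := ss x
      grind
    have := w_disj hd
    rw [← mul_assoc, d2, one_mul, w_dt] at this
    omega
  · unfold w
    congr 1
    ext x
    show x ∈ (swap _ _ * swap _ _ * s.1).support ↔ _
    simp only [Perm.mem_support, Perm.mul_apply, swap_apply_def]
    have := ss x
    grind

theorem exists_w (h8 : 8 ≤ Fintype.card α) : ∃ p : Alt α, p * p = 1 ∧ w p = 8 := by
  obtain ⟨f⟩ : Nonempty (Fin 8 ↪ α) := Function.Embedding.nonempty_of_card_le (by simpa using h8)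
  have i := f.injective
  have n1 : [f 0, f 1, f 2, f 3].Nodup := by simp [i.eq_iff]
  have n2 : [f 4, f 5, f 6, f 7].Nodup := by simp [i.eq_iff]
  have hd : Perm.Disjoint (dt _ _ _ _ n1).1 (dt _ _ _ _ n2).1 := by
    refine Perm.Disjoint.mul_left (Perm.Disjoint.mul_right ?_ ?_) (Perm.Disjoint.mul_right ?_ ?_) <;>
      refine Perm.disjoint_swap_swap ?_ <;> simp [i.eq_iff]
  refine ⟨dt _ _ _ _ n1 * dt _ _ _ _ n2, ?_, by rw [w_disj hd, w_dt, w_dt]⟩
  have c : Commute (dt _ _ _ _ n1) (dt _ _ _ _ n2) := Subtype.ext hd.commute.eq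
  rw [← pow_two, c.mul_pow, pow_two, pow_two, dt_sq, dt_sq, one_mul]

variable {G : Type u} [Group G] [Finite G] (Φ : Alt α →* G)

/-- the centralizer lies in the image -/
def Good (p : Alt α) : Prop := centralizer ({Φ p} : Set G) ≤ Φ.range

variable {Φ}

theorem pt (hΦ : Function.Injective Φ)
    (h3 : ∀ p q : Alt α, p * p = 1 → q * q = 1 → IsConj (Φ p) (Φ q) → w p = w q) {p q : Alt α} (hp : p * p = 1)
    (gp : Good Φ p) {g : G} (h : g * Φ p * g⁻¹ = Φ q) : g ∈ Φ.range := by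
  have hq : q * q = 1 := hΦ (by rw [map_mul, ← h, conj_mul, ← map_mul, hp]; simp)
  obtain ⟨c, hc⟩ := conj_supp hp hq (h3 p q hp hq (isConj_iff.2 ⟨g, h⟩))
  have : (Φ c)⁻¹ * g ∈ Φ.range := gp (by
    rw [mem_centralizer_singleton_iff]
    have e : Φ q = Φ c * Φ p * (Φ c)⁻¹ := by rw [← hc, map_mul, map_mul, map_inv]
    rw [e] at h
    calc (Φ c)⁻¹ * g * Φ p = (Φ c)⁻¹ * (g * Φ p * g⁻¹) * g := by group
      _ = Φ p * ((Φ c)⁻¹ * g) := by rw [h]; group)
  simpa using Φ.range.mul_mem ⟨c, rfl⟩ this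

theorem main (hΦ : Function.Injective Φ) (X : Subgroup G) {g : G} (mg : g ∈ X) {d h : Alt α} (d2 : d * d = 1)
    (h2 : h * h = 1) (gd : Good Φ d) (gh : Good Φ h) (md : Φ d ∈ X) (mh : Φ h ∈ X) (nc : ∀ k ∈ X, k * Φ d * k⁻¹ ≠ Φ h) :
    ∃ z z' : Alt α, z ≠ 1 ∧ z * z = 1 ∧ z' * z' = 1 ∧ Φ z ∈ X ∧ g * Φ z' * g⁻¹ = Φ z ∧ d * z = z * d ∧ h * z' = z' * h ∧
      ((∃ k ∈ X, k * Φ d * k⁻¹ = Φ (d * z)) ∨ ∃ k ∈ X, k * Φ h * k⁻¹ = Φ (d * z)) ∧
      ((∃ k ∈ X, k * Φ d * k⁻¹ = Φ (h * z')) ∨ ∃ k ∈ X, k * Φ h * k⁻¹ = Φ (h * z')) := by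
  have my : g * Φ h * g⁻¹ ∈ X := X.mul_mem (X.mul_mem mg mh) (X.inv_mem mg)
  obtain ⟨t, mt, t1, t2, c1, c2, hk⟩ := dih X (x := Φ d) (y := g * Φ h * g⁻¹) (by rw [← map_mul, d2, map_one])
    (by rw [conj_mul, ← map_mul, h2]; simp) md my (fun k mk e => nc (g⁻¹ * k) (X.mul_mem (X.inv_mem mg) mk) (by
      calc g⁻¹ * k * Φ d * (g⁻¹ * k)⁻¹ = g⁻¹ * (k * Φ d * k⁻¹) * g := by group
        _ = Φ h := by rw [e]; group))
  have c3 : Φ h * (g⁻¹ * t * g) = (g⁻¹ * t * g) * Φ h := by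
    calc Φ h * (g⁻¹ * t * g) = g⁻¹ * (g * Φ h * g⁻¹ * t) * g := by group
      _ = _ := by rw [c2]; group
  obtain ⟨z, hz⟩ := gd (mem_centralizer_singleton_iff.2 c1.symm)
  obtain ⟨z', hz'⟩ := gh (mem_centralizer_singleton_iff.2 c3.symm)
  have gi := X.inv_mem mg
  refine ⟨z, z', fun e => t1 (by rw [← hz, e, map_one]), hΦ (by rw [map_mul, hz, t2, map_one]), hΦ ?_, hz ▸ mt,
    by rw [hz, hz']; group, hΦ (by rw [map_mul, map_mul, hz, c1]), hΦ (by rw [map_mul, map_mul, hz', c3]), ?_, ?_⟩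
  · rw [map_mul, hz', map_one]
    calc g⁻¹ * t * g * (g⁻¹ * t * g) = g⁻¹ * (t * t) * g := by group
      _ = 1 := by rw [t2]; group
  · rw [map_mul, hz]
    rcases hk with ⟨h1, -⟩ | ⟨⟨k, mk, e⟩, -⟩
    · exact Or.inl h1
    · exact Or.inr ⟨k * g, X.mul_mem mk mg, by rw [← e]; group⟩
  · rw [map_mul, hz']
    rcases hk with ⟨-, k, mk, e⟩ | ⟨-, k, mk, e⟩
    · refine Or.inr ⟨g⁻¹ * k * g, X.mul_mem (X.mul_mem gi mk) mg, ?_⟩
      calc g⁻¹ * k * g * Φ h * (g⁻¹ * k * g)⁻¹ = g⁻¹ * (k * (g * Φ h * g⁻¹) * k⁻¹) * g := by group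
        _ = _ := by rw [e]; group
    · refine Or.inl ⟨g⁻¹ * k, X.mul_mem gi mk, ?_⟩
      calc g⁻¹ * k * Φ d * (g⁻¹ * k)⁻¹ = g⁻¹ * (k * Φ d * k⁻¹) * g := by group
        _ = _ := by rw [e]; group

theorem sq_mul {p q : Alt α} (hp : p * p = 1) (hq : q * q = 1) (c : p * q = q * p) : p * q * (p * q) = 1 := by
  calc p * q * (p * q) = p * (q * p) * q := by group
    _ = 1 := by rw [← c, ← mul_assoc, hp, one_mul, hq]

theorem step (hΦ : Function.Injective Φ) (h4 : ∀ v : Alt α, v * v = 1 → w v = 4 → Good Φ v)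
    (h3 : ∀ p q : Alt α, p * p = 1 → q * q = 1 → IsConj (Φ p) (Φ q) → w p = w q) {s : Alt α} (hs : s * s = 1)
    (s1 : s ≠ 1) (h8 : w s = 8 ∨ ∀ v : Alt α, v * v = 1 → w v = 8 → Good Φ v) : Good Φ s := by
  intro g mg
  by_contra ng
  have w4 : 4 ≤ w s := Nat.le_of_dvd (Nat.pos_of_ne_zero fun e => s1 (w_zero e)) (four_dvd hs)
  obtain ⟨d, h, d2, h2, wd, wh, cd, ch, wds, whs⟩ := pair hs w4
  have cs : ∀ {p q : Alt α} {k : G}, k ∈ centralizer ({Φ s} : Set G) → p * p = 1 → p * s = s * p → k * Φ p * k⁻¹ = Φ q →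
      q * q = 1 ∧ q * s = s * q ∧ w p = w q ∧ w (p * s) = w (q * s) := by
    intro p q k mk p2 cp e
    rw [mem_centralizer_singleton_iff] at mk
    have q2 : q * q = 1 := hΦ (by rw [map_mul, ← e, conj_mul, ← map_mul, p2]; simp)
    have es : k * Φ s * k⁻¹ = Φ s := by rw [mk]; group
    have cq : q * s = s * q := hΦ (by
      rw [map_mul, map_mul, ← e, ← es, conj_mul, conj_mul, ← map_mul, ← map_mul, cp])
    exact ⟨q2, cq, h3 p q p2 q2 (isConj_iff.2 ⟨k, e⟩), h3 _ _ (sq_mul p2 hs cp) (sq_mul q2 hs cq)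
      (isConj_iff.2 ⟨k, by rw [map_mul, map_mul, ← conj_mul, e, es]⟩)⟩
  have ms : ∀ {p : Alt α}, p * s = s * p → Φ p ∈ centralizer ({Φ s} : Set G) := fun c =>
    mem_centralizer_singleton_iff.2 (by rw [← map_mul, c, map_mul])
  obtain ⟨z, z', z1, z2, z2', mz, e, cz, cz', k1, k2⟩ := main hΦ (centralizer {Φ s}) mg d2 h2 (h4 d d2 wd) (h4 h h2 wh)
    (ms cd) (ms ch) (fun k mk e => by have := (cs mk d2 cd e).2.2.2; omega)
  have zs : z * s = s * z := hΦ (by rw [map_mul, map_mul]; exact mem_centralizer_singleton_iff.1 mz)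
  have gi : g⁻¹ * Φ z * g⁻¹⁻¹ = Φ z' := by rw [← e]; group
  have nz : ¬ Good Φ z := fun gz => ng (by simpa using Φ.range.inv_mem (pt hΦ h3 z2 gz gi))
  have a1 : w (d * z) = 4 ∧ w (d * z * s) ≤ w s := by
    rcases k1 with ⟨k, mk, e⟩ | ⟨k, mk, e⟩
    · have := cs mk d2 cd e; omega
    · have := cs mk h2 ch e; omega
  have a2 : w (h * z') = 4 := by
    rcases k2 with ⟨k, mk, e⟩ | ⟨k, mk, e⟩
    · have := cs mk d2 cd e; omega
    · have := cs mk h2 ch e; omega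
  have ez : d * (d * z) = z := by rw [← mul_assoc, d2, one_mul]
  have wz : w z = 8 := by
    have b1 := w_mul_le d (d * z)
    have b2 := four_dvd z2
    have b3 : w z ≠ 0 := fun e => z1 (w_zero e)
    have b4 : w z ≠ 4 := fun e => nz (h4 z z2 e)
    rw [ez] at b1
    omega
  rcases h8 with h8 | h8
  swap
  · exact nz (h8 z z2 wz)
  have es : d * z * (d * s) = z * s := by
    calc d * z * (d * s) = (d * z * d) * s := by group
      _ = z * s := by rw [cz, mul_assoc z, d2, mul_one]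
  have zs2 := sq_mul z2 hs zs
  have gs : g⁻¹ * Φ s * g⁻¹⁻¹ = Φ s := by
    rw [inv_inv, mul_assoc, ← mem_centralizer_singleton_iff.1 mg]; group
  have gi' : g⁻¹ * Φ (z * s) * g⁻¹⁻¹ = Φ (z' * s) := by rw [map_mul, map_mul, ← conj_mul, gi, gs]
  have b1 := w_mul_le (d * z) (d * s)
  have b2 := four_dvd zs2
  have b4 : w (z * s) ≠ 4 := fun e => ng (by simpa using Φ.range.inv_mem (pt hΦ h3 zs2 (h4 _ zs2 e) gi'))
  have b3 : w (z * s) ≠ 0 := fun e => by
    have e1 := w_zero e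
    rw [e1, map_one, mul_one, mul_inv_cancel, eq_comm, ← map_one Φ] at gi'
    have e2 : z' = s := by
      have := hΦ gi'
      rw [← mul_one z', ← hs, ← mul_assoc, this, one_mul]
    rw [e2] at a2
    omega
  rw [es] at b1
  have D1 : Perm.Disjoint (d * z).1 (d * s).1 := disj_of (by rw [es]; omega)
  have D2 : Perm.Disjoint d.1 (d * z).1 := disj_of (by rw [ez]; omega)
  have D3 : Perm.Disjoint (d * z).1 (d * (d * s)).1 := D2.symm.mul_right D1
  rw [← mul_assoc d d, d2, one_mul] at D3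
  have := w_disj D3
  omega

end Sur

variable {G : Type u} [Group G] [Finite G]

theorem sur {α : Type} [Fintype α] [DecidableEq α] (h8 : 8 ≤ Fintype.card α) (Φ : Alt α →* G) (hΦ : Function.Injective Φ)
    (h2 : ∀ v : Alt α, v * v = 1 → v.1.support.card = 4 → centralizer ({Φ v} : Set G) ≤ Φ.range)
    (h3 : ∀ p q : Alt α, p * p = 1 → q * q = 1 → IsConj (Φ p) (Φ q) → p.1.support.card = q.1.support.card) :
    Function.Surjective Φ := by
  have g8 : ∀ v : Alt α, v * v = 1 → Sur.w v = 8 → Sur.Good Φ v := fun v v2 e =>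
    Sur.step hΦ h2 h3 v2 (fun e1 => by rw [e1] at e; simp [Sur.w] at e) (Or.inl e)
  have ga : ∀ v : Alt α, v * v = 1 → v ≠ 1 → Sur.Good Φ v := fun v v2 e => Sur.step hΦ h2 h3 v2 e (Or.inr g8)
  intro g
  by_contra ng
  obtain ⟨p, p2, wp⟩ := Sur.exists_w h8
  obtain ⟨d, -, d2, -, wd, -⟩ := Sur.pair p2 (by omega)
  obtain ⟨z, z', z1, z2, z2', -, e, -⟩ := Sur.main hΦ ⊤ (mem_top g) d2 p2 (h2 d d2 wd) (g8 p p2 wp) (mem_top _) (mem_top _)
    (fun k _ e => by
      have : Sur.w d = Sur.w p := h3 d p d2 p2 (isConj_iff.2 ⟨k, e⟩)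
      omega)
  have gi : g⁻¹ * Φ z * g⁻¹⁻¹ = Φ z' := by rw [← e]; group
  exact ng (by simpa using Φ.range.inv_mem (Sur.pt hΦ h3 z2 (ga z z2 z1) gi))

end Cfsg.Agent.WA.Al
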