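import Cfsg.Agent.WA.AlTwo
import Cfsg.Agent.WA.AlOne
import Cfsg.Agent.WA.AlCh
import Cfsg.Agent.WA.AlCs
import Cfsg.Agent.WA.AlK1
import Cfsg.Agent.WA.AlGen
import Cfsg.Agent.WA.AlQuo
import Cfsg.Agent.WA.AlX7
import Cfsg.Agent.WA.AlIs
import Cfsg.Agent.WA.AlLab
import Cfsg.Agent.WA.AlW
import Cfsg.Agent.WA.AlOut
import Cfsg.Agent.WA.AlZ
import Cfsg.Agent.WA.AlMu
import Cfsg.Agent.WA.AlNu
import Cfsg.Agent.WA.AlExt
import Cfsg.Agent.WA.AlSur
import Cfsg.Agent.WA.AlB7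
import Cfsg.Agent.WA.AlSix

/-! S3218: assembly. -/

set_option autoImplicit false

namespace Cfsg.Agent.WA.Al

open Subgroup Equiv

universe u

variable {G : Type u} [Group G] [Finite G] {B : Type} [Fintype B] [DecidableEq B] {s : ℕ}

namespace Main

theorem exists_St {α : Type} [Fintype α] [DecidableEq α] {X : Finset α} (hX : X.card = 4) {p : Alt α} (hp : p * p = 1) :
    ∃ q : St X, q * q = 1 ∧ q.1.1.support.card = p.1.support.card ∧ (p.1.support.card = 4 → q.1.1.support = X) := by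
  by_cases h1 : p = 1
  · subst h1
    exact ⟨1, mul_one _, rfl, fun h => by simp at h⟩
  have hp' : p.1 * p.1 = 1 := congrArg Subtype.val hp
  have hpp : ∀ x, p.1 (p.1 x) = x := fun x => by rw [← Perm.mul_apply, hp', Perm.one_apply]
  obtain ⟨x, hx⟩ : ∃ x, p.1 x ≠ x := by
    by_contra hn
    push Not at hn
    exact h1 (Subtype.ext (Equiv.ext hn))
  obtain ⟨x', hx', h2, h3⟩ : ∃ x', p.1 x' ≠ x' ∧ x' ≠ x ∧ x' ≠ p.1 x := by
    by_contra hn
    push Not at hn
    have : p.1 = swap x (p.1 x) := Equiv.ext fun a => by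
      by_cases e1 : a = x
      · rw [e1, swap_apply_left]
      by_cases e2 : a = p.1 x
      · rw [e2, swap_apply_right, hpp]
      rw [swap_apply_of_ne_of_ne e1 e2]
      by_contra h
      exact e2 (hn a h e1)
    have h4 := Perm.mem_alternatingGroup.1 p.2
    rw [this, Perm.sign_swap hx.symm] at h4
    exact absurd h4 (by decide)
  have h4 : p.1 x' ≠ x := fun h => h3 (by rw [← h, hpp])
  have h5 : p.1 x' ≠ p.1 x := fun h => h2 (p.1.injective h)
  let Y : Finset α := {x, p.1 x, x', p.1 x'}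
  have hY : Y.card = 4 := by
    rw [Finset.card_insert_of_notMem (by simp [hx.symm, h2.symm, h4.symm]),
      Finset.card_insert_of_notMem (by simp [h3.symm, h2.symm]), Finset.card_pair hx'.symm]
  have hYp : ∀ a, p.1 a ∈ Y ↔ a ∈ Y := by
    have : ∀ a, a ∈ Y → p.1 a ∈ Y := fun a ha => by
      simp only [Y, Finset.mem_insert, Finset.mem_singleton] at ha ⊢
      rcases ha with rfl | rfl | rfl | rfl <;> simp [hpp]
    exact fun a => ⟨fun h => hpp a ▸ this _ h, this a⟩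
  have hYs : Y ⊆ p.1.support := fun a ha => by
    simp only [Y, Finset.mem_insert, Finset.mem_singleton] at ha
    rw [Perm.mem_support]
    rcases ha with rfl | rfl | rfl | rfl
    · exact hx
    · rw [hpp]; exact hx.symm
    · exact hx'
    · rw [hpp]; exact hx'.symm
  obtain ⟨π, hπ⟩ := Perm.exists_map_finset_eq Y X (hY.trans hX.symm)
  have hm : ∀ a, π a ∈ X ↔ a ∈ Y := fun a => by rw [← hπ]; exact Finset.mem_map' π.toEmbedding
  refine ⟨⟨⟨π * p.1 * π⁻¹, (alternatingGroup.normal).conj_mem _ p.2 π⟩, fun a => ?_⟩, ?_, ?_, fun h => ?_⟩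
  · show π (p.1 (π⁻¹ a)) ∈ X ↔ a ∈ X
    rw [hm, hYp, ← hm]; simp
  · refine Subtype.ext (Subtype.ext ?_)
    show π * p.1 * π⁻¹ * (π * p.1 * π⁻¹) = 1
    calc _ = π * (p.1 * p.1) * π⁻¹ := by group
      _ = 1 := by rw [hp']; group
  · show (π * p.1 * π⁻¹).support.card = _
    rw [Perm.support_conj, Finset.card_map]
  · show (π * p.1 * π⁻¹).support = X
    rw [Perm.support_conj, ← Finset.eq_of_subset_of_card_le hYs (by omega), hπ]

theorem hm_iso {α : Type} [Fintype α] [DecidableEq α] (H : HM G α) : Nonempty (G ≃* Alt α) := by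
  obtain ⟨ν, hν, h1, h2⟩ := H.nu
  obtain ⟨Φ, hΦ⟩ := H.ext ν hν h1 h2
  have hb := H.big
  haveI := alternatingGroup.isSimpleGroup (α := α) (by rw [Nat.card_eq_fintype_card]; omega)
  have hi : Function.Injective Φ := by
    rw [← MonoidHom.ker_eq_bot_iff]
    refine (MonoidHom.normal_ker Φ).eq_bot_or_eq_top.resolve_right fun h => ?_
    haveI := Fact.mk Nat.prime_two
    obtain ⟨p, hp⟩ := exists_prime_orderOf_dvd_card' (G := Alt α) 2 (by
      haveI : Nontrivial α := Fintype.one_lt_card_iff_nontrivial.1 (by omega)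
      have h3 : 2 * Nat.card (Alt α) = _ := two_mul_nat_card_alternatingGroup (α := α)
      rw [Nat.card_perm, Nat.card_eq_fintype_card (α := α)] at h3
      have h4 : 4 ∣ (Fintype.card α).factorial := Nat.dvd_factorial (by omega) (by omega)
      omega)
    obtain ⟨q, -, hq, -⟩ := exists_St H.cX (H9.mul_self_of_orderOf_two hp)
    have h5 : H.μ q = 1 := by rw [← hΦ]; exact MonoidHom.mem_ker.1 (h ▸ mem_top _)
    rw [H.inj (h5.trans (map_one _).symm)] at hq
    have h6 : p.1.support = ∅ := Finset.card_eq_zero.1 (by rw [← hq]; simp)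
    exact H9.ne_one_of_orderOf_two hp (Subtype.ext (Perm.support_eq_empty_iff.1 h6))
  have hs : Function.Surjective Φ := by
    refine sur (by omega) Φ hi (fun v hv h4 => ?_) fun p q hp hq hc => ?_
    · obtain ⟨q, hq, h5, h6⟩ := exists_St H.cX hv
      obtain ⟨c, hc⟩ := isConj_iff.1 (isConj_of_supp (congrArg Subtype.val hq) hv h5)
      intro g hg
      rw [mem_centralizer_singleton_iff, ← hc, map_mul, map_mul, map_inv, hΦ] at hg
      obtain ⟨r, hr⟩ := H.h2 q hq (h6 h4) (show (Φ c)⁻¹ * g * Φ c ∈ _ from mem_centralizer_singleton_iff.2 (by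
        calc (Φ c)⁻¹ * g * Φ c * H.μ q = (Φ c)⁻¹ * (g * (Φ c * H.μ q * (Φ c)⁻¹)) * Φ c := by group
          _ = _ := by rw [hg]; group))
      exact ⟨c * r.1 * c⁻¹, by rw [map_mul, map_mul, map_inv, hΦ, hr]; group⟩
    · obtain ⟨p', hp', h5, -⟩ := exists_St H.cX hp
      obtain ⟨q', hq', h6, -⟩ := exists_St H.cX hq
      rw [← h5, ← h6]
      refine H.h3 p' q' hp' hq' ?_
      rw [← hΦ, ← hΦ]
      exact ((Φ.map_isConj (isConj_of_supp (congrArg Subtype.val hp') hp h5)).trans hc).trans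
        (Φ.map_isConj (isConj_of_supp (congrArg Subtype.val hq') hq h6)).symm
  exact ⟨(MulEquiv.ofBijective Φ ⟨hi, hs⟩).symm⟩

theorem mid_iso (M : Mid G B s) : Nonempty (G ≃* Alt (Pt B s)) := by
  obtain ⟨M₁, h1⟩ := M.lab
  obtain ⟨M₂, h2, h3⟩ := M₁.out h1
  obtain ⟨H⟩ := M₂.hm h2 h3 (M₂.cen h2 h3)
  exact hm_iso H

theorem card_pt (B : Type) [Fintype B] (s : ℕ) : Fintype.card (Pt B s) = 4 * Fintype.card B + (s + 2) := by
  simp [Pt, mul_comm]

theorem mid_of_two (C : Chart G B s) {S : CS G B s} (h : Fits C S) {b₁ b₂ : B} (T : Two S b₁ b₂ 1)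
    (ih : 2 < Fintype.card B ∨ s = 1 → TT.{u} (4 * (Fintype.card B - 1) + (s + 2))) : Nonempty (Mid G B s) := by
  have hg := C.gen h T
  have hV : S.V b₁ ≤ centralizer (S.V b₁ : Set G) := by
    have hA : S.V b₁ ≤ S.A fun _ => true := by
      refine (closure_le _).2 ?_
      rintro x (rfl | rfl)
      · exact subset_closure (Or.inl ⟨b₁, rfl⟩)
      · exact subset_closure (Or.inr ⟨b₁, rfl⟩)
    intro x hx y hy
    have h1 := S.A_sq (mul_mem (hA hy) (hA hx))
    have h2 := S.A_sq (hA hx)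
    have h3 := S.A_sq (hA hy)
    calc y * x = (y * x)⁻¹ := eq_inv_of_mul_eq_one_left h1
      _ = x * y := by rw [mul_inv_rev, inv_eq_of_mul_eq_one_left h2, inv_eq_of_mul_eq_one_left h3]
  have hN : S.V b₁ ⊔ Od (centralizer (S.V b₁ : Set G)) ≤ centralizer (S.V b₁ : Set G) :=
    sup_le hV ((closure_le _).2 fun x hx => hx.1)
  haveI : ((S.V b₁).subgroupOf (S.V b₁ ⊔ Od (centralizer (S.V b₁ : Set G)))).Normal :=
    ⟨fun n hn g => by
      have := hN g.2 n.1 hn
      show (g : G) * n * (g : G)⁻¹ ∈ S.V b₁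
      rw [← this, mul_inv_cancel_right]; exact hn⟩
  let p := QuotientGroup.mk' ((S.V b₁).subgroupOf (S.V b₁ ⊔ Od (centralizer (S.V b₁ : Set G))))
  have hp : Function.Surjective p := QuotientGroup.mk'_surjective _
  have hk : ∀ x, p x = 1 ↔ x.1 ∈ S.V b₁ := fun x => QuotientGroup.eq_one_iff x
  obtain ⟨h1, hz, h2, zt, h3, ⟨e⟩⟩ := C.quo h T hg p hp hk
  have hc : Fintype.card (Pt {b // b ≠ b₁} s) = 4 * (Fintype.card B - 1) + (s + 2) := by
    rw [card_pt, Fintype.card_subtype_compl, Fintype.card_subtype_eq]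
  have h2B : 2 ≤ Fintype.card B := Fintype.one_lt_card_iff.2 ⟨b₁, b₂, T.ne⟩
  have key : Nonempty ((↥(S.V b₁ ⊔ Od (centralizer (S.V b₁ : Set G))) ⧸
      (S.V b₁).subgroupOf (S.V b₁ ⊔ Od (centralizer (S.V b₁ : Set G)))) ≃* Alt (Pt {b // b ≠ b₁} s)) := by
    by_cases hh : 2 < Fintype.card B ∨ s = 1
    · exact ih hh _ _ hc h1 zt _ h3 h2 ⟨e⟩
    have hs := C.hs
    obtain rfl : s = 0 := by omega
    have hB : Fintype.card B = 2 := by omega
    obtain ⟨h8, h4 | ⟨h4, h5⟩⟩ := six (by rw [hc, hB]) h1 h3 h2 e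
    · exact h4
    refine (S.x7 T hB hg ?_ p hp hk h5 hz h8).elim
    rw [h.z]
    refine C.not_seven hB ?_
    rw [← h.K]
    refine Finset.eq_univ_of_card _ (le_antisymm (Finset.card_le_univ _) ?_)
    rw [hB]
    exact Finset.one_lt_card.2 ⟨b₁, T.m1, b₂, T.m2, T.ne⟩
  obtain ⟨f⟩ := key
  exact S.mid_two C.hs T hg (f.toMonoidHom.comp p) (f.surjective.comp hp) fun x => by
    rw [← hk]; exact f.map_eq_one_iff

end Main

open Main in
theorem tt (m : ℕ) (h7 : 7 ≤ m) (hm : m % 4 = 2 ∨ m % 4 = 3) : TT.{u} m := by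
  induction m using Nat.strong_induction_on with
  | _ m ih =>
  by_cases e7 : m = 7
  · rw [e7]; exact tt7
  intro G _ _ α _ _ hc hG zt z h1 h2 ⟨e⟩
  obtain ⟨n, s, hs, hn, rfl⟩ : ∃ n s, s ≤ 1 ∧ 2 ≤ n ∧ m = 4 * n + (s + 2) := ⟨m / 4, m % 4 - 2, by omega, by omega, by omega⟩
  obtain ⟨⟨C, -⟩, ⟨ω⟩⟩ := exists_chart hs hc h1 h2 e
  suffices h : Nonempty (Mid G (Fin n) s) by
    obtain ⟨M⟩ := h
    obtain ⟨f⟩ := mid_iso M
    exact ⟨f.trans ω⟩
  obtain ⟨b₁, hb₁⟩ := C.ne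
  by_cases hK : C.K = {b₁}
  · haveI : Nontrivial (Fin n) := Fin.nontrivial_iff_two_le.2 hn
    obtain ⟨b₂, hb₂⟩ := exists_ne b₁
    exact C.mid_one hG hK hb₂
  obtain ⟨b₂, hb₂, hne⟩ : ∃ b₂ ∈ C.K, b₂ ≠ b₁ := by
    by_contra hh
    push Not at hh
    exact hK (Finset.eq_singleton_iff_unique_mem.2 ⟨hb₁, hh⟩)
  have ih' : 2 < Fintype.card (Fin n) ∨ s = 1 → TT.{u} (4 * (Fintype.card (Fin n) - 1) + (s + 2)) := fun h => by
    rw [Fintype.card_fin] at h ⊢
    exact ih _ (by omega) (by omega) (by omega)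
  obtain ⟨S, hS⟩ := C.exists_cs
  rcases S.two hG (hS.K ▸ hb₁) (hS.K ▸ hb₂) hne.symm with T | T
  · exact mid_of_two C hS T ih'
  · obtain ⟨C', S', hS', T'⟩ := C.untwist hS T
    exact mid_of_two C' hS' T' ih'

end Cfsg.Agent.WA.Al
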