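import Cfsg.Agent.WA.TQDef
import Cfsg.Agent.H2.Wong

/-! Brauer–Wong (h2: `H2.Wong.main`): a simple group with an involution centralizer `GL₂(3)`. -/

set_option autoImplicit false

namespace Cfsg.Agent.WA.Br

open Subgroup

universe u

theorem wong {G : Type u} [Group G] [Finite G] [IsSimpleGroup G] (z : G) (hz : orderOf z = 2)
    (e : Nonempty (centralizer ({z} : Set G) ≃* GL (Fin 2) (ZMod 3))) :
    (∃ (F : Type) (_ : Field F) (_ : Fintype F), Fintype.card F = 3 ∧
      Nonempty (G ≃* Matrix.ProjectiveSpecialLinearGroup (Fin 3) F)) ∨ Cfsg.Spor.IsoM11 G :=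
  Cfsg.Agent.H2.Wong.main z hz e

end Cfsg.Agent.WA.Br
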