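import Cfsg.Agent.WA.ITQB
import Cfsg.Agent.GW.IMain
import Cfsg.Agent.H5.GWc4
import Cfsg.Agent.H7.Affine
import Cfsg.Agent.S3224
import Cfsg.Agent.S3225

/-! Identifications (PLAN_TQ.md, K). -/

set_option autoImplicit false

namespace Cfsg.Agent.WA.TQ

open Subgroup Cfsg.Agent.FT Cfsg.Agent.L0 Cfsg.Agent.H8
open Cfsg.Agent.H7 (op opp)
open scoped commutatorElement

universe u

variable {G : Type u} [Group G] [Finite G] {M S A V T : Subgroup G} {t z : G}

local instance k2 : Fact (Nat.Prime 2) := Nat.fact_prime_two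

theorem k_zp (ht : t * t = 1) : IsPGroup 2 (zpowers t) := H9.isPGroup_zpowers ⟨1, (pow_two t).trans ht⟩

theorem Loc.k_fstar (h : Loc M) (ht : t * t = 1) (hle : 𝐂[t] ≤ M) : IsPGroup 2 (H7.fstarOf 𝐂[t]) := by
  have := H7.isPGroup_fstarOf_inf_centralizer (k_zp ht) (zpowers_le.mpr (hle (mem_centralizer_singleton_iff.mpr rfl)))
    (H7.isPGroup_fstarOf_iff_centralizer.mpr fun x hx => by
      obtain ⟨y, hy, e⟩ := h.cent ⟨x.2, mem_centralizer_iff.mpr (by
        rintro _ ⟨y, hy, rfl⟩; exact congrArg Subtype.val (mem_centralizer_iff.mp hx y hy))⟩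
      exact Subtype.ext e ▸ hy)
  rwa [H8.centralizer_zpowers, inf_eq_right.mpr hle] at this

theorem Clo.k_norm (h : Clo 𝐂[t]) (hT : IsSylowIn 2 T ⊤) (hle : T ≤ 𝐂[t]) : 𝐂[t] ≤ 𝐍(T) :=
  (h.eq_op (hT.of_le hle le_top)).symm ▸ H7.le_normalizer_op _

theorem k_cent (hT : IsPGroup 2 T) (h1 : T ≠ ⊥) : ∃ z ∈ T, orderOf z = 2 ∧ T ≤ 𝐂[z] := by
  obtain ⟨d, hd, d1, c⟩ := Te.exists_cent_two hT hT h1 le_normalizer
  obtain ⟨n, i⟩ := BS.exists_invo_pow_of_two_elt (H5.IsPGroup_pow_eq_one hT hd) d1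
  exact ⟨_, pow_mem hd n, i.orderOf_eq, fun x hx => mem_centralizer_singleton_iff.mpr (Commute.pow_right (c x hx) n)⟩

variable [IsSimpleGroup G]

theorem k_con (hG : ¬ IsMulCommutative G) (hM : IsStronglyEmbedded M) : Con G := by
  rcases BS.bender_simple hG hM with ⟨F, _, _, _, h4, e⟩ | e | e
  · obtain ⟨n, -, c⟩ := FiniteField.card F 2
    refine Or.inr (Or.inr (Or.inr (Or.inl ⟨F, _, _, n, ?_, c, Or.inl e⟩)))
    by_contra lt
    rw [c, show (n : ℕ) = 1 by have := n.pos; omega] at h4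
    omega
  exacts [Or.inr (Or.inr (Or.inr (Or.inr (Or.inr e)))), Or.inr (Or.inr (Or.inr (Or.inr (Or.inl e))))]

theorem k_se (hG : ¬ IsMulCommutative G) (hT : IsSylowIn 2 T ⊤) (hC : ∀ t ∈ T, orderOf t = 2 → 𝐂[t] ≤ 𝐍(T)) : Con G := by
  have h1 := hT.ne_bot (card_top (G := G) ▸ H5.two_dvd_card_of_simple hG)
  exact k_con hG (Dich.stronglyEmbedded_of (H6.normalizer_ne_top_of_pgroup hG hT.pgroup h1) hT h1 le_rfl hC)

theorem Hyp.k_ab (h : Hyp G) (hG : ¬ IsMulCommutative G) (hT : IsSylowIn 2 T ⊤) (hc : T ≤ 𝐂(T)) : Con G :=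
  k_se hG hT fun t ht t2 => by
    have l : T ≤ 𝐂[t] := fun x hx => mem_centralizer_singleton_iff.mpr (mem_centralizer_iff.mp (hc ht) x hx)
    refine Clo.k_norm (by_contra fun hn => ?_) hT l
    obtain ⟨M, m, l'⟩ := h.exists_loc' (H9.mul_self_of_orderOf_two t2) (H9.ne_one_of_orderOf_two t2) hn
    have s := hT.of_le (l.trans l') le_top
    exact m.not_le_op s ((hc.trans (centralizer_le (op_le_syl s))).trans m.cent')

theorem Hyp.sc_con (h : Hyp G) (hG : ¬ IsMulCommutative G) (hA : GS.SC A ⊤) (h1 : A ≠ ⊥) : Con G := by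
  have c : A ≤ 𝐂(A) := fun x hx => mem_centralizer_iff.mpr fun y hy => hA.comm hy hx
  rcases GS.gs hG hA h1 with e | e | e
  exacts [k_con hG e, h.k_ab hG e.1 c, h.k_ab hG e.1 c]

theorem Hyp.clo_con (h : Hyp G) (hG : ¬ IsMulCommutative G) (hn : ∀ M : Subgroup G, ¬ Loc M) : Con G := by
  have ti : ∀ n, ∀ S T : Subgroup G, IsSylowIn 2 S ⊤ → IsSylowIn 2 T ⊤ → S ⊓ T ≠ ⊥ → Nat.card G - #|(S ⊓ T : Subgroup G)| = n →
      S = T := fun n => by
    induction n using Nat.strong_induction_on with | _ n ih => ?_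
    intro S T hS hT h1 e
    by_contra ne
    have c : Clo 𝐍((S ⊓ T : Subgroup G)) := by_contra fun c => (h.exists_loc (hS.pgroup.to_le inf_le_left) h1 c).elim fun M m => hn M m.1
    obtain ⟨U, hU, l⟩ := exists_isSylowIn_ge (H7.op_isPGroup (p := 2) 𝐍((S ⊓ T : Subgroup G))) le_top
    have k : ∀ X, IsSylowIn 2 X ⊤ → S ⊓ T < X → X = U := fun X hX lt => by
      have l1 := (lt_inf_normalizer_of_pgroup hX.pgroup lt).trans_le
        (le_inf inf_le_left ((c _ inf_le_right (hX.pgroup.to_le inf_le_left)).trans l))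
      have := card_lt_of_lt l1
      have := card_le_card_group (X ⊓ U)
      exact ih _ (by omega) X U hX hU (ne_bot_of_gt l1) rfl
    exact ne ((k S hS (inf_lt_left.mpr fun e => ne (hS.max T le_top hT.pgroup e).symm)).trans
      (k T hT (inf_lt_right.mpr fun e => ne (hT.max S le_top hS.pgroup e))).symm)
  obtain ⟨T, hT⟩ := exists_isSylowIn 2 (⊤ : Subgroup G)
  refine k_se hG hT fun t ht t2 g hg => cj_eq_self_iff.mp (ti _ _ _ (cj_top g ▸ hT.cj g) hT (ne_bot_of_mem (x := t)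
    ⟨?_, ht⟩ (H9.ne_one_of_orderOf_two t2)) rfl)
  simpa [mem_centralizer_singleton_iff.mp hg] using conj_mem_cj g ht

theorem Hyp.ds_con (h : Hyp G) (hG : ¬ IsMulCommutative G) (hd : GW.DS G) : Con G := by
  rcases GW.gw hG hd with ⟨t, s, K, b⟩ | ⟨c, hA⟩
  · obtain ⟨k, hk⟩ := IsPGroup.iff_card.mp (H7.isPGroup_two_of_no_odd (K := K) fun x hx hp h2 => hp.ne_one (by
      have od := hp.odd_of_ne_two h2
      by_cases c : Clo 𝐂[t]
      · have m := c _ (zpowers_le.mpr (mem_centralizer_singleton_iff.mpr b.st)) (k_zp b.hs) (mem_zpowers s)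
        have m' := mul_mem (conj_mem_of_le_normalizer (H7.le_normalizer_op _) (b.le hx) m) (inv_mem m)
        rw [show x * s * x⁻¹ * s⁻¹ = x * (s * x * s⁻¹)⁻¹ by group, b.inv _ hx, inv_inv] at m'
        obtain ⟨n, e⟩ := H5.IsPGroup_pow_eq_one (H7.op_isPGroup _) m'
        rw [← pow_two, ← pow_mul, ← pow_succ'] at e
        exact ((Nat.coprime_two_right.mpr od).pow_right _).eq_one_of_dvd (orderOf_dvd_of_pow_eq_one e)
      · obtain ⟨M, m, l⟩ := h.exists_loc' b.tt b.t1 c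
        have : zpowers x ≤ opp 2 𝐂[t] := (H7.SN.of_normalizer (zpowers_le.mpr (b.le hx)) fun g hg =>
          mem_normalizer_of_cj_le (by
            rw [cj, MonoidHom.map_zpowers, zpowers_le]
            rcases b.cent g (mem_centralizer_singleton_iff.mp hg) with e | e
            · simp [b.comm g e x hx]
            · simp [b.conj_of_mul_mem e hx])).le_opp (by rw [Nat.card_zpowers]; exact od.not_two_dvd_nat)
        rw [show opp 2 𝐂[t] = ⊥ from (H7.isPGroup_fstarOf_iff''.mp (m.k_fstar b.tt l)).2] at this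
        exact orderOf_eq_one_iff.mpr (this (mem_zpowers x))))
    have c := b.card_cent
    rw [hk] at c
    rcases k with _ | _ | k
    · have := b.ht ▸ orderOf_dvd_natCard K b.tK
      omega
    · have p : IsPGroup 2 𝐂[t] := .of_card (n := 2) c
      obtain ⟨T, hT, l⟩ := exists_isSylowIn_ge p le_top
      obtain ⟨z, -, z2, l'⟩ := k_cent hT.pgroup (ne_bot_of_mem (l (mem_centralizer_singleton_iff.mpr rfl)) b.t1)
      obtain ⟨g, rfl⟩ := isConj_iff.mp (b.fus z z2)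
      obtain rfl := eq_of_le_of_card_ge l ((card_le_of_le l').trans (by rw [← cj_centralizer_singleton, card_cj]))
      have := IsPGroup.isMulCommutative_of_card_eq_prime_sq (p := 2) c
      exact h.k_ab hG hT (le_centralizer _)
    obtain ⟨F, _, _, -, e, i⟩ := GW.psl_of_bsw b (H7.quasisimple_iff.mp (H7.QS.of_isSimpleGroup hG)).1
    rw [hk, ← pow_succ'] at e
    have : 1 ≤ 2 ^ k := Nat.one_le_two_pow
    exact Or.inl ⟨F, _, _, _, by simp only [pow_succ] at e; omega, e, i⟩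
  obtain ⟨T, hT⟩ := exists_isSylowIn 2 (⊤ : Subgroup G)
  obtain ⟨z, -, z2, l⟩ := k_cent hT.pgroup (hT.ne_bot (card_top (G := G) ▸ H5.two_dvd_card_of_simple hG))
  obtain ⟨w, hw, e⟩ := hA z z2
  have zz := H9.mul_self_of_orderOf_two z2
  by_cases c' : Clo 𝐂[z]
  · have c1 := card_mul_index T
    have c2 := hT.not_dvd_relIndex
    have c3 : #|T| ≤ 4 := by
      classical
      exact (Nat.card_le_card_of_injective (fun x : T => (⟨x, by simpa using (e x).mp (c' T l hT.pgroup x.2)⟩ :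
        ({1, z, w, z * w} : Finset G))) fun x y e => Subtype.ext (congrArg Subtype.val e :)).trans
        (by rw [Nat.card_eq_fintype_card, Fintype.card_coe]; exact Finset.card_le_four)
    obtain ⟨n, c4⟩ := hT.pgroup.exists_card_eq
    rw [relIndex_top_right] at c2
    rw [c, c4] at c1
    rw [c4] at c3
    have p : ∀ n : ℕ, 1 ≤ 2 ^ n := fun n => Nat.one_le_two_pow
    rcases n with _ | _ | _ | n
    iterate 3 omega
    have := p n
    simp only [pow_succ] at c3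
    omega
  obtain ⟨M, m, l⟩ := h.exists_loc' zz (H9.ne_one_of_orderOf_two z2) c'
  have p : IsPGroup 2 𝐂[z] := fun ⟨g, hg⟩ => by
    have gz := mem_centralizer_singleton_iff.mp hg
    have n : g * w * g⁻¹ = w ∨ g * w * g⁻¹ = z * w := by
      rcases (e _).mp (conj_mem_of_le_normalizer (H7.le_normalizer_op _) hg ((e w).mpr (by simp))) with r | r | r
      · exact absurd (by simpa using r) (H9.ne_one_of_orderOf_two hw.1)
      · exact absurd (mul_left_cancel ((mul_inv_eq_iff_eq_mul.mp r).trans gz.symm)) hw.2.2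
      · exact r
    have n2 : g * g * w = w * (g * g) := by
      rw [← mul_inv_eq_iff_eq_mul, show g * g * w * (g * g)⁻¹ = g * (g * w * g⁻¹) * g⁻¹ by group]
      rcases n with r | r
      · rw [r, r]
      · rw [r, ← conj_mul, r, gz, mul_inv_cancel_right, ← mul_assoc, zz, one_mul]
    obtain ⟨k, hk⟩ := H5.IsPGroup_pow_eq_one (H7.op_isPGroup _) (H7.inf_centralizer_op_le (m.k_fstar zz l)
      ⟨mul_mem hg hg, mem_centralizer_iff.mpr fun y hy => by
        have := mem_centralizer_singleton_iff.mp (mul_mem hg hg)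
        rcases (e y).mp hy with rfl | rfl | rfl | rfl
        exacts [by simp, this.symm, n2.symm, by rw [mul_assoc, ← n2, ← mul_assoc, ← this, mul_assoc]]⟩)
    exact ⟨k + 1, Subtype.ext (by rwa [← pow_two, ← pow_mul, ← pow_succ'] at hk)⟩
  exact absurd (fun P h1 _ => h1.trans ((H7.SN.refl _).le_op p)) c'

omit [IsSimpleGroup G] in
theorem k_qd (hq : IsQuasiDihedral T) : ∃ a ∈ T, ∃ y ∈ T, ∃ k : ℕ, y * y = 1 ∧ a ^ (4 * k) = 1 ∧ a ^ (2 * k) ≠ 1 ∧
    y * a * y⁻¹ = a ^ (2 * k) * a⁻¹ ∧ a ^ 4 ≠ 1 ∧ (∀ x ∈ T, x ∈ zpowers a ∨ x * y ∈ zpowers a) ∧ y ∉ zpowers a ∧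
    a ∉ zpowers (a ^ 2) ∧ ∀ x ∈ zpowers a, x * x = 1 → x = 1 ∨ x = a ^ (2 * k) := by
  obtain ⟨n, h3, c, a, y, oa, oy, r⟩ := hq
  obtain ⟨n, rfl⟩ := Nat.exists_eq_add_of_le' h3
  have o : orderOf (a : G) = 2 ^ (n + 3) := (orderOf_coe a).trans oa
  have p : 1 ≤ 2 ^ n := Nat.one_le_two_pow
  have ne : ∀ i, 0 < i → i < 2 ^ (n + 3) → (a : G) ^ i ≠ 1 := fun i h0 h => pow_ne_one_of_lt_orderOf h0.ne' (o ▸ h)
  have r' : (y : G) * a * (y : G)⁻¹ = a ^ (2 * 2 ^ (n + 1)) * (a : G)⁻¹ := by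
    rw [eq_mul_inv_iff_mul_eq, ← pow_succ', show 2 ^ (n + 1 + 1) = 2 ^ (n + 3 - 1) - 1 + 1 by
      simp only [Nat.add_succ_sub_one, pow_succ]; omega, pow_succ]
    exact congrArg (· * (a : G)) (congrArg Subtype.val r)
  have e4 : (a : G) ^ (4 * 2 ^ (n + 1)) = 1 := by rw [← pow_orderOf_eq_one (a : G), o]; congr 1; ring
  have y1 : (y : G) ∉ zpowers (a : G) := fun ⟨i, e⟩ => ne 4 (by norm_num) (by simp only [pow_succ]; omega) (by
    have : (y : G) * a * (y : G)⁻¹ = a := by rw [← e]; group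
    rw [r', mul_inv_eq_iff_eq_mul, ← pow_two] at this
    rw [show 4 = 2 * 2 from rfl, pow_mul, ← this, ← pow_mul, ← e4]; congr 1; ring)
  have i2 : (zpowers a).index = 2 := by
    have := (zpowers a).card_mul_index
    rw [Nat.card_zpowers, oa, c, pow_succ _ (n + 3)] at this
    exact Nat.eq_of_mul_eq_mul_left (by positivity) this
  have k : ∀ {x : T}, x ∈ zpowers a → (x : G) ∈ zpowers (a : G) := fun ⟨i, e⟩ => ⟨i, congrArg Subtype.val e⟩
  refine ⟨a, a.2, y, y.2, 2 ^ (n + 1), congrArg Subtype.val (H9.mul_self_of_orderOf_two oy), e4,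
    ne _ (by positivity) (by simp only [pow_succ]; omega), r', ne 4 (by norm_num) (by simp only [pow_succ]; omega),
    fun x hx => (em (⟨x, hx⟩ ∈ zpowers a)).imp k fun e => k ((mul_mem_iff_of_index_two i2).mpr (iff_of_false e (mt k y1))),
    y1, fun e => ?_, fun x hx x2 => ?_⟩
  · have := orderOf_dvd_natCard _ e
    rw [Nat.card_zpowers, orderOf_pow' _ two_ne_zero, o, Nat.gcd_eq_right (dvd_pow_self 2 (by omega))] at this
    have := Nat.le_of_dvd (by simp only [pow_succ]; omega) this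
    omega
  · classical
    obtain ⟨i, hi, rfl⟩ := Finset.mem_image.mp (mem_zpowers_iff_mem_range_orderOf.mp hx)
    rw [← pow_add, ← orderOf_dvd_iff_pow_eq_one, o] at x2
    rw [Finset.mem_range, o] at hi
    obtain ⟨j, e⟩ := x2
    rcases j with _ | _ | j
    · exact Or.inl (by rw [show i = 0 by omega, pow_zero])
    · exact Or.inr (by rw [show i = 2 * 2 ^ (n + 1) by simp only [pow_succ] at e ⊢; omega])
    · nlinarith

theorem Hyp.k_qd (h : Hyp G) (hG : ¬ IsMulCommutative G) (hb : ∀ M : Subgroup G, Loc M → ¬ TA M) (hT : IsSylowIn 2 T ⊤)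
    (hq : IsQuasiDihedral T) : False := by
  obtain ⟨a, ha, y, hy, k, y2, e4, z1, r, a4, cs, y1, a1, uq⟩ := TQ.k_qd hq
  have z2 : a ^ (2 * k) * a ^ (2 * k) = 1 := by rw [← pow_add, ← e4]; congr 1; ring
  have yi := inv_eq_of_mul_eq_one_right y2
  have ri : ∀ i : ℤ, y * a ^ i * y⁻¹ = (a ^ (2 * k)) ^ i * a ^ (-i) := fun i => by
    rw [← conj_zpow, r, ((Commute.refl a).pow_left _).inv_right.mul_zpow, inv_zpow']
  have zi : ∀ i : ℤ, (a ^ (2 * k)) ^ (2 * i) = 1 := fun i => by rw [zpow_mul, zpow_two, z2, one_zpow]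
  have out : ∀ {x}, x * y ∈ zpowers a → x * a * x⁻¹ = a ^ (2 * k) * a⁻¹ := fun {x} ⟨i, e⟩ => by
    have : x = a ^ i * y := (eq_mul_inv_of_mul_eq (show x * y = a ^ i from e.symm)).trans (by rw [yi])
    rw [this, show a ^ i * y * a * (a ^ i * y)⁻¹ = a ^ i * (y * a * y⁻¹) * (a ^ i)⁻¹ by group, r]
    group
  have ri' : ∀ i : ℤ, y * a ^ i = (a ^ (2 * k)) ^ i * a ^ (-i) * y := fun i => eq_mul_of_mul_inv_eq (ri i)
  have osq : ∀ {x}, ∀ i : ℤ, a ^ i = x * y → x * x = (a ^ (2 * k)) ^ i := fun {x} i e => by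
    rw [← mul_inv_cancel_right x y, ← e, yi, mul_assoc, ← mul_assoc y, show y * a ^ i * y = y * a ^ i * y⁻¹ by rw [yi], ri]
    group
  have cz : T ≤ 𝐂[a ^ (2 * k)] := fun x hx => mem_centralizer_singleton_iff.mpr (by
    rcases cs x hx with ⟨i, rfl⟩ | e
    · group
    · rw [← mul_inv_eq_iff_eq_mul, ← conj_pow, out e, ((Commute.refl a).pow_left _).inv_right.mul_pow, ← pow_mul,
        show 2 * k * (2 * k) = 4 * k * k by ring, pow_mul, e4, one_pow, one_mul, inv_pow, inv_eq_of_mul_eq_one_right z2])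
  by_cases c : Clo 𝐂[a ^ (2 * k)]
  swap
  · obtain ⟨M, m, l⟩ := h.exists_loc' z2 z1 c
    have s := hT.of_le (cz.trans l) le_top
    refine m.not_cent (hb M m) s fun x hx => mem_centralizer_iff.mpr fun v hv => ?_
    rcases cs v (op_le_syl s (m.vv_le hv)) with e | e
    · rcases uq v e (m.sq v hv) with rfl | rfl
      exacts [by simp, (mem_centralizer_singleton_iff.mp (cz hx)).symm]
    have := m.sq _ (mul_mem (conj_mem_of_le_normalizer m.norm_vv.ge (s.le ha) hv) (inv_mem hv))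
    rw [show a * v * a⁻¹ * v⁻¹ = a * (v * a * v⁻¹)⁻¹ by group, out e, mul_inv_rev, inv_inv,
      inv_eq_of_mul_eq_one_right z2] at this
    refine absurd ?_ a4
    rw [← this, ← mul_one (a ^ 4), ← z2]; group
  let D : Subgroup G :=
    { carrier := {x | ∃ i : ℤ, x = a ^ (2 * i) ∨ x * y = a ^ (2 * i)}
      one_mem' := ⟨0, Or.inl (by simp)⟩
      mul_mem' := by
        rintro u v ⟨i, rfl | e⟩ ⟨j, rfl | e'⟩
        · exact ⟨i + j, Or.inl (by group)⟩
        · exact ⟨i + j, Or.inr (by rw [mul_assoc, e']; group)⟩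
        · exact ⟨i - j, Or.inr (by
            rw [eq_mul_inv_of_mul_eq e, yi, mul_assoc _ y, ri', zi, mul_assoc, mul_assoc, y2]; group)⟩
        · exact ⟨i - j, Or.inl (by
            rw [eq_mul_inv_of_mul_eq e, eq_mul_inv_of_mul_eq e', yi, mul_assoc, ← mul_assoc y, ri', zi, mul_assoc _ y, y2]; group)⟩
      inv_mem' := by
        rintro u ⟨i, rfl | e⟩
        · exact ⟨-i, Or.inl (by group)⟩
        · exact ⟨i, Or.inr (by rw [inv_eq_of_mul_eq_one_right ((osq _ e.symm).trans (zi i)), e])⟩ }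
  have od : ∀ x ∈ T, x ∉ D → ∃ i : ℤ, x = a ^ (2 * i + 1) ∨ x * y = a ^ (2 * i + 1) := fun x hx hn => by
    obtain ⟨i, e⟩ : ∃ i : ℤ, x = a ^ i ∨ x * y = a ^ i := (cs x hx).elim (fun ⟨i, e⟩ => ⟨i, Or.inl e.symm⟩)
      fun ⟨i, e⟩ => ⟨i, Or.inr e.symm⟩
    obtain ⟨j, rfl | rfl⟩ := Int.even_or_odd' i
    exacts [absurd ⟨j, e⟩ hn, ⟨j, e⟩]
  have zo : ∀ i : ℤ, (a ^ (2 * k)) ^ (2 * i + 1) = a ^ (2 * k) := fun i => by rw [zpow_add, zi, one_mul, zpow_one]
  have ay : a * y * (a * y) = a ^ (2 * k) := (osq 1 (by rw [mul_assoc, y2]; simp)).trans (zpow_one _)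
  obtain ⟨S, rfl⟩ := hT.exists_sylow_top
  obtain ⟨g, i, e⟩ := S3225.result (even_iff_two_dvd.mpr (H5.two_dvd_card_of_simple hG))
    (H6.index_ne_two_of_perfect (H7.quasisimple_iff.mp (H7.QS.of_isSimpleGroup hG)).1) S D (by
      rintro x ⟨i, rfl | e⟩
      exacts [zpow_mem ha _, (mul_mem_cancel_right hy).mp (e ▸ zpow_mem ha _)])
    (H9.relIndex_eq_two_of ha (by
      rintro ⟨i, e | e⟩
      · exact a1 ⟨i, show (a ^ 2) ^ i = a by rw [← zpow_natCast, ← zpow_mul]; exact e.symm⟩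
      · exact y1 ((mul_mem_cancel_left (mem_zpowers a)).mp (e ▸ zpow_mem (mem_zpowers a) _))) fun x hx hn => by
        obtain ⟨i, rfl | e⟩ := od x hx hn
        · exact ⟨i + 1, Or.inl (by group)⟩
        · exact ⟨i + k, Or.inr (by rw [eq_mul_inv_of_mul_eq e, mul_assoc, mul_assoc, ← mul_assoc y⁻¹, ← yi, inv_inv, r]; group)⟩)
    2 one_le_two (fun x hx hn => by
      have : x * x ≠ 1 := by
        obtain ⟨i, rfl | e⟩ := od x hx hn
        · intro e
          rcases uq _ (zpow_mem (mem_zpowers a) _) e with e | e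
          exacts [hn ⟨0, Or.inl (by simpa using e)⟩, hn ⟨k, Or.inl (by rw [e]; norm_cast)⟩]
        · rw [osq _ e.symm, zo]; exact z1
      by_contra lt
      have := orderOf_pos x
      have := pow_orderOf_eq_one x
      interval_cases orderOf x <;> simp_all [pow_two]) (a * y) (mul_mem ha hy)
    (orderOf_eq_prime_pow (by rwa [pow_one, pow_two, ay]) (by rw [show 2 ^ (1 + 1) = 2 * 2 from rfl, pow_mul, pow_two, pow_two, ay, z2]))
  have sq : g * (a * y) * g⁻¹ * (g * (a * y) * g⁻¹) = g * a ^ (2 * k) * g⁻¹ := by rw [conj_mul, ay]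
  have n1 : g * a ^ (2 * k) * g⁻¹ ≠ 1 := fun e => z1 (by simpa using e)
  replace e := e.resolve_right fun e => n1 (sq.symm.trans ((osq _ e.symm).trans (zi i)))
  have gz := (uq _ (sq ▸ e ▸ mul_mem (zpow_mem (mem_zpowers a) _) (zpow_mem (mem_zpowers a) _)) (by rw [conj_mul, z2]; simp)).resolve_left n1
  have m := conj_mem_of_le_normalizer (c.k_norm hT cz) (inv_mem (mem_centralizer_singleton_iff.mpr (mul_inv_eq_iff_eq_mul.mp gz))) ha
  have cm : a * y * (g⁻¹ * a * g⁻¹⁻¹) * (a * y)⁻¹ = g⁻¹ * a * g⁻¹⁻¹ := by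
    rw [show a * y = g⁻¹ * (g * (a * y) * g⁻¹) * g by group, e]; group
  refine a4 (conj_eq_one_iff.mp (?_ : g⁻¹ * a ^ 4 * g⁻¹⁻¹ = 1))
  rw [← conj_pow, show 4 = 2 * 2 from rfl, pow_mul, pow_two, pow_two]
  rcases cs _ m with ⟨j, e1⟩ | ⟨j, e1⟩
  · simp only at e1
    rw [← e1, show a * y * a ^ j * (a * y)⁻¹ = a * (y * a ^ j * y⁻¹) * a⁻¹ by group, ri] at cm
    rw [← e1, show a ^ j * a ^ j = (a ^ (2 * k)) ^ j by nth_rw 1 [← cm]; group, ← zpow_add, ← two_mul, zi]
  · rw [osq j e1, ← zpow_add, ← two_mul, zi]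

theorem Hyp.four_con (h : Hyp G) (hG : ¬ IsMulCommutative G) (hb : ∀ M : Subgroup G, Loc M → ¬ TA M)
    (h4 : #|V| = 4) (h2 : ∀ v ∈ V, v * v = 1) (hc : 𝐂(V) ≤ V) : Con G := by
  obtain ⟨T, hT, l⟩ := exists_isSylowIn_ge (IsPGroup.of_card (p := 2) (n := 2) h4) le_top
  obtain ⟨z, -, z2, cz⟩ := k_cent hT.pgroup fun e => by rw [le_bot_iff.mp (l.trans e.le), card_bot] at h4; omega
  have zV : z ∈ V := hc fun v hv => mem_centralizer_singleton_iff.mp (cz (l hv))
  have cZ : #|zpowers z| = 2 := (Nat.card_zpowers z).trans z2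
  obtain ⟨b, bV, b1⟩ := SetLike.exists_of_lt (lt_of_le_of_ne (zpowers_le.mpr zV) fun e => by rw [e] at cZ; omega)
  have vc : V ≤ 𝐂[b] := fun v hv => mem_centralizer_singleton_iff.mpr (GS.comm_of_sq h2 hv bV)
  have q : V.subgroupOf T = 𝐂[(⟨b, l bV⟩ : T)] := le_antisymm (fun x hx => mem_centralizer_singleton_iff.mpr
    (Subtype.ext (mem_centralizer_singleton_iff.mp (vc hx)))) fun x hx => hc fun v hv => by
      have e := congrArg Subtype.val (mem_centralizer_singleton_iff.mp hx)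
      have : (zpowers z).relIndex V = 2 := by have := relIndex_mul_card_of_le (zpowers_le.mpr zV); rw [cZ, h4] at this; omega
      have k : ∀ u ∈ zpowers z, Commute u x := fun u ⟨i, e⟩ =>
        e ▸ Commute.zpow_left (mem_centralizer_singleton_iff.mp (cz x.2)).symm i
      by_cases m : v ∈ zpowers z
      · exact k v m
      · have := (k _ ((mul_mem_iff_of_index_two this (a := ⟨v, hv⟩) (b := ⟨b, bV⟩)).mpr (iff_of_false m b1))).mul_left
          (Commute.inv_left (e.symm :))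
        simpa using this.eq
  rcases S3224.result hT.pgroup ⟨b, l bV⟩ (orderOf_eq_prime (Subtype.ext ((pow_two b).trans (h2 b bV)))
    fun e => b1 ((show b = 1 from congrArg Subtype.val e) ▸ one_mem _)) (by rw [← q, Nat.card_congr (subgroupOfEquivOfLe l).toEquiv, h4])
    with ⟨n, ⟨e⟩⟩ | e | e
  · obtain ⟨S, rfl⟩ := hT.exists_sylow_top
    exact h.ds_con hG (H5.ds_of_sylow S ((H5.ds_dihedral n).of_injective e.toMonoidHom e.injective))
  · exact (h.k_qd hG hb hT e).elim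
  · obtain rfl := eq_of_le_of_card_ge l (e.trans h4.symm).le
    exact h.k_ab hG hT fun x hx y hy => GS.comm_of_sq h2 hy hx

end Cfsg.Agent.WA.TQ
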