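import Cfsg.Agent.WA.TQA1
import Cfsg.Agent.WA.TQK
import Cfsg.Agent.WA.IBr
import Cfsg.Agent.H5.Q8Ext

/-! Maximal `2`-locals with a TI quotient, type (a) (PLAN_TQ.md, A). -/

set_option autoImplicit false
set_option linter.unusedSectionVars false

namespace Cfsg.Agent.WA.TQ

open Subgroup Cfsg.Agent.FT Cfsg.Agent.L0 Cfsg.Agent.H8
open Cfsg.Agent.H7 (op op_le op_isPGroup le_normalizer_op)
open scoped commutatorElement

universe u

variable {G : Type u} [Group G] [Finite G] {M M' N S P : Subgroup G} {g u v y : G}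

theorem TA.cent (ha : TA M) (hP : IsPGroup 2 P) (hle : P ≤ M) : P ≤ 𝐂(vv M) := by
  obtain ⟨S, hS, h1⟩ := exists_isSylowIn_ge hP hle
  exact h1.trans (ha S hS)

theorem Loc.ta_sylow (hM : Loc M) (ha : TA M) (hS : IsSylowIn 2 S M) : IsSylowIn 2 S ⊤ := by
  have h1 : ∀ x, x ∈ vv M ↔ x ∈ S ⊓ 𝐂(S) ∧ x * x = 1 := fun x =>
    ⟨fun hx => ⟨⟨op_le_syl hS (hM.vv_le hx), le_centralizer_iff.1 (ha S hS) hx⟩, hM.sq x hx⟩,
      fun hx => hM.mem_vv.2 ⟨hM.cent' (centralizer_le (op_le_syl hS) hx.1.2), hx.2⟩⟩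
  refine IsSylowIn.of_normalizer le_top (hS.of_le (le_inf le_top le_normalizer) fun n hn => hM.norm_vv.le
    (mem_normalizer_of_cj_le ?_))
  rintro _ ⟨x, hx, rfl⟩
  have h2 := (h1 x).1 hx
  refine (h1 _).2 ⟨?_, GS.G0.sq_conj h2.2 n⟩
  have := conj_mem_cj n h2.1
  rwa [cj_inf, cj_centralizer, cj_eq_self hn.2] at this

theorem Loc.ta_eq (hM : Loc M) (ha : TA M) (hM' : Loc M') (hv : v ∈ vv M) (hc : 𝐂[v] ≤ M') : M = M' := by
  obtain ⟨S, hS⟩ := exists_isSylowIn 2 M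
  obtain ⟨S', hS', hne⟩ := hM.exists_ne S
  have key : ∀ T, IsSylowIn 2 T M → T ≤ M' := fun T hT =>
    (le_centralizer_singleton_iff.2 (le_centralizer_iff.1 (ha T hT) hv)).trans hc
  exact hM.eq_of_le hM' hS hS' hne.symm ((hM.ta_sylow ha hS).of_le (key S hS) le_top) (key S' hS')

theorem Hyp.ta_cent (h : Hyp G) (hM : Loc M) (ha : TA M) (hv : v ∈ vv M) (h1 : v ≠ 1) : 𝐂[v] ≤ M := by
  obtain ⟨S, hS⟩ := exists_isSylowIn 2 M
  obtain ⟨S', hS', hne⟩ := hM.exists_ne S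
  have key : ∀ T, IsSylowIn 2 T M → T ≤ 𝐂[v] := fun T hT =>
    le_centralizer_singleton_iff.2 (le_centralizer_iff.1 (ha T hT) hv)
  obtain ⟨M', h2, h3⟩ := h.exists_loc' (hM.sq v hv) h1 fun c =>
    not_pgroup_sup hS hS' hne.symm (c.sup (key S hS) (key S' hS') hS.pgroup hS'.pgroup)
  exact hM.ta_eq ha h2 hv h3 ▸ h3

/-- two commuting `V`'s -/
structure TP (M N : Subgroup G) : Prop where
  hyp : Hyp G
  lM : Loc M
  lN : Loc N
  tM : TA M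
  tN : TA N
  ne : M ≠ N
  c : vv N ≤ 𝐂(vv M)

namespace TP

theorem symm (h : TP M N) : TP N M :=
  ⟨h.hyp, h.lN, h.lM, h.tN, h.tM, h.ne.symm, le_centralizer_iff.1 h.c⟩

theorem le (h : TP M N) : vv N ≤ M := h.c.trans ((centralizer_le_normalizer _).trans h.lM.norm_vv.le)

theorem dis (h : TP M N) : ∀ u ∈ vv N, u ∈ op 2 M → u = 1 := fun u hu e => by
  by_contra h1
  exact h.ne (h.lM.ta_eq h.tM h.lN (h.lM.mem_vv.2 ⟨e, h.lN.sq u hu⟩) (h.hyp.ta_cent h.lN h.tN hu h1))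

theorem cq (h : TP M N) (hu : u ∈ vv N) (h1 : u ≠ 1) (hy : y ∈ op 2 M) (e : y * u = u * y) : y ∈ 𝐂(vv N) :=
  h.tN.cent (P := op 2 M ⊓ 𝐂[u]) (op_isPGroup M).to_inf_left (inf_le_right.trans (h.hyp.ta_cent h.lN h.tN hu h1))
    ⟨hy, mem_centralizer_singleton_iff.2 e⟩

theorem nV (h : TP M N) : vv N ≤ 𝐍(vv M) := h.c.trans (centralizer_le_normalizer _)

theorem mem_E (h : TP M N) {x : G} : x ∈ vv M ⊔ vv N ↔ ∃ a ∈ vv M, ∃ b ∈ vv N, a * b = x :=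
  H9.mem_sup_of_le_normalizer' h.nV

theorem sqE (h : TP M N) : ∀ x ∈ vv M ⊔ vv N, x * x = 1 := fun x hx => by
  obtain ⟨a, ha, b, hb, rfl⟩ := h.mem_E.1 hx
  rw [mul_assoc, ← mul_assoc b, ← mem_centralizer_iff.1 (h.c hb) a ha, mul_assoc, h.lN.sq b hb, mul_one, h.lM.sq a ha]

theorem pgE (h : TP M N) : IsPGroup 2 (vv M ⊔ vv N : Subgroup G) := fun a =>
  ⟨1, Subtype.ext (by simpa [pow_two] using h.sqE a a.2)⟩

theorem not_cent (h : TP M N) : ¬ op 2 M ≤ 𝐂(vv N) := fun e => h.lN.vv_ne (eq_bot_iff.2 fun u hu =>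
  mem_bot.2 (h.dis u hu (h.lM.cent' (le_centralizer_iff.1 e hu))))

theorem exists_y (h : TP M N) : ∃ y ∈ op 2 M, y ∉ 𝐂(vv N) ∧ y ∈ 𝐍(vv M ⊔ vv N) := by
  have hU : vv N ≤ 𝐂(op 2 M ⊓ 𝐂(vv N)) := le_centralizer_iff.1 inf_le_right
  obtain ⟨y, h1, h2, h3⟩ := ta_step (X := op 2 M ⊓ 𝐂(vv N)) (op_isPGroup M) ((op_isPGroup N).to_le h.lN.vv_le)
    (h.le.trans (le_normalizer_op M)) (hU.trans (centralizer_le_normalizer _)) inf_le_left h.dis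
    fun e => h.not_cent (e.trans inf_le_right)
  refine ⟨y, h1, fun e => h2 ⟨h1, e⟩, mem_normalizer_of_cj_le ?_⟩
  rintro _ ⟨x, hx, rfl⟩
  have h4 : vv M ⊔ vv N ≤ op 2 M ⊓ 𝐂(vv N) ⊔ vv N := sup_le_sup_right (le_inf h.lM.vv_le h.symm.c) _
  obtain ⟨a, ha, b, hb, e⟩ := (H9.mem_sup_of_le_normalizer' (hU.trans (centralizer_le_normalizer _))).1
    ((mem_normalizer_iff.1 h3 x).1 (h4 hx))
  have h5 := GS.G0.sq_conj (h.sqE x hx) y
  change y * x * y⁻¹ ∈ _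
  rw [← e] at h5 ⊢
  rw [mul_assoc, ← mul_assoc b, mem_centralizer_iff.1 ha.2 b hb, mul_assoc, h.lN.sq b hb, mul_one] at h5
  exact mul_mem_sup (h.lM.mem_vv.2 ⟨ha.1, h5⟩) hb

theorem centE (h : TP M N) (hy : y ∈ op 2 M) (h1 : y ∉ 𝐂(vv N)) {x : G} (hx : x ∈ vv M ⊔ vv N)
    (e : y * x = x * y) : x ∈ vv M := by
  obtain ⟨a, ha, b, hb, rfl⟩ := h.mem_E.1 hx
  by_cases h2 : b = 1
  · rw [h2, mul_one]; exact ha
  refine absurd (h.cq hb h2 hy ?_) h1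
  rw [← mul_assoc, ← mem_centralizer_iff.1 (h.lM.op_le_cent hy) a ha, mul_assoc, mul_assoc] at e
  exact mul_left_cancel e

theorem fix (h : TP M N) : ∀ u ∈ vv N, u ≠ 1 → ∀ d ∈ op 2 M, d * u = u * d → d ∈ vv M := by
  intro u hu u1 d hd hdu
  obtain ⟨y, y1, y2, y3⟩ := h.exists_y
  obtain ⟨y', z1, z2, z3⟩ := h.symm.exists_y
  rw [sup_comm] at z3
  have hE := h.pgE
  have hEM : vv M ⊔ vv N ≤ M := sup_le (h.lM.vv_le.trans (op_le M)) h.le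
  have hEN : vv M ⊔ vv N ≤ N := sup_le h.symm.le (h.lN.vv_le.trans (op_le N))
  have hE1 : vv M ⊔ vv N ≠ ⊥ := fun e => h.lM.vv_ne (eq_bot_iff.2 (e ▸ le_sup_left))
  generalize hEd : vv M ⊔ vv N = E at y3 z3 hE hEM hEN hE1
  let P := (op 2 M ⊔ E) ⊓ 𝐍(E)
  let P' := (op 2 N ⊔ E) ⊓ 𝐍(E)
  have hP : IsPGroup 2 P :=
    ((op_isPGroup M).to_sup_of_normal_left' hE (hEM.trans (le_normalizer_op M))).to_inf_left
  have hP' : IsPGroup 2 P' :=
    ((op_isPGroup N).to_sup_of_normal_left' hE (hEN.trans (le_normalizer_op N))).to_inf_left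
  have hyP : y ∈ P := ⟨mem_sup_left y1, y3⟩
  have hn : ¬ IsPGroup 2 (P ⊔ P' : Subgroup G) := fun hp => by
    obtain ⟨x, x1, x2, x3, -⟩ := H9.exists_ne_one_centralized hp hE (sup_le inf_le_right inf_le_right) hE1
    subst hEd
    exact x2 (h.dis x (h.symm.centE z1 z2 (sup_comm (vv M) (vv N) ▸ x1)
      (x3 _ (mem_sup_right ⟨mem_sup_left z1, z3⟩))) (h.lM.vv_le (h.centE y1 y2 x1 (x3 _ (mem_sup_left hyP)))))
  obtain ⟨M', hM', hle⟩ := h.hyp.exists_loc hE hE1 fun c => hn (c.sup inf_le_right inf_le_right hP hP')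
  have hEV : E ≤ vv M' := fun x hx => hM'.mem_vv.2
    ⟨hM'.inf_le (inf_le_right.trans hle) (inf_le_right.trans hle) hP hP' hn
      ⟨⟨mem_sup_right hx, le_normalizer hx⟩, ⟨mem_sup_right hx, le_normalizer hx⟩⟩, h.sqE x (hEd ▸ hx)⟩
  have hV : vv M ≤ vv M' := le_sup_left.trans (hEd.le.trans hEV)
  have hU : vv N ≤ vv M' := le_sup_right.trans (hEd.le.trans hEV)
  obtain ⟨S', hS', hPS⟩ := exists_isSylowIn_ge hP (inf_le_right.trans hle)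
  have hyQ : y ∉ op 2 M' := fun e => y2 (centralizer_le hU (hM'.op_le_cent e))
  obtain ⟨v, hv, -, v1⟩ := exists_invo ((op_isPGroup M).to_le h.lM.vv_le) h.lM.vv_ne
  have hSM : S' ≤ M := (hM'.fix hS' (hPS hyP) hyQ (hV hv)
    (mem_centralizer_iff.1 (h.lM.op_le_cent y1) v hv).symm).trans (h.hyp.ta_cent h.lM h.tM hv v1)
  by_cases hs : IsSylowIn 2 S' ⊤
  · exfalso
    have hS := hs.of_le hSM le_top
    have huM := h.le hu
    have c1 : ∀ q ∈ op 2 M, ⁅q, u⁆ ∈ vv M := fun q hq => by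
      have e1 : ⁅q, u⁆ ∈ vv M' := mul_mem (hM'.conj_mem (hS'.le (op_le_syl hS hq)) (hU hu)) (inv_mem (hU hu))
      refine h.lM.mem_vv.2 ⟨?_, hM'.sq _ e1⟩
      simpa only [commutatorElement_def, mul_assoc] using mul_mem hq (conj_mem_op huM (inv_mem hq))
    obtain ⟨T, hT, hne⟩ := h.lM.exists_ne S'
    obtain ⟨m, hm, rfl⟩ := hS.exists_cj_eq hT
    have huS : u ∈ S' := op_le_syl hS' (hM'.vv_le (hU hu))
    have c2 : ∀ q ∈ op 2 M, ⁅q, m * u * m⁻¹⁆ ∈ vv M := fun q hq => by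
      have := h.lM.conj_mem hm (c1 _ (conj_mem_op (inv_mem hm) hq))
      simpa only [commutatorElement_def, mul_assoc, mul_inv_rev, inv_inv, mul_inv_cancel_left] using this
    have c3 : ∀ R, IsSylowIn 2 R M → ∀ r ∈ R, ∀ q ∈ vv M, ⁅q, r⁆ = 1 := fun R hR r hr q hq =>
      commutatorElement_eq_one_iff_mul_comm.2 (mem_centralizer_iff.1 (h.tM R hR hr) q hq)
    exact h.lM.not_chain hS hT hne.symm huS (fun e => u1 (h.dis u hu e)) (conj_mem_cj m huS)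
      (fun e => u1 (h.dis u hu ((mem_normalizer_iff.1 (le_normalizer_op M hm) u).2 e))) h.lM.vv_le le_rfl
      (fun q hq => ⟨c1 q hq, c2 q hq⟩) (fun q hq => ⟨c1 q (h.lM.vv_le hq), c2 q (h.lM.vv_le hq)⟩)
      fun q hq => ⟨c3 _ hS _ huS q hq, c3 _ hT _ (conj_mem_cj m huS) q hq⟩
  have hQ := (hM'.pair_of_not_sylow (fun ta => hs (hM'.ta_sylow ta hS')) hS' hs).1
  have hdP : d ∈ P := ⟨mem_sup_left hd, centralizer_le_normalizer _ (by
    rw [← hEd]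
    exact le_centralizer_singleton_iff.1 (sup_le (le_centralizer_singleton_iff.2 (h.lM.op_le_cent hd))
      (le_centralizer_singleton_iff.2 (h.cq hu u1 hd hdu))))⟩
  by_cases hdQ : d ∈ op 2 M'
  · exact h.lM.mem_vv.2 ⟨hd, hM'.sq d (hQ ▸ hdQ)⟩
  · exact absurd (h.cq hu u1 y1 (mem_centralizer_singleton_iff.1 (hM'.fix hS' (hPS hdP) hdQ (hU hu) hdu (hPS hyP)))) y2

end TP

theorem Loc.gl23 (hM : Loc M) (ha : TA M) (h1 : ∀ a ∈ vv M, ∀ b ∈ vv M, a ≠ 1 → b ≠ 1 → a = b) (hu : u ∈ M)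
    (h2 : u * u = 1) (h3 : u ∉ vv M) : Nonempty (M ≃* GL (Fin 2) (ZMod 3)) := by
  have hf : ∀ x : M, x ∈ pCore 2 M ↔ (x : G) ∈ op 2 M := fun x =>
    ⟨fun e => ⟨x, e, rfl⟩, fun ⟨z, e, e'⟩ => (Subtype.ext e' : z = x) ▸ e⟩
  have hc : centralizer (pCore 2 M : Set M) ≤ pCore 2 M := fun x hx => (hf x).2 (hM.cent' (mem_centralizer_iff.2 (by
    rintro _ ⟨y, hy, rfl⟩; exact congrArg Subtype.val (mem_centralizer_iff.mp hx y hy))))
  have hn : ¬ ∃ P : Sylow 2 M, (P : Subgroup M).Normal := fun ⟨P, hP⟩ =>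
    hM.not_le_op (isSylowIn_map_subtype P) (map_mono (le_pCore hP P.2))
  rcases H5.isPGroup_or_quaternion_of_unique_involution hc (fun x hx y hy e e' => Subtype.ext
    (h1 _ (hM.mem_vv.2 ⟨(hf x).1 hx, congrArg Subtype.val (H4.mul_self_of_orderOf_two e)⟩) _
      (hM.mem_vv.2 ⟨(hf y).1 hy, congrArg Subtype.val (H4.mul_self_of_orderOf_two e')⟩)
      (fun c => H4.ne_one_of_orderOf_two e (Subtype.ext c)) fun c => H4.ne_one_of_orderOf_two e' (Subtype.ext c)))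
    with h4 | ⟨⟨e⟩, h4⟩
  · exact absurd (H5.exists_normal_sylow_of_isPGroup h4) hn
  obtain ⟨hG, i, j, d, t, hrel, hi, ht | ht⟩ := H5.exists_rel48 hc e h4 hn
  · exact hrel.nonempty_equiv_GL hi hG ht
  exfalso
  obtain ⟨v, hv, v2, v1⟩ := exists_invo ((op_isPGroup M).to_le hM.vv_le) hM.vv_ne
  have u1 : u ≠ 1 := fun e => h3 (e ▸ one_mem _)
  obtain ⟨P, hP⟩ := (GS.G0.pg_of_sq (G := M) (a := ⟨u, hu⟩) (Subtype.ext h2)).exists_le_sylow
  obtain ⟨e'⟩ := hrel.sylow_equiv_quaternion hi hG ht P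
  have := H5.unique_involution_of_equiv_quaternion e' ⟨u, hu⟩ (hP (mem_zpowers _)) ⟨v, op_le M (hM.vv_le hv)⟩
    (pCore_le_sylow P ((hf _).2 (hM.vv_le hv)))
    (orderOf_eq_prime (Subtype.ext ((pow_two u).trans h2)) fun c => u1 (congrArg Subtype.val c))
    (orderOf_eq_prime (Subtype.ext ((pow_two v).trans v2)) fun c => v1 (congrArg Subtype.val c))
  have e5 : u = v := congrArg Subtype.val this
  exact h3 (e5 ▸ hv)

variable [IsSimpleGroup G]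

theorem Hyp.ta_con (h : Hyp G) (hG : ¬ IsMulCommutative G) (hM : Loc M) (ha : TA M) : Con G := by
  by_cases hs : GS.SC (vv M) ⊤
  · exact h.sc_con hG hs hM.vv_ne
  obtain ⟨a, ha1, g, hg1, hg2⟩ : ∃ a ∈ vv M, ∃ g : G, g * a * g⁻¹ ∈ M ∧ g * a * g⁻¹ ∉ vv M := by
    by_contra hc
    push Not at hc
    exact hs ⟨le_top, hM.sq, fun a h1 g _ h2 => hc a h1 g (hM.norm_vv ▸ h2)⟩
  have hu : g * a * g⁻¹ ∈ vv (cj g M) := cj_vv g M ▸ conj_mem_cj g ha1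
  have hN := hM.conj g
  have hb := ha.conj g
  have hcard : #|vv M| = #|vv (cj g M)| := by rw [← cj_vv, card_cj]
  generalize g * a * g⁻¹ = u at hu hg1 hg2
  generalize cj g M = N at hu hN hb hcard
  have u1 : u ≠ 1 := fun e => hg2 (e ▸ one_mem _)
  have u2 := hN.sq u hu
  have hp : TP M N := ⟨h, hM, hN, ha, hb, fun e => hg2 (e ▸ hu), le_centralizer_iff.1
    (hb.cent ((op_isPGroup M).to_le hM.vv_le) ((le_centralizer_singleton_iff.2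
      (ha.cent (GS.G0.pg_of_sq u2) (zpowers_le.2 hg1) (mem_zpowers u))).trans (h.ta_cent hN hb hu u1)))⟩
  by_cases h4 : ∃ a ∈ vv M, ∃ b ∈ vv M, a ≠ 1 ∧ b ≠ 1 ∧ a * b ≠ 1
  · exact (LU.false ⟨hN, hp.symm.le, hM.sq, hp.symm.c, hp.symm.dis, hp.symm.fix, hcard.ge, h4⟩).elim
  have h1 : ∀ a ∈ vv M, ∀ b ∈ vv M, a ≠ 1 → b ≠ 1 → a = b := fun a e1 b e2 e3 e4 => by
    by_contra hne
    exact h4 ⟨a, e1, b, e2, e3, e4, fun e => hne (by rw [← hM.vinv e1, inv_eq_of_mul_eq_one_right e])⟩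
  obtain ⟨e⟩ := hM.gl23 ha h1 hg1 u2 hg2
  obtain ⟨v, hv, v2, v1⟩ := exists_invo ((op_isPGroup M).to_le hM.vv_le) hM.vv_ne
  have hC : 𝐂[v] = M := le_antisymm (h.ta_cent hM ha hv v1) fun m hm => mem_centralizer_singleton_iff.2
    (mul_inv_eq_iff_eq_mul.1 (h1 _ (hM.conj_mem hm hv) v hv (by simpa using v1) v1))
  rcases Br.wong v (orderOf_eq_prime ((pow_two v).trans v2) v1) ⟨(MulEquiv.subgroupCongr hC).trans e⟩ with h5 | h5
  · exact Or.inr (Or.inl h5)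
  · exact Or.inr (Or.inr (Or.inl h5))

end Cfsg.Agent.WA.TQ
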