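import Cfsg.Agent.WA.TQD

/-! Maximal `2`-locals with a TI quotient: the non-Sylow case. -/

set_option autoImplicit false
set_option linter.unusedSectionVars false

namespace Cfsg.Agent.WA.TQ

open Subgroup Cfsg.Agent.FT Cfsg.Agent.L0 Cfsg.Agent.H8
open Cfsg.Agent.H7 (op op_le op_isPGroup le_normalizer_op)
open scoped commutatorElement

universe u

variable {G : Type u} [Group G] [Finite G] {M S A V E T : Subgroup G} {z x y u g : G}

theorem Pr.mem_of_norm (p : Pr S A V) (hT : IsPGroup 2 T) (hle : S ≤ T) (hx : x ∈ T) (hn : x ∈ 𝐍(V)) : x ∈ S :=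
  p.sylV.max (T ⊓ 𝐍(V)) inf_le_right (hT.to_le inf_le_left) (le_inf hle p.sylV.le) ▸ ⟨hx, hn⟩

theorem Pr.elem (p : Pr S A V) (hE : E ≤ S) (h2 : ∀ e ∈ E, e * e = 1) (hc : #|V| ≤ #|E|) : E = A ∨ E = V :=
  (p.toSyl.elem_le hE h2).imp (fun h => eq_of_le_of_card_ge h (p.card.le.trans hc)) fun h => eq_of_le_of_card_ge h hc

theorem Pr.swap (p : Pr S A V) (hT : IsPGroup 2 T) (hle : S ≤ T) (hx : x ∈ T) (hn : x ∈ 𝐍(S)) (h1 : x ∉ S) :
    cj x V = A :=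
  (p.elem (cj_le_of_mem_normalizer hn p.leB) (p.symm.toSyl.sq_cj x) (card_cj x V).ge).resolve_right fun e =>
    h1 (p.mem_of_norm hT hle hx (cj_eq_self_iff.1 e))

theorem Pr.mul_mem' (p : Pr S A V) (hT : IsPGroup 2 T) (hle : S ≤ T) (hx : x ∈ T) (hn : x ∈ 𝐍(S)) (h1 : x ∉ S)
    (hy : y ∈ T) (hn' : y ∈ 𝐍(S)) (h2 : y ∉ S) : x * y ∈ S :=
  p.mem_of_norm hT hle (mul_mem hx hy) (cj_eq_self_iff.1
    (by rw [cj_mul, p.swap hT hle hy hn' h2, p.symm.swap hT hle hx hn h1]))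

theorem Pr.mem_w (p : Pr S A V) (hT : IsPGroup 2 T) (hle : S ≤ T) (hx : x ∈ T) (hn : x ∈ 𝐍(S)) (h1 : x ∉ S)
    (hz : z ∈ S) (h2 : z * z = 1) (hc : x * z = z * x) : z ∈ A ⊓ V := by
  have e : x * z * x⁻¹ = z := by rw [hc, mul_inv_cancel_right]
  rcases p.inv z hz h2 with h | h
  · exact ⟨h, p.symm.swap hT hle hx hn h1 ▸ e ▸ conj_mem_cj x h⟩
  · exact ⟨p.swap hT hle hx hn h1 ▸ e ▸ conj_mem_cj x h, h⟩

theorem Pr.two_le (p : Pr S A V) : 2 ≤ V.relIndex S := by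
  have h1 : V.relIndex S ≠ 1 := fun e => p.nAB (p.leA.trans (relIndex_eq_one.1 e))
  have h2 : V.relIndex S ≠ 0 := FiniteIndex.index_ne_zero
  omega

section
variable (p : Pr S A V) (h : Hyp G) (hW : 2 < #|(A ⊓ V : Subgroup G)|)
include p h hW

theorem Pr.star (hq : V.relIndex S ≤ 2) (hT : IsPGroup 2 T) (hle : S ≤ T) (hx : x ∈ T) (hn : x ∈ 𝐍(S)) (h1 : x ∉ S) :
    ¬ A ⊓ V ≤ 𝐂[x] := fun e => by
  obtain ⟨S', h3, h4, h5, -⟩ := p.exists_other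
  obtain ⟨z, z1, z2⟩ := exists_mem_ne_one (B := A ⊓ V ⊓ 𝐂(S')) fun e => by rw [e, card_bot] at h5; omega
  have z4 := le_cent_of_mem (p.inf_cent.ge z1.1).2
  obtain ⟨M, hM, h6⟩ := h.exists_loc' (p.sqA z z1.1.1) z2 fun c =>
    not_pgroup_sup h3 p.sylV h4 (c.sup (le_cent_of_mem z1.2) z4 h3.pgroup p.two)
  have h7 := p.le_vv h3 h4 hM (z4.trans h6) ((le_cent_of_mem z1.2).trans h6)
  have h8 := cj_le_of_mem_normalizer (hM.norm_vv.ge (h6 (mem_centralizer_singleton_comm.1 (e z1.1)))) h7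
  rw [p.swap hT hle hx hn h1] at h8
  exact p.nAB ((h8.trans hM.vv_le_cent).trans ((centralizer_le h7).trans p.centV))

theorem Pr.elem₁ (hT : IsPGroup 2 T) (hle : S ≤ T) (hE : E ≤ T ⊓ 𝐍(S)) (h2 : ∀ e ∈ E, e * e = 1) (hc : #|V| ≤ #|E|) :
    E = A ∨ E = V := by
  refine p.elem (by_contra fun hn => ?_) h2 hc
  obtain ⟨u, u1, u2⟩ := SetLike.not_le_iff_exists.1 hn
  have h1 : S.relIndex E = 2 := relIndex_eq_two_iff.2 ⟨u, u1, fun b hb => by
    by_cases hb' : b ∈ S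
    · exact Or.inr ⟨hb', fun e => u2 ((mul_mem_cancel_left hb').1 e)⟩
    · exact Or.inl ⟨p.mul_mem' hT hle (hE hb).1 (hE hb).2 hb' (hE u1).1 (hE u1).2 u2, hb'⟩⟩
  have h3 := H9.card_inf_mul_relIndex S E
  have h4 : S ⊓ E ≤ 𝐂[u] ⊓ (A ⊓ V) := fun e he => ⟨mem_centralizer_singleton_iff.2 (BS.comm_of_sq h2 he.2 u1),
    p.mem_w hT hle (hE u1).1 (hE u1).2 u2 he.1 (h2 e he.2) (BS.comm_of_sq h2 u1 he.2)⟩
  have h5 := card_le_of_le h4
  have h6 := H9.card_inf_mul_relIndex 𝐂[u] (A ⊓ V)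
  have h7 := p.card_eq
  have h8 := p.two_le
  have h9 : 𝐂[u].relIndex (A ⊓ V) ≠ 0 := FiniteIndex.index_ne_zero
  have h10 : 0 < #|(𝐂[u] ⊓ (A ⊓ V) : Subgroup G)| := Nat.card_pos
  rw [h1] at h3
  by_cases hq : V.relIndex S ≤ 2
  · have : 𝐂[u].relIndex (A ⊓ V) ≠ 1 := fun e => p.star h hW hq hT hle (hE u1).1 (hE u1).2 u2 (relIndex_eq_one.1 e)
    have : 2 ≤ 𝐂[u].relIndex (A ⊓ V) := by omega
    nlinarith
  · have : 1 ≤ 𝐂[u].relIndex (A ⊓ V) := by omega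
    nlinarith

omit h hW in
theorem Pr.norm_of (h1 : cj g A = A ∨ cj g A = V) (h2 : cj g V = A ∨ cj g V = V) : g ∈ 𝐍(S) :=
  mem_normalizer_of_cj_le (by
    rw [← p.toSyl.sup_eq, cj_sup]
    exact sup_le (h1.elim (·.le.trans le_sup_left) (·.le.trans le_sup_right))
      (h2.elim (·.le.trans le_sup_left) (·.le.trans le_sup_right)))

theorem Pr.le_norm (hT : IsPGroup 2 T) (hle : S ≤ T) : T ≤ 𝐍(S) := by
  by_contra hn
  obtain ⟨y, h1, h2⟩ := SetLike.exists_of_lt (lt_inf_normalizer_of_pgroup hT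
    ((inf_le_left : T ⊓ 𝐍(S) ≤ T).lt_of_ne fun e => hn (e.ge.trans inf_le_right)))
  have h3 := le_inf hle (le_normalizer (H := S))
  exact h2 ⟨h1.1, p.norm_of (p.elem₁ h hW hT hle (cj_le_of_mem_normalizer h1.2 (p.leA.trans h3)) (p.toSyl.sq_cj y)
    (by rw [card_cj, p.card])) (p.elem₁ h hW hT hle (cj_le_of_mem_normalizer h1.2 (p.leB.trans h3))
    (p.symm.toSyl.sq_cj y) (card_cj y V).ge)⟩

theorem Pr.elem₂ (hT : IsPGroup 2 T) (hle : S ≤ T) (hE : E ≤ T) (h2 : ∀ e ∈ E, e * e = 1) (hc : #|V| ≤ #|E|) :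
    E = A ∨ E = V := p.elem₁ h hW hT hle (le_inf hE (hE.trans (p.le_norm h hW hT hle))) h2 hc

variable (hb : ∀ M : Subgroup G, Loc M → ¬ TA M)
include hb

theorem Pr.loc_eq (hM : Loc M) (hle : S ≤ M) : M = 𝐍(A) ∨ M = 𝐍(V) := by
  obtain ⟨T, hT, h1⟩ := exists_isSylowIn_ge p.two hle
  exact (p.elem₂ h hW hT.pgroup h1 (hM.vv_le.trans (op_le_syl hT)) hM.sq
    (hM.card_elem (hb M hM) hT (p.leB.trans h1) p.sqB)).imp (fun e => by rw [← e, hM.norm_vv]) fun e => by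
      rw [← e, hM.norm_vv]

theorem Pr.clo (hT : IsPGroup 2 T) (hle : S ≤ T) (hu : u ∈ T) (h1 : u ∉ S) (hz : z ∈ A ⊓ V) (z1 : z ≠ 1)
    (hc : u ∈ 𝐂[z]) : Clo 𝐂[z] := by
  by_contra c
  obtain ⟨M, hM, h2⟩ := h.exists_loc' (p.sqA z hz.1) z1 c
  rcases p.loc_eq h hW hb hM ((le_cent_of_mem (p.inf_cent.ge hz).2).trans h2) with e | e
  · exact h1 (p.symm.mem_of_norm hT hle hu (e ▸ h2 hc))
  · exact h1 (p.mem_of_norm hT hle hu (e ▸ h2 hc))

theorem Pr.not_common (hT : IsPGroup 2 T) (hle : S ≤ T) (hu : u ∈ T) (h1 : u ∉ S) (hz : z ∈ A ⊓ V) (z1 : z ≠ 1)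
    (h2 : ∀ e ∈ E, e * e = 1) (hc : #|V| ≤ #|E|) (huE : u ∈ E) (hzE : z ∈ E) : False := by
  have h3 : E ≤ 𝐂[z] := fun e he => mem_centralizer_singleton_iff.2 (BS.comm_of_sq h2 he hzE)
  have c := p.clo h hW hb hT hle hu h1 hz z1 (h3 huE)
  rcases p.elem₂ h hW (op_isPGroup _) (c S (le_cent_of_mem (p.inf_cent.ge hz).2) p.two)
    (c E h3 (H9.isPGroup_of_pow_eq_one fun a ha => by rw [pow_two]; exact h2 a ha)) h2 hc with e | e
  exacts [h1 (p.leA (e ▸ huE)), h1 (p.leB (e ▸ huE))]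

theorem Pr.not_conj₁ (hT : IsPGroup 2 T) (hle : S ≤ T) (hu : u ∈ T) (h1 : u ∉ S) (hg : u ∈ cj g (A ⊓ V)) : False := by
  have p' := p.conj g
  have hW' : 2 < #|(cj g A ⊓ cj g V : Subgroup G)| := by rwa [← cj_inf, card_cj]
  rw [cj_inf] at hg
  have u2 := p'.sqA u hg.1
  have u1 : u ≠ 1 := fun e => h1 (e ▸ one_mem _)
  have hn := p.le_norm h hW hT hle hu
  have h2 := le_cent_of_mem (p'.inf_cent.ge hg).2
  have key : ∀ z ∈ A ⊓ V, z ≠ 1 → ∀ c ∈ 𝐂[u], z ∉ cj c (cj g S) := fun z hz z1 c hc hm => by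
    have e : c * u * c⁻¹ = u := by rw [mem_centralizer_singleton_iff.1 hc, mul_inv_cancel_right]
    rcases (p'.conj c).inv z hm (p.sqA z hz.1) with h3 | h3
    · exact p.not_common h hW hb hT hle hu h1 hz z1 (p'.conj c).sqA (by rw [card_cj, card_cj, p.card])
        (e ▸ conj_mem_cj c hg.1) h3
    · exact p.not_common h hW hb hT hle hu h1 hz z1 (p'.conj c).sqB (by rw [card_cj, card_cj]) (e ▸ conj_mem_cj c hg.2) h3
  obtain ⟨a, ha, haV⟩ := SetLike.not_le_iff_exists.1 p.nAB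
  have s1 := p.symm.swap hT hle hu hn h1
  have s2 := p.swap hT hle hu hn h1
  have hb1 : u * a * u⁻¹ ∈ V := s1 ▸ conj_mem_cj u ha
  have hb2 : u * a * u⁻¹ ∉ A := fun e => haV (by
    have := mem_cj.1 (s2.ge e)
    rwa [show u⁻¹ * (u * a * u⁻¹) * u = a by group] at this)
  have ui : u⁻¹ = u := inv_eq_of_mul_eq_one_right u2
  have c1 : u * (a * (u * a * u⁻¹)) * u⁻¹ = (a * (u * a * u⁻¹))⁻¹ := by
    rw [mul_inv_rev, p.toSyl.invA ha, p.symm.toSyl.invA hb1]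
    calc _ = u * a * u⁻¹ * (u * u * a * (u * u)⁻¹) := by group
      _ = _ := by rw [u2, one_mul, inv_one, mul_one]
  have cS := mul_mem (p.leA ha) (p.leB hb1)
  have hw : a * (u * a * u⁻¹) * (a * (u * a * u⁻¹)) ∈ A ⊓ V := by
    have := p.toSyl.comm_mem (p.leA ha) (p.leB hb1)
    rwa [commutatorElement_def, p.toSyl.invA ha, p.symm.toSyl.invA hb1, mul_assoc (a * _)] at this
  have hw1 : a * (u * a * u⁻¹) * (a * (u * a * u⁻¹)) ≠ 1 := fun e =>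
    (p.toSyl.of_comm ha hb1 (comm_of_sq' (p.sqA a ha) (p.sqB _ hb1) e)).elim haV hb2
  generalize a * (u * a * u⁻¹) = c at c1 cS hw hw1
  have c2 := p.toSyl.invA hw.1
  have c3 : c * c ∈ 𝐂[u] := mem_centralizer_singleton_iff.2 (by
    rw [← c2, mul_inv_rev, ← c1]
    calc _ = u * (c * c) * (u⁻¹ * u) := by group
      _ = _ := by rw [inv_mul_cancel, mul_one, c1, ← mul_inv_rev, c2])
  by_cases cl : Clo 𝐂[u]
  swap
  · obtain ⟨M, hM, h3⟩ := h.exists_loc' u2 u1 cl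
    have h4 : IsSylowIn 2 (cj g S) M := by
      rcases p'.loc_eq h hW' hb hM (h2.trans h3) with e | e
      exacts [e ▸ p'.sylA, e ▸ p'.sylV]
    obtain ⟨P, hP, h5⟩ := exists_isSylowIn_ge (GS.G0.pg_of_sq (p.sqA _ hw.1)) (zpowers_le.2 c3)
    obtain ⟨k, hk, e⟩ := (h4.of_le h2 h3).exists_cj_eq hP
    exact key _ hw hw1 k hk (e ▸ h5 (mem_zpowers _))
  have h3 := cl _ h2 p'.two
  have h4 := p'.le_norm h hW' (op_isPGroup _) h3
  have hm : ∀ y ∈ S, y ∈ 𝐂[u] → y ∈ op 2 𝐂[u] := fun y y1 y2 =>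
    cl _ (zpowers_le.2 y2) (p.two.to_le (zpowers_le.2 y1)) (mem_zpowers y)
  have key' : ∀ z ∈ A ⊓ V, z ≠ 1 → z ∉ cj g S := fun z hz z1 => by simpa only [cj_one] using key z hz z1 1 (one_mem _)
  have uniq : ∀ z ∈ A ⊓ V, z ∈ 𝐂[u] → z = 1 ∨ z = c * c := fun z hz z2 => by
    by_contra hc
    push Not at hc
    have m1 := hm z (p.leA hz.1) z2
    have m2 := hm _ (p.leA hw.1) c3
    exact key' _ (mul_mem hz hw) (fun e => hc.2 ((eq_inv_of_mul_eq_one_left e).trans c2))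
      (p'.mul_mem' (op_isPGroup _) h3 m1 (h4 m1) (key' z hz hc.1) m2 (h4 m2) (key' _ hw hw1))
  obtain ⟨w, w1, w2⟩ : ∃ w ∈ A ⊓ V, w ∉ zpowers (c * c) := SetLike.not_le_iff_exists.1 fun e => by
    have := card_le_of_le e
    rw [Nat.card_zpowers, H4.orderOf_eq_two_of (p.sqA _ hw.1) hw1] at this
    omega
  have w3 : u * w * u⁻¹ ∈ A ⊓ V := ⟨s2 ▸ conj_mem_cj u w1.2, s1 ▸ conj_mem_cj u w1.1⟩
  have w4 : w * (u * w * u⁻¹) = c * c := (uniq _ (mul_mem w1 w3) (mem_centralizer_singleton_iff.2 (by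
    calc _ = u * u * w * u⁻¹ * w := by rw [u2, ui, one_mul, mul_assoc w, mul_assoc _ u u, u2, mul_one, mul_assoc]
      _ = _ := by rw [p.toSyl.commA w1.1 w3.1]; group))).resolve_left
    fun e => by
      rw [mul_eq_one_iff_inv_eq, p.toSyl.invA w1.1, eq_mul_inv_iff_mul_eq] at e
      rcases uniq w w1 (mem_centralizer_singleton_iff.2 e) with e | e
      exacts [w2 (e ▸ one_mem _), w2 (e ▸ mem_zpowers _)]
  have w5 := p.toSyl.centZ w1.1 w1.2 cS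
  have w6 := p.sqA w w1.1
  have y1 : c * w ∈ op 2 𝐂[u] := hm _ (mul_mem cS (p.leA w1.1)) (mem_centralizer_singleton_iff.2 (by
    rw [eq_comm, ← mul_inv_eq_iff_eq_mul]
    calc _ = u * c * u⁻¹ * (w * (w * (u * w * u⁻¹))) := by rw [← mul_assoc w w, w6]; group
      _ = _ := by rw [c1, w4, ← mul_assoc w, w5, mul_assoc c, w5]; group))
  have y2 : c * w * (c * w) = c * c := by rw [mul_assoc, ← mul_assoc w, w5, mul_assoc, w6, mul_one]
  refine key' _ hw hw1 (y2 ▸ ?_)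
  by_cases y3 : c * w ∈ cj g S
  · exact mul_mem y3 y3
  · exact p'.mul_mem' (op_isPGroup _) h3 y1 (h4 y1) y3 y1 (h4 y1) y3

theorem Pr.not_conj (hT : IsPGroup 2 T) (hle : S ≤ T) (hu : u ∈ T) (h1 : u ∉ S) (hg : g * u * g⁻¹ ∈ S) : False := by
  have hn := p.le_norm h hW hT hle hu
  by_cases u2 : u * u = 1
  · have key : ∀ m, m * (g * u * g⁻¹) * m⁻¹ ∈ A ⊓ V → False := fun m hm =>
      p.not_conj₁ h hW hb hT hle hu h1 (g := (m * g)⁻¹) (mem_cj.2 (by simpa [mul_assoc] using hm))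
    rcases p.inv _ hg (GS.G0.sq_conj u2 g) with e | e
    · obtain ⟨m, -, hm⟩ := p.symm.exists_conj e
      exact key m (inf_comm V A ▸ hm)
    · obtain ⟨m, -, hm⟩ := p.exists_conj e
      exact key m hm
  have h2 : g * (u * u) * g⁻¹ ∈ A ⊓ V := by
    obtain ⟨a, ha, b, hb, e⟩ := p.prod _ hg
    have := p.toSyl.comm_mem (p.leA ha) (p.leB hb)
    rwa [commutatorElement_def, p.toSyl.invA ha, p.symm.toSyl.invA hb, mul_assoc (a * _), ← e, conj_mul] at this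
  have h3 : u * u * (u * u) = 1 := by simpa [mul_assoc] using GS.G0.sq_conj (p.sqA _ h2.1) g⁻¹
  have h4 := p.mem_w hT hle hu hn h1 (p.mul_mem' hT hle hu hn h1 hu hn h1) h3 (mul_assoc _ _ _).symm
  have c := (p.clo h hW hb hT hle hu h1 h4 u2 (mem_centralizer_singleton_iff.2 (mul_assoc _ _ _).symm)).conj g
  have h5 := cj_mono g (le_cent_of_mem (p.inf_cent.ge h4).2)
  have h6 := c _ h5 (pgroup_cj p.two g)
  have h7 := c S (by rw [cj_centralizer_singleton]; exact le_cent_of_mem (p.inf_cent.ge h2).2) p.two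
  exact h1 ((mem_normalizer_iff.1 (p.norm_of
    (p.elem₂ h hW (op_isPGroup _) h7 ((cj_mono g p.leA).trans h6) (p.toSyl.sq_cj g) (by rw [card_cj, p.card]))
    (p.elem₂ h hW (op_isPGroup _) h7 ((cj_mono g p.leB).trans h6) (p.symm.toSyl.sq_cj g) (card_cj g V).ge)) u).2 hg)

end

theorem Pr.small [IsSimpleGroup G] (p : Pr S A V) (h : Hyp G) (hG : ¬ IsMulCommutative G)
    (hb : ∀ M : Subgroup G, Loc M → ¬ TA M) (hS : ¬ IsSylowIn 2 S ⊤) : #|V| = 4 := by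
  obtain ⟨-, -, -, -, h1⟩ := p.exists_other
  have h2 := p.two_le
  have h3 := p.card_eq
  by_cases hW : 2 < #|(A ⊓ V : Subgroup G)|
  swap
  · rw [← h3, show V.relIndex S = 2 by omega]; omega
  exfalso
  obtain ⟨T, hT, hle⟩ := exists_isSylowIn_ge p.two le_top
  obtain ⟨x, x1, x2, x3⟩ := exists_norm hS hT hle
  have hn := p.le_norm h hW hT.pgroup hle
  obtain ⟨K, hK, -⟩ := H6.exists_index_two_of_not_conj (H := T) (M := S) (H6.sylow_two_index_odd hT.toSylowTop)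
    (relIndex_eq_two_iff.2 ⟨x, x1, fun b hb => by
      by_cases hb' : b ∈ S
      · exact Or.inr ⟨hb', fun e => x3 ((mul_mem_cancel_left hb').1 e)⟩
      · exact Or.inl ⟨p.mul_mem' hT.pgroup hle hb (hn hb) hb' x1 x2 x3, hb'⟩⟩)
    (x := x) ((hT.pgroup ⟨x, x1⟩).imp fun k hk => congrArg Subtype.val hk)
    (fun g hg => p.not_conj h hW hb hT.pgroup hle x1 x3 (g := g⁻¹) (by rwa [inv_inv])) fun k g hk hm => by
      by_contra hc
      refine p.not_conj h hW hb hT.pgroup hle hm hc (g := g) ?_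
      obtain ⟨k, rfl⟩ := Nat.exists_eq_succ_of_ne_zero hk.ne'
      rw [show g * (g⁻¹ * x ^ 2 ^ k.succ * g) * g⁻¹ = (x * x) ^ 2 ^ k by rw [← pow_two, ← pow_mul, ← pow_succ']; group]
      exact pow_mem (p.mul_mem' hT.pgroup hle x1 x2 x3 x1 x2 x3) _
  exact H6.index_ne_two_of_perfect (H6.perfect_of_simple hG) K hK

end Cfsg.Agent.WA.TQ
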