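import Cfsg.Agent.WA.ITQB
import Cfsg.Agent.WA.GoMain
import Cfsg.Agent.S3309

/-! Maximal `2`-locals with a TI quotient: the Sylow case. -/

set_option autoImplicit false
set_option linter.unusedSectionVars false

namespace Cfsg.Agent.WA.TQ

open Subgroup Cfsg.Agent.FT Cfsg.Agent.L0 Cfsg.Agent.H8
open Cfsg.Agent.H7 (op op_le op_isPGroup le_normalizer_op)
open scoped commutatorElement

universe u

variable {G : Type u} [Group G] [Finite G] {M M' S S' A V E : Subgroup G} {z : G}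

theorem Loc.le_vv (h : Loc M) (hE : E ≤ op 2 M) (h2 : ∀ e ∈ E, e * e = 1) : E ≤ vv M :=
  fun e he => h.mem_vv.2 ⟨hE he, h2 e he⟩

theorem Loc.vv_le_cent (h : Loc M) : vv M ≤ 𝐂(vv M) := h.vv_le.trans h.op_le_cent

theorem Loc.w_ne (h : Loc M) (hS : IsSylowIn 2 S M) : vv M ⊓ 𝐂(S) ≠ ⊥ :=
  H4.inf_centralizer_ne_bot_of_isPGroup ((op_isPGroup M).to_le h.vv_le) hS.pgroup (hS.le.trans h.norm_vv.ge) h.vv_ne

theorem le_cent_of_mem (hz : z ∈ 𝐂(S)) : S ≤ 𝐂[z] := le_centralizer_singleton_iff.2 hz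

theorem Pr.le_vv (p : Pr S A V) (hS' : IsSylowIn 2 S' 𝐍(V)) (hne : S' ≠ S) (h : Loc M) (h1 : S ≤ M) (h2 : S' ≤ M) :
    V ≤ vv M := h.le_vv ((le_inf p.leB (p.opV.ge.trans (op_le_syl hS'))).trans
      (h.inf_le h1 h2 p.two hS'.pgroup (not_pgroup_sup p.sylV hS' hne.symm))) p.sqB

theorem Pr.hy (p : Pr S A V) : ¬ 𝐍(V) ≤ 𝐍(A ⊓ V) := fun e => p.nBA fun v hv => by
  obtain ⟨m, hm, h1⟩ := p.exists_conj hv
  exact ((mem_normalizer_iff.1 (e hm) v).2 h1).1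

theorem Pr.rel_eq (p : Pr S A V) : A.relIndex S = V.relIndex S := Nat.eq_of_mul_eq_mul_left (Nat.card_pos (α := V))
  (by rw [H9.card_mul_relIndex p.leB, ← p.card, H9.card_mul_relIndex p.leA])

theorem not_two_d8 [IsSimpleGroup G] (hG : ¬ IsMulCommutative G) (hS : IsSylowIn 2 S ⊤) (p : Go.Syl S A V)
    (hc : #|S| = 16) (hW : #|(A ⊓ V : Subgroup G)| = 4) : False := by
  obtain ⟨a, ha, haV⟩ := SetLike.not_le_iff_exists.1 p.nAB
  obtain ⟨b, hb, hbA⟩ := SetLike.not_le_iff_exists.1 p.nBA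
  have a2 := p.sqA a ha
  have b2 := p.sqB b hb
  have hw : a * b * (a * b) ∈ A ⊓ V := by
    have := p.comm_mem (p.leA ha) (p.leB hb)
    rwa [commutatorElement_def, p.invA ha, p.symm.invA hb, mul_assoc (a * b)] at this
  have hw1 : a * b * (a * b) ≠ 1 := fun e => (p.of_comm ha hb (comm_of_sq' a2 b2 e)).elim haV hbA
  have h4 : orderOf (a * b) = 4 := orderOf_eq_prime_pow (p := 2) (n := 1) (by rwa [pow_one, pow_two])
    (by rw [show 2 ^ (1 + 1) = 2 * 2 by rfl, pow_mul, pow_two, pow_two, p.sqA _ hw.1])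
  obtain ⟨c, hc1, hc2⟩ : ∃ c ∈ A ⊓ V, c ∉ zpowers (a * b * (a * b)) := SetLike.not_le_iff_exists.1 fun e => by
    have := card_le_of_le e
    rw [hW, Nat.card_zpowers, H4.orderOf_eq_two_of (p.sqA _ hw.1) hw1] at this
    omega
  have hi := H4.left_conj_mul_eq_inv a2 b2
  obtain ⟨e⟩ := H4.nonempty_closure_equiv_dihedral_of_inverts a2 hi (H4.not_mem_zpowers_mul_of_involutions a2 b2
    (fun e => haV (e ▸ one_mem _)) fun e => hbA (e ▸ one_mem _))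
  rw [h4] at e
  have hD : closure ({a, a * b} : Set G) ≤ S :=
    (closure_le _).2 (by rintro _ (rfl | rfl); exacts [p.leA ha, mul_mem (p.leA ha) (p.leB hb)])
  have c2 := p.sqA c hc1.1
  have hcD : c ∉ closure ({a, a * b} : Set G) := fun h => by
    obtain ⟨k, e | e⟩ := (H4.mem_closure_of_inverts_iff a2 hi).1 h
    · have h5 : (a * b) ^ (2 * k) = 1 := by rw [two_mul, zpow_add, ← e, c2]
      rw [← orderOf_dvd_iff_zpow_eq_one, h4] at h5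
      obtain ⟨j, rfl⟩ : ∃ j, k = 2 * j := ⟨k / 2, by omega⟩
      exact hc2 ⟨j, by rw [e, zpow_mul, zpow_two]⟩
    · have h5 := p.centZ hc1.1 hc1.2 (mul_mem (p.leA ha) (p.leB hb))
      rw [e, mul_assoc, ← zpow_add_one, add_comm, zpow_one_add, ← mul_assoc, ← mul_assoc (a * b), mul_left_inj,
        ← mul_inv_eq_iff_eq_mul, hi] at h5
      exact hw1 (mul_eq_one_iff_inv_eq.2 h5)
  let f : Multiplicative (ZMod 2) →* G := MonoidHom.mk' (fun x => if x = 1 then 1 else c) fun x y => by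
    have : ∀ x : Multiplicative (ZMod 2), x = 1 ∨ x = Multiplicative.ofAdd 1 := by decide
    have h1 : (Multiplicative.ofAdd 1 : Multiplicative (ZMod 2)) * Multiplicative.ofAdd 1 = 1 := by decide
    rcases this x with rfl | rfl <;> rcases this y with rfl | rfl <;> simp [c2, h1]
  have hf : ∀ x, f x = 1 ∨ f x = c := fun x => by by_cases h : x = 1 <;> simp [f, h]
  let φ := (closure ({a, a * b} : Set G)).subtype.comp e.symm.toMonoidHom
  let ψ := f.noncommCoprod φ fun x y => by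
    rcases hf x with h | h <;> rw [h]
    exacts [Commute.one_left _, p.centZ hc1.1 hc1.2 (hD (e.symm y).2)]
  have hψ : Function.Injective ψ := (injective_iff_map_eq_one ψ).2 fun ⟨x, y⟩ h => by
    replace h : f x * φ y = 1 := h
    by_cases h1 : x = 1
    · rw [h1, map_one, one_mul] at h
      rw [h1, e.symm.injective ((Subtype.ext h : e.symm y = 1).trans (map_one _).symm)]; rfl
    · rw [show f x = c by simp [f, h1]] at h
      exact (hcD (by rw [eq_inv_of_mul_eq_one_left h]; exact inv_mem (e.symm y).2)).elim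
  have hr : ψ.range = S := eq_of_le_of_card_ge (by
    rintro _ ⟨⟨x, y⟩, rfl⟩
    refine mul_mem (?_ : f x ∈ S) (hD (e.symm y).2)
    rcases hf x with h | h <;> rw [h]
    exacts [one_mem _, p.leA hc1.1]) (by rw [hc, ← Nat.card_congr (MonoidHom.ofInjective hψ).toEquiv]; simp [DihedralGroup.card])
  exact S3309.result hS.toSylowTop ⟨(MulEquiv.subgroupCongr hr.symm).trans (MonoidHom.ofInjective hψ).symm⟩ hG

theorem Pr.con [IsSimpleGroup G] (p : Pr S A V) (h : Hyp G) (hG : ¬ IsMulCommutative G) (hS : IsSylowIn 2 S ⊤) :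
    Con G ∨ #|V| = 4 := by
  have hq := p.card_eq
  by_cases h2 : V.relIndex S = 2
  · obtain ⟨S', h3, h4, h5, -⟩ := p.exists_other
    obtain ⟨S'', h6, h7, h8, -⟩ := p.symm.exists_other
    rw [inf_comm V, p.rel_eq] at h8
    have h9 : (A ⊓ V ⊓ 𝐂(S')) ⊓ (A ⊓ V ⊓ 𝐂(S'')) = ⊥ := by
      by_contra h1
      obtain ⟨z, ⟨z1, z2⟩, z3⟩ := exists_mem_ne_one h1
      have z4 := le_cent_of_mem (p.inf_cent.ge z1.1).2
      obtain ⟨M, hM, hle⟩ := h.exists_loc' (p.sqA z z1.1.1) z3 fun c =>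
        not_pgroup_sup h3 p.sylV h4 (c.sup (le_cent_of_mem z1.2) z4 h3.pgroup p.two)
      exact p.nAB (((p.symm.le_vv h6 h7 hM (z4.trans hle) ((le_cent_of_mem z2.2).trans hle)).trans hM.vv_le_cent).trans
        ((centralizer_le (p.le_vv h3 h4 hM (z4.trans hle) ((le_cent_of_mem z1.2).trans hle))).trans p.centV))
    have h10 := card_sup_mul_card_inf (N := A ⊓ V ⊓ 𝐂(S')) (H := A ⊓ V ⊓ 𝐂(S'')) fun x hx =>
      centralizer_le_normalizer _ (mem_centralizer_iff.2 fun y hy => p.toSyl.commA hy.1.1 hx.1.1)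
    rw [h9, card_bot, mul_one] at h10
    have h11 := card_le_of_le (sup_le (inf_le_left : A ⊓ V ⊓ 𝐂(S') ≤ A ⊓ V) (inf_le_left : A ⊓ V ⊓ 𝐂(S'') ≤ A ⊓ V))
    obtain ⟨k, hk⟩ := (p.two.to_le (inf_le_left.trans p.leA : A ⊓ V ≤ S)).exists_card_eq
    have h12 : #|(A ⊓ V : Subgroup G)| ≠ 1 := fun e => p.locV.w_ne p.sylV (by rw [p.vvV, p.inf_cent]; exact card_eq_one.1 e)
    rw [h2] at h5 h8 hq
    have h13 : #|(A ⊓ V : Subgroup G)| ≤ 4 := by
      have : 0 < #|(A ⊓ V : Subgroup G)| := Nat.card_pos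
      nlinarith
    have h14 := H9.card_mul_relIndex p.leB
    have : k ≤ 2 := (Nat.pow_le_pow_iff_right one_lt_two).1 (hk ▸ h13)
    interval_cases k
    · exact (h12 hk).elim
    · exact Or.inr (by omega)
    · exact (not_two_d8 hG hS p.toSyl (by rw [h2] at h14; omega) hk).elim
  have hy : Go.Hy S A V := ⟨p.toSyl, hS, by rw [inf_comm]; exact p.symm.hy, p.hy, fun e => h2 e.2⟩
  obtain ⟨F, _, _, hF, e⟩ := hy.loc.con
  obtain ⟨k, hk⟩ := (Nat.dvd_prime_pow Nat.prime_two).1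
    (p.two.exists_card_eq.choose_spec ▸ Dvd.intro_left _ (H9.card_mul_relIndex p.leB))
  refine Or.inl (Or.inr (Or.inr (Or.inr (Or.inl ⟨F, _, _, k, ?_, by rw [hF, p.rel_eq, hk.2], Or.inr e⟩))))
  by_contra h3
  have : k = 0 ∨ k = 1 := by omega
  rcases this with rfl | rfl
  · exact p.nAB (p.leA.trans (relIndex_eq_one.1 hk.2))
  · exact h2 hk.2

section
variable (h : Hyp G) (hb : ∀ M : Subgroup G, Loc M → ¬ TA M)
  (hs : ∀ M S : Subgroup G, Loc M → IsSylowIn 2 S M → IsSylowIn 2 S ⊤)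
include hb hs

theorem card_vv_le (hM : Loc M) (hM' : Loc M') : #|vv M'| ≤ #|vv M| := by
  obtain ⟨S, hS⟩ := exists_isSylowIn 2 M
  obtain ⟨S', hS'⟩ := exists_isSylowIn 2 M'
  obtain ⟨g, -, rfl⟩ := (hs M S hM hS).exists_cj_eq (hs M' S' hM' hS')
  rw [← card_cj g (vv M), cj_vv]
  exact (hM.conj g).card_elem (hb _ (hM.conj g)) (hS.cj g) (hM'.vv_le.trans (op_le_syl hS')) hM'.sq

omit hs in
theorem Loc.vv_norm (hM : Loc M) (hS : IsSylowIn 2 S M) (hE : E ≤ S) (h1 : vv M ⊓ 𝐂(S) ≤ E) : vv M ≤ 𝐍(E) :=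
  fun v hv => mem_normalizer_of_cj_le (by
    rintro _ ⟨e, he, rfl⟩
    have := mul_mem (h1 (hM.comm_mem (hb M hM) hS (hE he) hv)) he
    simpa [commutatorElement_def, mul_assoc] using this)

include h

theorem Hyp.pr_of (hM : Loc M) (hS : IsSylowIn 2 S M) (hM' : Loc M') (hle : vv M' ≤ S) (hne : vv M' ≠ vv M) :
    ∃ S A V : Subgroup G, Pr S A V := by
  have c1 := card_vv_le hb hs hM' hM
  obtain ⟨a1, a2, -⟩ := hM.big (hb M hM) hS hle hM'.sq c1 hne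
  have hV := hM.vv_le.trans (op_le_syl hS)
  obtain ⟨S₁, h1, h2⟩ := exists_isSylowIn_ge (hS.pgroup.to_le hV)
    ((hM.vv_norm hb hS hle (a1.ge.trans inf_le_left)).trans hM'.norm_vv.le)
  obtain ⟨b1, -, -⟩ := hM'.big (hb M' hM') h1 h2 hM.sq (card_vv_le hb hs hM hM') hne.symm
  by_cases e : S = S₁
  · exact ⟨_, _, _, (hM.pair (hb M hM) hM' hS (e ▸ h1) (fun e => hne (by rw [e])) c1).2⟩
  exfalso
  obtain ⟨z, z1, z2⟩ := exists_mem_ne_one (hM.w_ne hS)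
  have z3 := le_cent_of_mem z1.2
  have z4 := le_cent_of_mem (b1.le ⟨z1.1, hM'.vv_le (a1.ge z1).1⟩).2
  have hn := not_pgroup_sup (hs M S hM hS) (hs M' S₁ hM' h1) e
  obtain ⟨N, hN, h3⟩ := h.exists_loc' (hM.sq z z1.1) z2 fun c => hn (c.sup z3 z4 hS.pgroup h1.pgroup)
  have h4 := hN.inf_le (z3.trans h3) (z4.trans h3) hS.pgroup h1.pgroup hn
  exact hM.not_cent (hb M hM) hS (a2 ▸ sup_le (((hN.le_vv ((le_inf hle (hM'.vv_le.trans (op_le_syl h1))).trans h4)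
    hM'.sq).trans hN.vv_le_cent).trans (centralizer_le (hN.le_vv ((le_inf hV h2).trans h4) hM.sq))) hM.op_le_cent)

theorem Hyp.pr_two (hM : Loc M) (hS : IsSylowIn 2 S M) (hM' : Loc M') (hS' : IsSylowIn 2 S' M')
    (h1 : vv M ⊓ 𝐂(S) ≤ S') (h2 : vv M' ⊓ 𝐂(S') ≤ S) (h3 : vv M ⊓ 𝐂(S) ⊓ vv M' = ⊥)
    (hc : #|(vv M' ⊓ 𝐂(S') : Subgroup G)| = #|(vv M ⊓ 𝐂(S) : Subgroup G)|) : ∃ S A V : Subgroup G, Pr S A V := by
  have hV := hM.vv_le.trans (op_le_syl hS)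
  have hV' := hM'.vv_le.trans (op_le_syl hS')
  have hn : vv M' ⊓ 𝐂(S') ≤ 𝐍(vv M ⊓ 𝐂(S)) :=
    inf_le_right.trans ((centralizer_le h1).trans (centralizer_le_normalizer _))
  have c1 := card_sup_mul_card_inf hn
  rw [eq_bot_iff.2 ((inf_le_inf_left _ inf_le_left).trans h3.le), card_bot, mul_one, hc] at c1
  have b2 : ∀ e ∈ vv M ⊓ 𝐂(S) ⊔ vv M' ⊓ 𝐂(S'), e * e = 1 := fun e he => by
    obtain ⟨x, hx, y, hy, rfl⟩ := (mem_sup_of_le_normalizer hn).1 he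
    rw [mul_assoc, ← mul_assoc y, mem_centralizer_iff.1 hx.2 y (h2 hy), mul_assoc, hM'.sq y hy.1, mul_one, hM.sq x hx.1]
  have l1 : vv M ⊓ 𝐂(S) ≤ vv M ⊓ 𝐂(S) ⊔ vv M' ⊓ 𝐂(S') := le_sup_left
  have l2 : vv M' ⊓ 𝐂(S') ≤ vv M ⊓ 𝐂(S) ⊔ vv M' ⊓ 𝐂(S') := le_sup_right
  have l3 := sup_le (inf_le_left.trans hV : vv M ⊓ 𝐂(S) ≤ S) h2
  have l4 := sup_le h1 (inf_le_left.trans hV' : vv M' ⊓ 𝐂(S') ≤ S')
  have c2 := (hM.card_le' (hb M hM) hS).trans c1.ge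
  generalize vv M ⊓ 𝐂(S) ⊔ vv M' ⊓ 𝐂(S') = B at b2 l1 l2 l3 l4 c2
  have hne : ∀ X, vv M ⊓ 𝐂(S) ≤ X → X ≠ vv M' := fun X h4 e =>
    hM.w_ne hS (eq_bot_iff.2 ((le_inf le_rfl (e ▸ h4)).trans h3.le))
  by_cases e : B = vv M
  · exact h.pr_of hb hs hM' hS' hM (e ▸ l4) (hne _ inf_le_left)
  obtain ⟨a1, -, -⟩ := hM.big (hb M hM) hS l3 b2 c2 e
  obtain ⟨a2, -, -⟩ := hM'.big (hb M' hM') hS' l4 b2 ((card_vv_le hb hs hM hM').trans c2) (hne B l1)
  have n1 := hM.vv_norm hb hS l3 l1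
  have n2 := hM'.vv_norm hb hS' l4 l2
  have hB : B ≠ ⊥ := fun e => hM.w_ne hS (eq_bot_iff.2 (e ▸ l1))
  have key : ∀ {M S : Subgroup G}, Loc M → IsSylowIn 2 S M → ∀ z ∈ S, z ∈ 𝐂(vv M) → z ∈ op 2 M :=
    fun {M S} hM hS z z1 z2 => by_contra fun hQ => hM.not_cent (hb M hM) hS (le_centralizer_iff.1 fun v hv =>
      hM.fix' hS z1 hQ hv (mem_centralizer_iff.1 z2 v hv).symm)
  have hp : ¬ IsPGroup 2 ((B ⊔ vv M) ⊔ (B ⊔ vv M') : Subgroup G) := fun c => by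
    obtain ⟨z, z1, z2⟩ := exists_mem_ne_one (H4.inf_centralizer_ne_bot_of_isPGroup (hS.pgroup.to_le l3) c
      (sup_le (sup_le le_normalizer n1) (sup_le le_normalizer n2)) hB)
    have z3 := le_cent_of_mem z1.2
    exact z2 (mem_bot.1 (h3 ▸ ⟨a1.le ⟨z1.1, key hM hS z (l3 z1.1)
      (le_centralizer_singleton_iff.1 ((le_sup_of_le_left le_sup_right).trans z3))⟩, (a2.le ⟨z1.1, key hM' hS' z (l4 z1.1)
      (le_centralizer_singleton_iff.1 ((le_sup_of_le_right le_sup_right).trans z3))⟩).1⟩))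
  have p1 := hS.pgroup.to_le (sup_le l3 hV)
  have p2 := hS'.pgroup.to_le (sup_le l4 hV')
  obtain ⟨N, hN, h4⟩ := h.exists_loc (hS.pgroup.to_le l3) hB fun c =>
    hp (c.sup (sup_le le_normalizer n1) (sup_le le_normalizer n2) p1 p2)
  have h5 := hN.le_vv ((le_inf le_sup_left le_sup_left).trans (hN.inf_le ((sup_le le_normalizer n1).trans h4)
    ((sup_le le_normalizer n2).trans h4) p1 p2 hp)) b2
  obtain ⟨T, hT, h6⟩ := exists_isSylowIn_ge (hS.pgroup.to_le hV) (n1.trans h4)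
  exact h.pr_of hb hs hN hT hM h6 fun e' => e (eq_of_le_of_card_ge (e' ▸ h5) c2)

theorem Hyp.exists_pr (hM : Loc M) (hn : ¬ GS.SC (vv M) ⊤) : ∃ S A V : Subgroup G, Pr S A V := by
  obtain ⟨a, ha, g, u1, u2⟩ : ∃ a ∈ vv M, ∃ g, g * a * g⁻¹ ∈ M ∧ g * a * g⁻¹ ∉ vv M := by
    by_contra hc
    push Not at hc
    exact hn ⟨le_top, hM.sq, fun a ha g _ h1 => hc a ha g (hM.norm_vv.le h1)⟩
  have u3 := GS.G0.sq_conj (hM.sq a ha) g
  have u4 := cj_vv g M ▸ conj_mem_cj g ha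
  generalize g * a * g⁻¹ = u at u1 u2 u3 u4
  have uQ : u ∉ op 2 M := fun e => u2 (hM.mem_vv.2 ⟨e, u3⟩)
  obtain ⟨S, hS, uS⟩ := exists_isSylowIn_ge (GS.G0.pg_of_sq u3) (zpowers_le.2 u1)
  replace uS := uS (mem_zpowers u)
  have hV := hM.vv_le.trans (op_le_syl hS)
  have pW := hS.pgroup.to_le (inf_le_left.trans hV : vv M ⊓ 𝐂(S) ≤ S)
  obtain ⟨k, S₁, h1, h2, h3⟩ : ∃ k S₁, IsSylowIn 2 S₁ (cj k M) ∧ vv M ⊓ 𝐂(S) ≤ S₁ ∧ u ∈ vv (cj k M) := by
    obtain ⟨S₀, h1, h2⟩ := (hM.conj g).inv u ((hM.conj g).vv_le u4) u3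
    obtain ⟨c, c1, c2⟩ := Go.exists_cj_le (hs _ _ (hM.conj g) h1) h2 pW fun w hw =>
      mem_centralizer_singleton_iff.2 (mem_centralizer_iff.1 hw.2 u uS).symm
    refine ⟨c⁻¹ * g, cj c⁻¹ S₀, by rw [cj_mul]; exact h1.cj _, cj_le_iff.1 c2, ?_⟩
    rw [cj_mul, ← cj_vv, mem_cj, inv_inv, mem_centralizer_singleton_iff.1 c1, mul_inv_cancel_right]
    exact u4
  have hM₁ := hM.conj k
  have hne : vv (cj k M) ≠ vv M := fun e => u2 (e ▸ h3)
  by_cases h4 : vv M ⊓ 𝐂(S) ⊓ vv (cj k M) = ⊥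
  · obtain ⟨c, c1, c2⟩ := Go.exists_cj_le (H := 𝐂((vv M ⊓ 𝐂(S) : Subgroup G))) (hs M S hM hS)
      (le_centralizer_iff.1 inf_le_right) (P := vv (cj k M) ⊓ 𝐂(S₁))
      ((op_isPGroup _).to_le (inf_le_left.trans hM₁.vv_le)) (inf_le_right.trans (centralizer_le h2))
    have c3 := cj_eq_self_of_mem_centralizer c1
    rw [cj_inf, cj_vv, cj_centralizer] at c2
    refine h.pr_two hb hs hM hS (hM₁.conj c) (h1.cj c) (c3 ▸ cj_mono c h2) c2
      (by rw [← c3, ← cj_vv, ← cj_inf, h4, cj_bot]) ?_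
    rw [← cj_vv, ← cj_centralizer, ← cj_inf, card_cj, ← hM.card_w hS (syl_cj h1), ← card_cj k⁻¹, cj_inf, cj_centralizer,
      ← cj_vv, cj_inv_cj]
  obtain ⟨z, ⟨z1, z2⟩, z3⟩ := exists_mem_ne_one h4
  have z4 := le_cent_of_mem z1.2
  have z5 : vv (cj k M) ≤ 𝐂[z] := le_cent_of_mem (hM₁.vv_le_cent z2)
  have p1 := (op_isPGroup _).to_le hM₁.vv_le
  by_cases c : Clo 𝐂[z]
  · exact h.pr_of hb hs hM hS hM₁ (c.eq_op ((hs M S hM hS).of_le z4 le_top) ▸ c _ z5 p1) hne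
  obtain ⟨N, hN, h5⟩ := h.exists_loc' (hM.sq z z1.1) z3 c
  by_cases e : vv N = vv M
  · exact h.pr_of hb hs hM hS hM₁ (hM.le_syl hS (z5.trans (h5.trans (by rw [← hN.norm_vv, e, hM.norm_vv]))) p1 uS h3 uQ) hne
  · exact h.pr_of hb hs hM hS hN (hN.vv_le.trans (op_le_syl ((hs M S hM hS).of_le (z4.trans h5) le_top))) e

end

end Cfsg.Agent.WA.TQ
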