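import Cfsg.Agent.WA.ITQB

/-! Reduction to a simple group (PLAN_TQ.md, R). -/

set_option autoImplicit false

namespace Cfsg.Agent.WA.TQ

open Subgroup Cfsg.Agent.FT Cfsg.Agent.L0 Cfsg.Agent.H8
open Cfsg.Agent.H7 (op)
open scoped commutatorElement

universe u

variable {G : Type u} [Group G] [Finite G] {M S A V : Subgroup G}

local instance r2 : Fact (Nat.Prime 2) := Nat.fact_prime_two

theorem hyp_of
    (hA : ∀ M : Subgroup G, Cfsg.IsMaximalTwoLocal M → (∀ P : Sylow 2 ↥M, ¬ (P : Subgroup ↥M).Normal) →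
      Subgroup.centralizer ((Cfsg.pCore 2 ↥M) : Set ↥M) ≤ Cfsg.pCore 2 ↥M ∧
      (∀ P Q : Sylow 2 (↥M ⧸ Cfsg.pCore 2 ↥M), P ≠ Q → (P : Subgroup (↥M ⧸ Cfsg.pCore 2 ↥M)) ⊓ Q = ⊥) ∧
      (∀ x ∈ Cfsg.pCore 2 ↥M, orderOf x = 2 → ∃ P : Sylow 2 ↥M, x ∈ (P : Subgroup ↥M) ∧
        ∀ y ∈ (P : Subgroup ↥M), y * x = x * y)) : Hyp G := fun M hM hn => by
  obtain ⟨h1, h2, h3⟩ := hA M hM fun P hP => hn fun X hX hp => by
    have s := isSylowIn_map_subtype P
    have n : M ≤ 𝐍(((P : Subgroup M).map M.subtype : Subgroup G)) := (normal_subgroupOf_iff_le_normalizer s.le).mp (by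
      rwa [subgroupOf, comap_map_eq_self_of_injective M.subtype_injective])
    exact (s.le_of_le_normalizer' hp hX (hX.trans n)).trans ((H7.SN.of_normalizer s.le n).le_op s.pgroup)
  refine ⟨hM, hn, H7.inf_centralizer_op_le (H7.isPGroup_fstarOf_iff_centralizer.mpr h1), fun S S' hS hS' ne x hx => ?_,
    fun x hx x2 => ?_⟩
  · obtain ⟨P, rfl⟩ := hS.exists_sylow
    obtain ⟨P', rfl⟩ := hS'.exists_sylow
    obtain ⟨⟨x, m, rfl⟩, y, m', e⟩ := hx
    obtain rfl := Subtype.ext e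
    have s := QuotientGroup.mk'_surjective (pCore 2 M)
    have k : ∀ P : Sylow 2 M, ((P : Subgroup M).map (QuotientGroup.mk' (pCore 2 M))).comap (QuotientGroup.mk' _) = P :=
      fun P => by rw [comap_map_eq, QuotientGroup.ker_mk', sup_eq_left.mpr ((H4.isPGroup_pCore 2 M).le_sylow_of_normal P)]
    exact mem_map_of_mem _ ((QuotientGroup.eq_one_iff y).mp (mem_bot.mp ((h2 (P.mapSurjective s) (P'.mapSurjective s) fun e =>
      ne (by rw [← k P, ← k P', ← Sylow.coe_mapSurjective s, ← Sylow.coe_mapSurjective s, e])).le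
        ⟨mem_map_of_mem _ m, mem_map_of_mem _ m'⟩)))
  · by_cases x1 : x = 1
    · exact (exists_isSylowIn 2 M).imp fun S hS => ⟨hS, fun y _ => mem_centralizer_singleton_iff.mpr (by simp [x1])⟩
    obtain ⟨x, m, rfl⟩ := hx
    obtain ⟨P, -, c⟩ := h3 x m (orderOf_eq_prime (Subtype.ext ((pow_two _).trans x2)) fun e => x1 (congrArg Subtype.val e))
    refine ⟨_, isSylowIn_map_subtype P, ?_⟩
    rintro _ ⟨y, hy, rfl⟩
    exact mem_centralizer_singleton_iff.mpr (congrArg Subtype.val (c y hy))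

theorem Loc.fstar (h : Loc M) : IsPGroup 2 (H7.fstarOf M) := H7.isPGroup_fstarOf_iff_centralizer.mpr fun x hx => by
  obtain ⟨y, hy, e⟩ := h.cent ⟨x.2, mem_centralizer_iff.mpr (by
    rintro _ ⟨y, hy, rfl⟩; exact congrArg Subtype.val (mem_centralizer_iff.mp hx y hy))⟩
  exact Subtype.ext e ▸ hy

theorem Hyp.normal (h : Hyp G) (K : Subgroup G) [K.Normal] : Hyp K := fun M₁ hM hn => by
  have inj := K.subtype_injective
  have lm : ∀ {X Y : Subgroup K}, X.map K.subtype ≤ Y.map K.subtype ↔ X ≤ Y := map_le_map_iff_of_injective inj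
  obtain ⟨T, hT, T1, e⟩ := hM.1
  have l1 : M₁.map K.subtype ≤ 𝐍((T.map K.subtype : Subgroup G)) := e ▸ le_normalizer_map K.subtype
  have nc : ¬ Clo (M₁.map K.subtype) := fun c => hn fun P h1 h2 =>
    lm.mp ((c _ (map_mono h1) (h2.map _)).trans (H7.op_map_subtype M₁).le)
  obtain ⟨M, L, l2⟩ := h.exists_loc (hT.map K.subtype) (by rwa [Ne, map_eq_bot_iff_of_injective _ inj]) fun c => nc (c.mono l1)
  have l3 := l1.trans l2
  have ne : (op 2 M).subgroupOf K ≠ ⊥ := fun e => nc fun P h1 h2 => by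
    rw [subgroupOf_eq_bot, disjoint_iff] at e
    have hK := h1.trans (map_subtype_le _)
    refine (le_inf ((le_inf (h1.trans l3) fun x hx => mem_centralizer_iff.mpr fun y hy =>
      commutatorElement_eq_one_iff_mul_comm.mp (mem_bot.mp (e.le ⟨?_, ?_⟩))).trans L.cent) hK).trans (e.le.trans bot_le)
    · rw [commutatorElement_def, mul_assoc, mul_assoc, ← mul_assoc x]
      exact mul_mem hy (conj_mem_of_le_normalizer (H7.le_normalizer_op M) (l3 (h1 hx)) (inv_mem hy))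
    · exact K.mul_mem (Normal.conj_mem inferInstance x (hK hx) y) (K.inv_mem (hK hx))
  have l4 : M.subgroupOf K ≤ 𝐍((op 2 M).subgroupOf K) := fun x hx => H5.mem_normalizer_of_conj_mem fun y hy =>
    conj_mem_of_le_normalizer (H7.le_normalizer_op M) hx hy
  have l5 : M₁ ≤ M.subgroupOf K := map_le_iff_le_comap.mp l3
  have q : M₁.map K.subtype = M ⊓ K := by
    rw [← subgroupOf_map_subtype, le_antisymm l5 (l4.trans
      (hM.2 _ ⟨_, pgroup_subgroupOf (H7.op_isPGroup M) K, ne, rfl⟩ (l5.trans l4)).le)]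
  have sn : H7.SN (M₁.map K.subtype) M := H7.SN.of_normalizer l3 (q ▸ H8.le_normalizer_inf le_normalizer le_normalizer_of_normal)
  have o := H7.op_map_subtype (p := 2) M₁
  refine ⟨hM, hn, lm.mp ?_, fun S S' hS hS' ne => lm.mp ?_, fun x hx x2 => ?_⟩
  · rintro _ ⟨x, hx, rfl⟩
    refine o.le (H7.inf_centralizer_op_le (H7.isPGroup_fstarOf_of_sn sn L.fstar) ⟨mem_map_of_mem _ hx.1, ?_⟩)
    rw [o]
    rintro _ ⟨y, hy, rfl⟩
    exact congrArg Subtype.val (mem_centralizer_iff.mp hx.2 y hy)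
  · have a := hS.map K.subtype
    have b := hS'.map K.subtype
    rw [← o, H7.op_eq_inf_of_sn sn, map_inf _ _ _ inj]
    exact le_inf (L.inf_le (a.le.trans l3) (b.le.trans l3) a.pgroup b.pgroup
      (not_pgroup_sup a b fun e => ne (map_injective inj e))) (inf_le_left.trans a.le)
  · obtain ⟨S, hS, c⟩ := L.inv x (H7.op_mono_of_sn sn (o.ge (mem_map_of_mem _ hx))) (congrArg Subtype.val x2)
    have a := H7.IsSylowIn.inf_of_sn hS sn
    have m : ((S ⊓ M₁.map K.subtype).subgroupOf K).map K.subtype = S ⊓ M₁.map K.subtype :=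
      map_subgroupOf_eq_of_le (inf_le_right.trans (map_subtype_le _))
    exact ⟨(S ⊓ M₁.map K.subtype).subgroupOf K, ⟨lm.mp (m.le.trans a.le), pgroup_subgroupOf a.pgroup K, fun Q h1 h2 h3 =>
      map_injective inj ((a.max _ (map_mono h1) (h2.map _) (m.ge.trans (map_mono h3))).trans m.symm)⟩,
      fun y hy => mem_centralizer_singleton_iff.mpr (Subtype.ext (mem_centralizer_singleton_iff.mp (c hy.1)))⟩

theorem Hyp.exists_simple [Nontrivial G] (h : Hyp G) (hO : pPrimeCore 2 G = ⊥) (hO2 : pCore 2 G = ⊥) :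
    ∃ K : Subgroup G, K.Normal ∧ 𝐂(K) = ⊥ ∧ IsSimpleGroup K ∧ ¬ IsMulCommutative K := by
  have hF : fittingSubgroup G = ⊥ := by
    rw [← H7.fitOf_top, H7.fitOf_eq_op (p := 2) ((H7.opp_top ..).trans hO), H7.op_top, hO2]
  have e : generalizedFittingSubgroup G = layer G := by rw [H7.fstar_def, hF, sup_bot_eq]
  have c : 𝐂(layer G) = ⊥ := le_bot_iff.mp (e ▸ hF ▸ H7.centralizer_fstar_le_fitting)
  obtain ⟨L, hL⟩ : ∃ L : Subgroup G, IsComponent L := by
    by_contra hn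
    exact H7.fstar_ne_bot (e.trans (H7.layer_eq_bot_iff.mpr (not_exists.mp hn)))
  have np : ∀ {L : Subgroup G}, IsComponent L → ∀ X : Subgroup G, IsPGroup 2 X → ¬ L ≤ X := fun hL X hX =>
    H7.QS.not_le_of_isSolvable (H7.Comp.compOf hL).qs (haveI := hX.isNilpotent; inferInstance)
  have q : layer G = L := le_antisymm (H7.layer_le_iff.mpr fun L' hL' => by
    by_contra ne
    obtain ⟨P, hP⟩ := exists_isSylowIn 2 L
    have l : L' ≤ 𝐍(P) := (commutator_eq_bot_iff_le_centralizer.mp (H7.Comp.comm_of_ne hL' hL fun e => ne e.le)).trans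
      ((centralizer_le hP.le).trans (centralizer_le_normalizer _))
    obtain ⟨M, m, l2⟩ := h.exists_loc hP.pgroup (hP.ne_bot (H7.Comp.dvd_card hL hO)) fun c => np hL' _ (H7.op_isPGroup (p := 2) L') (by
      rw [← H7.QS.pClos_eq (p := 2) (H7.Comp.compOf hL').qs (H7.Comp.dvd_card hL' hO), H7.pClos_le_iff]
      intro x hx ⟨k, hk⟩
      rw [H7.QS.pClos_eq (p := 2) (H7.Comp.compOf hL').qs (H7.Comp.dvd_card hL' hO)]
      exact c.mono l _ (zpowers_le.mpr hx) (H7.isPGroup_zpowers_of_orderOf hk) (mem_zpowers x))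
    exact np hL' _ (H7.op_isPGroup M) ((le_inf (l.trans l2) (commutator_eq_bot_iff_le_centralizer.mp
      (H7.CompOf.of_isComponent hL' (l.trans l2)).comm_op)).trans m.cent)) (H7.Comp.le_layer hL)
  have s := (H7.Comp.compOf hL).qs
  refine ⟨L, q ▸ inferInstance, q ▸ c, H7.QS.isSimpleGroup_of_center_eq_bot s (eq_bot_iff.2 fun x hx => Subtype.ext ?_),
    H7.QS.not_isMulCommutative s⟩
  exact mem_bot.mp ((q ▸ c).le fun y hy => congrArg Subtype.val (mem_center_iff.1 hx ⟨y, hy⟩))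

end Cfsg.Agent.WA.TQ
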