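import Cfsg.Agent.WA.ITQB
import Cfsg.Agent.WA.IBr
import Cfsg.Agent.WA.TQR
import Cfsg.Agent.WA.TQK
import Cfsg.Agent.WA.TQA
import Cfsg.Agent.WA.TQC
import Cfsg.Agent.WA.TQD

/- LINKED interface; the statements, proved in the imported files:

variable {G : Type u} [Group G] [Finite G] {M S A V : Subgroup G}
-- R: reduction to a simple group 
theorem hyp_of
    (hA : ∀ M : Subgroup G, Cfsg.IsMaximalTwoLocal M → (∀ P : Sylow 2 ↥M, ¬ (P : Subgroup ↥M).Normal) →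
      Subgroup.centralizer ((Cfsg.pCore 2 ↥M) : Set ↥M) ≤ Cfsg.pCore 2 ↥M ∧
      (∀ P Q : Sylow 2 (↥M ⧸ Cfsg.pCore 2 ↥M), P ≠ Q → (P : Subgroup (↥M ⧸ Cfsg.pCore 2 ↥M)) ⊓ Q = ⊥) ∧
      (∀ x ∈ Cfsg.pCore 2 ↥M, orderOf x = 2 → ∃ P : Sylow 2 ↥M, x ∈ (P : Subgroup ↥M) ∧
        ∀ y ∈ (P : Subgroup ↥M), y * x = x * y)) : Hyp G
theorem Hyp.normal (h : Hyp G) (K : Subgroup G) [K.Normal] : Hyp K
theorem Hyp.exists_simple [Nontrivial G] (h : Hyp G) (hO : pPrimeCore 2 G = ⊥) (hO2 : pCore 2 G = ⊥) :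
    ∃ K : Subgroup G, K.Normal ∧ 𝐂(K) = ⊥ ∧ IsSimpleGroup K ∧ ¬ IsMulCommutative K
variable [IsSimpleGroup G]
-- K: identifications 
theorem Hyp.sc_con (h : Hyp G) (hG : ¬ IsMulCommutative G) (hA : GS.SC A ⊤) (h1 : A ≠ ⊥) : Con G
theorem Hyp.clo_con (h : Hyp G) (hG : ¬ IsMulCommutative G) (hn : ∀ M : Subgroup G, ¬ Loc M) : Con G
theorem Hyp.ds_con (h : Hyp G) (hG : ¬ IsMulCommutative G) (hd : GW.DS G) : Con G
theorem Hyp.four_con (h : Hyp G) (hG : ¬ IsMulCommutative G) (hb : ∀ M : Subgroup G, Loc M → ¬ TA M)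
    (h4 : #|V| = 4) (h2 : ∀ v ∈ V, v * v = 1) (hc : 𝐂(V) ≤ V) : Con G
-- A: type (a) 
theorem Hyp.ta_con (h : Hyp G) (hG : ¬ IsMulCommutative G) (hM : Loc M) (ha : TA M) : Con G
-- C: `S` is not a Sylow subgroup of `G` 
theorem Pr.small (p : Pr S A V) (h : Hyp G) (hG : ¬ IsMulCommutative G) (hb : ∀ M : Subgroup G, Loc M → ¬ TA M)
    (hS : ¬ IsSylowIn 2 S ⊤) : #|V| = 4
-- D: `S` is a Sylow subgroup of `G` 
theorem Pr.con (p : Pr S A V) (h : Hyp G) (hG : ¬ IsMulCommutative G) (hS : IsSylowIn 2 S ⊤) :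
    Con G ∨ #|V| = 4
omit [IsSimpleGroup G] in
theorem Hyp.exists_pr (h : Hyp G) (hb : ∀ M : Subgroup G, Loc M → ¬ TA M)
    (hs : ∀ M S : Subgroup G, Loc M → IsSylowIn 2 S M → IsSylowIn 2 S ⊤) (hM : Loc M) (hn : ¬ GS.SC (vv M) ⊤) :
    ∃ S A V : Subgroup G, Pr S A V
-/
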