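import Cfsg.Agent.WA.HwA
import Cfsg.Agent.WA.HwB
import Cfsg.Agent.WA.HwC1
import Cfsg.Agent.WA.HwC2
import Cfsg.Agent.WA.HwC3
import Cfsg.Agent.WA.HwC4
import Cfsg.Agent.WA.HwD
import Cfsg.Agent.H2.Wong

/-! Simple groups with one class of involutions and a self-centralizing element of order six. -/

set_option autoImplicit false

namespace Cfsg.Agent.WA.Hw

open Subgroup Cfsg.Agent.FT Cfsg.Agent.L0 Cfsg.Agent.H8 Cfsg.Agent.WA.Rw

universe u

variable {G : Type u} [Group G] [Finite G] [IsSimpleGroup G] {z x : G}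

theorem Hyp.main (h : Hyp z x) :
    (∃ (F : Type) (_ : Field F) (_ : Fintype F), (Fintype.card F = 11 ∨ Fintype.card F = 13) ∧
        Nonempty (G ≃* Matrix.ProjectiveSpecialLinearGroup (Fin 2) F)) ∨
      (∃ (F : Type) (_ : Field F) (_ : Fintype F), Fintype.card F = 3 ∧
        Nonempty (G ≃* Matrix.ProjectiveSpecialLinearGroup (Fin 3) F)) ∨
      Cfsg.Spor.IsoM11 G ∨ Cfsg.Spor.IsoJ1 G := by
  rcases h.str with ⟨S, y, hy, hS, hz, hx⟩ | ⟨s, Q, O, t⟩
  · obtain ⟨h8, h2⟩ := hy.caseB hS hz hx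
    exact Or.inr (Or.inr (Or.inr (hy.caseE8 hS hz hx h8 h2)))
  by_cases hQ : Q = zpowers z
  · exact Or.inl (t.case4 hQ)
  have h1 : ∀ u ∈ Q, u * u = 1 → u = 1 ∨ u = z := by
    by_cases hO : O = ⊥
    · subst hO
      by_contra hn
      push Not at hn
      obtain ⟨u, hu, u2, u1, uz⟩ := hn
      obtain ⟨v, hv, v2, v1, vz, hn⟩ := t.four hu u2 u1 uz
      exact t.not32 t.center (t.card32 t.center hv v2 v1 vz hn)
    · exact t.caseD hO
  obtain ⟨h8, π, hs, hk⟩ := t.case8 hQ h1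
  obtain ⟨f⟩ := H2.Wg.Y.equivGL
  have k : ∀ g, g ∈ (f.symm.toMonoidHom.comp π).ker ↔ (g : G) ∈ O := fun g => by
    rw [← mem_subgroupOf, ← hk]; simp
  have o : ∀ g ∈ O, orderOf g ∣ 6 → g = 1 := fun g hg e =>
    orderOf_eq_one_iff.1 (Nat.eq_one_of_dvd_coprimes t.cop (orderOf_dvd_natCard _ hg) e)
  haveI : (Q.subgroupOf 𝐂[z]).Normal := (normal_subgroupOf_iff_le_normalizer t.QH).2 t.HQ
  haveI := Fact.mk Nat.prime_three
  rcases H2.Wong.gen rfl h.z2 (f.symm.toMonoidHom.comp π) (f.symm.surjective.comp hs) (fun e => by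
      obtain ⟨g, hg⟩ := exists_prime_orderOf_dvd_card' (p := 2) (hp := ⟨Nat.prime_two⟩) e
      rw [← orderOf_coe, ← orderOf_coe] at hg
      simpa [o _ ((k _).1 g.2) (by rw [hg]; norm_num)] using hg)
    (Q.subgroupOf 𝐂[z]) ((Nat.card_congr (subgroupOfEquivOfLe t.QH).toEquiv).trans h8) (x := ⟨x, h.xz⟩)
    (Subtype.ext (by simpa [pow_three'] using h.cube)) (fun e => by
      simpa [o x ((k _).1 e) (by rw [h.x3]; norm_num)] using h.x3)
    (fun g hg e => Subtype.ext (o g ((k g).1 hg) (E.ord6 h ▸ orderOf_dvd_of_mem_zpowers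
      (h.cent g (mem_c1.1 g.2) (congrArg Subtype.val e).symm)))) with e | e
  · exact Or.inr (Or.inl ⟨ZMod 3, inferInstance, inferInstance, ZMod.card 3, e⟩)
  · exact Or.inr (Or.inr (Or.inl e))

theorem hyp_of (hG : ¬ IsMulCommutative G) (h1 : ∀ x y : G, orderOf x = 2 → orderOf y = 2 → IsConj x y)
    (t : G) (ht : orderOf t = 6) (hC : centralizer ({t} : Set G) = zpowers t) : Hyp (t ^ 3) (t ^ 4) := by
  have e : t ^ 3 * t ^ 4 = t := by rw [← pow_add, pow_succ, orderOf_dvd_iff_pow_eq_one.1 ht.dvd, one_mul]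
  refine ⟨hG, by rw [orderOf_pow' _ (by norm_num), ht]; rfl, by rw [orderOf_pow' _ (by norm_num), ht]; rfl,
    by rw [← pow_add, ← pow_add], fun g a b => ?_, h1⟩
  rw [e, ← hC, mem_c1, ← e]
  exact Commute.mul_right a b

end Cfsg.Agent.WA.Hw
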