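import Cfsg.Agent.WA.GdF2a
import Cfsg.Agent.S3224
import Cfsg.Agent.H7.CI4
import Cfsg.Agent.WA.IWab

/-! The first frame. -/

set_option autoImplicit false
set_option linter.unusedSectionVars false

namespace Cfsg.Agent.WA.Gd

open Subgroup Cfsg.Agent.H8

universe u

variable {X : Type u} [Group X] [Finite X] {z : X}

namespace PB

variable (h : PB z)
include h

theorem an_of {t d : X} (ht : NI z t) (hd : NI z d) (e : Pm z d t) (ne : ¬ Ap z d t) : d * t = z * (t * d) := by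
  refine e.resolve_left fun e => ?_
  rcases h.f1 ht hd.1 e with e | e | e | e
  · exact hd.2.1 e
  · exact hd.2.2 e
  · exact ne (Or.inl e)
  · exact ne (Or.inr e)

theorem pm_of_ap {k a : X} (e : Ap z (k * a * k⁻¹) a) : Pm z k a :=
  e.imp (fun e => by rw [← mul_inv_eq_iff_eq_mul, e]) fun e => by rw [← mul_assoc, ← mul_inv_eq_iff_eq_mul, e]

theorem not_max {S : Subgroup X} (hS : IsSylowIn 2 S ⊤) {t t' : X} (ht : NI z t) (tS : t ∈ S) (tS' : t' ∈ S)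
    (an : t' * t = z * (t * t'))
    (hc : ∀ y ∈ S, y * t = t * y → y = 1 ∨ y = z ∨ y = t ∨ y = z * t) : False := by
  have := Fact.mk Nat.prime_two
  obtain ⟨a, ha, -⟩ := S3224.aux _ S rfl hS.pgroup ⟨t, tS⟩
    (by rw [← orderOf_coe]; exact H9.orderOf_two_of ht.2.1 ht.1) (by
      refine (H9.card_le_of_subset (Set.toFinite _) ?_).trans
        (H9.ncard_le_four (1 : S) ⟨z, h.zS hS⟩ ⟨t, tS⟩ ⟨z * t, mul_mem (h.zS hS) tS⟩)
      intro y hy
      rcases hc y y.2 (congrArg Subtype.val (mem_centralizer_singleton_iff.1 hy)) with e | e | e | e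
      · exact Or.inl (Subtype.ext e)
      · exact Or.inr (Or.inl (Subtype.ext e))
      · exact Or.inr (Or.inr (Or.inl (Subtype.ext e)))
      · exact Or.inr (Or.inr (Or.inr (Subtype.ext e))))
    (fun hcyc => h.not_ca (congrArg Subtype.val
      ((inferInstance : IsMulCommutative S).is_comm.comm ⟨t', tS'⟩ ⟨t, tS⟩)) an)
  have hM : (zpowers (a : X)).relIndex S = 2 := by
    rw [relIndex, ← ha]; congr 1; ext y
    rw [mem_subgroupOf]
    exact ⟨fun ⟨n, e⟩ => ⟨n, Subtype.ext e⟩, fun ⟨n, e⟩ => ⟨n, congrArg Subtype.val e⟩⟩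
  obtain ⟨P, rfl⟩ := hS.exists_sylow_top
  obtain ⟨g, hg⟩ := H6.thompson_transfer h.hi (H6.sylow_two_index_odd P) hM (t := t) (by rw [pow_two, ht.1])
  have hd : NI z (g⁻¹ * t * g) := by simpa using h.ni_conj ht g⁻¹
  generalize g⁻¹ * t * g = d at hg hd
  have hn : (zpowers a).Normal := normal_of_index_eq_two ha
  have dS : d ∈ (P : Subgroup X) := zpowers_le.2 a.2 hg
  have cen : ∀ y ∈ (P : Subgroup X), y * d = d * y := fun y hy => by
    obtain ⟨n, hn'⟩ := id hg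
    obtain ⟨k, hk⟩ := hn.conj_mem ⟨d, dS⟩ ⟨n, Subtype.ext hn'⟩ ⟨y, hy⟩
    obtain ⟨m, hm⟩ : 2 ∣ orderOf (a : X) := (H9.orderOf_two_of hd.2.1 hd.1).symm.dvd.trans (orderOf_dvd_of_mem_zpowers hg)
    have m0 : 0 < m := by have := orderOf_pos (a : X); omega
    have h2 := h.ni_conj hd y
    rw [← mul_inv_eq_iff_eq_mul, (H9.eq_pow_of_mem_zpowers_of_mul_self hm m0 (x := y * d * y⁻¹)
      ⟨k, congrArg Subtype.val hk⟩ h2.1).resolve_left h2.2.1, ← (H9.eq_pow_of_mem_zpowers_of_mul_self hm m0 hg hd.1).resolve_left hd.2.1]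
  rcases hc d dS (cen t tS).symm with e | e | e | e
  · exact hd.2.1 e
  · exact hd.2.2 e
  · exact h.not_ca (cen t' tS') (h.ap_an' (Or.inl e) an)
  · exact h.not_ca (cen t' tS') (h.ap_an' (Or.inr e) an)

theorem exists_nt {t0 : X} (h0 : NI z t0) : ∃ S t, IsSylowIn 2 S ⊤ ∧ NI z t ∧ t ∈ S ∧ ∀ x ∈ S, Pm z x t := by
  have := Fact.mk Nat.prime_two
  obtain ⟨S, hS⟩ := exists_isSylowIn 2 (⊤ : Subgroup X)
  obtain ⟨g, hg⟩ := Clos.exists_conj_mem hS (Clos.two_elt_of_sq h0.1)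
  obtain ⟨t, ⟨tS, ht⟩, hmax⟩ := Set.exists_max_image {t : X | t ∈ S ∧ NI z t}
    (fun t => Nat.card ↥(S ⊓ h.Cz t)) (Set.toFinite _) ⟨_, hg, h.ni_conj h0 g⟩
  refine ⟨S, t, hS, ht, tS, ?_⟩
  by_contra hn
  obtain ⟨T, hT⟩ : ∃ T, T = S ⊓ h.Cz t := ⟨_, rfl⟩
  have mT : ∀ {y}, y ∈ T ↔ y ∈ S ∧ Pm z y t := by intro y; rw [hT]; rfl
  have lt : T < S := lt_of_le_of_ne (fun y hy => (mT.1 hy).1) fun e => hn fun x hx => (mT.1 (e ▸ hx)).2
  obtain ⟨x0, ⟨x0S, x0N⟩, x0T⟩ := SetLike.exists_of_lt (lt_inf_normalizer_of_pgroup hS.pgroup lt)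
  obtain ⟨j, xT, xx⟩ := H9.exists_pow_not_mem_pow_mem (p := 2) x0T (by
    obtain ⟨k, hk⟩ := hS.pgroup ⟨x0, x0S⟩
    exact ⟨k, by rw [show x0 ^ 2 ^ k = 1 from congrArg Subtype.val hk]; exact one_mem _⟩)
  have xS : x0 ^ 2 ^ j ∈ S := pow_mem x0S _
  have xN : x0 ^ 2 ^ j ∈ normalizer (T : Set X) := pow_mem x0N _
  generalize x0 ^ 2 ^ j = x at xT xx xS xN
  have tT : t ∈ T := mT.2 ⟨tS, Or.inl rfl⟩
  obtain ⟨t', ht'⟩ : ∃ t', t' = x * t * x⁻¹ := ⟨_, rfl⟩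
  have n' : NI z t' := ht' ▸ h.ni_conj ht x
  have tT' : t' ∈ T := ht' ▸ (mem_normalizer_iff.1 xN t).1 tT
  have an : t' * t = z * (t * t') := h.an_of ht n' (mT.1 tT').2 fun e => xT (mT.2 ⟨xS, h.pm_of_ap (ht' ▸ e)⟩)
  have pm' : ∀ u ∈ T, Pm z u t' := fun u hu => by
    have := h.pm_conj x (mT.1 ((mem_normalizer_iff''.1 xN u).1 hu)).2
    rwa [← ht', show x * (x⁻¹ * u * x) * x⁻¹ = u by group] at this
  have xt' : Ap z (x * t' * x⁻¹) t := by
    have := h.ap_of_pm (mT.1 xx).2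
    rwa [show x ^ 2 * t * (x ^ 2)⁻¹ = x * (x * t * x⁻¹) * x⁻¹ by rw [pow_two]; group, ← ht'] at this
  obtain ⟨Y, hY⟩ : ∃ Y, Y = T ⊓ (centralizer {t} ⊓ centralizer {t'}) := ⟨_, rfl⟩
  have mY : ∀ {y}, y ∈ Y ↔ y ∈ T ∧ y * t = t * y ∧ y * t' = t' * y := by
    intro y; rw [hY, mem_inf, mem_inf, mem_centralizer_singleton_iff, mem_centralizer_singleton_iff]
  by_cases hz : ∀ y ∈ Y, y = 1 ∨ y = z
  · refine h.not_max hS ht tS (mT.1 tT').1 an fun y hy e => ?_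
    have yT := mT.2 ⟨hy, Or.inl e⟩
    rcases pm' y yT with e' | e'
    · rcases hz y (mY.2 ⟨yT, e, e'⟩) with e | e
      · exact Or.inl e
      · exact Or.inr (Or.inl e)
    · have e3 : y = y * t * t := by rw [mul_assoc, ht.1, mul_one]
      rcases hz (y * t) (mY.2 ⟨mul_mem yT tT, cm_mul e rfl, h.aa e' (h.anti_symm an)⟩) with e | e <;> rw [e] at e3
      · exact Or.inr (Or.inr (Or.inl (by rw [e3, one_mul])))
      · exact Or.inr (Or.inr (Or.inr e3))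
  push Not at hz
  obtain ⟨y, yY, y1, yz⟩ := hz
  have hN : (zpowers z).Normal := ⟨fun n hn g => by
    rwa [mem_center_iff.1 (zpowers_le.2 h.zZ hn) g, mul_inv_cancel_right]⟩
  have mz : ∀ {u : X}, u ∈ zpowers z ↔ u = 1 ∨ u = z := H9.mem_zpowers_of_mul_self h.zz
  have PS : T ⊔ zpowers x ≤ S := sup_le lt.le (zpowers_le.2 xS)
  have PY : T ⊔ zpowers x ≤ normalizer (Y : Set X) := by
    refine sup_le (fun u hu => ?_) (zpowers_le.2 ?_) <;> refine mem_normalizer_of_cj_le ?_ <;>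
      rintro _ ⟨v, hv, rfl⟩ <;> obtain ⟨v1, v2, v3⟩ := mY.1 hv
    · exact mY.2 ⟨mul_mem (mul_mem hu v1) (inv_mem hu),
        h.ap_cm' (h.ap_symm (h.ap_of_pm (mT.1 hu).2)) (cm_conj u v2),
        h.ap_cm' (h.ap_symm (h.ap_of_pm (pm' u hu))) (cm_conj u v3)⟩
    · exact mY.2 ⟨(mem_normalizer_iff.1 xN v).1 v1, h.ap_cm' (h.ap_symm xt') (cm_conj x v3), ht' ▸ cm_conj x v2⟩
  obtain ⟨_, ⟨c, cY, rfl⟩, c2, cP, -⟩ := H9.exists_orderOf_centralized
    ((hS.pgroup.to_le PS).map (QuotientGroup.mk' (zpowers z)))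
    ((hS.pgroup.to_le (fun v hv => (mT.1 (mY.1 hv).1).1 : Y ≤ S)).map (QuotientGroup.mk' (zpowers z)))
    ((map_mono PY).trans (le_normalizer_map _)) (fun e => by
      have : QuotientGroup.mk' (zpowers z) y = 1 := mem_bot.1 (e ▸ mem_map_of_mem _ yY)
      exact (mz.1 ((QuotientGroup.eq_one_iff y).1 this)).elim y1 yz)
  obtain ⟨cT, ct, ct'⟩ := mY.1 cY
  have pc : ∀ u ∈ T ⊔ zpowers x, Pm z u c := fun u hu => by
    have : (c * u)⁻¹ * (u * c) = 1 ∨ (c * u)⁻¹ * (u * c) = z :=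
      mz.1 (QuotientGroup.eq.1 (cP _ (mem_map_of_mem _ hu)).symm)
    exact this.imp (fun e => (inv_mul_eq_one.1 e).symm) fun e => by rw [inv_mul_eq_iff_eq_mul.1 e, h.zr]
  have c1 : ¬ (c = 1 ∨ c = z) := fun e => H9.ne_one_of_orderOf_two c2 ((QuotientGroup.eq_one_iff c).2 (mz.2 e))
  have cc : c * c = z := by
    refine (mz.1 ((QuotientGroup.eq_one_iff _).1 (H9.mul_self_of_orderOf_two c2))).resolve_left fun e => ?_
    rcases h.f1 ht e ct with e | e | e | e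
    · exact c1 (Or.inl e)
    · exact c1 (Or.inr e)
    · exact h.not_ca ct' (h.ap_an (Or.inl e) (h.anti_symm an))
    · exact h.not_ca ct' (h.ap_an (Or.inr e) (h.anti_symm an))
  have nd : NI z (t * t' * c) := h.ni_of (by
    rw [sq_cm (cm_mul ct.symm ct'.symm), h.sq_an (h.anti_symm an), ht.1, n'.1, cc, mul_one, mul_one, h.zz])
    (h.ac (h.ca rfl an) ct)
  have le : T ⊔ zpowers x ≤ S ⊓ h.Cz (t * t' * c) := by
    refine le_inf PS (sup_le (fun u hu => h.pm_of_ap ?_) (zpowers_le.2 (h.pm_of_ap ?_)))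
    · have := h.ap_mul (h.ap_mul (h.ap_of_pm (mT.1 hu).2) (h.ap_of_pm (pm' u hu))) (h.ap_of_pm (pc u (mem_sup_left hu)))
      rwa [show u * t * u⁻¹ * (u * t' * u⁻¹) * (u * c * u⁻¹) = u * (t * t' * c) * u⁻¹ by group] at this
    · have := h.ap_mul (h.ap_trans (h.ap_mul (Or.inl ht'.symm) xt') (Or.inr an))
        (h.ap_of_pm (pc x (mem_sup_right (mem_zpowers x))))
      rwa [show x * t * x⁻¹ * (x * t' * x⁻¹) * (x * c * x⁻¹) = x * (t * t' * c) * x⁻¹ by group] at this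
  have h1 := hmax _ ⟨mul_mem (mul_mem tS (mT.1 tT').1) (mT.1 cT).1, nd⟩
  rw [← hT] at h1
  exact xT (eq_of_le_of_card_ge (le_sup_left.trans le) h1 ▸ le (mem_sup_right (mem_zpowers x)))

theorem exists_f0 {t0 : X} (h0 : NI z t0) : ∃ S t s, F0 z S t s := by
  obtain ⟨S, t, hS, ht, tS, nt⟩ := h.exists_nt h0
  obtain ⟨g, sS, hn⟩ := zs_syl h.hZ h.hs h.hna hS (x := t) (ht.1 ▸ one_mem _) (h.ni_nc ht)
  have hs := h.ni_conj ht g
  generalize g * t * g⁻¹ = s at sS hn hs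
  have st : s * t = z * (t * s) := h.an_of ht hs (nt s sS) fun e => hn (by
    rcases e with e | e <;> rw [e]
    · simpa using one_mem _
    · rw [h.zl, inv_mul_cancel, mul_one]; exact h.zZ)
  refine ⟨S, t, s, hS, ht, hs, tS, sS, st, nt, fun d hd => ?_⟩
  obtain ⟨P, rfl⟩ := hS.exists_sylow_top
  obtain ⟨e, he, hc⟩ := H6.thompson_transfer_sylow h.hi P (M := centralizer {t}) (H9.relIndex_eq_two_of sS
    (fun e => h.not_ca (mem_centralizer_singleton_iff.1 e) st) fun x hx e => mem_centralizer_singleton_iff.2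
      (h.aa ((nt x hx).resolve_left fun e' => e (mem_centralizer_singleton_iff.2 e')) st)) (t := d)
    (by rw [pow_two, hd.1])
  obtain ⟨k, rfl⟩ := isConj_iff.1 hc
  have hd' := h.ni_conj hd k
  rcases h.f1 ht hd'.1 (mem_centralizer_singleton_iff.1 he) with e | e | e | e
  · exact (hd'.2.1 e).elim
  · exact (hd'.2.2 e).elim
  · exact e ▸ hc
  · exact hc.trans (isConj_iff.2 ⟨s, by rw [e, h.zl, mul_assoc z, st, mul_assoc z, h.zzl, mul_inv_cancel_right]⟩)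

end PB

theorem F0.con_el (h : PB z) {S : Subgroup X} {t s : X} (f : F0 z S t s) (hc : ∀ c ∈ center X, c = 1 ∨ c = z)
    (sq : ∀ x ∈ S, x * x = 1 ∨ x * x = z) : False := by
  have := Fact.mk Nat.prime_two
  have := h.hs
  have h1 := f.syl.map (QuotientGroup.mk' (center X))
  rw [map_top_of_surjective _ (QuotientGroup.mk'_surjective _)] at h1
  have sq' : ∀ x ∈ S.map (QuotientGroup.mk' (center X)), x * x = 1 := by
    rintro _ ⟨x, hx, rfl⟩
    exact (mk_eq_one (x := x * x)).2 ((sq x hx).elim (fun e => e ▸ one_mem _) fun e => e ▸ h.zZ)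
  have ab : W.AB (X ⧸ center X) := fun P hP x hx y hy => by
    obtain ⟨g, hg⟩ := Clos.exists_cj_le h1 hP
    have e : ∀ x ∈ P, x⁻¹ = x := fun x hx => inv_eq_of_mul_eq_one_right (by
      have := sq' _ (hg (conj_mem_cj g hx))
      rwa [show g * x * g⁻¹ * (g * x * g⁻¹) = g * (x * x) * g⁻¹ by group, mul_inv_eq_one, mul_eq_left] at this)
    rw [← e _ (mul_mem hx hy), mul_inv_rev, e x hx, e y hy]
  have st2 : s * t * (s * t) = z := by rw [h.sq_an f.st, f.hs.1, f.ht.1, mul_one, mul_one]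
  obtain ⟨g, hg⟩ := isConj_iff.1 (H7.CI.one_class h.hna (W.walter h.hna ab)
    (a := QuotientGroup.mk t) (b := QuotientGroup.mk (s * t))
    ⟨(mk_eq_one (x := t * t)).2 (f.ht.1 ▸ one_mem _), fun e => h.ni_nc f.ht (mk_eq_one.1 e)⟩
    ⟨(mk_eq_one (x := s * t * (s * t))).2 (st2 ▸ h.zZ), fun e => h.not_ca (mem_center_iff.1 (mk_eq_one.1 e) t).symm (h.ac f.st rfl)⟩)
  obtain ⟨g, rfl⟩ := QuotientGroup.mk_surjective g
  have h2 := (h.ni_conj f.ht g).1
  have h3 : Ap z (s * t) (g * t * g⁻¹) := (hc ((g * t * g⁻¹)⁻¹ * (s * t)) (QuotientGroup.eq.1 hg)).imp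
    (fun e => (inv_mul_eq_one.1 e).symm) fun e => by rw [inv_mul_eq_iff_eq_mul.1 e, h.zr]
  rcases h3 with e | e <;> rw [e] at st2
  · exact h.z1 (st2.symm.trans h2)
  · rw [mul_assoc, h.zl, h.zzl] at st2; exact h.z1 (st2.symm.trans h2)

end Cfsg.Agent.WA.Gd
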