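import Cfsg.Agent.WA.GdI
import Cfsg.Agent.WA.GdF0
import Cfsg.Agent.WA.GdF1
import Cfsg.Agent.WA.GdF2

/-! Part B: there is no noncentral involution. -/

set_option autoImplicit false

namespace Cfsg.Agent.WA.Gd

open Subgroup Cfsg.Agent.H8

universe u v

variable {X : Type u} [Group X] [Finite X]

theorem Rp.no_refl {R : Type v} [Ring R] [Algebra ℚ R] (r : Rp X R) (hp : commutator X = ⊤)
    (hs : IsSimpleGroup (X ⧸ center X)) (hZ : IsPGroup 2 (center X)) {t : X} (ht : t * t = 1) :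
    t ∈ center X := by
  by_contra hc
  obtain ⟨z, h, ht⟩ := r.pb hp hZ hs (ncomm_of_perfect hp hs) ht hc
  obtain ⟨S, t, s, f⟩ := h.exists_f0 ht
  by_cases sq : ∀ x ∈ S, x * x = 1 ∨ x * x = z
  · refine f.con_el h (fun c hc => ?_) sq
    have cS := center_le_syl hZ f.syl hc
    exact (sq c cS).elim (h.ci c hc) fun e => absurd hc (C0.nz h ⟨f, cS, e, (mem_center_iff.1 hc t).symm,
      (mem_center_iff.1 hc s).symm, fun x _ => Or.inl (mem_center_iff.1 hc x)⟩)
  · obtain ⟨s, c, w, a, f⟩ := f.exists_bf h sq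
    exact f.con h

end Cfsg.Agent.WA.Gd
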