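import Cfsg.Agent.WA.Gd2
import Cfsg.Agent.WA.GdA
import Cfsg.Agent.WA.GdB
import Cfsg.Agent.WA.GdC
import Cfsg.Agent.S3099
import Cfsg.Agent.H1.F4
import Cfsg.Agent.H5.Constrained
import Cfsg.Agent.H7.ZStar

/-! Simple quotients of finite subgroups of rings of rank at most two. -/

set_option autoImplicit false

namespace Cfsg.Agent.WA.Gd

open Subgroup Cfsg.Agent.H8

universe u v w

variable {R : Type v} [Ring R] [Algebra ℚ R] {X : Type u} [Group X] [Finite X] {S : Type w} [Group S]

theorem RK.comm_sub (rk : RK R) (ρ : X →* R) (inj : Function.Injective ρ) (nt : (1 : R) ≠ 0)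
    {p : ℕ} [Fact p.Prime] (h2 : p ≠ 2) {P : Subgroup X} (hP : IsPGroup p P) : IsMulCommutative P :=
  ⟨⟨rk.odd_comm (ρ.comp P.subtype) (inj.comp P.subtype_injective) nt h2 hP⟩⟩

theorem Rp.quasi (r : Rp X R) (hp : commutator X = ⊤) (hs : IsSimpleGroup (X ⧸ center X))
    (hn : ¬ IsMulCommutative (X ⧸ center X)) : Concl (X ⧸ center X) := by
  have hZ : IsPGroup 2 (center X) := H5.isPGroup_of_forall_prime_order (fun x hx hpr => by
    by_contra h2
    haveI := Fact.mk hpr
    obtain ⟨P, hP⟩ := (H6.isPGroup_zpowers (p := orderOf x) (x := x) ⟨1, by simp⟩).exists_le_sylow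
    have := H6.eq_one_of_mem_commutator_of_comm P (r.rk.comm_sub r.ρ r.inj r.nt (fun e => h2 (e ▸ dvd_rfl)) P.2)
      (hP (mem_zpowers x)) (hp ▸ mem_top x) fun n _ => mem_center_iff.1 hx n
    rw [this, orderOf_one] at hpr
    exact Nat.not_prime_one hpr) two_ne_zero
  have hinv : ∀ t : X, t * t = 1 → r.ρ t = 1 ∨ r.ρ t = -1 := fun t ht => r.cen_inv (r.no_refl hp hs hZ ht) ht
  have d2 : 2 ∣ Nat.card X := (H5.two_dvd_card_of_simple hn).trans (card_quotient_dvd_card _)
  have hO : oddCore X = ⊥ := by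
    have h1 : oddCore X ≤ center X := by
      rcases hs.eq_bot_or_eq_top_of_normal ((oddCore X).map (QuotientGroup.mk' (center X)))
        (Normal.map inferInstance _ (QuotientGroup.mk'_surjective _)) with h | h
      · rwa [Subgroup.map_eq_bot_iff, QuotientGroup.ker_mk'] at h
      · refine absurd ((H5.two_dvd_card_of_simple hn).trans ?_) (L0.not_dvd_card_pPrimeCore (p := 2) (G := X))
        rw [← card_top, ← h]; exact card_map_dvd _ _
    obtain ⟨k, hk⟩ := (hZ.to_le h1).exists_card_eq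
    rcases k with _ | k
    · exact card_eq_one.1 hk
    · exact absurd (hk ▸ dvd_pow_self 2 k.succ_ne_zero) (L0.not_dvd_card_pPrimeCore (p := 2) (G := X))
  let e0 : X ⧸ oddCore X ≃* X := (QuotientGroup.quotientMulEquivOfEq hO).trans QuotientGroup.quotientBot
  let r' : Rp (X ⧸ oddCore X) R :=
    ⟨r.ρ.comp e0.toMonoidHom, r.inj.comp e0.injective, r.rk, r.nt, fun e he h => r.irr e he fun x => by
      simpa using h (e0.symm x)⟩
  rcases S3099.result ⟨hp⟩ (fun A _ hA => by
      have : Nat.card A ≤ ({1, -1} : Set R).ncard := by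
        rw [← Nat.card_coe_set_eq]
        exact Nat.card_le_card_of_injective (fun a : A => (⟨r.ρ a, hinv a (by rw [← pow_two, hA a a.2])⟩ :
          ({1, -1} : Set R))) fun a b h => Subtype.ext (r.inj (congrArg Subtype.val h))
      exact this.trans (by simpa using Set.ncard_insert_le (1 : R) {-1})) (even_iff_two_dvd.2 d2) with
    ⟨F, _, _, ho, h3, ⟨e⟩⟩ | h
  · obtain ⟨χ, hχ, hf, hz⟩ := r.exists_char
    obtain ⟨z, oz⟩ := exists_prime_orderOf_dvd_card' 2 d2
    have zz : z * z = 1 := by rw [← pow_two, ← oz, pow_orderOf_eq_one]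
    have rz : r.ρ z = -1 := (hinv z zz).resolve_left fun h => by
      rw [r.inj (h.trans (map_one r.ρ).symm), orderOf_one] at oz; omega
    exact ⟨F, inferInstance, inferInstance, sl2 ho h3 (e0.symm.trans e) hχ hf (hz z rz) zz,
      ⟨QuotientGroup.congr _ _ (e0.symm.trans e) (H1.map_center_eq _)⟩⟩
  · obtain ⟨χ, hχ, hf, -⟩ := r'.exists_char
    exact (a7 h hχ hf).elim

theorem Rp.core (r : Rp X R) [IsSimpleGroup S] (hS : ¬ IsMulCommutative S) (π : X →* S)
    (hπ : Function.Surjective π) (hm : ∀ Y : Subgroup X, Y.map π = ⊤ → Y = ⊤) : Concl S := by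
  haveI : Finite S := Finite.of_surjective π hπ
  have hp : commutator X = ⊤ := hm _ (by
    rw [commutator_def, map_commutator, map_top_of_surjective _ hπ]; exact H6.perfect_of_simple hS)
  by_cases h2 : ∃ P : Subgroup X, P.Normal ∧ IsPGroup 2 P ∧ ¬ P ≤ center X
  · obtain ⟨P, h1, h2, h3⟩ := h2
    obtain ⟨H, hH, h5⟩ := r.small hp h1 h2 h3
    exact concl_of_index hS (fun e => hH (hm H e))
      ((Nat.le_of_dvd (Nat.pos_of_ne_zero index_ne_zero_of_finite) (index_map_dvd H hπ)).trans h5)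
  push Not at h2
  have h1 : π.ker ≤ center X := by
    rw [← relIndex_eq_one]
    by_contra h
    obtain ⟨p, hpr, hd⟩ := Nat.exists_prime_and_dvd h
    haveI := Fact.mk hpr
    obtain ⟨P⟩ := (inferInstance : Nonempty (Sylow p π.ker))
    have hN : ((P : Subgroup π.ker).map π.ker.subtype).Normal := normalizer_eq_top_iff.1 (hm _ (by
      rw [← map_top_of_surjective _ hπ, ← Sylow.normalizer_sup_eq_top P, Subgroup.map_sup, map_ker_self, sup_bot_eq]))
    have hP : IsPGroup p ((P : Subgroup π.ker).map π.ker.subtype) := P.2.map _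
    have hc : (P : Subgroup π.ker).map π.ker.subtype ≤ center X := by
      by_cases e : p = 2
      · subst e; exact h2 _ hN hP
      · exact r.cen hp hP (r.rk.comm_sub r.ρ r.inj r.nt e hP)
    exact P.not_dvd_index (hd.trans (index_dvd_of_le (map_le_iff_le_comap.1 hc)))
  have h3 : center X = π.ker := le_antisymm (by
    rcases IsSimpleGroup.eq_bot_or_eq_top_of_normal ((center X).map π) (Normal.map inferInstance _ hπ) with h | h
    · exact (Subgroup.map_eq_bot_iff _).1 h
    · refine absurd ⟨⟨fun a b => ?_⟩⟩ hS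
      obtain ⟨a, rfl⟩ := hπ a
      obtain ⟨b, rfl⟩ := hπ b
      rw [← map_mul, ← map_mul, mem_center_iff.1 (hm _ h ▸ mem_top b : b ∈ center X)]) h1
  let e : X ⧸ center X ≃* S :=
    (QuotientGroup.quotientMulEquivOfEq h3).trans (QuotientGroup.quotientKerEquivOfSurjective π hπ)
  obtain ⟨F, _, _, h, ⟨e'⟩⟩ := r.quasi hp e.isSimpleGroup fun h => hS ⟨⟨fun a b => e.symm.injective (by
    rw [map_mul, map_mul, h.is_comm.comm])⟩⟩
  exact ⟨F, inferInstance, inferInstance, h, ⟨e.symm.trans e'⟩⟩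

theorem RK.concl (rk : RK R) (nt : (1 : R) ≠ 0) (ρ : X →* R) (inj : Function.Injective ρ) [IsSimpleGroup S]
    (hS : ¬ IsMulCommutative S) (π : X →* S) (hπ : Function.Surjective π) : Concl S := by
  obtain ⟨Y, -, hY, hmin⟩ := exists_minimal_le_of_wellFoundedLT (fun Y : Subgroup X => Y.map π = ⊤) ⊤
    (map_top_of_surjective _ hπ)
  have hπ' : Function.Surjective (π.comp Y.subtype) := fun s => by
    obtain ⟨y, hy, rfl⟩ : s ∈ Y.map π := hY ▸ mem_top s
    exact ⟨⟨y, hy⟩, rfl⟩
  have hm : ∀ W : Subgroup Y, W.map (π.comp Y.subtype) = ⊤ → W = ⊤ := fun W h => by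
    rw [← map_map] at h
    exact top_le_iff.1 fun y _ => by
      obtain ⟨w, hw, e⟩ := hmin h (map_subtype_le W) y.2
      rwa [← (Subtype.ext e : w = y)]
  have inj' : Function.Injective (ρ.comp Y.subtype) := inj.comp Y.subtype_injective
  generalize π.comp Y.subtype = π at *
  generalize ρ.comp Y.subtype = ρ at *
  by_cases hi : ∀ e : R, e * e = e → (∀ x, e * ρ x = ρ x * e) → e = 0 ∨ e = 1
  · exact Rp.core ⟨ρ, inj', rk, nt, hi⟩ hS π hπ' hm
  push Not at hi
  obtain ⟨e, ee, hc, e0, e1⟩ := hi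
  have key : ∀ e : R, e * e = e → e ≠ 0 → e ≠ 1 → (∀ x, e * ρ x = ρ x * e) → (∃ x, ρ x * e ≠ e) → Concl S := by
    intro e ee e0 e1 hc ⟨x, hx⟩
    obtain ⟨K, hN, hK, R', _, _, σ, inj', nt', h'⟩ := rk.exists_corner ρ ee e0 e1 hc
    have h1 : K ≤ π.ker := (Subgroup.map_eq_bot_iff _).1
      ((IsSimpleGroup.eq_bot_or_eq_top_of_normal (K.map π) (hN.map _ hπ')).resolve_right fun h =>
        hx ((hK x).1 (hm K h ▸ mem_top x)))
    have hl : (QuotientGroup.lift K π h1).comp (QuotientGroup.mk' K) = π := rfl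
    refine Rp.core ⟨σ, inj', fun f a b hf f1 _ => Or.inl ?_, nt', fun f hf _ => h' f hf⟩ hS
      (QuotientGroup.lift K π h1) (fun s => (hπ' s).elim fun y hy => ⟨y, hy⟩) fun W hW => ?_
    · rw [(h' f hf).resolve_right f1, mul_zero]
    · have := hm (W.comap (QuotientGroup.mk' K)) (by
        rw [← hl, ← map_map, map_comap_eq_self_of_surjective (QuotientGroup.mk'_surjective K), hW])
      rw [← map_comap_eq_self_of_surjective (QuotientGroup.mk'_surjective K) W, this,
        map_top_of_surjective _ (QuotientGroup.mk'_surjective K)]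
  obtain ⟨s, hs⟩ := exists_ne (1 : S)
  obtain ⟨x, rfl⟩ := hπ' s
  by_cases hx : ρ x * e = e
  · refine key (1 - e) (idem_compl ee) (fun h => e1 (sub_eq_zero.1 h).symm) (by simpa using e0)
      (fun x => by rw [sub_mul, mul_sub, hc]; simp) ⟨x, fun h => hs ?_⟩
    rw [mul_sub, hx, mul_one, sub_left_inj, ← map_one ρ] at h
    rw [inj' h, map_one]
  · exact key e ee e0 e1 hc ⟨x, hx⟩

theorem RK.not_simple (rk : RK R) (ρ : X →* R) (inj : Function.Injective ρ) [IsSimpleGroup X]
    (hS : ¬ IsMulCommutative X) : False := by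
  have d2 := H5.two_dvd_card_of_simple hS
  obtain ⟨t, ot⟩ := exists_prime_orderOf_dvd_card' 2 d2
  have tt : t * t = 1 := by rw [← pow_two, ← ot, pow_orderOf_eq_one]
  have t1 : t ≠ 1 := fun h => by rw [h, orderOf_one] at ot; omega
  have hc : ∀ c ∈ center X, c = 1 := fun c hc => by
    rcases IsSimpleGroup.eq_bot_or_eq_top_of_normal (center X) inferInstance with h | h
    · rwa [h, mem_bot] at hc
    · exact absurd ⟨⟨fun a b => mem_center_iff.1 (h ▸ mem_top b : b ∈ center X) a⟩⟩ hS
  have hm : ∀ c, ρ c = -1 → c = 1 := fun c h => hc c (mem_center_iff.2 fun g => inj (by simp [h]))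
  have hO : pPrimeCore 2 X = ⊥ := (IsSimpleGroup.eq_bot_or_eq_top_of_normal _ inferInstance).resolve_right
    fun h => L0.pPrimeCore_eq_top_iff.1 h d2
  refine t1 (hc t (mem_center_iff.2 fun g => ?_))
  have := H7.zstar_commute tt (fun g h => by
    have c1 : g * t * g⁻¹ ≠ 1 := by simpa [mul_inv_eq_iff_eq_mul] using t1
    rcases rk.sq_cases (t := ρ t) (d := ρ (g * t * g⁻¹)) (by rw [← map_mul, tt, map_one])
      (fun e => t1 (inj (e.trans (map_one ρ).symm))) (fun e => t1 (hm t e))
      (by rw [← map_mul, conj_mul, tt]; simp) (by rw [← map_mul, h.eq, map_mul]) with e | e | e | e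
    · exact absurd (inj (e.trans (map_one ρ).symm)) c1
    · exact absurd (hm _ e) c1
    · exact inj e
    · have := hm (g * t * g⁻¹ * t) (by rw [map_mul, e, neg_mul, ← map_mul, tt, map_one])
      rw [eq_inv_of_mul_eq_one_left this, inv_eq_of_mul_eq_one_left tt]) g
  rw [hO, mem_bot, commutatorElement_eq_one_iff_mul_comm] at this
  exact this.symm

theorem main {D : Type v} [DivisionRing D] [CharZero D] (G : Subgroup (Matrix (Fin 2) (Fin 2) D)ˣ) [Finite G]
    (N : Subgroup G) [N.Normal] (hS : IsSimpleGroup (G ⧸ N)) (hna : ¬ IsMulCommutative (G ⧸ N)) :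
    Concl (G ⧸ N) ∧ N ≠ ⊥ := by
  have inj : Function.Injective ((Units.coeHom _).comp G.subtype) := Units.val_injective.comp G.subtype_injective
  refine ⟨rk_mat.concl (fun h => one_ne_zero (α := D) (by simpa using congrFun (congrFun h 0) 0)) _ inj hna _ (QuotientGroup.mk'_surjective N), fun h => ?_⟩
  let e : G ⧸ N ≃* G := (QuotientGroup.quotientMulEquivOfEq h).trans QuotientGroup.quotientBot
  haveI := e.symm.isSimpleGroup
  exact rk_mat.not_simple _ inj fun h => hna ⟨⟨fun a b => e.injective (by rw [map_mul, map_mul, h.is_comm.comm])⟩⟩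

end Cfsg.Agent.WA.Gd
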