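import Cfsg.Agent.WA.YaX0
import Cfsg.Agent.H9.F4
import Cfsg.Agent.H9.BSW2
import Cfsg.Agent.S0984
import Cfsg.Agent.S0991

/-! S3298: the cross relation, from the centralizer of `W(D₃)`. -/

set_option autoImplicit false
set_option linter.unusedSectionVars false

namespace Cfsg.Agent.WA.YaX

open Subgroup Cfsg.Agent.H8

/-- the configuration inside the centralizer of `W(D₃)` -/
structure XH {Y : Type*} [Group Y] (y a e t s z : Y) : Prop where
  y1 : y ≠ 1
  y2 : y * y = 1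
  a2 : a * a = 1
  e2 : e * e = 1
  s2 : s * s = 1
  z2 : z * z = 1
  ae : a * e * (a * e) = y
  t3 : t ^ 3 = 1
  ty : t * y * t⁻¹ = a
  ta : t * a * t⁻¹ = y * a
  sy : s * y * s = e
  se : s * (e * y) = e * y * s
  et : e * t * e * t = 1
  sa : (s * a) ^ 3 = 1
  za : z * a = a * z
  ze : z * e = e * z
  zt : z * t = t * z
  zs : z * s * z = s * (e * y)
  n1 : ¬ IsConj (y * z) y
  n2 : ¬ IsConj (y * z) z
  F1 : ∀ g, g * (y * z) = y * z * g → g * y = y * g → g ∈ closure ({a, e, z} : Set Y)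
  F2 : ∀ x, Odd (orderOf x) → x * (y * z) = y * z * x → x * a = a * x → x = 1
  F3 : ∀ g, g * (y * z) = y * z * g → g * y * g⁻¹ * y = y * (g * y * g⁻¹)
  O1 : ∀ x, Odd (orderOf x) → y * z * x * (y * z)⁻¹ = x⁻¹ → x * a = a * x → x * e = e * x → x = 1

theorem odd_four {Y : Type*} [Group Y] {x : Y} (h : Odd (orderOf x)) (h4 : x ^ 4 = 1) : x = 1 := by
  have h1 : (orderOf x).Coprime (2 ^ 2) := Nat.Coprime.pow_right 2 (Nat.coprime_two_right.2 h)
  exact orderOf_eq_one_iff.1 (h1.eq_one_of_dvd (orderOf_dvd_of_pow_eq_one h4))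

theorem odd_of_mem {Y : Type*} [Group Y] [Finite Y] {N : Subgroup Y} (hN : ¬ 2 ∣ Nat.card N) {x : Y} (hx : x ∈ N) :
    Odd (orderOf x) :=
  Nat.not_even_iff_odd.1 fun e => hN (e.two_dvd.trans (orderOf_dvd_natCard N hx))

namespace XH

variable {Y : Type*} [Group Y] {y a e t s z : Y} (h : XH y a e t s z)
include h

theorem aa (x : Y) : a * (a * x) = x := by rw [← mul_assoc, h.a2, one_mul]
theorem ee (x : Y) : e * (e * x) = x := by rw [← mul_assoc, h.e2, one_mul]
theorem yy (x : Y) : y * (y * x) = x := by rw [← mul_assoc, h.y2, one_mul]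
theorem zz (x : Y) : z * (z * x) = x := by rw [← mul_assoc, h.z2, one_mul]
theorem ai : a⁻¹ = a := inv_eq_of_mul_eq_one_right h.a2
theorem ei : e⁻¹ = e := inv_eq_of_mul_eq_one_right h.e2
theorem yi : y⁻¹ = y := inv_eq_of_mul_eq_one_right h.y2
theorem zi : z⁻¹ = z := inv_eq_of_mul_eq_one_right h.z2
theorem si : s⁻¹ = s := inv_eq_of_mul_eq_one_right h.s2
theorem y' : y = e * (a * (e * a)) := by
  rw [← h.yi, ← h.ae]; simp only [mul_inv_rev, h.ai, h.ei, mul_assoc]
theorem ay : a * y = y * a := by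
  have h1 : a * y = e * (a * e) := by rw [← h.ae]; simp only [mul_assoc, h.aa]
  have h2 : y * a = e * (a * e) := by rw [h.y']; simp only [mul_assoc, h.a2, mul_one]
  rw [h1, h2]
theorem ey : e * y = y * e := by
  have h1 : e * y = a * (e * a) := by rw [h.y', h.ee]
  have h2 : y * e = a * (e * a) := by rw [← h.ae]; simp only [mul_assoc, h.e2, mul_one]
  rw [h1, h2]
theorem ea : e * a = y * (a * e) := by
  rw [h.y']; simp only [mul_assoc, h.aa, h.e2, mul_one]
theorem zy : z * y = y * z := by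
  rw [← h.ae]
  exact ((Commute.mul_right h.za h.ze).mul_right (Commute.mul_right h.za h.ze)).eq
theorem ay' (x : Y) : a * (y * x) = y * (a * x) := by rw [← mul_assoc, h.ay, mul_assoc]
theorem ey' (x : Y) : e * (y * x) = y * (e * x) := by rw [← mul_assoc, h.ey, mul_assoc]
theorem ea' (x : Y) : e * (a * x) = y * (a * (e * x)) := by rw [← mul_assoc, h.ea]; simp only [mul_assoc]
theorem zy' (x : Y) : z * (y * x) = y * (z * x) := by rw [← mul_assoc, h.zy, mul_assoc]
theorem za' (x : Y) : z * (a * x) = a * (z * x) := by rw [← mul_assoc, h.za, mul_assoc]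
theorem ze' (x : Y) : z * (e * x) = e * (z * x) := by rw [← mul_assoc, h.ze, mul_assoc]

local macro "xn" h:term : tactic => `(tactic| simp only [mul_assoc, mul_one, one_mul, mul_inv_rev, XH.aa $h, XH.ee $h, XH.yy $h,
  XH.zz $h, XH.ai $h, XH.ei $h, XH.yi $h, XH.zi $h, XH.ay $h, XH.ey $h, XH.ea $h, XH.zy $h, XH.ay' $h, XH.ey' $h,
  XH.ea' $h, XH.zy' $h, XH.za' $h, XH.ze' $h, XH.a2 $h, XH.e2 $h, XH.y2 $h, XH.z2 $h, XH.za $h, XH.ze $h,
  true_or, or_true, and_self, and_true])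

omit h in
/-- the dihedral group -/
def D (a e : Y) : Subgroup Y := closure {a, e}

omit h in
theorem aD : a ∈ D a e := subset_closure (by simp)
omit h in
theorem eD : e ∈ D a e := subset_closure (by simp)
theorem yD : y ∈ D a e := h.ae ▸ mul_mem (mul_mem aD eD) (mul_mem aD eD)

theorem memD {g : Y} (hg : g ∈ D a e) :
    g = 1 ∨ g = y ∨ g = a ∨ g = y * a ∨ g = e ∨ g = y * e ∨ g = a * e ∨ g = y * (a * e) := by
  have k : ∀ x ∈ ({a, e} : Set Y), ∀ g, (g = 1 ∨ g = y ∨ g = a ∨ g = y * a ∨ g = e ∨ g = y * e ∨ g = a * e ∨ g = y * (a * e)) →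
      (x * g = 1 ∨ x * g = y ∨ x * g = a ∨ x * g = y * a ∨ x * g = e ∨ x * g = y * e ∨ x * g = a * e ∨
        x * g = y * (a * e)) := by
    rintro x (rfl | rfl) g (rfl | rfl | rfl | rfl | rfl | rfl | rfl | rfl) <;> xn h
  induction hg using closure_induction_left with
  | one => exact Or.inl rfl
  | mul_left x hx g _ ih => exact k x hx g ih
  | inv_mul_cancel x hx g _ ih =>
    have : x⁻¹ = x := by rcases hx with rfl | rfl; exacts [h.ai, h.ei]
    rw [this]; exact k x hx g ih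

theorem zD {d : Y} (hd : d ∈ D a e) : z * d = d * z := by
  rcases h.memD hd with rfl | rfl | rfl | rfl | rfl | rfl | rfl | rfl <;> xn h

theorem sqD {d : Y} (hd : d ∈ D a e) : d * d = 1 ∨ (d * d = y ∧ (d = a * e ∨ d = y * (a * e))) := by
  rcases h.memD hd with rfl | rfl | rfl | rfl | rfl | rfl | rfl | rfl <;> xn h

theorem ne_ae : a * e ≠ e * a := by
  intro h1
  rw [h.ea] at h1
  exact h.y1 (by simpa using h1)

theorem cenD {d : Y} (hd : d ∈ D a e) (h1 : d * a = a * d) (h2 : d * e = e * d) : d = 1 ∨ d = y := by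
  rcases h.memD hd with rfl | rfl | rfl | rfl | rfl | rfl | rfl | rfl
  · exact Or.inl rfl
  · exact Or.inr rfl
  all_goals exfalso; revert h1 h2; xn h; simp [h.y1]

theorem cenW {d : Y} (hd : d ∈ D a e) (h1 : d * (a * e) = a * e * d) : d ∈ zpowers (a * e) := by
  have hw := mem_zpowers (a * e)
  have hy : y ∈ zpowers (a * e) := h.ae ▸ mul_mem hw hw
  rcases h.memD hd with rfl | rfl | rfl | rfl | rfl | rfl | rfl | rfl
  · exact one_mem _
  · exact hy
  · exfalso; revert h1; xn h; simp [h.y1]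
  · exfalso; revert h1; xn h; simp [h.y1]
  · exfalso; revert h1; xn h; simp [h.y1]
  · exfalso; revert h1; xn h; simp [h.y1]
  · exact hw
  · exact mul_mem hy hw

theorem fus {K : Subgroup Y} (ha : a ∈ K) (ht : t ∈ K) (hs : s ∈ K) {d : Y} (hd : d ∈ D a e) (h1 : d ≠ 1)
    (h2 : d * d = 1) : ∃ k ∈ K, k * y * k⁻¹ = d := by
  rcases h.memD hd with rfl | rfl | rfl | rfl | rfl | rfl | rfl | rfl
  · exact absurd rfl h1
  · exact ⟨1, one_mem _, by simp⟩
  · exact ⟨t, ht, h.ty⟩
  · exact ⟨t * t, mul_mem ht ht, by rw [← h.ta, ← h.ty]; group⟩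
  · exact ⟨s, hs, by rw [h.si, h.sy]⟩
  · refine ⟨a * s, mul_mem ha hs, ?_⟩
    rw [mul_inv_rev, h.si, show a * s * y * (s * a⁻¹) = a * (s * y * s) * a⁻¹ by group, h.sy]
    xn h
  · exfalso; revert h2; xn h; simp [h.y1]
  · exfalso; revert h2; xn h; simp [h.y1]

omit h in
/-- the Sylow subgroup -/
def R (y z : Y) : Subgroup Y := centralizer {y * z} ⊓ centralizer {y}

omit h in
theorem mem_R {g : Y} : g ∈ R y z ↔ g * (y * z) = y * z * g ∧ g * y = y * g := by
  simp only [R, mem_inf, mem_centralizer_singleton_iff]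

theorem DR : D a e ≤ R y z := by
  intro d hd
  rw [mem_R]
  rcases h.memD hd with rfl | rfl | rfl | rfl | rfl | rfl | rfl | rfl <;> xn h

theorem zR : z ∈ R y z := by rw [mem_R]; xn h

theorem memR {g : Y} (hg : g ∈ R y z) : g ∈ D a e ∨ g * z ∈ D a e := by
  replace hg := h.F1 g (mem_R.1 hg).1 (mem_R.1 hg).2
  have k : ∀ x ∈ ({a, e, z} : Set Y), ∀ g, (g ∈ D a e ∨ g * z ∈ D a e) → (x * g ∈ D a e ∨ x * g * z ∈ D a e) := by
    rintro x (rfl | rfl | rfl) g (hg | hg)
    · exact Or.inl (mul_mem aD hg)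
    · exact Or.inr (by rw [mul_assoc]; exact mul_mem aD hg)
    · exact Or.inl (mul_mem eD hg)
    · exact Or.inr (by rw [mul_assoc]; exact mul_mem eD hg)
    · exact Or.inr (by rw [h.zD hg, mul_assoc, h.z2, mul_one]; exact hg)
    · refine Or.inl ?_
      have := h.zD hg
      rw [mul_assoc g, h.z2, mul_one, ← mul_assoc] at this
      have h2 : x * g = g * x := by
        calc x * g = x * g * x * x := by rw [mul_assoc (x * g), h.z2, mul_one]
          _ = g * x := by rw [this]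
      rw [h2]; exact hg
  induction hg using closure_induction_left with
  | one => exact Or.inl (one_mem _)
  | mul_left x hx g _ ih => exact k x hx g ih
  | inv_mul_cancel x hx g _ ih =>
    have : x⁻¹ = x := by rcases hx with rfl | rfl | rfl; exacts [h.ai, h.ei, h.zi]
    rw [this]; exact k x hx g ih

theorem sqR {g : Y} (hg : g ∈ R y z) : g * g = 1 ∨ g * g = y := by
  rcases h.memR hg with h1 | h1
  · exact (h.sqD h1).imp_right And.left
  · have h2 : g * z * (g * z) = g * g := by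
      rw [mul_assoc g z, h.zD h1, mul_assoc g z z, h.z2, mul_one]
    rw [← h2]
    exact (h.sqD h1).imp_right And.left

theorem R4 {g : Y} (hg : g ∈ R y z) : g ^ 4 = 1 := by
  rw [show g ^ 4 = g * g * (g * g) by simp only [pow_succ, pow_zero, one_mul, mul_assoc]]
  rcases h.sqR hg with h1 | h1 <;> rw [h1]
  · exact one_mul 1
  · exact h.y2

theorem al1 : y * z ≠ 1 := by
  intro h1
  have h2 : z = y := by rw [← h.yy z, h1, mul_one]
  have h3 : a = y := by rw [← h.ty, ← h2, ← h.zt, mul_inv_cancel_right]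
  have h4 := h.ne_ae
  rw [h3, h.ey] at h4
  exact h4 rfl

theorem al2 : y * z * (y * z) = 1 := by xn h

theorem NR {g : Y} (hg : g ∈ normalizer (R y z : Set Y)) : g ∈ R y z := by
  have n1 : ∀ x ∈ R y z, g * x * g⁻¹ ∈ R y z := fun x hx => (mem_normalizer_iff.1 hg x).1 hx
  have n2 : ∀ x ∈ R y z, g⁻¹ * x * g ∈ R y z := fun x hx => by
    simpa using (mem_normalizer_iff.1 (inv_mem hg) x).1 hx
  rw [mem_R]
  constructor
  · have hu := n1 _ (mul_mem (h.DR h.yD) h.zR)
    have hc : ∀ x ∈ R y z, g * (y * z) * g⁻¹ * x = x * (g * (y * z) * g⁻¹) := fun x hx => by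
      have := (mem_R.1 (n2 x hx)).1
      calc _ = g * (y * z * (g⁻¹ * x * g)) * g⁻¹ := by group
        _ = _ := by rw [← this]; group
    have ca := hc a (h.DR aD)
    have ce := hc e (h.DR eD)
    have ic : IsConj (y * z) (g * (y * z) * g⁻¹) := isConj_iff.2 ⟨g, rfl⟩
    rw [← mul_inv_eq_iff_eq_mul]
    have u1 : g * (y * z) * g⁻¹ ≠ 1 := fun e => h.al1 (conj_eq_one_iff.1 e)
    generalize g * (y * z) * g⁻¹ = u at *
    rcases h.memR hu with h1 | h1
    · rcases h.cenD h1 ca ce with h2 | h2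
      · exact absurd h2 u1
      · exact absurd (h2 ▸ ic) h.n1
    · rcases h.cenD h1 (by rw [mul_assoc, h.za, ← mul_assoc, ca, mul_assoc])
        (by rw [mul_assoc, h.ze, ← mul_assoc, ce, mul_assoc]) with h2 | h2
      · rw [mul_eq_one_iff_eq_inv, h.zi] at h2
        exact absurd (h2 ▸ ic) h.n2
      · rw [← h2, mul_assoc, h.z2, mul_one]
  · rcases h.sqR (n1 _ (h.DR (mul_mem aD eD))) with h1 | h1 <;> rw [conj_mul, h.ae] at h1
    · exact absurd (conj_eq_one_iff.1 h1) h.y1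
    · exact mul_inv_eq_iff_eq_mul.1 h1

theorem nD (g : Y) : g⁻¹ * (y * z) * g ∉ D a e := by
  intro hg
  obtain ⟨k, -, hk⟩ := h.fus (K := ⊤) trivial trivial trivial hg
    (fun e => h.al1 (by simpa using (conj_eq_one_iff (a := g⁻¹)).1 (by simpa using e)))
    (by rw [show g⁻¹ * (y * z) * g * (g⁻¹ * (y * z) * g) = g⁻¹ * (y * z * (y * z)) * g by group, h.al2]; group)
  exact h.n1 (isConj_iff.2 ⟨k⁻¹ * g⁻¹, by
    rw [show k⁻¹ * g⁻¹ * (y * z) * (k⁻¹ * g⁻¹)⁻¹ = k⁻¹ * (g⁻¹ * (y * z) * g) * k by group, ← hk]; group⟩)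

variable [Finite Y]

theorem sylR : IsSylowIn 2 (R y z) ⊤ := by
  haveI : Fact (Nat.Prime 2) := ⟨Nat.prime_two⟩
  exact IsSylowIn.of_normalizer le_top ⟨le_inf le_top le_normalizer, fun g => ⟨2, Subtype.ext (h.R4 g.2)⟩,
    fun Q hQ _ hle => le_antisymm (fun c hc => h.NR (hQ hc).2) hle⟩

theorem exists_K : ∃ K : Subgroup Y, K.index = 2 ∧ y * z ∉ K := by
  haveI : Fact (Nat.Prime 2) := ⟨Nat.prime_two⟩
  have zn : z ∉ D a e := fun hz => h.nD 1 (by simpa using mul_mem h.yD hz)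
  refine H6.exists_index_two_of_not_conj (H := R y z) (M := D a e) ?_ ?_ ⟨1, by rw [pow_one, pow_two, h.al2]⟩ h.nD ?_
  · have := h.sylR.not_dvd_relIndex
    rw [relIndex_top_right] at this
    exact Nat.not_even_iff_odd.1 fun e => this e.two_dvd
  · rw [relIndex_eq_two_iff]
    refine ⟨z, h.zR, fun b hb => ?_⟩
    rcases h.memR hb with h1 | h1
    · exact Or.inr ⟨h1, fun h2 => zn ((mul_mem_cancel_left h1).1 h2)⟩
    · exact Or.inl ⟨h1, fun h2 => zn ((mul_mem_cancel_left h2).1 h1)⟩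
  · intro k g hk _
    obtain ⟨k, rfl⟩ := Nat.exists_eq_succ_of_ne_zero hk.ne'
    rw [pow_succ', pow_mul, pow_two, h.al2]
    simp

section K

variable {K : Subgroup Y} (hK : K.index = 2) (hα : y * z ∉ K)
include hK

theorem yK : y ∈ K := h.ae ▸ mul_self_mem_of_index_two hK _
theorem tK : t ∈ K := by
  have := mul_self_mem_of_index_two hK (t * t)
  rwa [show t * t * (t * t) = t ^ 3 * t by simp only [pow_succ, pow_zero, one_mul, mul_assoc], h.t3, one_mul] at this
theorem aK : a ∈ K := h.ty ▸ (normal_of_index_eq_two hK).conj_mem _ (h.yK hK) t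
theorem eK : e ∈ K := by
  have := (normal_of_index_eq_two hK).conj_mem _ (h.yK hK) s
  rwa [h.si, h.sy] at this
theorem sK : s ∈ K := by
  have := mul_self_mem_of_index_two hK (s * a * (s * a))
  rw [show s * a * (s * a) * (s * a * (s * a)) = (s * a) ^ 3 * (s * a) by
    simp only [pow_succ, pow_zero, one_mul, mul_assoc], h.sa, one_mul] at this
  exact (mul_mem_cancel_right (h.aK hK)).1 this
theorem DK : D a e ≤ K := by
  rw [D, closure_le]
  rintro _ (rfl | rfl)
  exacts [h.aK hK, h.eK hK]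

include hα

theorem sylD : IsSylowIn 2 (D a e) K := by
  haveI : Fact (Nat.Prime 2) := ⟨Nat.prime_two⟩
  haveI := normal_of_index_eq_two hK
  have h1 := h.sylR.inf_of_le_normalizer (N := K) (by rw [normalizer_eq_top])
  have h2 : R y z ⊓ K = D a e := le_antisymm (fun g hg => (h.memR hg.1).resolve_right fun h3 =>
    hα (mul_mem (h.yK hK) ((mul_mem_cancel_left hg.2).1 (h.DK hK h3)))) (le_inf h.DR (h.DK hK))
  rwa [h2, top_inf_eq] at h1

theorem cenK {g : Y} (hg : g ∈ K) (hw : g * (a * e) = a * e * g) : g ∈ zpowers (a * e) := by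
  haveI : Fact (Nat.Prime 2) := ⟨Nat.prime_two⟩
  haveI := normal_of_index_eq_two hK
  set C : Subgroup Y := K ⊓ centralizer {a * e} with hC
  have mC : ∀ x, x ∈ C ↔ x ∈ K ∧ x * (a * e) = a * e * x := fun x => by
    rw [hC, mem_inf, mem_centralizer_singleton_iff]
  have nC : ∀ r, (r * (a * e) * r⁻¹ = a * e ∨ r * (a * e)⁻¹ * r⁻¹ = a * e) → r ∈ normalizer (C : Set Y) := by
    intro r hr
    refine mem_normalizer_of_cj_le ?_
    rintro _ ⟨x, hx, rfl⟩
    obtain ⟨h1, h2⟩ := (mC x).1 hx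
    refine (mC _).2 ⟨Normal.conj_mem inferInstance _ h1 r, ?_⟩
    change r * x * r⁻¹ * (a * e) = a * e * (r * x * r⁻¹)
    rcases hr with hr | hr <;> rw [← hr, conj_mul, conj_mul]
    · rw [h2]
    · rw [(Commute.inv_right h2).eq]
  have aC : a ∈ normalizer (C : Set Y) := nC a (Or.inr (by xn h))
  have eC : e ∈ normalizer (C : Set Y) := nC e (Or.inr (by xn h))
  have αC : y * z ∈ normalizer (C : Set Y) := nC _ (Or.inl (by xn h))
  have DC : D a e ≤ normalizer (C : Set Y) := by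
    rw [D, closure_le]
    rintro _ (rfl | rfl)
    exacts [aC, eC]
  have hO : pPrimeCore 2 C = ⊥ := by
    rw [← map_eq_bot_iff_of_injective _ C.subtype_injective, eq_bot_iff]
    have hn := L0.normalizer_le_normalizer_map_pPrimeCore (p := 2) C
    have ho : ¬ 2 ∣ Nat.card ((pPrimeCore 2 C).map C.subtype) := L0.not_dvd_card_map _ L0.not_dvd_card_pPrimeCore
    have hle : (pPrimeCore 2 C).map C.subtype ≤ C := map_subtype_le _
    generalize (pPrimeCore 2 C).map C.subtype = O at *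
    have cy : ∀ x ∈ O, x * y = y * x := fun x hx => by
      have := ((mC x).1 (hle hx)).2
      rw [← h.ae]
      exact (Commute.mul_right this this).eq
    have iv : ∀ x ∈ O, y * z * x * (y * z)⁻¹ = x⁻¹ := fun x hx =>
      H9.inverts_of_fpf (hn αC) h.al2 (fun g hg h1 => odd_four (odd_of_mem ho hg) (h.R4 (mem_R.2 ⟨h1, cy g hg⟩))) hx
    intro x hx
    have h1 : x * (a * x * a⁻¹)⁻¹ ∈ O := mul_mem hx (inv_mem ((mem_normalizer_iff.1 (hn aC) x).1 hx))
    have h2 : a * (x * (a * x * a⁻¹)⁻¹) * a⁻¹ = (x * (a * x * a⁻¹)⁻¹)⁻¹ := by xn h; rw [inv_inv]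
    have h3 := iv _ h1
    have h4 := cy _ h1
    have h5 := odd_of_mem ho h1
    have h6 : x * (a * x * a⁻¹)⁻¹ = 1 := by
      generalize x * (a * x * a⁻¹)⁻¹ = u at *
      have e1 : t * (a * (y * z)) * t⁻¹ = y * z := by
        calc _ = t * a * t⁻¹ * (t * y * t⁻¹) * (t * z * t⁻¹) := by group
          _ = _ := by rw [h.ta, h.ty, ← h.zt, mul_inv_cancel_right]; xn h
      have e2 : u * (a * (y * z)) = a * (y * z) * u := by
        rw [eq_comm, ← mul_inv_eq_iff_eq_mul]
        calc _ = a * (y * z * u * (y * z)⁻¹) * a⁻¹ := by group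
          _ = (a * u * a⁻¹)⁻¹ := by rw [h3]; group
          _ = u := by rw [h2, inv_inv]
      refine conj_eq_one_iff.1 (h.F2 (t * u * t⁻¹) (by rwa [← MulAut.conj_apply, MulEquiv.orderOf_eq]) ?_ ?_)
      · rw [← e1, conj_mul, conj_mul, e2]
      · rw [← h.ty, conj_mul, conj_mul, h4]
    have h7 : x * a = a * x := by
      rw [mul_inv_eq_one] at h6
      exact (mul_inv_eq_iff_eq_mul.1 h6.symm).symm
    refine h.O1 x (odd_of_mem ho hx) (iv x hx) h7 ?_
    have := ((mC x).1 (hle hx)).2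
    rw [← mul_assoc, h7, mul_assoc, mul_assoc, mul_right_inj] at this
    exact this
  have hP : IsSylowIn 2 (D a e ⊓ C) C := by
    have := ((h.sylD hK hα).of_le (le_inf (h.DK hK) DC) inf_le_left).inf_of_le_normalizer (N := C) inf_le_right
    rwa [show K ⊓ normalizer (C : Set Y) ⊓ C = C from inf_eq_right.2 (le_inf inf_le_left le_normalizer)] at this
  have hB := H6.hasNormalPComplement_of_normalizer_le_centralizer hP.toSylow (by
    intro n _
    rw [mem_centralizer_iff]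
    rintro ⟨x, hx⟩ hx'
    obtain ⟨k, hk⟩ := h.cenW (d := x) hx'.1 ((mC x).1 hx).2
    refine Subtype.ext ?_
    change x * n = n * x
    rw [← hk]
    exact (Commute.zpow_right ((mC _).1 n.2).2 k).eq.symm)
  obtain ⟨N, hN, h1, k, h2⟩ := H6.hasNormalPComplement_iff_exists.1 hB
  have h3 : N = ⊥ := eq_bot_iff.2 (hO ▸ L0.le_pPrimeCore' hN h1)
  rw [h3, index_bot] at h2
  have h4 := (h.sylD hK hα).le_of_le_normalizer (IsPGroup.of_card h2) inf_le_left DC
  exact h.cenW (h4 ((mC g).2 ⟨hg, hw⟩)) hw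

omit hK hα in
theorem odd_normal {M : Subgroup Y} [hM : M.Normal] (ho : ¬ 2 ∣ Nat.card M) : M = ⊥ := by
  have iv : ∀ x ∈ M, y * z * x * (y * z)⁻¹ = x⁻¹ := fun x hx =>
    H9.inverts_of_fpf (by rw [normalizer_eq_top]; trivial) h.al2 (fun g hg h1 => by
      have h2 : g * y * g⁻¹ * y ∈ M := by
        have := mul_mem hg (hM.conj_mem _ (inv_mem hg) y)
        rwa [h.yi, ← mul_assoc, ← mul_assoc] at this
      have h3 : g * y * g⁻¹ * y = 1 := odd_four (odd_of_mem ho h2) (by
        rw [show 4 = 2 * 2 from rfl, pow_mul, (show Commute (g * y * g⁻¹) y from h.F3 g h1).mul_pow, pow_two y, h.y2,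
          pow_two (g * y * g⁻¹), conj_mul, h.y2]
        simp)
      rw [mul_eq_one_iff_eq_inv, h.yi, mul_inv_eq_iff_eq_mul] at h3
      exact odd_four (odd_of_mem ho hg) (h.R4 (mem_R.2 ⟨h1, h3⟩))) hx
  have iv' : ∀ g, ∀ x ∈ M, g * (y * z) * g⁻¹ * x * (g * (y * z) * g⁻¹)⁻¹ = x⁻¹ := fun g x hx => by
    calc _ = g * (y * z * (g⁻¹ * x * g⁻¹⁻¹) * (y * z)⁻¹) * g⁻¹ := by group
      _ = _ := by rw [iv _ (hM.conj_mem x hx g⁻¹)]; group
  have e1 : t * (y * z) * t⁻¹ = a * z := by
    calc _ = t * y * t⁻¹ * (t * z * t⁻¹) := by group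
      _ = _ := by rw [h.ty, ← h.zt, mul_inv_cancel_right]
  have e2 : t * t * (y * z) * (t * t)⁻¹ = y * (a * z) := by
    calc _ = t * (t * (y * z) * t⁻¹) * t⁻¹ := by group
      _ = t * a * t⁻¹ * (t * z * t⁻¹) := by rw [e1]; group
      _ = _ := by rw [h.ta, ← h.zt, mul_inv_cancel_right, mul_assoc]
  have two : ∀ p q : Y, (∀ x ∈ M, p * x * p⁻¹ = x⁻¹) → (∀ x ∈ M, q * x * q⁻¹ = x⁻¹) → ∀ x ∈ M,
      x * (p * q) = p * q * x := fun p q hp hq x hx => by
    rw [eq_comm, ← mul_inv_eq_iff_eq_mul]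
    calc _ = p * (q * x * q⁻¹) * p⁻¹ := by group
      _ = _ := by rw [hq x hx, hp _ (inv_mem hx), inv_inv]
  have i1 := iv' t
  have i2 := iv' (t * t)
  rw [e1] at i1
  rw [e2] at i2
  have ca := two _ _ iv i2
  have cy := two _ _ i1 i2
  rw [show y * z * (y * (a * z)) = a by xn h] at ca
  rw [show a * z * (y * (a * z)) = y by xn h] at cy
  refine eq_bot_iff.2 fun x hx => h.O1 x (odd_of_mem ho hx) (iv x hx) (ca x hx) ?_
  have := cy _ (hM.conj_mem x hx s)
  rw [h.si] at this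
  rw [← h.sy]
  calc x * (s * y * s) = s * (s * x * s * y) * s := by simp only [← mul_assoc, h.s2, one_mul]
    _ = _ := by rw [this]; simp only [mul_assoc, h.s2, mul_one]

theorem NDK {n : Y} (hn : n ∈ K) (hD : n ∈ normalizer (D a e : Set Y)) : n ∈ D a e := by
  have zw : zpowers (a * e) ≤ D a e := zpowers_le.2 (mul_mem aD eD)
  rcases h.sqD ((mem_normalizer_iff.1 hD _).1 (mul_mem aD eD)) with h1 | ⟨-, h1 | h1⟩
  · rw [conj_mul, h.ae] at h1
    exact absurd (conj_eq_one_iff.1 h1) h.y1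
  · exact zw (h.cenK hK hα hn (mul_inv_eq_iff_eq_mul.1 h1))
  · refine (mul_mem_cancel_left aD).1 (zw (h.cenK hK hα (mul_mem (h.aK hK) hn) (mul_inv_eq_iff_eq_mul.1 ?_)))
    calc _ = a * (n * (a * e) * n⁻¹) * a⁻¹ := by group
      _ = _ := by rw [h1]; xn h

theorem simple : IsSimpleGroup K := by
  haveI : Fact (Nat.Prime 2) := ⟨Nat.prime_two⟩
  haveI := normal_of_index_eq_two hK
  haveI : Nontrivial K := ⟨⟨⟨y, h.yK hK⟩, 1, fun e => h.y1 (congrArg Subtype.val e)⟩⟩
  refine ⟨fun N hN => ?_⟩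
  by_cases h2 : 2 ∣ Nat.card N
  · right
    have hn : K ≤ normalizer ((N.map K.subtype : Subgroup Y) : Set Y) := fun k hk =>
      mem_normalizer_of_cj_le (by
        rintro _ ⟨_, ⟨x, hx, rfl⟩, rfl⟩
        exact ⟨_, hN.conj_mem x hx ⟨k, hk⟩, rfl⟩)
    have hle : N.map K.subtype ≤ K := map_subtype_le _
    rw [← card_map_of_injective K.subtype_injective] at h2
    suffices K ≤ N.map K.subtype from eq_top_iff.2 fun g _ => by
      obtain ⟨x, hx, e⟩ := this g.2
      rwa [← Subtype.ext e]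
    generalize N.map K.subtype = M at *
    have cj : ∀ k ∈ K, ∀ x ∈ M, k * x * k⁻¹ ∈ M := fun k hk x hx => (mem_normalizer_iff.1 (hn hk) x).1 hx
    have h3 := (h.sylD hK hα).inf_of_le_normalizer hn
    rw [inf_eq_right.2 hle] at h3
    obtain ⟨⟨d, hd, hd'⟩, d1⟩ := (ne_bot_iff_exists_ne_one.1 (h3.ne_bot h2))
    have hy : y ∈ M := by
      rcases h.sqD hd with h4 | ⟨h4, -⟩
      · obtain ⟨k, hk, e⟩ := h.fus (h.aK hK) (h.tK hK) (h.sK hK) hd (fun e => d1 (Subtype.ext e)) h4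
        have := cj _ (inv_mem hk) _ hd'
        rwa [← e, show k⁻¹ * (k * y * k⁻¹) * k⁻¹⁻¹ = y by group] at this
      · exact h4 ▸ mul_mem hd' hd'
    have hD : D a e ≤ M := by
      rw [D, closure_le]
      rintro _ (rfl | rfl)
      · exact h.ty ▸ cj _ (h.tK hK) _ hy
      · have := cj _ (h.sK hK) _ hy
        rwa [h.si, h.sy] at this
    intro g hg
    obtain ⟨k, hk, e⟩ := ((h.sylD hK hα).of_le hD hle).frattini (hn hg)
    exact (mul_mem_cancel_left hk).1 (hD (h.NDK hK hα (mul_mem (hle hk) hg) e))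
  · left
    have h3 := h.odd_normal (M := (pPrimeCore 2 K).map K.subtype) (L0.not_dvd_card_map _ L0.not_dvd_card_pPrimeCore)
    rw [map_eq_bot_iff_of_injective _ K.subtype_injective] at h3
    exact eq_bot_iff.2 (h3 ▸ L0.le_pPrimeCore' hN h2)

theorem embed : ∃ φ : K →* Equiv.Perm (Fin 7), Function.Injective φ := by
  haveI : Fact (Nat.Prime 2) := ⟨Nat.prime_two⟩
  haveI : Fact (Nat.Prime 3) := ⟨Nat.prime_three⟩
  haveI := h.simple hK hα
  have hna : ¬ IsMulCommutative K := fun c =>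
    h.ne_ae (congrArg Subtype.val (c.is_comm.comm ⟨a, h.aK hK⟩ ⟨e, h.eK hK⟩))
  have wK := mul_mem (h.aK hK) (h.eK hK)
  have w4 : orderOf (⟨a * e, wK⟩ : K) = 4 := by
    rw [← orderOf_coe]
    exact orderOf_eq_prime_pow (p := 2) (n := 1) (by rw [pow_one, pow_two, h.ae]; exact h.y1)
      (h.R4 (h.DR (mul_mem aD eD)))
  rcases H9.F3.four_main hna w4 (by
    rw [← w4, ← Nat.card_zpowers]
    refine card_le_of_le fun g hg => ?_
    obtain ⟨k, hk⟩ := h.cenK hK hα g.2 (congrArg Subtype.val (mem_centralizer_singleton_iff.1 hg))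
    exact ⟨k, Subtype.ext hk⟩) with ⟨⟨ω⟩⟩ | h1 | h1
  · exact ⟨(Equiv.Perm.viaEmbeddingHom (Fin.castLEEmb (by norm_num : 6 ≤ 7))).comp
      ((alternatingGroup (Fin 6)).subtype.comp ω.toMonoidHom),
      (Equiv.Perm.viaEmbeddingHom_injective _).comp (Subtype.val_injective.comp ω.injective)⟩
  · obtain ⟨ω⟩ := S0984.result h1
    exact ⟨(alternatingGroup (Fin 7)).subtype.comp ω.toMonoidHom, Subtype.val_injective.comp ω.injective⟩
  · set V : Subgroup Y := closure {y, a} with hV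
    have yV : y ∈ V := subset_closure (by simp)
    have aV : a ∈ V := subset_closure (by simp)
    have nV : ∀ g, g * y * g⁻¹ ∈ V → g * a * g⁻¹ ∈ V → g ∈ normalizer (V : Set Y) := fun g h1 h2 => by
      refine mem_normalizer_of_cj_le ?_
      rw [hV, cj, MonoidHom.map_closure, closure_le]
      rintro _ ⟨_, rfl | rfl, rfl⟩
      exacts [h1, h2]
    have hD : D a e ≤ normalizer (V : Set Y) := by
      rw [D, closure_le]
      rintro _ (rfl | rfl)
      · exact le_normalizer aV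
      · exact nV _ (by xn h; exact yV) (by xn h; exact mul_mem yV aV)
    have ht := nV t (h.ty ▸ aV) (h.ta ▸ mul_mem yV aV)
    have hs : s ∉ normalizer (V : Set Y) := fun hs => by
      have h2 := (mem_normalizer_iff.1 hs y).1 yV
      rw [h.si, h.sy] at h2
      have h3 : V ≤ centralizer {a} := by
        rw [hV, closure_le]
        rintro _ (rfl | rfl)
        · exact mem_centralizer_singleton_iff.2 h.ay.symm
        · exact mem_centralizer_singleton_iff.2 rfl
      exact h.ne_ae (mem_centralizer_singleton_iff.1 (h3 h2)).symm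
    set H : Subgroup K := (normalizer (V : Set Y)).subgroupOf K with hH
    have hT : H ≠ ⊤ := fun e => hs (show (⟨s, h.sK hK⟩ : K) ∈ H from e ▸ mem_top _)
    have c8 : 8 ∣ Nat.card H := by
      have h2 := (h.sylD hK hα).card_eq
      rw [h1, show (168 : ℕ).factorization 2 = 3 by
        rw [show 168 = 2 ^ 3 * 21 from rfl, Nat.factorization_mul (by norm_num) (by norm_num),
          Nat.prime_two.factorization_pow]
        simp [Nat.factorization_eq_zero_of_not_dvd]] at h2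
      have h3 := card_dvd_of_le (subgroupOf_mono K hD)
      rwa [Nat.card_congr (subgroupOfEquivOfLe (h.DK hK)).toEquiv, h2] at h3
    have c3 : 3 ∣ Nat.card H := by
      have t1 : t ≠ 1 := fun e => by
        have h2 := h.ty
        rw [e, one_mul, inv_one, mul_one] at h2
        exact h.ne_ae (by rw [← h2, h.ey])
      have h2 : orderOf (⟨t, h.tK hK⟩ : K) = 3 := by rw [← orderOf_coe]; exact orderOf_eq_prime h.t3 t1
      exact h2 ▸ orderOf_dvd_natCard H ht
    have hi : H.index = 7 := by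
      have h2 := H.index_mul_card
      obtain ⟨c, hc⟩ := Nat.Coprime.mul_dvd_of_dvd_of_dvd (by norm_num) c8 c3
      rw [h1, hc] at h2
      have h3 : H.index ∣ 7 := ⟨c, by linarith⟩
      exact ((Nat.dvd_prime (by norm_num)).1 h3).resolve_left fun e => hT (index_eq_one.1 e)
    have := S0991.result hna H hT
    rw [hi] at this
    obtain ⟨f, hf⟩ := this
    exact ⟨(alternatingGroup (Fin 7)).subtype.comp f, Subtype.val_injective.comp hf⟩

end K

theorem cross : (t * s) ^ 4 = 1 := by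
  haveI : Fact (Nat.Prime 2) := ⟨Nat.prime_two⟩
  obtain ⟨K, hK, hα⟩ := h.exists_K
  obtain ⟨φ, hφ⟩ := h.embed hK hα
  have e1 : z * (a * t * a * s) * z⁻¹ = a * t * a * (s * (e * y)) := by
    rw [← h.zs, h.zi]
    simp only [← mul_assoc]
    rw [h.za, mul_assoc a z, h.zt, ← mul_assoc, mul_assoc _ z a, h.za, ← mul_assoc]
  have := emb φ hφ (y := ⟨y, h.yK hK⟩) (a := ⟨a, h.aK hK⟩) (e := ⟨e, h.eK hK⟩) (t := ⟨t, h.tK hK⟩) (s := ⟨s, h.sK hK⟩)
    (by rw [← orderOf_coe]; exact orderOf_eq_prime (by rw [pow_two, h.y2]) h.y1)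
    (Subtype.ext h.t3) (Subtype.ext h.ty) (Subtype.ext h.ta) (Subtype.ext h.s2) (Subtype.ext h.sy) (Subtype.ext h.se)
    (Subtype.ext h.ae) (Subtype.ext h.et) (Subtype.ext h.sa) (by
      rw [Subtype.ext_iff, Subtype.ext_iff]
      change (a * t * a * s) ^ 3 = 1 ↔ (a * t * a * (s * (e * y))) ^ 3 = 1
      rw [← e1, conj_pow, conj_eq_one_iff])
  exact congrArg Subtype.val this

end XH

end Cfsg.Agent.WA.YaX
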