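import Cfsg.Agent.WA.YaCr0
import Cfsg.Agent.WA.YaX
import Cfsg.Agent.H7.ZStar

/-! Module YaCross (S3298): the cross relation. -/

set_option autoImplicit false

namespace Cfsg.Agent.WA.Ya

open Subgroup Equiv
open scoped commutatorElement

universe u

namespace Cr

theorem rels : y 0 1 * u = al ∧ y 0 1 * y 2 3 * y 4 5 = al ∧ y 0 1 ≠ 1 ∧ y 0 1 * y 0 1 = 1 ∧ a0 * a0 = 1 ∧
    y 0 2 * y 0 2 = 1 ∧ r 1 2 * r 1 2 = 1 ∧ u * u = 1 ∧ a0 * y 0 2 * (a0 * y 0 2) = y 0 1 ∧ y 0 1 * a0 = r 0 1 ∧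
    r 1 2 * y 0 1 * r 1 2 = y 0 2 ∧ r 1 2 * (y 0 2 * y 0 1) = y 0 2 * y 0 1 * r 1 2 ∧ (r 1 2 * a0) ^ 3 = 1 ∧
    u * a0 = a0 * u ∧ u * y 0 2 = y 0 2 * u ∧ u * r 1 2 * u = r 1 2 * (y 0 2 * y 0 1) ∧ al * al = 1 ∧
    y 2 3 * y 2 3 = 1 ∧ r 2 3 * r 2 3 = 1 ∧ r 2 3 * y 2 3 * (r 2 3 * y 2 3) = 1 ∧ y 1 2 * y 0 1 = y 0 1 * y 1 2 ∧
    y 0 2 * y 0 1 = y 0 1 * y 0 2 := by
  decide +kernel

theorem sups : al.support.card = 12 ∧ (y 0 1).support.card = 4 ∧ u.support.card = 8 ∧ (y 2 3).support.card = 4 ∧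
    (y 2 3 * y 0 1).support.card = 8 ∧ (y 2 3 * y 4 5).support.card = 8 ∧ (y 2 3 * k0).support.card = 4 := by
  decide +kernel

def L3 : List P := [y 4 5, r 4 5, y 3 4, r 3 4]
def L1 : List P := [y 4 5, r 4 5, y 0 1, r 0 1]
def hh : P := r 0 2 * r 1 3

theorem f31 : ∀ q ∈ L3, q ∈ H ∧ q 0 = 0 ∧ q 1 = 1 ∧ q 2 = 2 ∧ q 3 = 3 := by
  simp only [L3, List.forall_mem_cons, List.not_mem_nil, false_imp_iff, implies_true, and_true]
  refine ⟨?_, ?_, ?_, ?_⟩ <;> decide +kernel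
theorem f32 : ∀ q ∈ L3, ∀ p ∈ [y 0 1, a0, y 0 2, r 1 2, u], p * q = q * p := by
  simp only [L3, List.forall_mem_cons, List.not_mem_nil, false_imp_iff, implies_true, and_true]
  refine ⟨?_, ?_, ?_, ?_⟩ <;> decide +kernel
theorem f33 : u ∈ H ∧ u 0 = 0 ∧ u 1 = 1 ∧ u 2 = 2 ∧ u 3 = 3 := by decide +kernel
theorem f34 : ∀ q ∈ L1, q ∈ H ∧ (hh * q * hh) 0 = 0 ∧ (hh * q * hh) 1 = 1 ∧ (hh * q * hh) 2 = 2 ∧ (hh * q * hh) 3 = 3 := by
  simp only [L1, List.forall_mem_cons, List.not_mem_nil, false_imp_iff, implies_true, and_true]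
  refine ⟨?_, ?_, ?_, ?_⟩ <;> decide +kernel
theorem f35 : ∀ q ∈ k0 :: L1, q ∈ H ∧ ∀ p ∈ [y 2 3, r 2 3], p * q = q * p := by
  simp only [L1, List.forall_mem_cons, List.not_mem_nil, false_imp_iff, implies_true, and_true]
  refine ⟨?_, ?_, ?_, ?_, ?_⟩ <;> decide +kernel
theorem f36 : hh * hh = 1 ∧ hh * r 0 1 * hh = r 2 3 ∧ hh * y 0 1 * hh = y 2 3 ∧ hh * a0 * hh = r 2 3 * y 2 3 ∧
    y 0 1 * y 0 1 = 1 ∧ y 4 5 * y 4 5 = 1 ∧ k0 * k0 = 1 := by
  decide +kernel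

theorem f3 : (∀ q ∈ L3, q ∈ W4) ∧ (∀ q ∈ L3, ∀ p ∈ [y 0 1, a0, y 0 2, r 1 2, u], p * q = q * p) ∧ u ∈ W4 ∧
    (∀ q ∈ L1, q ∈ H ∧ hh⁻¹ * q * hh ∈ W4) ∧ (∀ q ∈ k0 :: L1, q ∈ H ∧ ∀ p ∈ [y 2 3, r 2 3], p * q = q * p) ∧
    hh * r 0 1 * hh⁻¹ = r 2 3 ∧ hh * y 0 1 * hh⁻¹ = y 2 3 ∧ hh * a0 * hh⁻¹ = r 2 3 * y 2 3 ∧
    (∀ q ∈ [y 0 1, y 4 5, k0], q ∈ k0 :: L1 ∧ q * q = 1) := by
  obtain ⟨h0, h1, h2, h3, h4, h5, h6⟩ := f36
  have hH : hh ∈ H := mems.2.2.2.2.2.2.2.2.2.2.2.2.2.2.2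
  rw [inv_eq_of_mul_eq_one_right h0]
  refine ⟨f31, f32, f33, fun q hq => ⟨(f34 q hq).1, mul_mem (mul_mem hH (f34 q hq).1) hH, (f34 q hq).2⟩, f35, h1, h2, h3,
    fun q hq => ?_⟩
  simp only [List.mem_cons, List.not_mem_nil, or_false] at hq
  rcases hq with rfl | rfl | rfl
  · exact ⟨by simp [L1], h4⟩
  · exact ⟨by simp [L1], h5⟩
  · exact ⟨by simp, h6⟩

variable {G : Type u} [Group G] (C : Ch G)

theorem fc {p q : P} (hp : p ∈ H) (hq : q ∈ H) : C.f p * C.f q = C.f q * C.f p ↔ p * q = q * p := by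
  rw [← C.mul _ _ hp hq, ← C.mul _ _ hq hp]
  exact ⟨C.ext (mul_mem hp hq) (mul_mem hq hp), fun h => by rw [h]⟩

theorem fpow {p : P} (hp : p ∈ H) (n : ℕ) : C.f (p ^ n) = C.f p ^ n := map_pow C.hom ⟨p, hp⟩ n

/-- the centralizer of the images of a list -/
def Cl (L : List P) : Subgroup G := centralizer (C.f '' {q | q ∈ L})

theorem mem_Cl {L : List P} {g : G} : g ∈ Cl C L ↔ ∀ q ∈ L, g * C.f q = C.f q * g := by
  rw [Cl, mem_centralizer_iff]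
  exact ⟨fun h q hq => (h _ ⟨q, hq, rfl⟩).symm, by rintro h _ ⟨q, hq, rfl⟩; exact (h q hq).symm⟩

theorem cX1 {g : G} (hg : g ∈ Cl C L1) (h : g * C.f (y 2 3) = C.f (y 2 3) * g) :
    ∃ p ∈ H, C.f p = g ∧ ∀ q ∈ L1, p * q = q * p := by
  obtain ⟨m1, -, -, -, m5, -, -, -, -, -, m11, -⟩ := mems
  rw [mem_Cl] at hg
  obtain ⟨p, hp, rfl⟩ := (C.cen g).1 (by
    rw [← rels.2.1, C.mul _ _ (mul_mem m5 m11) m1, C.mul _ _ m5 m11]
    exact ((Commute.mul_right (hg _ (by simp [L1])) h).mul_right (hg _ (by simp [L1]))).eq)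
  exact ⟨p, hp, rfl, fun q hq => (fc C hp (f3.2.2.2.1 q hq).1).1 (hg q hq)⟩

theorem sqX1 {g : G} (hg : g ∈ Cl C L1) (h : g * C.f (y 2 3) = C.f (y 2 3) * g) : g * g = 1 := by
  obtain ⟨p, hp, rfl, h1⟩ := cX1 C hg h
  rw [← C.mul _ _ hp hp, (M2 hp (h1 _ (by simp [L1])) (h1 _ (by simp [L1])) (h1 _ (by simp [L1]))
    (h1 _ (by simp [L1]))).1, C.one]

theorem odd_sq {x : G} (h : Odd (orderOf x)) (h2 : x * x = 1) : x = 1 :=
  YaX.odd_four h (by rw [show 4 = 2 * 2 from rfl, pow_mul, pow_two x, h2, one_pow])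

theorem o1 [Finite G] (h : C.W27) {x : G} (hx : C.X3 x) {c : G} (hc : c ∈ Cl C (k0 :: L1)) :
    c * C.f (y 2 3) = C.f (y 2 3) * c := by
  haveI : Fact (Nat.Prime 2) := ⟨Nat.prime_two⟩
  obtain ⟨m1, -, -, -, m5, m6, m7, -, -, m10, m11, m12, -, -, -, m16⟩ := mems
  obtain ⟨-, -, -, -, -, -, -, -, -, -, -, -, -, -, -, -, -, r1, r2, r3, -⟩ := rels
  obtain ⟨-, -, -, s1, s2, s3, s4⟩ := sups
  obtain ⟨-, -, -, g1, g2, g3, g4, g5, g6⟩ := f3
  have le : Cl C (k0 :: L1) ≤ Cl C L1 := fun g hg =>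
    (mem_Cl C).2 fun q hq => (mem_Cl C).1 hg q (List.mem_cons_of_mem _ hq)
  have inX : ∀ p ∈ [y 2 3, r 2 3], p ∈ H → C.f p ∈ Cl C (k0 :: L1) := fun p hp hp' =>
    (mem_Cl C).2 fun q hq => (fc C hp' (g2 q hq).1).2 ((g2 q hq).2 p hp)
  have yX := inX _ (by simp) m11
  have rX := inX _ (by simp) m12
  have τ2 : C.f (y 2 3) * C.f (y 2 3) = 1 := by rw [← C.mul _ _ m11 m11, r1, C.one]
  have hz := H7.zstar_commute_in τ2 yX (fun g hg hcm => by
    have w1 := mul_mem (mul_mem hg yX) (inv_mem hg)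
    obtain ⟨p, hp, e, h1⟩ := cX1 C (le w1) hcm.eq.symm
    obtain ⟨p2, hM⟩ := M2 hp (h1 _ (by simp [L1])) (h1 _ (by simp [L1])) (h1 _ (by simp [L1])) (h1 _ (by simp [L1]))
    have k : ∀ q ∈ [y 0 1, y 4 5, k0], (y 2 3 * q).support.card = (p * q).support.card := fun q hq => by
      obtain ⟨q1, q2⟩ := g6 q hq
      have qH := (g2 q q1).1
      have c1 : Commute (y 2 3) q := (g2 q q1).2 _ (by simp)
      have c2 : Commute p q := (fc C hp qH).1 (e ▸ (mem_Cl C).1 w1 q q1)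
      refine (h _ _ (mul_mem m11 qH) (mul_mem hp qH) (by rw [c1.symm.mul_mul_mul_comm, r1, q2, one_mul])
        (by rw [c2.symm.mul_mul_mul_comm, p2, q2, one_mul])).1 (isConj_iff.2 ⟨g, ?_⟩)
      rw [C.mul _ _ m11 qH, C.mul _ _ hp qH, e, ← conj_mul, (mem_Cl C).1 hg q q1, mul_inv_cancel_right]
    rw [← e, hM (by rw [← (h _ _ m11 hp r1 p2).1 (isConj_iff.2 ⟨g, e.symm⟩), s1]) (by rw [← k _ (by simp), s2])
      (by rw [← k _ (by simp), s3]) (by rw [← k _ (by simp), s4])]) hc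
  have hO : H7.opp 2 (Cl C (k0 :: L1)) = ⊥ := by
    have ho := H7.not_dvd_card_opp (p := 2) (Cl C (k0 :: L1))
    have hn := H7.le_normalizer_opp (p := 2) (Cl C (k0 :: L1))
    have hl := (H7.opp_le (p := 2) (Cl C (k0 :: L1))).trans le
    generalize H7.opp 2 (Cl C (k0 :: L1)) = O at *
    have t1 : C.f hh * x * (C.f hh)⁻¹ ∈ Cl C L1 := (mem_Cl C).2 fun q hq => by
      have h1 := hx.cW _ (g1 q hq).2
      have h2 := C.cj (inv_mem (show hh ∈ H from m16)) (g1 q hq).1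
      rw [inv_inv, C.inv (show hh ∈ H from m16), inv_inv] at h2
      rw [h2] at h1
      calc _ = C.f hh * (x * ((C.f hh)⁻¹ * C.f q * C.f hh)) * (C.f hh)⁻¹ := by group
        _ = _ := by rw [h1]; group
    have t2 : C.f hh * x * (C.f hh)⁻¹ * C.f (r 2 3) * (C.f hh * x * (C.f hh)⁻¹)⁻¹ = C.f (y 2 3) := by
      rw [← g3, ← g4, C.cj (show hh ∈ H from m16) m6, C.cj (show hh ∈ H from m16) m5, ← hx.cr]; group
    have t3 : C.f hh * x * (C.f hh)⁻¹ * C.f (y 2 3) * (C.f hh * x * (C.f hh)⁻¹)⁻¹ = C.f (r 2 3 * y 2 3) := by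
      rw [← g5, ← g4, C.cj (show hh ∈ H from m16) m7, C.cj (show hh ∈ H from m16) m5, a0, ← hx.cy]; group
    generalize C.f hh * x * (C.f hh)⁻¹ = t at *
    have i1 : ∀ g ∈ O, C.f (y 2 3) * g * (C.f (y 2 3))⁻¹ = g⁻¹ := fun g hg =>
      H9.inverts_of_fpf (hn yX) τ2 (fun d hd e => odd_sq (YaX.odd_of_mem ho hd) (sqX1 C (hl hd) e)) hg
    have i2 : ∀ g ∈ O, C.f (r 2 3) * g * (C.f (r 2 3))⁻¹ = g⁻¹ := fun g hg =>
      H9.inverts_of_fpf (hn rX) (by rw [← C.mul _ _ m12 m12, r2, C.one]) (fun d hd e => by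
        have := sqX1 C (mul_mem (mul_mem t1 (hl hd)) (inv_mem t1)) (by rw [← t2, conj_mul, conj_mul, e])
        rw [conj_mul, conj_eq_one_iff] at this
        exact odd_sq (YaX.odd_of_mem ho hd) this) hg
    have i3 : ∀ g ∈ O, C.f (r 2 3 * y 2 3) * g * (C.f (r 2 3 * y 2 3))⁻¹ = g⁻¹ := fun g hg =>
      H9.inverts_of_fpf (hn (by rw [C.mul _ _ m12 m11]; exact mul_mem rX yX))
        (by rw [← C.mul _ _ (mul_mem m12 m11) (mul_mem m12 m11), r3, C.one]) (fun d hd e => by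
        have := sqX1 C (mul_mem (mul_mem (inv_mem t1) (hl hd)) (inv_mem (inv_mem t1))) (by
          rw [← t3] at e
          calc _ = t⁻¹ * (d * (t * C.f (y 2 3) * t⁻¹)) * t := by group
            _ = _ := by rw [e]; group)
        rw [conj_mul, conj_eq_one_iff] at this
        exact odd_sq (YaX.odd_of_mem ho hd) this) hg
    refine eq_bot_iff.2 fun g hg => odd_sq (YaX.odd_of_mem ho hg) (mul_eq_one_iff_eq_inv.2 ?_)
    rw [← i3 g hg, C.mul _ _ m12 m11]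
    calc g = C.f (r 2 3) * (C.f (y 2 3) * g * (C.f (y 2 3))⁻¹) * (C.f (r 2 3))⁻¹ := by
          rw [i1 g hg, i2 _ (inv_mem hg), inv_inv]
      _ = _ := by group
  rw [hO, mem_bot, commutatorElement_eq_one_iff_mul_comm] at hz
  exact hz.symm

end Cr

open Cr in
theorem cross {G : Type u} [Group G] [Finite G] (C : Ch G) (h : C.W27) {x : G} (hx : C.X3 x) :
    (x * (C.f (r 1 2) * x * C.f (r 1 2))) ^ 2 = 1 := by
  obtain ⟨m1, m2, m3, m4, m5, m6, m7, m8, m9, m10, m11, m12, m13, m14, m15, -⟩ := mems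
  obtain ⟨r1, r2, r3, r4, r5, r6, r7, r8, r9, r10, r11, r12, r13, r14, r15, r16, r17, -, -, -, r18, r19⟩ := rels
  obtain ⟨s1, s2, s3, -⟩ := sups
  obtain ⟨g1, g2, g3, -⟩ := f3
  have inY : ∀ p ∈ [y 0 1, a0, y 0 2, r 1 2, u], p ∈ H → C.f p ∈ Cl C L3 := fun p hp hp' =>
    (mem_Cl C).2 fun q hq => (fc C hp' (g1 q hq).1).2 (g2 q hq p hp)
  have xY : x ∈ Cl C L3 := (mem_Cl C).2 fun q hq => hx.cW q (g1 q hq)
  have hal : C.f (y 0 1) * C.f u = C.f al := by rw [← C.mul _ _ m5 m13, r1]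
  have ch : ∀ g : Cl C L3, g.1 * (C.f (y 0 1) * C.f u) = C.f (y 0 1) * C.f u * g.1 → ∃ p ∈ H, C.f p = g.1 ∧
      (p * y 0 1 = y 0 1 * p → ∃ i j l : ℕ, p = (a0 * y 0 2) ^ i * a0 ^ j * u ^ l) ∧ (p * a0 = a0 * p → p ^ 4 = 1) ∧
      (p * y 0 1 = y 0 1 * p ∨ p * y 0 1 = y 0 2 * p ∨ p * y 0 1 = y 1 2 * p) := fun g e => by
    rw [hal] at e
    obtain ⟨p, hp, e'⟩ := (C.cen _).1 e
    have k : ∀ q ∈ L3, p * q = q * p := fun q hq => (fc C hp (g1 q hq).1).1 (e' ▸ (mem_Cl C).1 g.2 q hq)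
    exact ⟨p, hp, e', M1 hp (k _ (by simp [L3])) (k _ (by simp [L3])) (k _ (by simp [L3])) (k _ (by simp [L3]))⟩
  have sq : ∀ p ∈ H, p * p = 1 → C.f p * C.f p = 1 := fun p hp e => by rw [← C.mul _ _ hp hp, e, C.one]
  have X : YaX.XH (Y := Cl C L3) ⟨_, inY (y 0 1) (by simp) m5⟩ ⟨_, inY a0 (by simp) m7⟩ ⟨_, inY (y 0 2) (by simp) m8⟩
      ⟨x, xY⟩ ⟨_, inY (r 1 2) (by simp) m14⟩ ⟨_, inY u (by simp) m13⟩ :=
    { y1 := fun e => r3 (C.inj _ m5 (congrArg Subtype.val e))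
      y2 := Subtype.ext (sq _ m5 r4)
      a2 := Subtype.ext (sq _ m7 r5)
      e2 := Subtype.ext (sq _ m8 r6)
      s2 := Subtype.ext (sq _ m14 r7)
      z2 := Subtype.ext (sq _ m13 r8)
      ae := Subtype.ext (by
        change C.f a0 * C.f (y 0 2) * (C.f a0 * C.f (y 0 2)) = C.f (y 0 1)
        rw [← C.mul _ _ m7 m8, ← C.mul _ _ (mul_mem m7 m8) (mul_mem m7 m8), r9])
      t3 := Subtype.ext hx.x3
      ty := Subtype.ext hx.cy
      ta := Subtype.ext (by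
        change x * C.f a0 * x⁻¹ = C.f (y 0 1) * C.f a0
        rw [a0, C.mul _ _ m6 m5, ← conj_mul, hx.cr, hx.cy, C.mul _ _ m6 m5])
      sy := Subtype.ext (by
        change C.f (r 1 2) * C.f (y 0 1) * C.f (r 1 2) = C.f (y 0 2)
        rw [← C.mul _ _ m14 m5, ← C.mul _ _ (mul_mem m14 m5) m14, r11])
      se := Subtype.ext (by
        change C.f (r 1 2) * (C.f (y 0 2) * C.f (y 0 1)) = C.f (y 0 2) * C.f (y 0 1) * C.f (r 1 2)
        rw [← C.mul _ _ m8 m5]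
        exact (fc C m14 (mul_mem m8 m5)).2 r12)
      et := Subtype.ext (by
        change C.f (y 0 2) * x * C.f (y 0 2) * x = 1
        rw [hx.iv, inv_mul_cancel])
      sa := Subtype.ext (by
        change (C.f (r 1 2) * C.f a0) ^ 3 = 1
        rw [← C.mul _ _ m14 m7, ← fpow C (mul_mem m14 m7), r13, C.one])
      za := Subtype.ext ((fc C m13 m7).2 r14)
      ze := Subtype.ext ((fc C m13 m8).2 r15)
      zt := Subtype.ext (hx.cW u g3).symm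
      zs := Subtype.ext (by
        change C.f u * C.f (r 1 2) * C.f u = C.f (r 1 2) * (C.f (y 0 2) * C.f (y 0 1))
        rw [← C.mul _ _ m13 m14, ← C.mul _ _ (mul_mem m13 m14) m13, r16, C.mul _ _ m14 (mul_mem m8 m5), C.mul _ _ m8 m5])
      n1 := fun e => by
        have e1 : IsConj (C.f (y 0 1) * C.f u) (C.f (y 0 1)) := (Cl C L3).subtype.map_isConj e
        rw [hal, h _ _ m15 m5 r17 r4, s1, s2] at e1
        omega
      n2 := fun e => by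
        have e1 : IsConj (C.f (y 0 1) * C.f u) (C.f u) := (Cl C L3).subtype.map_isConj e
        rw [hal, h _ _ m15 m13 r17 r8, s1, s3] at e1
        omega
      F1 := fun g e1 e2 => by
        obtain ⟨p, hp, e, k, -⟩ := ch g (congrArg Subtype.val e1)
        obtain ⟨i, j, l, rfl⟩ := k ((fc C hp m5).1 (e ▸ congrArg Subtype.val e2))
        rw [C.mul _ _ (mul_mem (pow_mem (mul_mem m7 m8) _) (pow_mem m7 _)) (pow_mem m13 _),
          C.mul _ _ (pow_mem (mul_mem m7 m8) _) (pow_mem m7 _), fpow C (mul_mem m7 m8), fpow C m7, fpow C m13,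
          C.mul _ _ m7 m8] at e
        have e3 : g = ((⟨_, inY a0 (by simp) m7⟩ : Cl C L3) * ⟨_, inY (y 0 2) (by simp) m8⟩) ^ i *
          ⟨_, inY a0 (by simp) m7⟩ ^ j * ⟨_, inY u (by simp) m13⟩ ^ l := Subtype.ext e.symm
        rw [e3]
        refine mul_mem (mul_mem (pow_mem (mul_mem ?_ ?_) _) (pow_mem ?_ _)) (pow_mem ?_ _) <;>
          exact subset_closure (by simp)
      F2 := fun g ho e1 e2 => by
        obtain ⟨p, hp, e, -, k, -⟩ := ch g (congrArg Subtype.val e1)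
        refine YaX.odd_four ho (Subtype.ext ?_)
        change g.1 ^ 4 = 1
        rw [← e, ← fpow C hp, k ((fc C hp m7).1 (e ▸ congrArg Subtype.val e2)), C.one]
      F3 := fun g e1 => by
        obtain ⟨p, hp, e, -, -, k⟩ := ch g (congrArg Subtype.val e1)
        refine Subtype.ext ?_
        change g.1 * C.f (y 0 1) * g.1⁻¹ * C.f (y 0 1) = C.f (y 0 1) * (g.1 * C.f (y 0 1) * g.1⁻¹)
        rw [← e, ← C.cj hp m5]
        refine (fc C (mul_mem (mul_mem hp m5) (inv_mem hp)) m5).2 ?_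
        rcases k with k | k | k <;> rw [k, mul_inv_cancel_right]
        exacts [r19, r18]
      O1 := fun g ho e1 e2 e3 => by
        have c1 : Commute g.1 (C.f a0) := congrArg Subtype.val e2
        have c2 : Commute g.1 (C.f (y 0 2)) := congrArg Subtype.val e3
        have k := (mem_Cl C).1 g.2
        have c3 : Commute g.1 (C.f (y 0 1)) := by
          rw [← r9, C.mul _ _ (mul_mem m7 m8) (mul_mem m7 m8), C.mul _ _ m7 m8]
          exact (c1.mul_right c2).mul_right (c1.mul_right c2)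
        have c4 : Commute g.1 (C.f (y 4 5)) := k _ (by simp [L3])
        have c5 : Commute g.1 (C.f (y 2 3)) := o1 C h hx ((mem_Cl C).2 fun q hq => by
          simp only [L1, List.mem_cons, List.not_mem_nil, or_false] at hq
          rcases hq with rfl | rfl | rfl | rfl | rfl
          · rw [k0, C.mul _ _ m8 m3]
            exact (c2.mul_right (k _ (by simp [L3]))).eq
          · exact c4
          · exact k _ (by simp [L3])
          · exact c3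
          · rw [← r10, C.mul _ _ m5 m7]
            exact (c3.mul_right c1).eq)
        have e4 : C.f (y 0 1) * C.f u * g.1 * (C.f (y 0 1) * C.f u)⁻¹ = g.1⁻¹ := congrArg Subtype.val e1
        rw [hal, ← r2, C.mul _ _ (mul_mem m5 m11) m1, C.mul _ _ m5 m11, ← ((c3.mul_right c5).mul_right c4).eq,
          mul_inv_cancel_right] at e4
        exact odd_sq ho (Subtype.ext (mul_eq_one_iff_eq_inv.2 e4)) }
  have e : (x * C.f (r 1 2)) ^ 4 = 1 := congrArg Subtype.val X.cross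
  rw [← e]
  simp only [pow_succ, pow_zero, one_mul, mul_assoc]

end Cfsg.Agent.WA.Ya
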