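import Cfsg.Agent.WA.AlDef
import Cfsg.Agent.H5.PBasic
import Mathlib.GroupTheory.Perm.ClosureSwap
import Mathlib.Algebra.Group.Pointwise.Set.Card

/-! S3218, module AlPres: Carmichael's presentation of the alternating groups, labels from transpositions. -/

set_option autoImplicit false

namespace Cfsg.Agent.WA.Al

open Subgroup Equiv
open scoped Pointwise

namespace Pres

theorem rel {H : Type*} [Group H] {r s : H} (hr : r ^ 3 = 1) (hs : s ^ 3 = 1) (h : (r * s) ^ 2 = 1) : r * s = s * s * (r * r) := by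
  rw [pow_three, ← mul_assoc] at hr hs
  rw [eq_inv_of_mul_eq_one_left hr, eq_inv_of_mul_eq_one_left hs, ← mul_inv_rev, eq_inv_iff_mul_eq_one, ← pow_two, h]

theorem bound {α H : Type*} [DecidableEq α] [Group H] (x : α → H) (Y : Finset α) (h3 : ∀ i ∈ Y, x i ^ 3 = 1)
    (h2 : ∀ i ∈ Y, ∀ j ∈ Y, i ≠ j → (x i * x j) ^ 2 = 1) :
    Finite (closure (x '' Y)) ∧ 2 * Nat.card (closure (x '' Y)) ≤ (Y.card + 2).factorial := by
  classical
  induction Y using Finset.induction_on with
  | empty => simp; infer_instance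
  | insert k Y hk ih =>
  obtain ⟨f, ih⟩ := ih (fun i hi => h3 i (by simp [hi])) fun i hi j hj => h2 i (by simp [hi]) j (by simp [hj])
  have m : ∀ i ∈ Y, x i ∈ closure (x '' Y) := fun i hi => subset_closure ⟨i, hi, rfl⟩
  have s3 := h3 k (by simp)
  have c3 : ∀ i ∈ insert k Y, ∀ y, x i * (x i * (x i * y)) = y := fun i hi y => by
    rw [← mul_assoc, ← mul_assoc, ← pow_three', h3 i hi, one_mul]
  have r : ∀ i ∈ insert k Y, ∀ j ∈ insert k Y, i ≠ j → ∀ y, x i * (x j * y) = x j * (x j * (x i * (x i * y))) := fun i hi j hj e y => by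
    rw [← mul_assoc, rel (h3 i hi) (h3 j hj) (h2 i hi j hj e)]; group
  let T : Finset H := insert 1 (insert (x k) (insert (x k * x k) (Y.image fun i => x i * (x k * x k))))
  have t0 : ∀ y ∈ closure (x '' Y), y ∈ (T : Set H) * closure (x '' Y) := fun y hy => ⟨1, by simp [T], y, hy, one_mul y⟩
  have t1 : ∀ y ∈ closure (x '' Y), x k * y ∈ (T : Set H) * closure (x '' Y) := fun y hy => ⟨_, by simp [T], y, hy, rfl⟩
  have t2 : ∀ y ∈ closure (x '' Y), x k * (x k * y) ∈ (T : Set H) * closure (x '' Y) := fun y hy => ⟨x k * x k, by simp [T], y, hy, mul_assoc _ _ _⟩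
  have t3 : ∀ i ∈ Y, ∀ y ∈ closure (x '' Y), x i * (x k * (x k * y)) ∈ (T : Set H) * closure (x '' Y) := fun i hi y hy =>
    ⟨x i * (x k * x k), by simp only [T, Finset.coe_insert, Finset.coe_image]; exact Or.inr (Or.inr (Or.inr ⟨i, hi, rfl⟩)), y, hy, by group⟩
  have hk' : k ∈ insert k Y := by simp
  have ne : ∀ i ∈ Y, i ≠ k := fun i hi e => hk (e ▸ hi)
  have step : ∀ j ∈ insert k Y, ∀ g ∈ (T : Set H) * closure (x '' Y), x j * g ∈ (T : Set H) * closure (x '' Y) := by
    rintro j hj _ ⟨t, ht, y, hy, rfl⟩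
    simp only [T, Finset.coe_insert, Finset.coe_image, Set.mem_insert_iff] at ht
    rcases ht with rfl | rfl | rfl | ⟨i, hi, rfl⟩ <;> rcases Finset.mem_insert.1 hj with rfl | hj' <;> simp only [mul_assoc, one_mul]
    · exact t1 y hy
    · exact t0 _ (mul_mem (m j hj') hy)
    · exact t2 y hy
    · rw [r j hj k hk' (ne j hj')]; exact t2 _ (mul_mem (m j hj') (mul_mem (m j hj') hy))
    · rw [c3 j hj]; exact t0 y hy
    · exact t3 j hj' y hy
    · have hi' : i ∈ insert j Y := Finset.mem_insert_of_mem hi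
      rw [r j hj i hi' (ne i hi).symm, c3 j hj, r i hi' j hj (ne i hi)]
      exact t3 i hi _ (mul_mem (m i hi) (mul_mem (m i hi) hy))
    have hi' : i ∈ insert k Y := Finset.mem_insert_of_mem hi
    by_cases e : j = i
    · rw [e, ← r k hk' i hi' (ne i hi).symm]; exact t1 _ (mul_mem (m i hi) hy)
    · rw [r j hj i hi' e, ← r k hk' j hj (ne j hj').symm, r i hi' k hk' (ne i hi)]
      exact t3 i hi _ (mul_mem (m i hi) (mul_mem (m i hi) (mul_mem (m j hj') hy)))
  have sub : (closure (x '' (insert k Y : Finset α)) : Set H) ⊆ (T : Set H) * closure (x '' Y) := fun g hg => by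
    induction hg using closure_induction_left with
    | one => exact t0 1 (one_mem _)
    | mul_left _ hx y _ ih => obtain ⟨j, hj, rfl⟩ := hx; exact step j hj y ih
    | inv_mul_cancel _ hx y _ ih =>
      obtain ⟨j, hj, rfl⟩ := hx
      rw [← c3 j hj y, inv_mul_cancel_left]; exact step j hj _ (step j hj y ih)
  have fin : ((T : Set H) * closure (x '' Y)).Finite := T.finite_toSet.mul f
  refine ⟨fin.subset sub, ?_⟩
  have c1 := (Nat.card_mono fin sub).trans Set.natCard_mul_le
  have c2 : T.card ≤ Y.card + 3 := (Finset.card_insert_le _ _).trans (Nat.succ_le_succ ((Finset.card_insert_le _ _).trans (Nat.succ_le_succ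
    ((Finset.card_insert_le _ _).trans (Nat.succ_le_succ Finset.card_image_le)))))
  rw [Nat.card_coe_set_eq (T : Set H), Set.ncard_coe_finset] at c1
  rw [Finset.card_insert_of_notMem hk, show Y.card + 1 + 2 = (Y.card + 2) + 1 by ring, Nat.factorial_succ]
  calc _ ≤ 2 * ((Y.card + 3) * Nat.card (closure (x '' Y))) := Nat.mul_le_mul_left 2 (c1.trans (Nat.mul_le_mul_right _ c2))
    _ = (Y.card + 3) * (2 * Nat.card (closure (x '' Y))) := by ring
    _ ≤ _ := Nat.mul_le_mul_left _ ih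

theorem sw1 {Z : Type} [DecidableEq Z] {g : Perm Z} (h : g.IsSwap) {p : Z} (hp : g p ≠ p) : g = swap p (g p) := by
  obtain ⟨u, v, -, rfl⟩ := h
  by_cases e : p = u
  · rw [e, swap_apply_left]
  by_cases e' : p = v
  · rw [e', swap_apply_right, swap_comm]
  exact absurd (swap_apply_of_ne_of_ne e e') hp

theorem sw2 {Z : Type} [DecidableEq Z] {g : Perm Z} {p q : Z} (h : g * swap p q ≠ swap p q * g) : g p ≠ p ∨ g q ≠ q := by
  by_contra! e
  exact h (by rw [mul_swap_eq_swap_mul, e.1, e.2])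

end Pres

open Pres

theorem closure_c3 {α : Type} [Fintype α] [DecidableEq α] {a b : α} (hab : a ≠ b) (Y : Finset α) (ha : a ∈ Y) (hb : b ∈ Y)
    {p : Alt α} (hp : p.1.support ⊆ Y) :
    p ∈ closure {q : Alt α | ∃ i, ∃ hi : a ≠ i, b ≠ i ∧ i ∈ Y ∧ q = c3 a b i hab hi} := by
  set K := closure {q : Alt α | ∃ i, ∃ hi : a ≠ i, b ≠ i ∧ i ∈ Y ∧ q = c3 a b i hab hi}
  have m : ∀ i ∈ Y, a ≠ i → b ≠ i → swap a i * swap a b ∈ K.map (alternatingGroup α).subtype := fun i hi h h' =>
    ⟨c3 a b i hab h, subset_closure ⟨i, h, h', hi, rfl⟩, rfl⟩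
  have n : swap a b ∈ normalizer (K.map (alternatingGroup α).subtype : Set (Perm α)) := by
    rw [MonoidHom.map_closure]
    refine H8.mem_normalizer_of_cj_le ((MonoidHom.map_closure _ _).le.trans ((closure_le _).2 ?_))
    rintro _ ⟨_, ⟨_, ⟨i, h, h', hi, rfl⟩, rfl⟩, rfl⟩
    have := inv_mem (m i hi h h')
    rw [MonoidHom.map_closure] at this
    simpa [c3, mul_assoc] using this
  have k : closure {g : Perm α | ∃ i ∈ Y, a ≠ i ∧ g = swap a i} ≤ K.map (alternatingGroup α).subtype ⊔ zpowers (swap a b) := (closure_le _).2 (by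
    rintro _ ⟨i, hi, h, rfl⟩
    by_cases e : b = i
    · exact e ▸ mem_sup_right (mem_zpowers _)
    · simpa using mul_mem (mem_sup_left (m i hi h e)) (mem_sup_right (mem_zpowers (swap a b))))
  have s : ∀ i ∈ Y, swap a i ∈ closure {g : Perm α | ∃ i ∈ Y, a ≠ i ∧ g = swap a i} := fun i hi => by
    by_cases e : a = i
    · rw [e, swap_self]; exact one_mem _
    · exact subset_closure ⟨i, hi, e, rfl⟩
  obtain ⟨_, ⟨w, hw, rfl⟩, j, e⟩ := (H5.mem_sup_zpowers n).1 (k ((mem_closure_isSwap (by rintro _ ⟨i, -, h, rfl⟩; exact ⟨a, i, h, rfl⟩)).2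
    ⟨Set.toFinite _, fun x => by
      by_cases e : p.1 x = x
      · rw [e]; exact MulAction.mem_orbit_self x
      · exact ⟨⟨_, mul_mem (s _ (hp (Perm.apply_mem_support.2 (Perm.mem_support.2 e)))) (s _ (hp (Perm.mem_support.2 e)))⟩, by simp⟩⟩))
  have t : ∀ j : ℤ, swap a b ^ (2 * j) = 1 := fun j => by rw [zpow_mul, zpow_two, swap_mul_self, one_zpow]
  rcases Int.even_or_odd' j with ⟨j, rfl | rfl⟩
  · rw [t, mul_one] at e
    exact Subtype.ext e ▸ hw
  · have := congrArg Perm.sign e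
    rw [zpow_add_one, t, one_mul, map_mul, Perm.sign_swap hab, Perm.mem_alternatingGroup.1 p.2,
      show Perm.sign ((alternatingGroup α).subtype w) = 1 from Perm.mem_alternatingGroup.1 w.2] at this
    exact absurd this (by decide)

theorem pres {α : Type} [Fintype α] [DecidableEq α] {H : Type*} [Group H] {a b : α} (hab : a ≠ b) (x : α → H)
    (h3 : ∀ i, a ≠ i → b ≠ i → x i ^ 3 = 1)
    (h2 : ∀ i j, a ≠ i → b ≠ i → a ≠ j → b ≠ j → i ≠ j → (x i * x j) ^ 2 = 1) :
    ∃ Φ : Alt α →* H, ∀ i (hi : a ≠ i), b ≠ i → Φ (c3 a b i hab hi) = x i := by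
  let X : α → H × Alt α := fun i => if hi : a ≠ i then (x i, c3 a b i hab hi) else 1
  have hX : ∀ i (hi : a ≠ i), X i = (x i, c3 a b i hab hi) := fun i hi => dif_pos hi
  have mY : ∀ i, i ∈ (Finset.univ.erase a).erase b ↔ a ≠ i ∧ b ≠ i := fun i => by simp [eq_comm, and_comm]
  obtain ⟨f, hc⟩ := bound X ((Finset.univ.erase a).erase b) (fun i hi => by
    obtain ⟨h, h'⟩ := (mY i).1 hi
    rw [hX i h]
    refine Prod.ext (h3 i h h') (Subtype.ext ?_)
    have := (Perm.isThreeCycle_swap_mul_swap_same h hab h'.symm).orderOf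
    exact this ▸ pow_orderOf_eq_one (swap a i * swap a b)) fun i hi j hj e => by
    obtain ⟨h, h'⟩ := (mY i).1 hi
    obtain ⟨k, k'⟩ := (mY j).1 hj
    rw [hX i h, hX j k]
    refine Prod.ext (h2 i j h h' k k' e) (Subtype.ext ?_)
    change (swap a i * swap a b * (swap a j * swap a b)) ^ 2 = 1
    rw [mul_assoc, ← mul_assoc (swap a b), swap_comm a j, swap_mul_swap_mul_swap k.symm k'.symm, pow_two, mul_assoc, ← mul_assoc (swap b j),
      mul_swap_eq_swap_mul (swap b j) a i, swap_apply_of_ne_of_ne hab k, swap_apply_of_ne_of_ne h'.symm e, mul_assoc, swap_mul_self, mul_one, swap_mul_self]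
  have := Nontrivial.mk ⟨a, b, hab⟩
  rw [Finset.card_erase_of_mem (by simpa using hab.symm), Finset.card_erase_of_mem (by simp), Finset.card_univ,
    show Fintype.card α - 1 - 1 + 2 = Fintype.card α by have := Fintype.one_lt_card (α := α); omega, ← Fintype.card_perm,
    ← Nat.card_eq_fintype_card, ← two_mul_nat_card_alternatingGroup] at hc
  let π := (MonoidHom.snd H (Alt α)).comp (closure (X '' ((Finset.univ.erase a).erase b : Finset α))).subtype
  have m : ∀ i (hi : a ≠ i), b ≠ i → (x i, c3 a b i hab hi) ∈ closure (X '' ((Finset.univ.erase a).erase b : Finset α)) := fun i h h' =>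
    subset_closure ⟨i, (mY i).2 ⟨h, h'⟩, hX i h⟩
  have hπ : Function.Bijective π := Function.Surjective.bijective_of_nat_card_le (fun p => (closure_le π.range).2 (by
    rintro _ ⟨i, h, h', -, rfl⟩
    exact ⟨⟨_, m i h h'⟩, rfl⟩) (closure_c3 hab Finset.univ (by simp) (by simp) (Finset.subset_univ _))) (Nat.le_of_mul_le_mul_left hc two_pos)
  refine ⟨((MonoidHom.fst H (Alt α)).comp (Subgroup.subtype _)).comp (MulEquiv.ofBijective π hπ).symm.toMonoidHom, fun i h h' => ?_⟩
  exact congrArg (fun y => y.1.1) ((MulEquiv.ofBijective π hπ).symm_apply_apply ⟨_, m i h h'⟩)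

theorem labs {Y Z : Type} [Fintype Y] [DecidableEq Y] [Fintype Z] [DecidableEq Z] (h2 : 2 ≤ Fintype.card Y)
    (f : Perm Y →* Perm Z) (hf : Function.Injective f) (hs : ∀ x y, x ≠ y → (f (swap x y)).IsSwap) :
    ∃ ι : Y ↪ Z, ∀ x y, x ≠ y → f (swap x y) = swap (ι x) (ι y) := by
  obtain ⟨x, y₁, h1⟩ := Fintype.exists_pair_of_one_lt_card h2
  have nc : ∀ y y', x ≠ y → x ≠ y' → y ≠ y' → f (swap x y) * f (swap x y') ≠ f (swap x y') * f (swap x y) := fun y y' h h' e k => by
    rw [← map_mul, ← map_mul] at k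
    have := DFunLike.congr_fun (hf k) x
    simp [swap_apply_of_ne_of_ne h.symm e, swap_apply_of_ne_of_ne h'.symm e.symm] at this
    exact e this.symm
  have cj : ∀ y y', x ≠ y → x ≠ y' → y ≠ y' → f (swap x y) * f (swap x y') * f (swap x y) = f (swap y y') := fun y y' h h' e => by
    rw [← map_mul, ← map_mul, swap_comm x y', swap_mul_swap_mul_swap h'.symm e.symm]
  obtain ⟨p, hp⟩ : ∃ p, ∀ y, x ≠ y → f (swap x y) p ≠ p := by
    obtain ⟨p, q, hpq, e⟩ := hs x y₁ h1
    by_contra! k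
    obtain ⟨y₂, h2, k2⟩ := k p
    obtain ⟨y₃, h3, k3⟩ := k q
    have n2 : y₂ ≠ y₁ := by rintro rfl; rw [e, swap_apply_left] at k2; exact hpq k2.symm
    have n3 : y₃ ≠ y₁ := by rintro rfl; rw [e, swap_apply_right] at k3; exact hpq k3
    have m2 := (sw2 (e ▸ nc _ _ h2 h1 n2)).resolve_left (not_not.2 k2)
    have m3 := (sw2 (e ▸ nc _ _ h3 h1 n3)).resolve_right (not_not.2 k3)
    have e2 := sw1 (hs _ _ h2) m2
    have e3 := sw1 (hs _ _ h3) m3
    have n23 : y₃ ≠ y₂ := by rintro rfl; exact m2 k3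
    have m4 := (sw2 (e2 ▸ nc _ _ h3 h2 n23)).resolve_left (not_not.2 k3)
    have r1 : f (swap x y₂) q ≠ p := fun e => hpq ((f (swap x y₂)).injective (k2.trans e.symm))
    have c := cj _ _ h1 h2 n2.symm
    generalize f (swap x y₂) q = r at e2 m2 m4 r1
    have r2 : r = f (swap x y₃) p := by_contra fun e => m4 (by rw [e3, swap_apply_of_ne_of_ne r1 e])
    rw [e, e2, swap_comm p q, swap_comm q r, swap_mul_swap_mul_swap m2 r1, r2, ← e3] at c
    have := DFunLike.congr_fun (hf c) x
    rw [swap_apply_left, swap_apply_of_ne_of_ne h1 h2] at this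
    exact h3 this.symm
  have e := fun y h => sw1 (hs x y h) (hp y h)
  have o : f (Equiv.refl Y) = 1 := map_one f
  have inj : Function.Injective fun y => f (swap x y) p := fun y y' k => by
    by_cases h : x = y <;> by_cases h' : x = y'
    · exact h.symm.trans h'
    · exact absurd (by simpa [← h, o] using k.symm) (hp y' h')
    · exact absurd (by simpa [← h', o] using k) (hp y h)
    · have := DFunLike.congr_fun (hf ((e y h).trans ((congrArg _ k).trans (e y' h').symm))) x
      simpa using this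
  refine ⟨⟨_, inj⟩, fun y y' k => ?_⟩
  change _ = swap (f (swap x y) p) (f (swap x y') p)
  by_cases h : x = y
  · subst h; simpa [o] using e y' k
  by_cases h' : x = y'
  · subst h'; rw [swap_comm, swap_comm (f _ p)]; simpa [o] using e y h
  rw [← cj y y' h h' k]
  nth_rw 1 [e y' h']
  nth_rw 1 2 [e y h]
  rw [swap_comm p (f (swap x y') p), swap_mul_swap_mul_swap (hp y' h') fun e => k (inj e).symm]

end Cfsg.Agent.WA.Al
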