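import Cfsg.Agent.WA.YaO5
import Cfsg.Agent.WA.AlSur2
import Cfsg.Agent.WA.AlPres
import Mathlib.GroupTheory.SpecificGroups.Alternating.Simple

/-! S3298, module YaFin. -/

set_option autoImplicit false

namespace Cfsg.Agent.WA.Ya

open Subgroup Equiv

universe u

namespace Fin0

open Al.Sur (w)

def rp : Fin 4 → P := ![1, y 0 1, u, al]
theorem rp_spec : ∀ k, rp k ∈ H ∧ rp k * rp k = 1 ∧ (rp k).support.card = 4 * k.1 := by decide +kernel
def rq (k : Fin 4) : Al.Alt (Fin 12) := ⟨rp k, (rp_spec k).1.1⟩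

theorem fin {G : Type u} [Group G] [Finite G] (C : Ch G) (h : C.W27) {x : G} {Φ : Al.Alt (Fin 12) →* G}
    (hΦ : C.Tw x Φ) (h8 : ∀ g, g * C.f u = C.f u * g → g ∈ Φ.range ∨ g * C.f al * g⁻¹ ∈ C.R)
    {α : Type} [Fintype α] [DecidableEq α] (h12 : 12 ≤ Fintype.card α) (h13 : Fintype.card α ≤ 13)
    (Ψ : Al.Alt α →* G) (ι : Al.Alt (Fin 12) →* Al.Alt α) (hι : ∀ p, w (ι p) = w p) (e : ∀ p, Ψ (ι p) = Φ p)
    (hR : C.R ≤ Ψ.range) : Nonempty (G ≃* Al.Alt α) := by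
  have fq : ∀ k, Ψ (ι (rq k)) = C.f (rp k) := fun k => (e _).trans (hΦ.ext _ (rp_spec k).1)
  have q2 : ∀ k, ι (rq k) * ι (rq k) = 1 := fun k => by
    rw [← map_mul, show rq k * rq k = 1 from Subtype.ext (rp_spec k).2.1, map_one]
  have wq : ∀ k, w (ι (rq k)) = 4 * k.1 := fun k => (hι _).trans (rp_spec k).2.2
  have hi : Function.Injective Ψ := by
    have := alternatingGroup.isSimpleGroup (α := α) (by rw [Nat.card_eq_fintype_card]; omega)
    rw [← MonoidHom.ker_eq_bot_iff]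
    refine (MonoidHom.normal_ker Ψ).eq_bot_or_eq_top.resolve_right fun hk => ?_
    have h1 : Ψ (ι (rq 1)) = 1 := MonoidHom.mem_ker.1 (hk ▸ mem_top _)
    rw [fq] at h1
    have h2 := (rp_spec 1).2.2
    rw [C.inj _ (rp_spec 1).1 h1] at h2
    simp at h2
  have cl : ∀ v : Al.Alt α, v * v = 1 → ∃ k : Fin 4, w v = 4 * k.1 ∧ ∃ c, c * ι (rq k) * c⁻¹ = v := fun v v2 => by
    obtain ⟨k, hk⟩ := Al.Sur.four_dvd v2
    have : w v ≤ Fintype.card α := Finset.card_le_univ _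
    exact ⟨⟨k, by omega⟩, hk, Al.Sur.conj_supp (q2 _) v2 (by rw [wq, hk])⟩
  have h3 : ∀ p q : Al.Alt α, p * p = 1 → q * q = 1 → IsConj (Ψ p) (Ψ q) → w p = w q := fun p q p2 q2 hc => by
    obtain ⟨k, hk, c, rfl⟩ := cl p p2
    obtain ⟨l, hl, d, rfl⟩ := cl q q2
    have := (h _ _ (rp_spec k).1 (rp_spec l).1 (rp_spec k).2.1 (rp_spec l).2.1).1 (by
      rw [← fq, ← fq]
      exact ((Ψ.map_isConj (isConj_iff.2 ⟨c, rfl⟩)).trans hc).trans (Ψ.map_isConj (isConj_iff.2 ⟨d, rfl⟩)).symm)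
    rw [(rp_spec k).2.2, (rp_spec l).2.2] at this
    omega
  have le : Φ.range ≤ Ψ.range := by
    rintro _ ⟨p, rfl⟩
    exact ⟨_, e p⟩
  have g3 : Al.Sur.Good Ψ (ι (rq 3)) := fun g hg => by
    rw [fq, mem_centralizer_singleton_iff] at hg
    obtain ⟨p, hp, rfl⟩ := (C.cen g).1 hg
    exact le ⟨⟨p, hp.1⟩, hΦ.ext _ hp⟩
  have g2 : Al.Sur.Good Ψ (ι (rq 2)) := fun g hg => by
    rw [fq, mem_centralizer_singleton_iff] at hg
    rcases h8 g hg with hm | hm
    · exact le hm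
    · obtain ⟨q, hq⟩ := hR hm
      exact Al.Sur.pt hi h3 (q2 3) g3 (q := q) (by rw [fq, hq]; rfl)
  have hs : Function.Surjective Ψ := Al.sur2 h12 Ψ hi (fun v v2 hw => by
    obtain ⟨k, hk, c, rfl⟩ := cl v v2
    have gk : Al.Sur.Good Ψ (ι (rq k)) := by
      have : 8 ≤ 4 * k.1 := hk ▸ hw
      fin_cases k
      · simp at this
      · simp at this
      · exact g2
      · exact g3
    intro g hg
    rw [mem_centralizer_singleton_iff, map_mul, map_mul, map_inv] at hg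
    have := gk (show (Ψ c)⁻¹ * g * Ψ c ∈ _ from mem_centralizer_singleton_iff.2 (by
      calc (Ψ c)⁻¹ * g * Ψ c * Ψ (ι (rq k)) = (Ψ c)⁻¹ * (g * (Ψ c * Ψ (ι (rq k)) * (Ψ c)⁻¹)) * Ψ c := by group
        _ = _ := by rw [hg]; group))
    have mc : Ψ c ∈ Ψ.range := ⟨c, rfl⟩
    rwa [mul_mem_cancel_right mc, mul_mem_cancel_left (inv_mem mc)] at this) h3
  exact ⟨(MulEquiv.ofBijective Ψ ⟨hi, hs⟩).symm⟩

theorem mem_rng {G : Type u} [Group G] (C : Ch G) {x : G} {Φ : Al.Alt (Fin 12) →* G} (hΦ : C.Tw x Φ) {p : P} (hp : p ∈ H) :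
    C.f p ∈ Φ.range := ⟨⟨p, hp.1⟩, hΦ.ext _ hp⟩

def em : Fin 12 ≃ {i : Fin 13 // i ≠ Fin.last 12} := finSuccAboveEquiv (Fin.last 12)

theorem em_val (i : Fin 12) : (em i).1 = i.castSucc := by
  rw [em, finSuccAboveEquiv_apply]; exact congrFun Fin.succAbove_last i

def io : Al.Alt (Fin 12) →* Al.Alt (Fin 13) :=
  ((Perm.extendDomainHom em).comp (alternatingGroup _).subtype).codRestrict _ fun p => by
    rw [Perm.mem_alternatingGroup]
    exact (Perm.sign_extendDomain _ _).trans (Perm.mem_alternatingGroup.1 p.2)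

theorem io_w (p : Al.Alt (Fin 12)) : w (io p) = w p := Perm.card_support_extend_domain _

theorem io_ap (p : Al.Alt (Fin 12)) (i : Fin 12) : (io p).1 i.castSucc = (p.1 i).castSucc := by
  rw [← em_val, ← em_val]; exact Perm.extendDomain_apply_image _ _ _

theorem io_last (p : Al.Alt (Fin 12)) : (io p).1 (Fin.last 12) = Fin.last 12 :=
  Perm.extendDomain_apply_not_subtype _ _ (by simp)

theorem sw : ∀ i : Fin 12, (∀ a : Fin 12, (swap 0 i.castSucc * swap 0 1 : Perm (Fin 13)) a.castSucc =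
    ((swap 0 i * swap 0 1 : P) a).castSucc) ∧ (swap 0 i.castSucc * swap 0 1 : Perm (Fin 13)) (Fin.last 12) = Fin.last 12 := by
  decide +kernel

theorem io_c3 (i : Fin 12) (h : 0 ≠ i) (h' : 0 ≠ i.castSucc) :
    io (Al.c3 0 1 i (by decide) h) = Al.c3 0 1 i.castSucc (by decide) h' := by
  apply Subtype.ext
  refine Equiv.ext fun a => ?_
  induction a using Fin.lastCases with
  | last => rw [io_last]; exact (sw i).2.symm
  | cast a => rw [io_ap]; exact ((sw i).1 a).symm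

instance (p : P) : Decidable (p ∈ W5) := by unfold W5; exact inferInstanceAs (Decidable (_ ∧ _))

theorem mv : ∀ i : Fin 12, 0 ≠ i → 1 ≠ i → ∃ j k l : Fin 6, y k l * r 1 j ∈ W5 ∧
    (swap 0 i * swap 0 1 : P) = y k l * r 1 j * (swap 0 2 * swap 0 1) * (y k l * r 1 j)⁻¹ := by decide +kernel

theorem c3r : ∀ i : Fin 12, 0 ≠ i → 1 ≠ i → (swap 0 i * swap 0 1 : P) ^ 3 = 1 ∧ ∀ j : Fin 12, 0 ≠ j → 1 ≠ j → i ≠ j →
    (swap 0 i * swap 0 1 * (swap 0 j * swap 0 1) : P) ^ 2 = 1 := by decide +kernel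

end Fin0

open Fin0 in
theorem fin12 {G : Type u} [Group G] [Finite G] (C : Ch G) (h : C.W27) {x : G} {Φ : Al.Alt (Fin 12) →* G}
    (hΦ : C.Tw x Φ) (h8 : ∀ g, g * C.f u = C.f u * g → g ∈ Φ.range ∨ g * C.f al * g⁻¹ ∈ C.R)
    (hR : C.R ≤ closure {C.f u, C.f (y 0 1), C.f (r 0 1), x}) :
    Nonempty (G ≃* alternatingGroup (Fin 12)) := by
  refine fin C h hΦ h8 (by simp) (by simp) Φ (MonoidHom.id _) (fun _ => rfl) (fun _ => rfl) (hR.trans ((closure_le _).2 ?_))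
  rintro _ (rfl | rfl | rfl | rfl)
  exacts [mem_rng C hΦ R5.u_W.1, mem_rng C hΦ (R5.v4_H 1), mem_rng C hΦ (R5.v4_H 2), ⟨_, hΦ.hx⟩]

open Fin0 in
theorem fin13 {G : Type u} [Group G] [Finite G] (C : Ch G) (h : C.W27) {x o : G} {Φ : Al.Alt (Fin 12) →* G}
    (hΦ : C.Tw x Φ) (h8 : ∀ g, g * C.f u = C.f u * g → g ∈ Φ.range ∨ g * C.f al * g⁻¹ ∈ C.R)
    (ho : C.O5 x o) (h5 : ∀ p ∈ W5, o * C.f p = C.f p * o) :
    Nonempty (G ≃* alternatingGroup (Fin 13)) := by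
  let z : Fin 12 → G := fun i => if hi : 0 ≠ i then Φ (Al.c3 0 1 i (by decide) hi) else 1
  have hz : ∀ i (hi : 0 ≠ i), z i = Φ (Al.c3 0 1 i (by decide) hi) := fun i hi => dif_pos hi
  have n0 : ∀ i : Fin 12, 0 ≠ i.castSucc → 0 ≠ i := fun i h e => h (e ▸ rfl)
  have n1 : ∀ i : Fin 12, 1 ≠ i.castSucc → 1 ≠ i := fun i h e => h (e ▸ rfl)
  have oz : ∀ i, 0 ≠ i → 1 ≠ i → (o * z i) ^ 2 = 1 := fun i h0 h1 => by
    obtain ⟨j, k, l, m, e⟩ := mv i h0 h1
    generalize y k l * r 1 j = p at m e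
    have e' : Al.c3 0 1 i (by decide) h0 = ⟨p, m.1.1⟩ * Al.c3 0 1 2 (by decide) (by decide) * ⟨p, m.1.1⟩⁻¹ := Subtype.ext e
    rw [hz i h0, e', map_mul, map_mul, map_inv, hΦ.hx, hΦ.ext _ m.1, ← mul_assoc, ← mul_assoc, h5 p m, mul_assoc (C.f p),
      conj_pow, ho.ox]
    simp
  obtain ⟨Ψ, hΨ⟩ := Al.pres (a := (0 : Fin 13)) (b := 1) (by decide) (Fin.lastCases o z) (fun i h0 h1 => by
      induction i using Fin.lastCases with
      | last => rw [Fin.lastCases_last]; exact ho.o3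
      | cast i =>
        rw [Fin.lastCases_castSucc, hz i (n0 i h0), ← map_pow,
          show Al.c3 0 1 i (by decide) (n0 i h0) ^ 3 = 1 from Subtype.ext (c3r i (n0 i h0) (n1 i h1)).1, map_one])
    (fun i j h0 h1 h0' h1' ne => by
      induction i using Fin.lastCases with
      | last =>
        induction j using Fin.lastCases with
        | last => exact absurd rfl ne
        | cast j => rw [Fin.lastCases_last, Fin.lastCases_castSucc]; exact oz j (n0 j h0') (n1 j h1')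
      | cast i =>
        induction j using Fin.lastCases with
        | last =>
          rw [Fin.lastCases_last, Fin.lastCases_castSucc, show z i * o = o⁻¹ * (o * z i) * o⁻¹⁻¹ by group, conj_pow,
            oz i (n0 i h0) (n1 i h1)]
          simp
        | cast j =>
          rw [Fin.lastCases_castSucc, Fin.lastCases_castSucc, hz i (n0 i h0), hz j (n0 j h0'), ← map_mul, ← map_pow,
            show (Al.c3 0 1 i (by decide) (n0 i h0) * Al.c3 0 1 j (by decide) (n0 j h0')) ^ 2 = 1 from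
              Subtype.ext ((c3r i (n0 i h0) (n1 i h1)).2 j (n0 j h0') (n1 j h1') fun e => ne (e ▸ rfl)), map_one])
  have e : ∀ p, Ψ (io p) = Φ p := fun p => by
    refine MonoidHom.eqOn_closure (f := Ψ.comp io) (g := Φ) ?_
      (Al.closure_c3 (a := 0) (b := 1) (by decide) Finset.univ (by simp) (by simp) (Finset.subset_univ _))
    rintro _ ⟨i, hi, h1, -, rfl⟩
    have h0 : (0 : Fin 13) ≠ i.castSucc := fun e => hi (Fin.castSucc_injective _ e)
    show Ψ (io _) = _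
    rw [io_c3 i hi h0, hΨ _ h0 fun e => h1 (Fin.castSucc_injective _ e), Fin.lastCases_castSucc, hz i hi]
  have le : Φ.range ≤ Ψ.range := by
    rintro _ ⟨p, rfl⟩
    exact ⟨_, e p⟩
  refine fin C h hΦ h8 (by simp) (by simp) Ψ io io_w e (ho.gen.trans ((closure_le _).2 ?_))
  rintro _ (rfl | rfl | rfl | rfl | rfl)
  exacts [le (mem_rng C hΦ R5.u_W.1), le (mem_rng C hΦ (R5.v4_H 1)), le (mem_rng C hΦ (R5.v4_H 2)), le ⟨_, hΦ.hx⟩,
    ⟨_, (hΨ (Fin.last 12) (by decide) (by decide)).trans (Fin.lastCases_last ..)⟩]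

end Cfsg.Agent.WA.Ya
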