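import Cfsg.Agent.WA.YaR5
import Cfsg.Agent.WA.YaG1

/-! S3298, module YaO5. -/

set_option autoImplicit false

namespace Cfsg.Agent.WA.Ya

open Subgroup Equiv

universe u

namespace O5m

theorem facts : y 0 2 ∈ H ∧ r 1 2 ∈ H ∧ y 0 2 * y 0 2 = 1 ∧ r 1 2 * r 1 2 = 1 ∧ y 0 2 * y 0 1 = y 0 1 * y 0 2 ∧
    r 1 2 * (al * y 0 2) * r 1 2 = u ∧ r 1 2 * al = al * r 1 2 ∧ r 1 2 * y 0 1 * r 1 2 = y 0 2 ∧
    y 0 2 * r 0 1 * y 0 2 = r 0 1 * y 0 1 ∧ y 0 2 * r 0 1 * y 0 2 = y 0 1 * r 0 1 ∧ (r 1 2 * r 2 3) ^ 3 = 1 ∧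
    y 0 2 0 = 1 ∧ y 0 2 1 = 0 ∧ y 0 2 2 = 2 ∧ y 0 2 3 = 3 := by decide +kernel

instance (p : P) : Decidable (p ∈ W4) := by unfold W4; exact inferInstanceAs (Decidable (_ ∧ _))

theorem gens : ∀ i j : Fin 6, i ≠ 0 → j ≠ 0 → i ≠ j →
    (r i j ∈ W4 ∨ r i j = r 1 2 ∨ ∃ k, r 2 k ∈ W4 ∧ r i j = r 2 k * r 1 2 * r 2 k) ∧
    (y i j ∈ W4 ∨ ∃ k l, y 2 k ∈ W4 ∧ y 2 l ∈ W4 ∧ y i j = r 1 2 * y 2 k * r 1 2 * y 2 l) := by decide +kernel

theorem r23 : r 2 3 ∈ W4 := by decide +kernel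

def c4 (a : Fin 4) : Fin 12 := ⟨a.1, by omega⟩
def y4 : Fin 4 → Fin 4 := ![1, 0, 3, 2]

theorem pts : (∀ a : Fin 12, u a = a → ∃ b, a = c4 b) ∧ (∀ b, u (c4 b) = c4 b) ∧ (∀ a : Fin 12, u a ≠ a → y 0 1 a = a) ∧
    (∀ b, y 0 1 (c4 b) = c4 (y4 b)) ∧ ∀ a b, c4 a = c4 b → a = b := by decide +kernel

theorem four : ∀ g : Fin 4 → Fin 4, (∀ a, g (g (g a)) = a) → (∀ a, g (y4 (g (y4 a))) = a) → ∀ a, g a = a := by
  decide +kernel

theorem triv {q : P} (q3 : q ^ 3 = 1) (cu : q * u = u * q) (iv : y 0 1 * q * y 0 1 = q⁻¹) : q = 1 := by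
  obtain ⟨p1, p2, p3, p4, p5⟩ := pts
  have h3 : ∀ a, q (q (q a)) = a := fun a => by
    have := congrArg (fun t : P => t a) q3
    simpa [pow_succ] using this
  have hu : ∀ a, q (u a) = u (q a) := fun a => congrArg (fun t : P => t a) cu
  have hi : ∀ a, q (y 0 1 (q (y 0 1 a))) = a := fun a => by
    have := congrArg (fun t : P => q (t a)) iv
    simpa using this
  have : ∀ b, ∃ c, q (c4 b) = c4 c := fun b => p1 _ (by rw [← hu, p2])
  choose g hg using this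
  have h4 := four g (fun a => p5 _ _ (by rw [← hg, ← hg, ← hg, h3])) (fun a => p5 _ _ (by rw [← hg, ← p4, ← hg, ← p4, hi]))
  ext a
  congr 1
  by_cases ha : u a = a
  · obtain ⟨b, rfl⟩ := p1 a ha
    rw [hg, h4]; rfl
  · have h5 : u (q a) ≠ q a := fun e => ha (q.injective (by rw [hu, e]))
    have h6 := hi a
    rw [p3 a ha, p3 _ h5] at h6
    have := h3 a
    rw [h6] at this
    exact this

end O5m

open R5 O5m in
theorem o5 {G : Type u} [Group G] [Finite G] (C : Ch G) {x o : G} (hx : C.X3 x) (ho : C.O5 x o)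
    {Φ : Al.Alt (Fin 12) →* G} (hΦ : C.Tw x Φ)
    (h8 : ∀ g, g * C.f u = C.f u * g → g ∈ Φ.range ∨ g * C.f al * g⁻¹ ∈ C.R) :
    ∀ p ∈ W5, o * C.f p = C.f p * o := by
  obtain ⟨hh, hs, h2, s2, chy, sau, csa, sys, hth, hth', s3, e0, e1, e2, e3⟩ := O5m.facts
  obtain ⟨ea, -, -, -, y2, r2, -, -, -, -, -, ha⟩ := R5.facts
  have hy : y 0 1 ∈ H := v4_H 1
  have hr : r 0 1 ∈ H := v4_H 2
  have hu := u_W.1
  have cW := (mem_R C).1 ho.mem
  have m3 : ∀ {p q t : P}, p ∈ H → q ∈ H → t ∈ H → C.f (p * q * t) = C.f p * C.f q * C.f t := fun hp hq ht => by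
    rw [C.mul _ _ (mul_mem hp hq) ht, C.mul _ _ hp hq]
  set h := C.f (y 0 2) with eh
  set s := C.f (r 1 2) with es
  set Y := C.f (y 0 1) with eY
  set T := C.f (r 0 1) with eT
  set U := C.f u with eU
  have H2 : h * h = 1 := sq C hh h2
  have S2 : s * s = 1 := sq C hs s2
  have Y2 : Y * Y = 1 := sq C hy y2
  have hi : h⁻¹ = h := inv_eq_of_mul_eq_one_right H2
  have si : s⁻¹ = s := inv_eq_of_mul_eq_one_right S2
  have cHY : h * Y = Y * h := by rw [← C.mul _ _ hh hy, chy, C.mul _ _ hy hh]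
  have o3 := ho.o3
  have no : ∀ t : G, t ^ 3 = 1 → t⁻¹ = t → t = 1 := fun t t3 e => by
    rw [pow_succ, pow_two] at t3
    nth_rewrite 1 [← e] at t3
    simpa using t3
  have c3 : ∀ a b : G, a * a = 1 → b ^ 3 = 1 → (a * b * a) ^ 3 = 1 := fun a b ha hb => by
    nth_rewrite 2 [← inv_eq_of_mul_eq_one_right ha]
    rw [conj_pow, hb, mul_one, mul_inv_cancel]
  have c1 : ∀ a b : G, a * a = 1 → b ≠ 1 → a * b * a ≠ 1 := fun a b ha hb e => hb (by
    nth_rewrite 2 [← inv_eq_of_mul_eq_one_right ha] at e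
    exact conj_eq_one_iff.1 e)
  have iv' : Y * o⁻¹ * Y = o := by
    rw [← ho.iv, ← mul_assoc, ← mul_assoc, Y2, one_mul, mul_assoc, Y2, mul_one]
  have i1 : h * o⁻¹ * h = o := by
    refine ho.ux _ ((mem_R C).2 fun p hp => ?_) (c3 _ _ H2 (by rw [inv_pow, o3, inv_one])) (c1 _ _ H2 (inv_ne_one.2 ho.ne))
      ?_ ?_
    · have hp' : y 0 2 * p * y 0 2 ∈ W4 := by
        obtain ⟨a, b0, b1, b2, b3⟩ := hp
        refine ⟨mul_mem (mul_mem hh a) hh, ?_, ?_, ?_, ?_⟩ <;> simp only [Perm.mul_apply]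
        · rw [e0, b1, e1]
        · rw [e1, b0, e0]
        · rw [e2, b2, e2]
        · rw [e3, b3, e3]
      have := cW _ hp'
      rw [m3 hh hp.1 hh] at this
      have c : o⁻¹ * (h * C.f p * h) = (h * C.f p * h) * o⁻¹ := (Commute.inv_left this)
      calc h * o⁻¹ * h * C.f p = h * (o⁻¹ * (h * C.f p * h)) * h⁻¹ := by group
        _ = (h * h) * C.f p * (h * o⁻¹ * h⁻¹) := by rw [c]; group
        _ = _ := by rw [H2, one_mul, hi]
    · calc Y * (h * o⁻¹ * h) * Y = (Y * h) * o⁻¹ * (h * Y) := by group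
        _ = h * (Y * o⁻¹ * Y) * h := by rw [cHY]; nth_rewrite 1 [← cHY]; group
        _ = _ := by rw [iv', mul_inv_rev, mul_inv_rev, hi, inv_inv, mul_assoc]
    · have e : x = h * x⁻¹ * h := by rw [← hx.iv, ← mul_assoc, ← mul_assoc, H2, one_mul, mul_assoc, H2, mul_one]
      have e' : h * o⁻¹ * h * x = (h * o⁻¹) * (o * x)⁻¹ * (h * o⁻¹)⁻¹ := by
        nth_rewrite 1 [e]
        calc _ = h * o⁻¹ * (h * h) * x⁻¹ * h := by group
          _ = _ := by rw [H2, mul_inv_rev h, hi]; group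
      rw [e', conj_pow, inv_pow, ho.ox]; group
  have i2 : h * o * h = o⁻¹ := by
    nth_rewrite 1 [← i1]
    rw [← mul_assoc, ← mul_assoc, H2, one_mul, mul_assoc, H2, mul_one]
  have eA : C.f al = Y * U := by rw [ea, C.mul _ _ hy hu]
  have cU : o * U = U * o := cW u u_W
  have U2 : U * U = 1 := sq C hu R5.facts.2.2.1
  have cYU : Y * U = U * Y := (mem_R C).1 (v_R C 1) u u_W
  have i3 : C.f al * o = o⁻¹ * C.f al := by
    rw [eA, ← ho.iv, mul_assoc, ← cU, mul_assoc (Y * o), ← mul_assoc Y Y, Y2, one_mul, mul_assoc]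
  have cA : s * C.f al = C.f al * s := by rw [← C.mul _ _ hs ha, csa, C.mul _ _ ha hs]
  have sU : U = s * (C.f al * h) * s := by rw [eU, ← sau, m3 hs (mul_mem ha hh) hs, C.mul _ _ ha hh]
  have sY : s * Y * s = h := by rw [eh, ← sys, m3 hs hy hs]
  have sh : s * h * s = Y := by rw [← sY, ← mul_assoc, ← mul_assoc, S2, one_mul, mul_assoc, S2, mul_one]
  have cah : o * (C.f al * h) = (C.f al * h) * o := by
    have : h * o = o⁻¹ * h := by rw [← i2, mul_assoc, H2, mul_one]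
    rw [mul_assoc, this, ← mul_assoc, ← mul_assoc, mul_left_inj, eq_mul_inv_iff_mul_eq, mul_assoc, i3, mul_inv_cancel_left]
  have cU' : s * o * s * U = U * (s * o * s) := by
    rw [sU]
    calc _ = s * (o * (s * s) * (C.f al * h)) * s := by group
      _ = s * ((C.f al * h) * (s * s) * o) * s := by rw [S2, mul_one, mul_one, cah]
      _ = _ := by group
  have o3' := c3 s o S2 o3
  have oi' : (s * o * s)⁻¹ = s * o⁻¹ * s := by rw [mul_inv_rev, mul_inv_rev, si, mul_assoc]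
  have mR : s * o * s ∈ C.R := by
    rcases h8 _ cU' with ⟨q, hq⟩ | hm
    · exfalso
      let s0 : Al.Alt (Fin 12) := ⟨r 1 2, hs.1⟩
      let y0 : Al.Alt (Fin 12) := ⟨y 0 1, hy.1⟩
      let u0 : Al.Alt (Fin 12) := ⟨u, hu.1⟩
      have f1 : Φ s0 = s := hΦ.ext s0 hs
      have f2 : Φ y0 = Y := hΦ.ext y0 hy
      have f3 : Φ u0 = U := hΦ.ext u0 hu
      have e : Φ (s0 * q * s0) = o := by
        rw [map_mul, map_mul, f1, hq, ← mul_assoc, ← mul_assoc, S2, one_mul, mul_assoc, S2, mul_one]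
      generalize s0 * q * s0 = q' at e
      have k1 : q' ^ 3 = 1 := hΦ.inj (by rw [map_pow, e, o3, map_one])
      have k2 : q' * u0 = u0 * q' := hΦ.inj (by rw [map_mul, map_mul, e, f3, cU])
      have k3 : y0 * q' * y0 = q'⁻¹ := hΦ.inj (by rw [map_mul, map_mul, map_inv, e, f2, ho.iv])
      have : q' = 1 := Subtype.ext (triv (congrArg Subtype.val k1) (congrArg Subtype.val k2) (congrArg Subtype.val k3))
      exact ho.ne (by rw [← e, this, map_one])
    · have aR : C.f al ∈ C.R := eA ▸ mul_mem (v_R C 1) (u_R C)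
      have e1 : C.f al * (s * o * s)⁻¹ = (s * o * s) * C.f al := by
        have : C.f al * o⁻¹ = o * C.f al := by rw [mul_inv_eq_iff_eq_mul, mul_assoc, i3, mul_inv_cancel_left]
        rw [oi', ← mul_assoc, ← mul_assoc, ← cA, mul_assoc s, this, mul_assoc, mul_assoc, ← cA]; group
      rw [mul_assoc, e1, ← mul_assoc, mul_mem_cancel_right aR] at hm
      have := mul_mem hm hm
      rwa [show ∀ t : G, t * t * (t * t) = t ^ 3 * t from fun t => by rw [pow_succ, pow_two]; group, o3', one_mul] at this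
  have iY : Y * (s * o * s) * Y = (s * o * s)⁻¹ := by
    rw [oi', ← sh, ← i2]
    calc _ = s * h * (s * s) * o * (s * s) * h * s := by group
      _ = _ := by rw [S2]; group
  have ih : h * (s * o * s) * h = (s * o * s)⁻¹ := by
    have iv0 : Y * o * Y = o⁻¹ := ho.iv
    rw [oi', ← sY, ← iv0]
    calc _ = s * Y * (s * s) * o * (s * s) * Y * s := by group
      _ = _ := by rw [S2]; group
  have t1 : h * T * h = T * Y := by rw [← m3 hh hr hh, hth, C.mul _ _ hr hy]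
  have t2 : h * T * h = Y * T := by rw [← m3 hh hr hh, hth', C.mul _ _ hy hr]
  have tt : ∀ a b : G, h * a * h = b → Y * b * Y = a → h * (T * a * T) * h = T * a * T := fun a b e e' => by
    calc h * (T * a * T) * h = h * T * (h * h) * a * (h * h) * T * h := by rw [H2]; group
      _ = (h * T * h) * (h * a * h) * (h * T * h) := by group
      _ = T * (Y * b * Y) * T := by nth_rewrite 1 [t1]; rw [t2, e]; group
      _ = _ := by rw [e']
  have cs : o * s = s * o := by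
    rcases ho.un _ mR o3' (c1 _ _ S2 ho.ne) iY with e | e | e | e
    · nth_rewrite 1 [← e]
      rw [mul_assoc, S2, mul_one]
    · exfalso
      have c := cW _ r23
      have e3 : (s * C.f (r 2 3)) ^ 3 = 1 := by
        have m := mul_mem hs r23.1
        rw [pow_succ, pow_two] at s3 ⊢
        rw [← C.mul _ _ hs r23.1, ← m3 m m m, s3, C.one]
      have e4 : s * C.f (r 2 3) * o * (s * C.f (r 2 3))⁻¹ = o⁻¹ := by
        rw [← e, mul_assoc s, ← c, mul_inv_rev, si]; group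
      generalize s * C.f (r 2 3) = k at e3 e4
      have e5 : k * o⁻¹ * k⁻¹ = o := by rw [← conj_inv, e4, inv_inv]
      refine ho.ne (no o o3 ?_)
      calc o⁻¹ = k * (k * (k * o * k⁻¹) * k⁻¹) * k⁻¹ := by rw [e4, e5, e4]
        _ = k ^ 3 * o * (k ^ 3)⁻¹ := by rw [pow_succ, pow_two]; group
        _ = o := by rw [e3]; group
    · exact absurd (no _ o3' (by rw [← ih, e, tt _ _ i2 iv'])) (c1 _ _ S2 ho.ne)
    · exact absurd (no _ o3' (by rw [← ih, e, tt _ _ i1 ho.iv])) (c1 _ _ S2 ho.ne)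
  intro p hp
  let K : Subgroup P := ((centralizer {o}).comap C.hom).map H.subtype
  have mK : ∀ q ∈ H, o * C.f q = C.f q * o → q ∈ K := fun q hq c =>
    ⟨⟨q, hq⟩, mem_centralizer_singleton_iff.2 c.symm, rfl⟩
  have m4 : ∀ q ∈ W4, q ∈ K := fun q hq => mK q hq.1 (cW q hq)
  have ms : r 1 2 ∈ K := mK _ hs cs
  have : p ∈ K := by
    refine (closure_le K).2 ?_ (gen (Finset.univ.erase 0) hp.1 fun i hi => ?_)
    · rintro q ⟨i, hi, j, hj, ne, rfl | rfl⟩
      · rcases (gens i j (Finset.ne_of_mem_erase hi) (Finset.ne_of_mem_erase hj) ne).1 with e | e | ⟨k, hk, e⟩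
        · exact m4 _ e
        · exact e ▸ ms
        · exact e ▸ mul_mem (mul_mem (m4 _ hk) ms) (m4 _ hk)
      · rcases (gens i j (Finset.ne_of_mem_erase hi) (Finset.ne_of_mem_erase hj) ne).2 with e | ⟨k, l, hk, hl, e⟩
        · exact m4 _ e
        · exact e ▸ mul_mem (mul_mem (mul_mem ms (m4 _ hk)) ms) (m4 _ hl)
    · obtain rfl : i = 0 := by simpa using hi
      exact hp.2.1
  obtain ⟨q, hq, rfl⟩ := this
  exact (mem_centralizer_singleton_iff.1 hq).symm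

end Cfsg.Agent.WA.Ya
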