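import Cfsg.Agent.WA.YaR50
import Cfsg.Agent.WA.YaCW4

/-! S3298, module YaR5. -/

set_option autoImplicit false

namespace Cfsg.Agent.WA.Ya

open Subgroup Equiv

universe u

namespace R5

theorem v4_out : ∀ k (x : Fin 12), x ≠ 0 → x ≠ 1 → x ≠ 2 → x ≠ 3 → v4 k x = x := by decide +kernel
theorem v4_H : ∀ k, v4 k ∈ H := by decide +kernel
theorem u_W : u ∈ W4 := by unfold W4; simp only [Set.mem_ofPred_eq]; decide +kernel
theorem facts : al = y 0 1 * u ∧ u = al * y 0 1 ∧ u * u = 1 ∧ u ≠ 1 ∧ y 0 1 * y 0 1 = 1 ∧ r 0 1 * r 0 1 = 1 ∧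
    r 0 1 * y 0 1 = y 0 1 * r 0 1 ∧ y 0 1 ≠ 1 ∧ y 0 1 ≠ u ∧ u * y 0 1 * (u * y 0 1) = 1 ∧
    (y 0 1).support.card ≠ (u * y 0 1).support.card ∧ al ∈ H := by decide +kernel

theorem comm_v {p : P} (hp : p ∈ W4) (k : Fin 4) : p * v4 k = v4 k * p := by
  refine Perm.Disjoint.commute fun x => ?_
  obtain ⟨-, h0, h1, h2, h3⟩ := hp
  by_cases e0 : x = 0
  · exact Or.inl (e0 ▸ h0)
  by_cases e1 : x = 1
  · exact Or.inl (e1 ▸ h1)
  by_cases e2 : x = 2
  · exact Or.inl (e2 ▸ h2)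
  by_cases e3 : x = 3
  · exact Or.inl (e3 ▸ h3)
  exact Or.inr (v4_out k x e0 e1 e2 e3)

theorem comm_u {p : P} (hp : p ∈ W4) : p * u = u * p := by
  have h1 : p * y 0 1 = y 0 1 * p := comm_v hp 1
  rw [facts.2.1, ← mul_assoc, ← (mem_H.1 hp.1).2, mul_assoc, h1, mul_assoc]

variable {G : Type u} [Group G] (C : Ch G)

theorem mem_R {g : G} : g ∈ C.R ↔ ∀ p ∈ W4, g * C.f p = C.f p * g :=
  ⟨fun h p hp => (h _ ⟨p, hp, rfl⟩).symm, fun h _ ⟨p, hp, e⟩ => e ▸ (h p hp).symm⟩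

theorem f_R {q : P} (hq : q ∈ H) (h : ∀ p ∈ W4, p * q = q * p) : C.f q ∈ C.R :=
  (mem_R C).2 fun p hp => by rw [← C.mul _ _ hq hp.1, ← h p hp, C.mul _ _ hp.1 hq]

theorem v_R (k : Fin 4) : C.f (v4 k) ∈ C.R := f_R C (v4_H k) fun _ hp => comm_v hp k
theorem u_R : C.f u ∈ C.R := f_R C u_W.1 fun _ hp => comm_u hp
theorem sq {p : P} (hp : p ∈ H) (h : p * p = 1) : C.f p * C.f p = 1 := by rw [← C.mul _ _ hp hp, h, C.one]
theorem ne {p q : P} (hp : p ∈ H) (hq : q ∈ H) (h : p ≠ q) : C.f p ≠ C.f q := fun e => h (C.ext hp hq e)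

/-- elements of `R` commuting with `y 0 1` -/
theorem cen_y {g : G} (hg : g ∈ C.R) (h : g * C.f (y 0 1) = C.f (y 0 1) * g) :
    ∃ k, g = C.f (v4 k) ∨ g = C.f (v4 k) * C.f u := by
  have hy : y 0 1 ∈ H := v4_H 1
  obtain ⟨p, hp, rfl⟩ := (C.cen g).1 (by
    rw [facts.1, C.mul _ _ hy u_W.1, ← mul_assoc, h, mul_assoc, (mem_R C).1 hg u u_W, mul_assoc])
  obtain ⟨k, e | e⟩ := R5.cenW4' hp fun w hw => C.ext (mul_mem hp hw.1) (mul_mem hw.1 hp) (by
    rw [C.mul _ _ hp hw.1, C.mul _ _ hw.1 hp]; exact (mem_R C).1 hg w hw)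
  · exact ⟨k, Or.inl (by rw [e])⟩
  · exact ⟨k, Or.inr (by rw [e, C.mul _ _ (v4_H k) u_W.1])⟩

end R5

open R5 in
theorem r5 {G : Type u} [Group G] [Finite G] (C : Ch G) (h : C.W27) {x : G} (hx : C.X3 x) :
    C.R ≤ closure {C.f u, C.f (y 0 1), C.f (r 0 1), x} ∨ ∃ o, C.O5 x o := by
  obtain ⟨-, -, u2, u1, y2, r2, cry, y1, yu, uy2, ws, -⟩ := facts
  have hy : y 0 1 ∈ H := v4_H 1
  have hr : r 0 1 ∈ H := v4_H 2
  let U : C.R := ⟨C.f u, u_R C⟩
  let Y : C.R := ⟨C.f (y 0 1), v_R C 1⟩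
  let T : C.R := ⟨C.f (r 0 1), v_R C 2⟩
  let X : C.R := ⟨x, (mem_R C).2 hx.cW⟩
  have cU : ∀ g : C.R, g * U = U * g := fun g => Subtype.ext ((mem_R C).1 g.2 u u_W)
  have U2 : U * U = 1 := Subtype.ext (sq C u_W.1 u2)
  have U1 : U ≠ 1 := fun e => ne C u_W.1 (one_mem _) u1 ((congrArg Subtype.val e).trans C.one.symm)
  have Y2 : Y * Y = 1 := Subtype.ext (sq C hy y2)
  have T2 : T * T = 1 := Subtype.ext (sq C hr r2)
  have cTY : T * Y = Y * T := Subtype.ext (by
    show C.f _ * C.f _ = C.f _ * C.f _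
    rw [← C.mul _ _ hr hy, cry, C.mul _ _ hy hr])
  have mz : ∀ g : C.R, g ∈ zpowers U ↔ g = 1 ∨ g = U := fun g => by
    constructor
    · intro hg
      obtain ⟨n, rfl⟩ := mem_powers_iff_mem_zpowers.2 hg
      rcases Nat.even_or_odd' n with ⟨k, rfl | rfl⟩
      · left; show U ^ (2 * k) = 1; rw [pow_mul, pow_two, U2, one_pow]
      · right; show U ^ (2 * k + 1) = U; rw [pow_succ, pow_mul, pow_two, U2, one_pow, one_mul]
    · rintro (rfl | rfl)
      exacts [one_mem _, mem_zpowers _]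
  have : (zpowers U).Normal := ⟨fun n hn g => by
    rcases (mz n).1 hn with rfl | rfl
    · simp
    · rw [cU, mul_inv_cancel_right]; exact mem_zpowers _⟩
  let π := QuotientGroup.mk' (zpowers U)
  have ker : ∀ g, π g = 1 ↔ g = 1 ∨ g = U := fun g => (QuotientGroup.eq_one_iff g).trans (mz g)
  have eqv : ∀ a b, π a = π b → a = b ∨ a = U * b := fun a b e => by
    rcases (ker (a * b⁻¹)).1 (by rw [map_mul, map_inv, e, mul_inv_cancel]) with e | e
    · exact Or.inl (mul_inv_eq_one.1 e)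
    · exact Or.inr (by rw [← e, inv_mul_cancel_right])
  have πU : π U = 1 := (ker U).2 (Or.inr rfl)
  have hC : ∀ g, g * π Y = π Y * g → g = 1 ∨ g = π Y ∨ g = π T ∨ g = π T * π Y := fun g hg => by
    obtain ⟨g, rfl⟩ := QuotientGroup.mk'_surjective (zpowers U) g
    have hg' : π (g * Y * g⁻¹) = π Y := by rw [map_mul, map_mul, map_inv]; exact mul_inv_eq_iff_eq_mul.2 hg
    rcases eqv _ _ hg' with e | e
    · obtain ⟨k, e'⟩ := cen_y C g.2 (congrArg Subtype.val (mul_inv_eq_iff_eq_mul.1 e))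
      have : π g = π ⟨_, v_R C k⟩ := by
        rcases e' with e' | e'
        · exact congrArg π (Subtype.ext e')
        · rw [← mul_one (π ⟨_, v_R C k⟩), ← πU, ← map_mul]; exact congrArg π (Subtype.ext e')
      show π g = 1 ∨ π g = _ ∨ π g = _ ∨ π g = _
      rw [this]
      fin_cases k
      · exact Or.inl ((ker _).2 (Or.inl (Subtype.ext C.one)))
      · exact Or.inr (Or.inl rfl)
      · exact Or.inr (Or.inr (Or.inl rfl))
      · exact Or.inr (Or.inr (Or.inr (by rw [← map_mul]; exact congrArg π (Subtype.ext (C.mul _ _ hr hy)))))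
    · refine absurd ((h _ _ hy (mul_mem u_W.1 hy) y2 uy2).1 (isConj_iff.2 ⟨g.1, ?_⟩)) ws
      rw [C.mul _ _ u_W.1 hy]; exact congrArg Subtype.val e
  have X3 : X ^ 3 = 1 := Subtype.ext hx.x3
  have cr : X * T * X⁻¹ = Y := Subtype.ext hx.cr
  have cy : X * Y * X⁻¹ = T * Y := Subtype.ext (hx.cy.trans (C.mul _ _ hr hy))
  have cr' : π X * π T * (π X)⁻¹ = π Y := by rw [← map_inv, ← map_mul, ← map_mul, cr]
  have cy' : π X * π Y * (π X)⁻¹ = π T * π Y := by rw [← map_inv, ← map_mul, ← map_mul, cy, map_mul]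
  have y1' : π Y ≠ 1 := fun e => by
    rcases (ker _).1 e with e | e
    · exact ne C hy (one_mem _) y1 ((congrArg Subtype.val e).trans C.one.symm)
    · exact ne C hy u_W.1 yu (congrArg Subtype.val e)
  rcases core (by rw [← map_mul, Y2, map_one]) (by rw [← map_mul, T2, map_one]) (by rw [← map_mul, cTY, map_mul]) y1'
    (by rw [← map_pow, X3, map_one]) cr' cy' hC with hn | ⟨φ, hi, hs, sg, ey, er, ex⟩
  · left
    intro g hg
    set K := (closure {C.f u, C.f (y 0 1), C.f (r 0 1), x}).subgroupOf C.R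
    have mU : U ∈ K := subset_closure (by simp [U])
    have mY : Y ∈ K := subset_closure (by simp [Y])
    have mT : T ∈ K := subset_closure (by simp [T])
    have mX : X ∈ K := subset_closure (by simp [X])
    have l1 : ∀ a b, b ∈ K → π a = π b → a ∈ K := fun a b hb e => by
      rcases eqv a b e with rfl | rfl
      exacts [hb, mul_mem mU hb]
    have l2 : ∀ a, π a * π Y * (π a)⁻¹ = π Y → a ∈ K := fun a e => by
      rcases hC _ (mul_inv_eq_iff_eq_mul.1 e) with e | e | e | e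
      · exact l1 a 1 (one_mem _) (by rw [e, map_one])
      · exact l1 a _ mY e
      · exact l1 a _ mT e
      · exact l1 a _ (mul_mem mT mY) (by rw [e, map_mul])
    show (⟨g, hg⟩ : C.R) ∈ K
    generalize (⟨g, hg⟩ : C.R) = a
    rcases hC _ (hn (π a)) with e | e | e | e
    · exact absurd (by rw [← conj_eq_one_iff (a := π a)]; exact e) y1'
    · exact l2 a e
    · refine (mul_mem_cancel_left mX).1 (l2 _ ?_)
      calc _ = π X * (π a * π Y * (π a)⁻¹) * (π X)⁻¹ := by rw [map_mul]; group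
        _ = _ := by rw [e, cr']
    · refine (mul_mem_cancel_left (inv_mem mX)).1 (l2 _ ?_)
      calc _ = (π X)⁻¹ * (π a * π Y * (π a)⁻¹) * π X := by rw [map_mul, map_inv]; group
        _ = _ := by rw [e, ← cy']; group
  · right
    obtain ⟨o3, o1, oi, os, c, cs, hc⟩ := f5
    let ρ := φ.comp π
    have eqv' : ∀ a b, ρ a = ρ b → a = b ∨ a = U * b := fun a b e => eqv a b (hi e)
    have sur : ∀ p, Perm.sign p = 1 → ∃ g, ρ g = p := fun p hp => by
      obtain ⟨g, rfl⟩ := hs p hp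
      obtain ⟨g, rfl⟩ := QuotientGroup.mk'_surjective (zpowers U) g
      exact ⟨g, rfl⟩
    have ρY : ρ Y = y5 := ey
    have ρT : ρ T = R5.r5 := er
    have ρX : ρ X = x5 := ex
    have uq : ∀ a b : C.R, a ^ 3 = 1 → b ^ 3 = 1 → ρ a = ρ b → a = b := fun a b ha hb e => by
      rcases eqv' a b e with e | rfl
      · exact e
      · rw [Commute.mul_pow (cU b).symm, hb, mul_one, pow_succ, pow_two, U2, one_mul] at ha
        exact absurd ha U1
    obtain ⟨g, hg⟩ := sur o5 os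
    obtain ⟨O, O3, hO⟩ : ∃ O : C.R, O ^ 3 = 1 ∧ ρ O = o5 := by
      refine ⟨g ^ 4, ?_, by rw [map_pow, hg, pow_succ, o3, one_mul]⟩
      rw [← pow_mul, show 4 * 3 = 3 * (2 * 2) by rfl, pow_mul, pow_mul]
      rcases eqv' (g ^ 3) 1 (by rw [map_pow, hg, o3, map_one]) with e | e <;> rw [e]
      · simp
      · rw [mul_one, pow_two U, U2, one_pow]
    have c3 : ∀ a b : C.R, a * a = 1 → b ^ 3 = 1 → (a * b * a) ^ 3 = 1 := fun a b ha hb => by
      nth_rewrite 2 [← inv_eq_of_mul_eq_one_right ha]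
      rw [conj_pow, hb, mul_one, mul_inv_cancel]
    have Oi : O⁻¹ ^ 3 = 1 := by rw [inv_pow, O3, inv_one]
    have un : ∀ t : C.R, t ^ 3 = 1 → t ≠ 1 → Y * t * Y = t⁻¹ → (t = O ∨ t = O⁻¹ ∨ t = T * O * T ∨ t = T * O⁻¹ * T) ∧
        ((t * X) ^ 2 = 1 → t = O) := fun t t3 t1 ti => by
      obtain ⟨h1, h2⟩ := un5 (ρ t) (by rw [← map_pow, t3, map_one]) (fun e => t1 (uq t 1 t3 (one_pow 3) (by rw [e, map_one])))
        (by rw [← ρY, ← map_mul, ← map_mul, ti, map_inv])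
      refine ⟨?_, fun e => uq t O t3 O3 (by rw [hO]; exact h2 (by rw [← ρX, ← map_mul, ← map_pow, e, map_one]))⟩
      rcases h1 with e | e | e | e
      · exact Or.inl (uq _ _ t3 O3 (by rw [e, hO]))
      · exact Or.inr (Or.inl (uq _ _ t3 Oi (by rw [e, map_inv, hO])))
      · exact Or.inr (Or.inr (Or.inl (uq _ _ t3 (c3 _ _ T2 O3) (by rw [e, map_mul, map_mul, hO, ρT]))))
      · exact Or.inr (Or.inr (Or.inr (uq _ _ t3 (c3 _ _ T2 Oi) (by rw [e, map_mul, map_mul, map_inv, hO, ρT]))))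
    refine ⟨O.1, O.2, congrArg Subtype.val O3, fun e => o1 (by rw [← hO, show O = 1 from Subtype.ext e, map_one]), ?_, ?_, ?_,
      fun t ht t3 t1 ti => ?_, fun t ht t3 t1 ti e => ?_⟩
    · exact congrArg Subtype.val (uq (Y * O * Y) O⁻¹ (c3 _ _ Y2 O3) Oi (by rw [map_mul, map_mul, map_inv, hO, ρY, oi]))
    · obtain ⟨k, hk⟩ := sur c cs
      have k2 : k * Y * k⁻¹ * (k * Y * k⁻¹) = 1 := by rw [conj_mul, Y2]; simp
      have : (O * X) ^ 2 = 1 := by
        rcases eqv' (O * X) (k * Y * k⁻¹) (by rw [map_mul, map_mul, map_mul, map_inv, hO, ρX, hk, ρY, hc]) with e | e <;>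
          rw [e]
        · rw [pow_two, k2]
        · rw [Commute.mul_pow (cU _).symm, pow_two, pow_two, U2, k2, one_mul]
      exact congrArg Subtype.val this
    · intro g hg
      set K := (closure {C.f u, C.f (y 0 1), C.f (r 0 1), x, O.1}).subgroupOf C.R
      have : closure ({y5, x5, o5} : Set P5) ≤ K.map ρ := by
        refine (closure_le _).2 ?_
        rintro _ (rfl | rfl | rfl)
        · exact ⟨Y, subset_closure (by simp [Y]), ρY⟩
        · exact ⟨X, subset_closure (by simp [X]), ρX⟩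
        · exact ⟨O, subset_closure (by simp), hO⟩
      obtain ⟨k, mk, e⟩ := this (gen5 (sg (π ⟨g, hg⟩)))
      show (⟨g, hg⟩ : C.R) ∈ K
      rcases eqv' ⟨g, hg⟩ k e.symm with e | e <;> rw [e]
      · exact mk
      · exact mul_mem (show U ∈ K from subset_closure (by simp [U])) mk
    · rcases (un ⟨t, ht⟩ (Subtype.ext t3) (fun e => t1 (congrArg Subtype.val e)) (Subtype.ext ti)).1 with e | e | e | e
      · exact Or.inl (congrArg Subtype.val e)
      · exact Or.inr (Or.inl (congrArg Subtype.val e))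
      · exact Or.inr (Or.inr (Or.inl (congrArg Subtype.val e)))
      · exact Or.inr (Or.inr (Or.inr (congrArg Subtype.val e)))
    · exact congrArg Subtype.val
        ((un ⟨t, ht⟩ (Subtype.ext t3) (fun e => t1 (congrArg Subtype.val e)) (Subtype.ext ti)).2 (Subtype.ext e))

end Cfsg.Agent.WA.Ya
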