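import Cfsg.Agent.WA.YaGen
import Cfsg.Agent.WA.YaSet
import Cfsg.Agent.WA.YaZ
import Cfsg.Agent.WA.YaCtl
import Cfsg.Agent.WA.YaCross
import Cfsg.Agent.WA.YaP12
import Cfsg.Agent.WA.YaEight
import Cfsg.Agent.WA.YaR5
import Cfsg.Agent.WA.YaO5
import Cfsg.Agent.WA.YaFin
import Cfsg.Agent.WA.YaSR
import Cfsg.Agent.WA.YaSp
import Cfsg.Agent.WA.YaRot

/-! S3298: assembly. -/

set_option autoImplicit false

namespace Cfsg.Agent.WA.Ya

open Subgroup Equiv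

universe u

variable {G : Type u} [Group G] [Finite G]

namespace Main

theorem tr {C D : Ch G} {c : Fin 10 → ℕ} {s : Fin 10 → Fin 10} (hs : ∀ i, s (s i) = i) (h : C.Fus (c ∘ s))
    (hD : ∀ i, IsConj (D.f (rep i)) (C.f (rep (s i)))) : D.Fus c := by
  intro i j
  have := h (s i) (s j)
  simp only [Function.comp, hs] at this
  rw [← this]
  exact ⟨fun e => ((hD i).symm.trans e).trans (hD j), fun e => ((hD i).trans e).trans (hD j).symm⟩

theorem t1 {C : Ch G} {c : Fin 10 → ℕ} (h : C.Fus (c ∘ s1)) : ∃ D : Ch G, D.Fus c := by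
  obtain ⟨D, -, hD⟩ := twist1 C
  exact ⟨D, tr (by decide) h hD⟩

theorem t2 {C : Ch G} {c : Fin 10 → ℕ} (h : C.Fus (c ∘ s2)) : ∃ D : Ch G, D.Fus c := by
  obtain ⟨D, -, hD⟩ := twist2 C
  exact ⟨D, tr (by decide) h hD⟩

theorem alt {C : Ch G} (h : C.Fus c27) :
    Nonempty (G ≃* alternatingGroup (Fin 12)) ∨ Nonempty (G ≃* alternatingGroup (Fin 13)) := by
  have w := w27 C h
  obtain ⟨x, hx⟩ := rot C (ctl C) w
  obtain ⟨Φ, hΦ⟩ := p12 C hx (cross C w hx)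
  have h8 := fun g => eight C w hΦ (g := g)
  rcases r5 C w hx with hR | ⟨o, ho⟩
  · exact Or.inl (fin12 C w hΦ h8 hR)
  · exact Or.inr (fin13 C w hΦ h8 ho (o5 C hx ho hΦ h8))

end Main

open Main

theorem main (C : Ch G) : Nonempty (G ≃* alternatingGroup (Fin 12)) ∨ Nonempty (G ≃* alternatingGroup (Fin 13)) ∨
    (∃ (F : Type) (_ : Field F) (_ : Fintype F), Fintype.card F = 2 ∧ Nonempty (G ≃* Cfsg.PSp 3 F)) ∨
    (Cfsg.oddCore G ⊔ centralizer ({C.f al} : Set G) = ⊤ ∧ IsMulCommutative (Cfsg.oddCore G)) := by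
  have a : ∀ D : Ch G, D.Fus c27 → _ := fun D h => (alt h).imp id (Or.inl (b := (∃ (F : Type) (_ : Field F) (_ : Fintype F),
    Fintype.card F = 2 ∧ Nonempty (G ≃* Cfsg.PSp 3 F)) ∨
    (Cfsg.oddCore G ⊔ centralizer ({C.f al} : Set G) = ⊤ ∧ IsMulCommutative (Cfsg.oddCore G))))
  rcases sr C (ctl C) (nf C) with h | h | h | h | h | h | h
  · exact Or.inr (Or.inr (Or.inr (iso C h)))
  · exact a C h
  · obtain ⟨D, hD⟩ := t1 h
    exact a D hD
  · exact Or.inr (Or.inr (Or.inl (sp C (ctl C) h)))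
  · obtain ⟨D, hD⟩ := t1 h
    exact Or.inr (Or.inr (Or.inl (sp D (ctl D) hD)))
  · obtain ⟨D, hD⟩ := t2 h
    exact Or.inr (Or.inr (Or.inl (sp D (ctl D) hD)))
  · obtain ⟨D, hD⟩ := t2 (c := c7 ∘ s1) h
    obtain ⟨E, hE⟩ := t1 hD
    exact Or.inr (Or.inr (Or.inl (sp E (ctl E) hE)))

end Cfsg.Agent.WA.Ya
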