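import Cfsg.Agent.WA.AlDef
import Cfsg.Agent.H3.Km1
import Cfsg.Agent.H5.GWc4
import Cfsg.Agent.S0984

/-! Module AlB7 (S3218): the degree `7`. -/

set_option autoImplicit false

namespace Cfsg.Agent.WA.Al

open Subgroup Equiv

universe u

namespace B7

/-- model -/
def a0 : Perm (Fin 7) := swap 0 1 * swap 2 3
/-- model -/
def w0 : Perm (Fin 7) := swap 0 1 * swap 0 2 * swap 1 3 * swap 4 5
/-- model -/
def v0 : Perm (Fin 7) := swap 0 2 * swap 1 3
/-- model -/
def x0 : Perm (Fin 7) := swap 4 5 * swap 4 6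

theorem f1 : w0 * w0 = a0 ∧ v0 * v0 = 1 ∧ v0 * w0 * v0⁻¹ = w0⁻¹ ∧ a0 ≠ 1 ∧ x0 ^ 3 = 1 ∧ x0 ≠ 1 ∧
    v0 * x0 = x0 * v0 ∧ w0 * x0 * w0⁻¹ = x0⁻¹ ∧ v0 ≠ a0 ∧ v0 ≠ 1 ∧
    Perm.sign w0 = 1 ∧ Perm.sign v0 = 1 ∧ Perm.sign x0 = 1 ∧ v0 * a0 = a0 * v0 ∧ x0 * a0 = a0 * x0 := by
  decide +kernel

theorem f2a : ∀ p0 : Fin 7, p0 ≠ a0 p0 → ∀ p2 : Fin 7, p2 ≠ a0 p2 → p2 ≠ p0 → p2 ≠ a0 p0 → ∀ p4 : Fin 7, a0 p4 = p4 →
    ∀ p5 : Fin 7, a0 p5 = p5 → p5 ≠ p4 → ∀ p6 : Fin 7, a0 p6 = p6 → p6 ≠ p4 → p6 ≠ p5 →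
    ∃ i : Fin 3, ∃ j : Fin 4, ∃ k : Fin 2, ∃ l : Fin 2, ∀ t : Fin 7,
      (x0 ^ (i : ℕ) * w0 ^ (j : ℕ) * v0 ^ (k : ℕ) * swap 4 5 ^ (l : ℕ) : Perm (Fin 7)) t = ![p0, a0 p0, p2, a0 p2, p4, p5, p6] t := by
  decide +kernel

theorem f2 (c : Perm (Fin 7)) (hc : c * a0 = a0 * c) (hs : Perm.sign c = 1) :
    ∃ i : Fin 3, ∃ j : Fin 4, ∃ k : Fin 2, c = x0 ^ (i : ℕ) * w0 ^ (j : ℕ) * v0 ^ (k : ℕ) := by
  have h : ∀ t, c (a0 t) = a0 (c t) := fun t => congrArg (fun q : Perm (Fin 7) => q t) hc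
  have h1 : c 1 = a0 (c 0) := h 0
  have h3 : c 3 = a0 (c 2) := h 2
  have n : ∀ s t : Fin 7, s ≠ t → c s ≠ c t := fun s t e e' => e (c.injective e')
  obtain ⟨i, j, k, l, hl⟩ := f2a (c 0) (h1 ▸ n 0 1 (by decide)) (c 2) (h3 ▸ n 2 3 (by decide)) (n 2 0 (by decide))
    (h1 ▸ n 2 1 (by decide)) (c 4) (h 4).symm (c 5) (h 5).symm (n 5 4 (by decide)) (c 6) (h 6).symm
    (n 6 4 (by decide)) (n 6 5 (by decide))
  have e : c = x0 ^ (i : ℕ) * w0 ^ (j : ℕ) * v0 ^ (k : ℕ) * swap 4 5 ^ (l : ℕ) := by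
    ext t
    rw [hl, ← h1, ← h3]
    fin_cases t <;> rfl
  obtain ⟨-, -, -, -, -, -, -, -, -, -, g1, g2, g3, -⟩ := f1
  refine ⟨i, j, k, ?_⟩
  fin_cases l
  · simpa using e
  · rw [e] at hs
    simp [g1, g2, g3] at hs

theorem f4 : ∀ i : Fin 3, ∀ j : Fin 4, ∀ k : Fin 2,
    x0 ^ (i : ℕ) * w0 ^ (j : ℕ) * v0 ^ (k : ℕ) * w0 = w0 * (x0 ^ (i : ℕ) * w0 ^ (j : ℕ) * v0 ^ (k : ℕ)) →
    x0 ^ (i : ℕ) * w0 ^ (j : ℕ) * v0 ^ (k : ℕ) * v0 = v0 * (x0 ^ (i : ℕ) * w0 ^ (j : ℕ) * v0 ^ (k : ℕ)) →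
    x0 ^ (i : ℕ) * w0 ^ (j : ℕ) * v0 ^ (k : ℕ) = 1 ∨ x0 ^ (i : ℕ) * w0 ^ (j : ℕ) * v0 ^ (k : ℕ) = a0 := by
  decide +kernel

theorem f3 : a0.cycleType = {2, 2} := by decide +kernel

variable {G : Type*} [Group G]

/-- the centralizer of an involution of `A₇`. -/
structure C7 (x w v z : G) : Prop where
  x3 : x ^ 3 = 1
  x1 : x ≠ 1
  ww : w * w = z
  hz : orderOf z = 2
  v2 : v * v = 1
  v1 : v ≠ 1
  vz : v ≠ z
  vw : v * w * v⁻¹ = w⁻¹
  vx : v * x = x * v
  wx : w * x * w⁻¹ = x⁻¹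
  cen : ∀ c, c * z = z * c → ∃ i j k : ℕ, c = x ^ i * w ^ j * v ^ k

namespace C7

variable {x w v z : G} (h : C7 x w v z)
include h

theorem z2 : z * z = 1 := H9.mul_self_of_orderOf_two h.hz
theorem z1 : z ≠ 1 := H9.ne_one_of_orderOf_two h.hz
theorem w4 : w ^ 4 = 1 := by rw [show w ^ 4 = w * w * (w * w) by simp only [pow_succ, pow_zero, one_mul, mul_assoc], h.ww, h.z2]
theorem vi : v⁻¹ = v := inv_eq_of_mul_eq_one_right h.v2

theorem inv {y : G} (hy : y ∈ zpowers w) : v * y * v⁻¹ = y⁻¹ := by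
  obtain ⟨k, rfl⟩ := hy
  rw [← conj_zpow, h.vw, inv_zpow]

theorem wz : w * z = z * w := by rw [← h.ww, mul_assoc]

theorem vz' : v * z = z * v := by
  have := h.inv (y := z) (h.ww ▸ mul_mem (mem_zpowers w) (mem_zpowers w))
  rw [inv_eq_of_mul_eq_one_right h.z2] at this
  exact mul_inv_eq_iff_eq_mul.1 this

theorem xz : x * z = z * x := by
  have : z * x * z⁻¹ = x := by
    rw [← h.ww]
    calc _ = w * (w * x * w⁻¹) * w⁻¹ := by group
      _ = w * x⁻¹ * w⁻¹ := by rw [h.wx]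
      _ = (w * x * w⁻¹)⁻¹ := by group
      _ = x := by rw [h.wx, inv_inv]
  exact (mul_inv_eq_iff_eq_mul.1 this).symm

theorem xne : x⁻¹ ≠ x := fun e => h.x1 (by
  have : x * x = 1 := by nth_rewrite 1 [← e]; simp
  rw [← h.x3, pow_three', this, one_mul])

theorem z3 {y : G} (hy : y ∈ zpowers x) : y = 1 ∨ y = x ∨ y = x⁻¹ := by
  obtain ⟨k, rfl⟩ := hy
  have h3 : x ^ (3 : ℤ) = 1 := by exact_mod_cast h.x3
  have hx : x * x = x⁻¹ := eq_inv_of_mul_eq_one_left (by rw [← pow_three', h.x3])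
  beta_reduce
  rw [zpow_eq_zpow_emod k h3]
  have h0 : 0 ≤ k % 3 := Int.emod_nonneg _ (by norm_num)
  have h1 : k % 3 < 3 := Int.emod_lt_of_pos _ (by norm_num)
  interval_cases k % 3
  · left; simp
  · right; left; simp
  · right; right; rw [← hx, zpow_two]

/-- the Sylow subgroup -/
def D : Subgroup G where
  carrier := {y | y ∈ zpowers w ∨ y * v ∈ zpowers w}
  one_mem' := Or.inl (one_mem _)
  mul_mem' := by
    rintro a b (ha | ha) (hb | hb)
    · exact Or.inl (mul_mem ha hb)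
    · exact Or.inr (by rw [mul_assoc]; exact mul_mem ha hb)
    · refine Or.inr ?_
      have := mul_mem ha (inv_mem hb)
      rw [← h.inv hb, h.vi, ← mul_assoc, ← mul_assoc, mul_assoc a, h.v2, mul_one] at this
      exact this
    · refine Or.inl ?_
      have := mul_mem ha (inv_mem hb)
      rw [← h.inv hb, ← mul_assoc, ← mul_assoc, mul_assoc a, h.v2, mul_one, ← mul_assoc,
        mul_inv_cancel_right] at this
      exact this
  inv_mem' := by
    rintro a (ha | ha)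
    · exact Or.inl (inv_mem ha)
    · refine Or.inr ?_
      have := h.inv (inv_mem ha)
      rw [inv_inv, mul_inv_rev, mul_inv_cancel_left, h.vi] at this
      rw [this]; exact ha

theorem mem_D {y : G} : y ∈ h.D ↔ y ∈ zpowers w ∨ y * v ∈ zpowers w := Iff.rfl
theorem w_mem : w ∈ h.D := Or.inl (mem_zpowers w)
theorem v_mem : v ∈ h.D := Or.inr (by rw [h.v2]; exact one_mem _)

theorem sq {y : G} (hy : y * v ∈ zpowers w) : y * y = 1 := by
  have := h.inv hy
  rw [← mul_assoc, mul_inv_cancel_right, mul_inv_rev, h.vi] at this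
  exact mul_eq_one_iff_eq_inv.2 (mul_left_cancel this)

theorem D4 {y : G} (hy : y ∈ h.D) : y ^ 4 = 1 := by
  rcases hy with ⟨k, rfl⟩ | hy
  · beta_reduce
    rw [← zpow_natCast, ← zpow_mul, mul_comm, zpow_mul, zpow_natCast, h.w4, one_zpow]
  · rw [show y ^ 4 = y * y * (y * y) by simp only [pow_succ, pow_zero, one_mul, mul_assoc], h.sq hy, one_mul]

theorem pD : IsPGroup 2 h.D := fun y => ⟨2, Subtype.ext (h.D4 y.2)⟩

theorem D_le : h.D ≤ centralizer ({z} : Set G) := by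
  have h1 : zpowers w ≤ centralizer ({z} : Set G) := zpowers_le.2 (mem_centralizer_singleton_iff.2 h.wz)
  rintro y (hy | hy)
  · exact h1 hy
  · exact (mul_mem_cancel_right (mem_centralizer_singleton_iff.2 h.vz')).1 (h1 hy)

theorem N_le {g : G} (hg : g ∈ normalizer (h.D : Set G)) : g * z = z * g := by
  rcases (mem_normalizer_iff.1 hg w).1 h.w_mem with ⟨k, hk⟩ | hy
  · have e : g * z * g⁻¹ = z ^ k := by
      beta_reduce at hk
      rw [← h.ww, ← conj_mul, ← hk, ← (Commute.refl w).mul_zpow]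
    have h2 : z ^ (2 : ℤ) = 1 := by rw [zpow_two, h.z2]
    rw [zpow_eq_zpow_emod k h2] at e
    rcases Int.emod_two_eq_zero_or_one k with e' | e' <;> rw [e'] at e
    · exact absurd (conj_eq_one_iff.1 (e.trans (zpow_zero z))) h.z1
    · rw [zpow_one] at e
      exact mul_inv_eq_iff_eq_mul.1 e
  · have := h.sq hy
    rw [conj_mul, h.ww, conj_eq_one_iff] at this
    exact absurd this h.z1

theorem syl [Finite G] : H8.IsSylowIn 2 h.D ⊤ := by
  haveI : Fact (Nat.Prime 2) := ⟨Nat.prime_two⟩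
  refine H8.IsSylowIn.of_normalizer le_top ⟨le_inf le_top le_normalizer, h.pD, fun Q hQ hp hle => ?_⟩
  refine le_antisymm (fun c hc => ?_) hle
  obtain ⟨i, j, k, rfl⟩ := h.cen c (h.N_le (hQ hc).2)
  have hd : w ^ j * v ^ k ∈ h.D := mul_mem (pow_mem h.w_mem _) (pow_mem h.v_mem _)
  rw [mul_assoc] at hc ⊢
  have hx : x ^ i ∈ Q := (mul_mem_cancel_right (hle hd)).1 hc
  obtain ⟨n, hn⟩ := hp ⟨_, hx⟩
  have h1 : (x ^ i) ^ 2 ^ n = 1 := congrArg Subtype.val hn
  have h2 : (x ^ i) ^ 3 = 1 := by rw [← pow_mul, mul_comm, pow_mul, h.x3, one_pow]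
  have h3 : x ^ i = 1 := by
    have := pow_gcd_eq_one.2 ⟨h1, h2⟩
    rwa [Nat.Coprime.gcd_eq_one (Nat.Coprime.pow_left n (by norm_num)), pow_one] at this
  rw [h3, one_mul]
  exact hd

theorem ds [Finite G] : GW.DS G :=
  H3.Km.ds_of_sylow h.syl ⟨w, h.w_mem, fun _ hy hy' => h.sq (hy.resolve_left hy'), fun a ha b hb ha' hb' => by
    have h1 := ha.resolve_left ha'
    have h2 := hb.resolve_left hb'
    have := mul_mem h1 (inv_mem h2)
    rwa [← h.inv h2, ← mul_assoc, ← mul_assoc, mul_assoc a, h.v2, mul_one, ← mul_assoc,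
      mul_inv_cancel_right] at this⟩

theorem perfect [Finite G] (hG : ∀ H : Subgroup G, H.index ≠ 2) : commutator G = ⊤ := by
  haveI : Fact (Nat.Prime 2) := ⟨Nat.prime_two⟩
  let sq : Abelianization G →* Abelianization G := powMonoidHom 2
  have hs : sq.range = ⊤ := by
    by_contra hn
    have hp : IsPGroup 2 (Abelianization G ⧸ sq.range) := fun q => by
      obtain ⟨a, rfl⟩ := QuotientGroup.mk_surjective q
      exact ⟨1, by rw [pow_one, ← QuotientGroup.mk_pow, QuotientGroup.eq_one_iff]; exact ⟨a, rfl⟩⟩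
    haveI := QuotientGroup.nontrivial_iff.2 hn
    obtain ⟨M, -, -, hM⟩ := H5.exists_le_index_eq_prime hp (H := ⊥) bot_ne_top
    refine hG (M.comap ((QuotientGroup.mk' sq.range).comp Abelianization.of)) ?_
    have hsu : Function.Surjective ((QuotientGroup.mk' sq.range).comp (Abelianization.of (G := G))) :=
      (QuotientGroup.mk'_surjective _).comp QuotientGroup.mk_surjective
    rw [index_comap_of_surjective _ hsu, hM]
  have hi : Function.Injective sq := Finite.injective_iff_surjective.2 (MonoidHom.range_eq_top.1 hs)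
  have k2 : ∀ a : Abelianization G, a ^ 2 = 1 → a = 1 := fun a ha => hi (ha.trans (map_one sq).symm)
  have hD : h.D ≤ commutator G := fun y hy => by
    rw [← Abelianization.ker_of, MonoidHom.mem_ker]
    refine k2 _ (k2 _ ?_)
    rw [← pow_mul, ← map_pow, h.D4 hy, map_one]
  have hx : x ∈ commutator G := by
    rw [← Abelianization.ker_of, MonoidHom.mem_ker]
    refine k2 _ ?_
    have := congrArg Abelianization.of h.wx
    rw [map_mul, map_mul, map_inv, map_inv, mul_comm (Abelianization.of w), mul_inv_cancel_right] at this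
    rw [pow_two]
    nth_rewrite 1 [this]
    simp
  rw [eq_top_iff]
  intro g _
  obtain ⟨k, hk, hkg⟩ := (h.syl.of_le hD le_top).frattini (g := g) (by rw [normalizer_eq_top]; trivial)
  obtain ⟨i, j, l, e⟩ := h.cen _ (h.N_le hkg)
  refine (mul_mem_cancel_left hk).1 ?_
  rw [e]
  exact mul_mem (mul_mem (pow_mem hx _) (pow_mem (hD h.w_mem) _)) (pow_mem (hD h.v_mem) _)

theorem odd_mem [Finite G] {c : G} (hc : c * z = z * c) (ho : ¬ 2 ∣ orderOf c) : c ∈ zpowers x := by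
  obtain ⟨i, j, k, rfl⟩ := h.cen c hc
  have hd : w ^ j * v ^ k ∈ h.D := mul_mem (pow_mem h.w_mem _) (pow_mem h.v_mem _)
  have hn : w ^ j * v ^ k ∈ normalizer (zpowers x : Set G) := by
    refine mul_mem (pow_mem ?_ _) (pow_mem ?_ _) <;> refine H8.mem_normalizer_of_cj_le ?_ <;>
      rw [H8.cj, MonoidHom.map_zpowers, zpowers_le]
    · show w * x * w⁻¹ ∈ _
      rw [h.wx]; exact inv_mem (mem_zpowers x)
    · show v * x * v⁻¹ ∈ _
      rw [h.vx, mul_inv_cancel_right]; exact mem_zpowers x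
  rw [mul_assoc] at ho ⊢
  generalize w ^ j * v ^ k = d at *
  have key : ∀ n : ℕ, (x ^ i * d) ^ n * (d ^ n)⁻¹ ∈ zpowers x := by
    intro n
    induction n with
    | zero => simp
    | succ n ih =>
      have : (x ^ i * d) ^ (n + 1) * (d ^ (n + 1))⁻¹ = x ^ i * (d * ((x ^ i * d) ^ n * (d ^ n)⁻¹) * d⁻¹) := by
        rw [pow_succ', pow_succ']; group
      rw [this]
      exact mul_mem (pow_mem (mem_zpowers x) _) ((mem_normalizer_iff.1 hn _).1 ih)
  have h4 := key 4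
  rw [h.D4 hd, inv_one, mul_one] at h4
  refine zpowers_le.2 h4 (mem_zpowers_pow_iff.2 ?_)
  exact Nat.Coprime.pow_left 2 ((Nat.Prime.coprime_iff_not_dvd Nat.prime_two).2 ho)

theorem core [Finite G] (hG : ∀ H : Subgroup G, H.index ≠ 2) : pPrimeCore 2 G = ⊥ := by
  haveI : Fact (Nat.Prime 2) := ⟨Nat.prime_two⟩
  have hN := L0.not_dvd_card_pPrimeCore (p := 2) (G := G)
  have hn : (pPrimeCore 2 G).Normal := inferInstance
  generalize pPrimeCore 2 G = N at *
  have od : ∀ c ∈ N, c * z = z * c → c ∈ zpowers x := fun c hc hz =>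
    h.odd_mem hz fun h2 => hN (h2.trans (orderOf_dvd_natCard N hc))
  have xm : ∀ y ∈ zpowers x, y ≠ 1 → x ∈ zpowers y := by
    intro y hy h1
    rcases h.z3 hy with e | e | e
    · exact absurd e h1
    · rw [e]; exact mem_zpowers x
    · rw [e, zpowers_inv]; exact mem_zpowers x
  have fus := h.ds.fus (h.perfect hG) h.hz
  have key : ∀ t, orderOf t = 2 → x * t = t * x → N ⊓ GW.Cz t ≤ zpowers x := by
    intro t ht hxt c hc
    obtain ⟨g, rfl⟩ := isConj_iff.1 (fus t ht)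
    have cj : ∀ y ∈ N, y * (g * z * g⁻¹) = g * z * g⁻¹ * y → g⁻¹ * y * g ∈ zpowers x := by
      intro y hy e
      refine od _ (by simpa using hn.conj_mem y hy g⁻¹) ?_
      calc _ = g⁻¹ * (y * (g * z * g⁻¹)) * g := by group
        _ = _ := by rw [e]; group
    have h1 := cj c hc.1 (mem_centralizer_singleton_iff.1 hc.2)
    by_cases e : g⁻¹ * c * g = 1
    · have : c = 1 := by simpa [mul_assoc, inv_mul_eq_iff_eq_mul] using e
      rw [this]; exact one_mem _
    have h2 : x ∈ N := zpowers_le.2 (by simpa using hn.conj_mem c hc.1 g⁻¹) (xm _ h1 e)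
    have h3 := xm _ (cj x h2 hxt) (fun e' => h.x1 (by simpa [mul_assoc, inv_mul_eq_iff_eq_mul] using e'))
    obtain ⟨k, hk⟩ := zpowers_le.2 h3 h1
    refine ⟨k, ?_⟩
    beta_reduce at hk ⊢
    have : g⁻¹ * x ^ k * g = g⁻¹ * c * g := by
      rw [← hk]
      simpa using (conj_zpow (i := k) (a := g⁻¹) (b := x)).symm
    simpa using this
  have hv : orderOf v = 2 := H9.orderOf_two_of h.v1 h.v2
  have hzv : orderOf (z * v) = 2 := H9.orderOf_two_of
    (fun e => h.vz (by rw [← h.z2] at e; exact mul_left_cancel e))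
    (by rw [mul_assoc, ← mul_assoc v, h.vz', mul_assoc, h.v2, mul_one, h.z2])
  have hle : N ≤ zpowers x := GW.four_gen h.hz ⟨hv, h.vz', h.vz⟩ hN (by rw [normalizer_eq_top]; trivial)
    (by rw [normalizer_eq_top]; trivial) (key z h.hz h.xz) (key v hv h.vx.symm)
    (key _ hzv (by rw [← mul_assoc, h.xz, mul_assoc, ← h.vx, mul_assoc]))
  rw [eq_bot_iff]
  intro y hy
  by_contra h1
  have h2 : x ∈ N := zpowers_le.2 hy (xm y (hle hy) h1)
  refine hG (centralizer ({x} : Set G)) (index_eq_two_iff.2 ⟨w, fun b => ?_⟩)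
  simp only [mem_centralizer_singleton_iff, ← mul_inv_eq_iff_eq_mul]
  have e : b * w * x * (b * w)⁻¹ = (b * x * b⁻¹)⁻¹ := by
    calc _ = b * (w * x * w⁻¹) * b⁻¹ := by group
      _ = _ := by rw [h.wx]; group
  rw [e]
  rcases h.z3 (hle (hn.conj_mem x h2 b)) with e' | e' | e'
  · exact absurd (conj_eq_one_iff.1 e') h.x1
  · rw [e']; exact Or.inr ⟨rfl, h.xne⟩
  · rw [e', inv_inv]; exact Or.inl ⟨rfl, h.xne⟩

theorem main [Finite G] (hG : ∀ H : Subgroup G, H.index ≠ 2) : Nonempty (G ≃* alternatingGroup (Fin 7)) := by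
  haveI : Nontrivial G := ⟨_, _, h.z1⟩
  obtain ⟨hs, hc⟩ := H5.simple_of_ds h.ds (h.perfect hG) (h.core hG)
  rcases GW.gw hc h.ds with ⟨t', s', A', hb⟩ | h1
  swap
  · exact S0984.result h1.1
  exfalso
  obtain ⟨s, K, b, -⟩ := H5.exists_bsw hb h.hz
  have h1 : x ∈ K := (b.cent x h.xz).resolve_right fun e =>
    h.xne (inv_eq_of_mul_eq_one_right (b.mul_self_of_mul_mem e))
  have h2 : v * s ∈ K := (b.cent v h.vz').resolve_left fun e => (b.uniq v e h.v2).elim h.v1 h.vz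
  have h3 := b.comm _ h1 _ h2
  rw [← mul_assoc, ← h.vx, mul_assoc, mul_assoc, mul_right_inj] at h3
  have h4 := b.inv x h1
  rw [← h3, mul_inv_cancel_right] at h4
  exact h.xne h4.symm

end C7

theorem seven {G : Type*} [Group G] [Finite G] (hG : ∀ H : Subgroup G, H.index ≠ 2) (zt : Alt (Fin 7)) (z : G)
    (hzt : orderOf zt = 2) (hz : orderOf z = 2)
    (e : centralizer ({z} : Set G) ≃* centralizer ({zt} : Set (Alt (Fin 7)))) : Nonempty (G ≃* Alt (Fin 7)) := by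
  obtain ⟨g1, g2, g3, g4, g5, g6, g7, g8, g9, g10, s1, s2, s3, c1, c2⟩ := f1
  obtain ⟨g, hc⟩ : ∃ g : Perm (Fin 7), g * a0 * g⁻¹ = zt := by
    rw [← isConj_iff]
    have h1 : orderOf (zt : Perm (Fin 7)) = 2 := by rw [orderOf_coe, hzt]
    obtain ⟨n, hn⟩ := Perm.cycleType_prime_order (σ := (zt : Perm (Fin 7))) (h1 ▸ Nat.prime_two)
    have h2 := Perm.sum_cycleType_le (zt : Perm (Fin 7))
    have h3 := Perm.sign_of_cycleType (zt : Perm (Fin 7))
    rw [Perm.mem_alternatingGroup.1 zt.2, hn, h1, Multiset.sum_replicate, Multiset.card_replicate, smul_eq_mul] at h3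
    rw [hn, h1, Multiset.sum_replicate, smul_eq_mul, Fintype.card_fin] at h2
    have : n = 1 := by
      have : n ≤ 2 := by omega
      interval_cases n
      · exact absurd h3 (by decide)
      · rfl
      · exact absurd h3 (by decide)
    rw [Perm.isConj_iff_cycleType_eq, f3, hn, h1, this]
    rfl
  have mk : ∀ b : Perm (Fin 7), Perm.sign b = 1 → b * a0 = a0 * b →
      ∃ x : centralizer ({zt} : Set (Alt (Fin 7))), x.1.1 = g * b * g⁻¹ :=
    fun b h1 h2 => ⟨⟨⟨g * b * g⁻¹, (alternatingGroup.normal).conj_mem b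
      (Perm.mem_alternatingGroup.mpr h1) g⟩, mem_centralizer_singleton_iff.mpr (Subtype.ext (by
        show g * b * g⁻¹ * zt = zt * (g * b * g⁻¹)
        rw [← hc]
        calc _ = g * (b * a0) * g⁻¹ := by group
          _ = _ := by rw [h2]; group))⟩, rfl⟩
  obtain ⟨w, hw⟩ := mk w0 s1 (by rw [← g1, mul_assoc])
  obtain ⟨v, hv⟩ := mk v0 s2 c1
  obtain ⟨x, hx⟩ := mk x0 s3 c2
  let φ : centralizer ({zt} : Set (Alt (Fin 7))) →* Perm (Fin 7) :=
    (MulAut.conj g⁻¹).toMonoidHom.comp ((alternatingGroup (Fin 7)).subtype.comp (Subgroup.subtype _))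
  have hφ : ∀ x, φ x = g⁻¹ * x.1.1 * g := fun x => by simp [φ]
  have hφi : Function.Injective φ := (MulAut.conj g⁻¹).injective.comp
    (Subtype.val_injective.comp Subtype.val_injective)
  have hw' : φ w = w0 := by rw [hφ, hw]; group
  have hv' : φ v = v0 := by rw [hφ, hv]; group
  have hx' : φ x = x0 := by rw [hφ, hx]; group
  let f : centralizer ({zt} : Set (Alt (Fin 7))) →* G := (centralizer ({z} : Set G)).subtype.comp e.symm.toMonoidHom
  have fi : Function.Injective f := Subtype.val_injective.comp e.symm.injective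
  have tr : ∀ {a b}, φ a = φ b → f a = f b := fun h => congrArg f (hφi h)
  have tr' : ∀ {a b}, φ a ≠ φ b → f a ≠ f b := fun h h' => h (congrArg φ (fi h'))
  have nf : ∀ b, ∃ i : Fin 3, ∃ j : Fin 4, ∃ k : Fin 2, φ b = x0 ^ (i : ℕ) * w0 ^ (j : ℕ) * v0 ^ (k : ℕ) := by
    intro b
    have h1 : b.1.1 * zt = zt * b.1.1 := congrArg Subtype.val (mem_centralizer_singleton_iff.mp b.2)
    refine f2 (φ b) ?_ (by rw [hφ]; simp [Perm.mem_alternatingGroup.mp b.1.2])
    rw [hφ]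
    calc _ = g⁻¹ * (b.1.1 * (g * a0 * g⁻¹)) * g := by group
      _ = g⁻¹ * ((g * a0 * g⁻¹) * b.1.1) * g := by rw [hc, h1]
      _ = _ := by group
  have sur : ∀ c, c * z = z * c → ∃ b, f b = c := fun c hc' =>
    ⟨e ⟨c, mem_centralizer_singleton_iff.mpr hc'⟩, by simp [f]⟩
  have cz : ∀ b, f b * z = z * f b := fun b => mem_centralizer_singleton_iff.mp (e.symm b).2
  have ww : f w * f w = z := by
    obtain ⟨b, hb⟩ := sur z rfl
    obtain ⟨i, j, k, h⟩ := nf b
    have cm : ∀ a, φ b * φ a = φ a * φ b := fun a => by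
      rw [← map_mul, ← map_mul]
      exact congrArg φ (fi (by rw [map_mul, map_mul, hb, cz]))
    rcases f4 i j k (by rw [← h, ← hw', cm]) (by rw [← h, ← hv', cm]) with h' | h'
    · rw [← h, ← map_one φ] at h'
      rw [hφi h', map_one] at hb
      exact absurd hb.symm (H9.ne_one_of_orderOf_two hz)
    · rw [← map_mul, ← hb]
      exact tr (by rw [map_mul, hw', g1, h, h'])
  refine C7.main (x := f x) (w := f w) (v := f v) (z := z) ⟨?_, ?_, ww, hz, ?_, ?_, ?_, ?_, ?_, ?_, fun c hc' => ?_⟩ hG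
  · rw [← map_pow, ← map_one f]; exact tr (by rw [map_pow, hx', g5, map_one])
  · rw [← map_one f]; exact tr' (by rw [hx', map_one]; exact g6)
  · rw [← map_mul, ← map_one f]; exact tr (by rw [map_mul, hv', g2, map_one])
  · rw [← map_one f]; exact tr' (by rw [hv', map_one]; exact g10)
  · rw [← ww, ← map_mul]; exact tr' (by rw [map_mul, hv', hw', g1]; exact g9)
  · rw [← map_inv, ← map_inv, ← map_mul, ← map_mul]
    exact tr (by rw [map_mul, map_mul, map_inv, map_inv, hv', hw', g3])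
  · rw [← map_mul, ← map_mul]; exact tr (by rw [map_mul, map_mul, hv', hx', g7])
  · rw [← map_inv, ← map_inv, ← map_mul, ← map_mul]
    exact tr (by rw [map_mul, map_mul, map_inv, map_inv, hx', hw', g8])
  · obtain ⟨b, rfl⟩ := sur c hc'
    obtain ⟨i, j, k, h⟩ := nf b
    refine ⟨i, j, k, ?_⟩
    rw [← map_pow, ← map_pow, ← map_pow, ← map_mul, ← map_mul]
    exact tr (by rw [h, map_mul, map_mul, map_pow, map_pow, map_pow, hx', hw', hv'])

end B7

theorem tt7 : TT.{u} 7 := by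
  intro G _ _ α _ _ hα hG zt z hzt hz ⟨e⟩
  let ω : Alt α ≃* Alt (Fin 7) := (Fintype.equivFinOfCardEq hα).altCongrHom
  have hm : (centralizer ({zt} : Set (Alt α))).map ω.toMonoidHom = centralizer ({ω zt} : Set (Alt (Fin 7))) := by
    ext y
    obtain ⟨y, rfl⟩ := ω.surjective y
    rw [show ω y = ω.toMonoidHom y from rfl, mem_map_iff_mem ω.injective, mem_centralizer_singleton_iff,
      mem_centralizer_singleton_iff]
    show _ ↔ ω y * ω zt = ω zt * ω y
    rw [← map_mul, ← map_mul, ω.injective.eq_iff]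
  obtain ⟨e'⟩ := B7.seven hG (ω zt) z (by rw [ω.orderOf_eq, hzt]) hz
    (e.trans ((ω.subgroupMap _).trans (MulEquiv.subgroupCongr hm)))
  exact ⟨e'.trans ω.symm⟩

end Cfsg.Agent.WA.Al
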