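import Cfsg.Agent.WA.AlDef

/-! S3218, module AlCs: computations in the model. -/

set_option autoImplicit false
set_option linter.unusedSimpArgs false
set_option linter.unusedSectionVars false

namespace Cfsg.Agent.WA.Al.Cs

open Subgroup Equiv

variable {B : Type} [Fintype B] [DecidableEq B] {s : ℕ}

theorem blk_l (b c : B) (p : Perm (Fin 4)) (i : Fin 4) :
    blk s b p (Sum.inl (c, i)) = Sum.inl (c, if c = b then p i else i) := by
  by_cases h : c = b
  · subst h; simp [blk]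
  · simp [blk, h, Perm.prodExtendRight_apply_ne _ h]

theorem blk_r (b : B) (p : Perm (Fin 4)) (j : Fin (s + 2)) : blk s b p (Sum.inr j) = Sum.inr j := by
  simp [blk]

theorem rr_l (p : Perm (Fin (s + 2))) (x : B × Fin 4) : (rr s p : Perm (Pt B s)) (Sum.inl x) = Sum.inl x := by
  simp [rr]

theorem rr_r (p : Perm (Fin (s + 2))) (j : Fin (s + 2)) :
    (rr s p : Perm (Pt B s)) (Sum.inr j) = Sum.inr (p j) := by
  simp [rr]

theorem yK_l (K : Finset B) (c : B) (i : Fin 4) :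
    (yK s K).1 (Sum.inl (c, i)) = Sum.inl (c, if c ∈ K then (swap 0 1 * swap 2 3 : Perm (Fin 4)) i else i) := by
  by_cases h : c ∈ K <;> simp [yK, h]

theorem yK_r (K : Finset B) (j : Fin (s + 2)) : (yK s K).1 (Sum.inr j) = Sum.inr j := by
  simp [yK]

theorem y0_l (b c : B) (i : Fin 4) :
    (y0 s b).1 (Sum.inl (c, i)) = Sum.inl (c, if c = b then (swap 0 1 * swap 2 3 : Perm (Fin 4)) i else i) :=
  blk_l b c _ i
theorem y0_r (b : B) (j : Fin (s + 2)) : (y0 s b).1 (Sum.inr j) = Sum.inr j := blk_r b _ j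
theorem a0_l (b c : B) (i : Fin 4) :
    (a0 s b).1 (Sum.inl (c, i)) = Sum.inl (c, if c = b then (swap 0 2 * swap 1 3 : Perm (Fin 4)) i else i) :=
  blk_l b c _ i
theorem a0_r (b : B) (j : Fin (s + 2)) : (a0 s b).1 (Sum.inr j) = Sum.inr j := blk_r b _ j
theorem e0_l (b c : B) (i : Fin 4) :
    (e0 s b).1 (Sum.inl (c, i)) = Sum.inl (c, if c = b then (swap 0 1 : Perm (Fin 4)) i else i) := by
  have : (e0 s b).1 = blk s b (swap 0 1) * τ0 s := rfl
  rw [this, Perm.mul_apply, τ0, rr_l, blk_l]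
theorem e0_r (b : B) (j : Fin (s + 2)) : (e0 s b).1 (Sum.inr j) = Sum.inr (swap 0 1 j) := by
  have : (e0 s b).1 = blk s b (swap 0 1) * τ0 s := rfl
  rw [this, Perm.mul_apply, τ0, rr_r, blk_r]

theorem f4 {P : Fin 4 → Prop} (h0 : P 0) (h1 : P 1) (h2 : P 2) (h3 : P 3) : ∀ i, P i := by
  intro i; fin_cases i <;> assumption

theorem ext3 {P Q : Alt (Pt B s)} (b c : B)
    (hb : ∀ i, P.1 (Sum.inl (b, i)) = Q.1 (Sum.inl (b, i))) (hc : ∀ i, P.1 (Sum.inl (c, i)) = Q.1 (Sum.inl (c, i)))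
    (hd : ∀ d, d ≠ b → d ≠ c → ∀ i, P.1 (Sum.inl (d, i)) = Q.1 (Sum.inl (d, i)))
    (h0 : P.1 (Sum.inr 0) = Q.1 (Sum.inr 0)) (h1 : P.1 (Sum.inr 1) = Q.1 (Sum.inr 1))
    (hj : ∀ j, j ≠ 0 → j ≠ 1 → P.1 (Sum.inr j) = Q.1 (Sum.inr j)) : P = Q := by
  refine Subtype.ext (Equiv.ext ?_)
  rintro (⟨d, i⟩ | j)
  · by_cases e1 : d = b
    · subst e1; exact hb i
    · by_cases e2 : d = c
      · subst e2; exact hc i
      · exact hd d e1 e2 i
  · by_cases e1 : j = 0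
    · subst e1; exact h0
    · by_cases e2 : j = 1
      · subst e2; exact h1
      · exact hj j e1 e2

/-- a product of two transpositions -/
def s2 (x y u v : Pt B s) (h : x ≠ y) (h' : u ≠ v) : Alt (Pt B s) :=
  ⟨swap x y * swap u v, by rw [Perm.mem_alternatingGroup, map_mul, Perm.sign_swap h, Perm.sign_swap h']; decide⟩

theorem s2_ap (x y u v : Pt B s) (h : x ≠ y) (h' : u ≠ v) (w : Pt B s) :
    (s2 x y u v h h').1 w = swap x y (swap u v w) := rfl

theorem mul_ap (p q : Alt (Pt B s)) (w : Pt B s) : (p * q).1 w = p.1 (q.1 w) := rfl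

theorem ua0 (K : Finset B) (b : B) (hb : b ∉ K) : ∃ g : Alt (Pt B s), g * yK s K = yK s K * g ∧
    g * y0 s b * g⁻¹ = y0 s b * a0 s b ∧ g * a0 s b = a0 s b * g ∧
    ∀ c, c ≠ b → g * y0 s c = y0 s c * g ∧ g * a0 s c = a0 s c * g ∧ g * e0 s c = e0 s c * g := by
  refine ⟨s2 (Sum.inl (b, 0)) (Sum.inl (b, 2)) (Sum.inr 0) (Sum.inr 1) (by simp) (by simp), ?_, ?_, ?_,
    fun c hc => ⟨?_, ?_, ?_⟩⟩
  · refine ext3 b b (f4 ?_ ?_ ?_ ?_) (f4 ?_ ?_ ?_ ?_) (fun d h1 h2 i => ?_) ?_ ?_ (fun j h1 h2 => ?_) <;>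
      simp [mul_ap, s2_ap, yK_l, yK_r, swap_apply_def, *]
  · rw [mul_inv_eq_iff_eq_mul]
    refine ext3 b b (f4 ?_ ?_ ?_ ?_) (f4 ?_ ?_ ?_ ?_) (fun d h1 h2 i => ?_) ?_ ?_ (fun j h1 h2 => ?_) <;>
      simp [mul_ap, s2_ap, y0_l, y0_r, a0_l, a0_r, e0_l, e0_r, swap_apply_def, *]
  · refine ext3 b b (f4 ?_ ?_ ?_ ?_) (f4 ?_ ?_ ?_ ?_) (fun d h1 h2 i => ?_) ?_ ?_ (fun j h1 h2 => ?_) <;>
      simp [mul_ap, s2_ap, y0_l, y0_r, a0_l, a0_r, e0_l, e0_r, swap_apply_def, *]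
  all_goals
    have hc' : b ≠ c := Ne.symm hc
    refine ext3 b c (f4 ?_ ?_ ?_ ?_) (f4 ?_ ?_ ?_ ?_) (fun d h1 h2 i => ?_) ?_ ?_ (fun j h1 h2 => ?_) <;>
      simp [mul_ap, s2_ap, y0_l, y0_r, a0_l, a0_r, e0_l, e0_r, swap_apply_def, *]

theorem ue0 (K : Finset B) (b : B) (hb : b ∉ K) : ∃ g : Alt (Pt B s), g * yK s K = yK s K * g ∧
    g * y0 s b * g⁻¹ = e0 s b ∧ g * e0 s b * g⁻¹ = y0 s b ∧
    ∀ c, c ≠ b → g * y0 s c = y0 s c * g ∧ g * a0 s c = a0 s c * g ∧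
      g * e0 s c * g⁻¹ = e0 s c * (y0 s b * e0 s b) := by
  refine ⟨s2 (Sum.inl (b, 2)) (Sum.inr 0) (Sum.inl (b, 3)) (Sum.inr 1) (by simp) (by simp), ?_, ?_, ?_,
    fun c hc => ⟨?_, ?_, ?_⟩⟩
  · refine ext3 b b (f4 ?_ ?_ ?_ ?_) (f4 ?_ ?_ ?_ ?_) (fun d h1 h2 i => ?_) ?_ ?_ (fun j h1 h2 => ?_) <;>
      simp [mul_ap, s2_ap, yK_l, yK_r, swap_apply_def, *]
  · rw [mul_inv_eq_iff_eq_mul]
    refine ext3 b b (f4 ?_ ?_ ?_ ?_) (f4 ?_ ?_ ?_ ?_) (fun d h1 h2 i => ?_) ?_ ?_ (fun j h1 h2 => ?_) <;>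
      simp [mul_ap, s2_ap, y0_l, y0_r, a0_l, a0_r, e0_l, e0_r, swap_apply_def, *]
  · rw [mul_inv_eq_iff_eq_mul]
    refine ext3 b b (f4 ?_ ?_ ?_ ?_) (f4 ?_ ?_ ?_ ?_) (fun d h1 h2 i => ?_) ?_ ?_ (fun j h1 h2 => ?_) <;>
      simp [mul_ap, s2_ap, y0_l, y0_r, a0_l, a0_r, e0_l, e0_r, swap_apply_def, *]
  all_goals
    have hc' : b ≠ c := Ne.symm hc
    try rw [mul_inv_eq_iff_eq_mul]
    refine ext3 b c (f4 ?_ ?_ ?_ ?_) (f4 ?_ ?_ ?_ ?_) (fun d h1 h2 i => ?_) ?_ ?_ (fun j h1 h2 => ?_) <;>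
      simp [mul_ap, s2_ap, y0_l, y0_r, a0_l, a0_r, e0_l, e0_r, swap_apply_def, *]

theorem sp0 (K : Finset B) (b : B) (hb : b ∈ K) (c : B) (hc : c ∈ K) (hbc : b ≠ c) :
    ∃ g : Alt (Pt B s), g * yK s K = yK s K * g ∧ g * y0 s b * g⁻¹ = e0 s b * e0 s c ∧
      g * e0 s b * g⁻¹ = e0 s b ∧ g * e0 s c * g⁻¹ = e0 s b * y0 s b ∧
      g * y0 s c * g⁻¹ = y0 s b * y0 s c * e0 s b * e0 s c := by
  have hc' : c ≠ b := Ne.symm hbc
  refine ⟨s2 (Sum.inl (b, 2)) (Sum.inl (c, 0)) (Sum.inl (b, 3)) (Sum.inl (c, 1)) (by simp) (by simp),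
    ?_, ?_, ?_, ?_, ?_⟩
  all_goals
    try rw [mul_inv_eq_iff_eq_mul]
    refine ext3 b c (f4 ?_ ?_ ?_ ?_) (f4 ?_ ?_ ?_ ?_) (fun d h1 h2 i => ?_) ?_ ?_ (fun j h1 h2 => ?_) <;>
      simp [mul_ap, s2_ap, yK_l, yK_r, y0_l, y0_r, a0_l, a0_r, e0_l, e0_r, swap_apply_def, *]

/-- the permutation of the blocks -/
def pb (s : ℕ) (π : Perm B) : Alt (Pt B s) :=
  ⟨Perm.sumCongr (prodCongrLeft fun _ : Fin 4 => π) 1, by
    rw [Perm.mem_alternatingGroup, Perm.sign_sumCongr, Perm.sign_prodCongrLeft, map_one, mul_one,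
      Finset.prod_const, Finset.card_univ, Fintype.card_fin]
    rcases Int.units_eq_one_or (Perm.sign π) with h | h <;> rw [h] <;> decide⟩

theorem pb_l (π : Perm B) (c : B) (i : Fin 4) : (pb s π).1 (Sum.inl (c, i)) = Sum.inl (π c, i) := by
  simp [pb]

theorem pb_r (π : Perm B) (j : Fin (s + 2)) : (pb s π).1 (Sum.inr j) = Sum.inr j := by
  simp [pb]

theorem sw0 (K : Finset B) (b c : B) (h : b ∈ K ↔ c ∈ K) : ∃ g : Alt (Pt B s), g * yK s K = yK s K * g ∧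
    ∀ d, g * y0 s d * g⁻¹ = y0 s (swap b c d) ∧ g * a0 s d * g⁻¹ = a0 s (swap b c d) ∧
      g * e0 s d * g⁻¹ = e0 s (swap b c d) := by
  have hK : ∀ d, swap b c d ∈ K ↔ d ∈ K := by
    intro d
    rw [swap_apply_def]
    split_ifs with h1 h2
    · rw [h1]; exact h.symm
    · rw [h2]; exact h
    · rfl
  refine ⟨pb s (swap b c), ?_, fun d => ⟨?_, ?_, ?_⟩⟩
  all_goals
    try rw [mul_inv_eq_iff_eq_mul]
    refine Subtype.ext (Equiv.ext ?_)
    rintro (⟨x, i⟩ | j) <;>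
      simp only [mul_ap, pb_l, pb_r, yK_l, yK_r, y0_l, y0_r, a0_l, a0_r, e0_l, e0_r, hK,
        EmbeddingLike.apply_eq_iff_eq]

theorem x30 (hs : s = 1) : ∃ x : Alt (Pt B s), orderOf x = 3 ∧ (∀ K, x * yK s K = yK s K * x) ∧
    ∀ b, x * y0 s b = y0 s b * x ∧ x * a0 s b = a0 s b * x := by
  subst hs
  refine ⟨⟨rr 1 (swap 0 2 * swap 0 1), by rw [Perm.mem_alternatingGroup, sign_rr]; decide⟩, ?_, fun K => ?_,
    fun b => ⟨?_, ?_⟩⟩
  · haveI : Fact (Nat.Prime 3) := ⟨Nat.prime_three⟩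
    refine orderOf_eq_prime ?_ ?_
    · refine Subtype.ext (Equiv.ext ?_)
      rintro (x | j)
      · simp [pow_succ, mul_ap, rr_l]
      · simp only [pow_succ, pow_zero, one_mul, mul_ap, rr_r]
        show _ = Sum.inr j
        congr 1
        revert j; decide
    · intro h
      have := congrArg (fun p : Alt (Pt B 1) => p.1 (Sum.inr 0)) h
      simp only [rr_r] at this
      have h2 : (swap 0 2 * swap 0 1 : Perm (Fin (1 + 2))) 0 = 0 := Sum.inr_injective this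
      revert h2; decide
  all_goals
    refine Subtype.ext (Equiv.ext ?_)
    rintro (⟨x, i⟩ | j) <;>
      simp only [mul_ap, rr_l, rr_r, yK_l, yK_r, y0_l, y0_r, a0_l, a0_r]

/-! ### characters of `C(yK)` -/

theorem exists_chi {Ω : Type} [Fintype Ω] [DecidableEq Ω] (t : Alt Ω) (D : Ω → Prop) [DecidablePred D] (r : Ω → Ω)
    (h1 : ∀ x, D x → r x = x) (h2 : ∀ p : Alt Ω, p * t = t * p → ∀ x, D x → D (r (p.1 x)))
    (h3 : ∀ p : Alt Ω, p * t = t * p → ∀ x, r (p.1 (r x)) = r (p.1 x)) :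
    ∃ χ : Alt Ω → ℤˣ, (∀ p q, p * t = t * p → q * t = t * q → χ (p * q) = χ p * χ q) ∧
      ∀ p, p * t = t * p → ∀ q : Perm Ω, (∀ x, q x = if D x then r (p.1 x) else x) → χ p = Perm.sign q := by
  classical
  have hinv : ∀ p : Alt Ω, p * t = t * p → p⁻¹ * t = t * p⁻¹ := fun p hp => (Commute.inv_left hp :)
  have key : ∀ p q : Alt Ω, p * t = t * p → q * t = t * q → ∀ x,
      (if D (if D x then r (q.1 x) else x) then r (p.1 (if D x then r (q.1 x) else x)) else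
        (if D x then r (q.1 x) else x)) = if D x then r ((p * q).1 x) else x := by
    intro p q hp hq x
    by_cases hx : D x
    · simp only [hx, if_true, h2 q hq x hx, h3 p hp]; rfl
    · simp only [hx, if_false]
  let ind : ∀ p : Alt Ω, p * t = t * p → Perm Ω := fun p hp =>
    { toFun := fun x => if D x then r (p.1 x) else x
      invFun := fun x => if D x then r ((p⁻¹).1 x) else x
      left_inv := fun x => by
        have := key p⁻¹ p (hinv p hp) hp x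
        rw [inv_mul_cancel] at this
        refine this.trans ?_
        split_ifs with h
        · exact h1 x h
        · rfl
      right_inv := fun x => by
        have := key p p⁻¹ hp (hinv p hp) x
        rw [mul_inv_cancel] at this
        refine this.trans ?_
        split_ifs with h
        · exact h1 x h
        · rfl }
  refine ⟨fun p => if hp : p * t = t * p then Perm.sign (ind p hp) else 1, fun p q hp hq => ?_, fun p hp q hq => ?_⟩
  · have hpq : p * q * t = t * (p * q) := (Commute.mul_left hp hq :)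
    simp only [dif_pos hp, dif_pos hq, dif_pos hpq]
    rw [← map_mul]
    congr 1
    exact Equiv.ext fun x => (key p q hp hq x).symm
  · simp only [dif_pos hp]
    congr 1
    exact Equiv.ext fun x => (hq x).symm

theorem yK_yK (K : Finset B) (x : Pt B s) : (yK s K).1 ((yK s K).1 x) = x := by
  rcases x with ⟨c, i⟩ | j
  · simp only [yK_l]
    split_ifs
    · congr 2; revert i; decide
    · rfl
  · simp only [yK_r]

theorem cm_ap {p t : Alt (Pt B s)} (h : p * t = t * p) (x : Pt B s) : p.1 (t.1 x) = t.1 (p.1 x) :=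
  congrArg (fun q : Alt (Pt B s) => q.1 x) h

theorem chi2 (K : Finset B) (ha : ∀ b, a0 s b * yK s K = yK s K * a0 s b)
    (he : ∀ b, e0 s b * yK s K = yK s K * e0 s b) :
    ∃ χ : Alt (Pt B s) → ℤˣ, (∀ p q, p * yK s K = yK s K * p → q * yK s K = yK s K * q → χ (p * q) = χ p * χ q) ∧
      (∀ b, χ (a0 s b) = 1) ∧ ∀ b, χ (e0 s b) = if b ∈ K then -1 else 1 := by
  obtain ⟨χ, m, v⟩ := exists_chi (yK s K) (fun x => (yK s K).1 x = x) id (fun _ _ => rfl)
    (fun p hp x hx => by simp only [id]; rw [← cm_ap hp, hx]) (fun _ _ _ => rfl)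
  refine ⟨χ, m, fun b => ?_, fun b => ?_⟩
  · by_cases hb : b ∈ K
    · rw [v _ (ha b) 1, map_one]
      rintro (⟨c, i⟩ | j)
      · by_cases hc : c = b
        · subst hc; revert i
          refine f4 ?_ ?_ ?_ ?_ <;> simp [yK_l, a0_l, swap_apply_def, hb]
        · simp [a0_l, hc]
      · simp [a0_r]
    · rw [v _ (ha b) (a0 s b).1]
      · exact (a0 s b).2
      rintro (⟨c, i⟩ | j)
      · by_cases hc : c = b
        · subst hc; simp [yK_l, hb]
        · simp [a0_l, hc]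
      · simp [a0_r]
  · by_cases hb : b ∈ K
    · rw [v _ (he b) (τ0 s), if_pos hb, τ0, sign_rr, Perm.sign_swap Fin.zero_ne_one]
      rintro (⟨c, i⟩ | j)
      · by_cases hc : c = b
        · subst hc; revert i
          refine f4 ?_ ?_ ?_ ?_ <;> simp [yK_l, e0_l, swap_apply_def, hb, τ0, rr_l]
        · simp [e0_l, hc, τ0, rr_l]
      · simp [e0_r, yK_r, τ0, rr_r]
    · rw [v _ (he b) (e0 s b).1, if_neg hb]
      · exact (e0 s b).2
      rintro (⟨c, i⟩ | j)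
      · by_cases hc : c = b
        · subst hc; simp [yK_l, hb]
        · simp [e0_l, hc]
      · simp [yK_r]

/-- the representative of the `yK`-orbit -/
def rep (s : ℕ) (K : Finset B) : Pt B s → Pt B s
  | Sum.inl (c, i) => Sum.inl (c, if c ∈ K then ![0, 0, 2, 2] i else i)
  | Sum.inr j => Sum.inr j

theorem rep_l (K : Finset B) (c : B) (i : Fin 4) :
    rep s K (Sum.inl (c, i)) = Sum.inl (c, if c ∈ K then ![0, 0, 2, 2] i else i) := rfl
theorem rep_r (K : Finset B) (j : Fin (s + 2)) : rep s K (Sum.inr j) = Sum.inr j := rfl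

theorem rep_or (K : Finset B) (x : Pt B s) : rep s K x = x ∨ rep s K x = (yK s K).1 x := by
  rcases x with ⟨c, i⟩ | j
  · by_cases hc : c ∈ K
    · revert i
      refine f4 ?_ ?_ ?_ ?_ <;> simp [rep_l, yK_l, hc, swap_apply_def]
    · simp [rep_l, hc]
  · simp [rep_r]

theorem rep_yK (K : Finset B) (x : Pt B s) : rep s K ((yK s K).1 x) = rep s K x := by
  rcases x with ⟨c, i⟩ | j
  · by_cases hc : c ∈ K
    · revert i
      refine f4 ?_ ?_ ?_ ?_ <;> simp [rep_l, yK_l, hc, swap_apply_def]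
    · simp [rep_l, yK_l, hc]
  · simp [rep_r, yK_r]

theorem chi1 (K : Finset B) (ha : ∀ b, a0 s b * yK s K = yK s K * a0 s b)
    (he : ∀ b, e0 s b * yK s K = yK s K * e0 s b) :
    ∃ χ : Alt (Pt B s) → ℤˣ, (∀ p q, p * yK s K = yK s K * p → q * yK s K = yK s K * q → χ (p * q) = χ p * χ q) ∧
      (∀ b, χ (a0 s b) = if b ∈ K then -1 else 1) ∧ ∀ b, χ (e0 s b) = 1 := by
  have hrr : ∀ x, rep s K (rep s K x) = rep s K x := by
    intro x
    rcases rep_or K x with h | h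
    · rw [h, h]
    · rw [h, rep_yK, h]
  obtain ⟨χ, m, v⟩ := exists_chi (yK s K) (fun x => rep s K x = x ∧ (yK s K).1 x ≠ x) (rep s K) (fun _ h => h.1)
    (fun p hp x hx => by
      refine ⟨hrr _, ?_⟩
      have h1 : (yK s K).1 (p.1 x) ≠ p.1 x := by
        rw [← cm_ap hp]; exact fun h => hx.2 (p.1.injective h)
      rcases rep_or K (p.1 x) with h | h <;> rw [h]
      · exact h1
      · rw [yK_yK]; exact h1.symm)
    (fun p hp x => by
      rcases rep_or K x with h | h <;> rw [h]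
      rw [cm_ap hp, rep_yK])
  refine ⟨χ, m, fun b => ?_, fun b => ?_⟩
  · by_cases hb : b ∈ K
    · rw [v _ (ha b) (swap (Sum.inl (b, 0)) (Sum.inl (b, 2))), if_pos hb, Perm.sign_swap (by simp)]
      rintro (⟨c, i⟩ | j)
      · by_cases hc : c = b
        · subst hc; revert i
          refine f4 ?_ ?_ ?_ ?_ <;> simp [yK_l, a0_l, rep_l, swap_apply_def, hb]
        · simp +contextual [a0_l, hc, swap_apply_def]
      · simp [yK_r, swap_apply_def]
    · rw [v _ (ha b) 1, map_one, if_neg hb]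
      rintro (⟨c, i⟩ | j)
      · by_cases hc : c = b
        · subst hc; simp [yK_l, hb]
        · simp +contextual [a0_l, hc]
      · simp [yK_r]
  · rw [v _ (he b) 1, map_one]
    rintro (⟨c, i⟩ | j)
    · by_cases hc : c = b
      · subst hc
        by_cases hb : c ∈ K
        · revert i
          refine f4 ?_ ?_ ?_ ?_ <;> simp [yK_l, e0_l, rep_l, swap_apply_def, hb]
        · simp [yK_l, hb]
      · simp +contextual [e0_l, hc]
    · simp [yK_r]

end Cfsg.Agent.WA.Al.Cs
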