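import Cfsg.Agent.H8.SylowIn
import Mathlib.GroupTheory.Sylow
import Mathlib.GroupTheory.SpecificGroups.Alternating
import Mathlib.Data.Finset.NoncommProd

/-! Frames for S3218 (see PLAN_AL.md). Conjugation is always written `g * x * g⁻¹`. -/

set_option autoImplicit false

namespace Cfsg.Agent.WA.Al

open Subgroup Equiv

universe u

/-- every `2`-subgroup of `H` has order at most `n`. -/
def Bd {G : Type*} [Group G] (H : Subgroup G) (n : ℕ) : Prop :=
  ∀ P : Subgroup G, IsPGroup 2 P → P ≤ H → Nat.card P ≤ n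

/-- the subgroup generated by the elements of odd order of `H`. -/
def Od {G : Type*} [Group G] (H : Subgroup G) : Subgroup G := closure {x | x ∈ H ∧ Odd (orderOf x)}

/-- `g` induces on `A` a transvection with centre `c`. -/
structure Tv {G : Type*} [Group G] (A : Subgroup G) (g c : G) : Prop where
  norm : g ∈ normalizer (A : Set G)
  ne : c ≠ 1
  mv : ∃ x ∈ A, g * x * g⁻¹ ≠ x
  act : ∀ x ∈ A, g * x * g⁻¹ = x ∨ g * x * g⁻¹ = x * c

/-- `t` has odd order and permutes `p, q, p q` cyclically. -/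
structure Rot {G : Type*} [Group G] (t p q : G) : Prop where
  odd : Odd (orderOf t)
  h1 : t * p * t⁻¹ = q
  h2 : t * q * t⁻¹ = p * q

/-- A direct product of dihedral groups `⟨a b, e b⟩` of order 8 with centres `⟨y b⟩`. -/
structure JF (G : Type*) [Group G] (B : Type) where
  y : B → G
  a : B → G
  e : B → G
  a2 : ∀ b, a b * a b = 1
  e2 : ∀ b, e b * e b = 1
  y2 : ∀ b, y b * y b = 1
  ae : ∀ b, a b * e b * a b * e b = y b
  aa : ∀ b c, a b * a c = a c * a b
  ee : ∀ b c, e b * e c = e c * e b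
  ac : ∀ b c, b ≠ c → a b * e c = e c * a b
  ya : ∀ b c, y b * a c = a c * y b
  ye : ∀ b c, y b * e c = e c * y b
  yy : ∀ b c, Commute (y b) (y c)
  ind : ∀ P : Finset B, P.noncommProd y (fun b _ c _ _ => yy b c) = 1 → P = ∅

namespace JF

variable {G : Type*} [Group G] {B : Type} (F : JF G B)

def yP (P : Finset B) : G := P.noncommProd F.y (fun b _ c _ _ => F.yy b c)
def Z : Subgroup G := closure (Set.range F.y)
def J : Subgroup G := closure (Set.range F.a ∪ Set.range F.e)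
/-- the chosen half of block `b` -/
def h (I : B → Bool) (b : B) : G := if I b then F.a b else F.e b
/-- the other half of block `b`; it induces the frame transvection with centre `y b` on `A I` -/
def o (I : B → Bool) (b : B) : G := if I b then F.e b else F.a b
theorem hh (I : B → Bool) (b c : B) : Commute (F.h I b) (F.h I c) := by
  unfold h
  by_cases hbc : b = c
  · subst hbc; exact Commute.refl _
  · cases I b <;> cases I c <;> simp only [if_true, if_false, Bool.false_eq_true]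
    · exact F.ee b c
    · exact (F.ac c b (Ne.symm hbc)).symm
    · exact F.ac b c hbc
    · exact F.aa b c
def hP (I : B → Bool) (Q : Finset B) : G := Q.noncommProd (F.h I) (fun b _ c _ _ => F.hh I b c)
def A (I : B → Bool) : Subgroup G := closure (Set.range F.y ∪ Set.range (F.h I))
def V (b : B) : Subgroup G := closure {F.y b, F.a b}
/-- `J` is a Sylow subgroup of `C(Z)` -/
def JG [Fintype B] : Prop := Bd (centralizer (Set.range F.y)) (8 ^ Fintype.card B)

end JF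

/-! ### the model -/

/-- blocks of four points and `s + 2` further points -/
abbrev Pt (B : Type) (s : ℕ) : Type := (B × Fin 4) ⊕ Fin (s + 2)

section model

variable {B : Type} [Fintype B] [DecidableEq B] (s : ℕ)

abbrev Alt (α : Type) [Fintype α] [DecidableEq α] : Type := alternatingGroup α

def blk (b : B) (p : Perm (Fin 4)) : Perm (Pt B s) := Perm.sumCongr (Perm.prodExtendRight b p) 1
def rr (p : Perm (Fin (s + 2))) : Perm (Pt B s) := Perm.sumCongr 1 p

theorem sign_blk (b : B) (p : Perm (Fin 4)) : Perm.sign (blk s b p) = Perm.sign p := by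
  simp [blk, Perm.sign_sumCongr, Perm.sign_prodExtendRight]

theorem sign_rr (p : Perm (Fin (s + 2))) : Perm.sign (rr s p : Perm (Pt B s)) = Perm.sign p := by
  simp [rr, Perm.sign_sumCongr]

def y0 (b : B) : Alt (Pt B s) :=
  ⟨blk s b (swap 0 1 * swap 2 3), by rw [Perm.mem_alternatingGroup, sign_blk]; decide⟩
def a0 (b : B) : Alt (Pt B s) :=
  ⟨blk s b (swap 0 2 * swap 1 3), by rw [Perm.mem_alternatingGroup, sign_blk]; decide⟩
/-- the transposition of the first two further points -/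
def τ0 : Perm (Pt B s) := rr s (swap 0 1)
def e0 (b : B) : Alt (Pt B s) :=
  ⟨blk s b (swap 0 1) * τ0 s, by
    rw [Perm.mem_alternatingGroup, map_mul, sign_blk, τ0, sign_rr, Perm.sign_swap (by decide),
      Perm.sign_swap (Fin.zero_ne_one)]; decide⟩
/-- the product of the `y0 b`, `b ∈ K` -/
def yK (K : Finset B) : Alt (Pt B s) :=
  ⟨Perm.sumCongr (prodCongrRight fun b => if b ∈ K then swap 0 1 * swap 2 3 else 1) 1, by
    rw [Perm.mem_alternatingGroup, Perm.sign_sumCongr, Perm.sign_prodCongrRight, map_one, mul_one]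
    refine Finset.prod_eq_one fun b _ => ?_
    split_ifs
    · decide
    · exact map_one _⟩
/-- the points of block `b` -/
def pts (b : B) : Finset (Pt B s) := Finset.univ.image fun i : Fin 4 => Sum.inl (b, i)

/-- the 3-cycle `a ↦ b ↦ i ↦ a` -/
def c3 {α : Type} [Fintype α] [DecidableEq α] (a b i : α) (hb : a ≠ b) (hi : a ≠ i) : Alt α :=
  ⟨swap a i * swap a b, by rw [Perm.mem_alternatingGroup, map_mul, Perm.sign_swap hi, Perm.sign_swap hb]; decide⟩

end model

/-- the statement for degree `m` -/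
def TT (m : ℕ) : Prop :=
  ∀ (G : Type u) [Group G] [Finite G] (α : Type) [Fintype α] [DecidableEq α], Fintype.card α = m →
    (∀ H : Subgroup G, H.index ≠ 2) → ∀ (zt : Alt α) (z : G), orderOf zt = 2 → orderOf z = 2 →
    Nonempty (centralizer ({z} : Set G) ≃* centralizer ({zt} : Set (Alt α))) → Nonempty (G ≃* Alt α)

/-- an isomorphism of the centralizer of `yK K` in the model onto `C(z)` -/
structure Chart (G : Type*) [Group G] (B : Type) [Fintype B] [DecidableEq B] (s : ℕ) where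
  K : Finset B
  z : G
  f : Alt (Pt B s) → G
  hs : s ≤ 1
  ne : K.Nonempty
  mul : ∀ p q, p * yK s K = yK s K * p → q * yK s K = yK s K * q → f (p * q) = f p * f q
  inj : ∀ p, p * yK s K = yK s K * p → f p = 1 → p = 1
  cen : ∀ g, g * z = z * g ↔ ∃ p, p * yK s K = yK s K * p ∧ f p = g
  fz : f (yK s K) = z

/-- what the fusion arguments use of a chart -/
structure CS (G : Type*) [Group G] (B : Type) [Fintype B] [DecidableEq B] (s : ℕ) extends JF G B where
  K : Finset B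
  z : G
  hz : z = toJF.yP K
  jg : toJF.JG
  c1 : ∀ I : B → Bool, (∀ b ∈ K, ∀ c ∈ K, I b = false → I c = false → b = c) →
    ∀ g ∈ normalizer (toJF.A I : Set G), g * z = z * g → ∀ b ∈ K, ∃ c ∈ K, g * y b * g⁻¹ = y c
  ua : ∀ b, b ∉ K → ∃ g, g * z = z * g ∧ g * y b * g⁻¹ = y b * a b ∧ g * a b = a b * g ∧
    ∀ c, c ≠ b → g * y c = y c * g ∧ g * a c = a c * g ∧ g * e c = e c * g
  ue : ∀ b, b ∉ K → ∃ g, g * z = z * g ∧ g * y b * g⁻¹ = e b ∧ g * e b * g⁻¹ = y b ∧
    ∀ c, c ≠ b → g * y c = y c * g ∧ g * a c = a c * g ∧ g * e c * g⁻¹ = e c * (y b * e b)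
  sw : ∀ b c, (b ∈ K ↔ c ∈ K) → ∃ g, g * z = z * g ∧ ∀ d, g * y d * g⁻¹ = y (swap b c d) ∧
    g * a d * g⁻¹ = a (swap b c d) ∧ g * e d * g⁻¹ = e (swap b c d)
  sp : ∀ b ∈ K, ∀ c ∈ K, b ≠ c → ∃ g, g * z = z * g ∧ g * y b * g⁻¹ = e b * e c ∧ g * e b * g⁻¹ = e b ∧
    g * e c * g⁻¹ = e b * y b ∧ g * y c * g⁻¹ = y b * y c * e b * e c
  χ₁ : G → ℤˣ
  χ₂ : G → ℤˣ
  m₁ : ∀ g h, g * z = z * g → h * z = z * h → χ₁ (g * h) = χ₁ g * χ₁ h
  m₂ : ∀ g h, g * z = z * g → h * z = z * h → χ₂ (g * h) = χ₂ g * χ₂ h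
  a₁ : ∀ b, χ₁ (a b) = if b ∈ K then -1 else 1
  e₁ : ∀ b, χ₁ (e b) = 1
  a₂ : ∀ b, χ₂ (a b) = 1
  e₂ : ∀ b, χ₂ (e b) = if b ∈ K then -1 else 1
  x3 : s = 1 → ∃ x, orderOf x = 3 ∧ ∀ b, x * y b = y b * x ∧ x * a b = a b * x
  cz : ∀ b ∈ K, ∀ v ∈ toJF.V b, v ≠ 1 → ∀ x, Odd (orderOf x) → x * z = z * x → x * v = v * x →
    x ∈ centralizer (toJF.V b : Set G)

/-- `S` is read off from the chart `C` -/
structure Fits {G : Type*} [Group G] {B : Type} [Fintype B] [DecidableEq B] {s : ℕ} (C : Chart G B s)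
    (S : CS G B s) : Prop where
  K : S.K = C.K
  z : S.z = C.z
  y : ∀ b, S.y b = C.f (y0 s b)
  a : ∀ b, S.a b = C.f (a0 s b)
  e : ∀ b, S.e b = C.f (e0 s b)

/-- the result of the fusion analysis when `K` has two blocks `b₁, b₂` (untwisted form: `w = 1`) -/
structure Two {G : Type*} [Group G] {B : Type} [Fintype B] [DecidableEq B] {s : ℕ} (S : CS G B s) (b₁ b₂ : B)
    (w : G) : Prop where
  m1 : b₁ ∈ S.K
  m2 : b₂ ∈ S.K
  ne : b₁ ≠ b₂
  r1 : ∃ t, Rot t (S.y b₁) (S.a b₁ * w) ∧ ∀ b, b ≠ b₁ → t * S.y b = S.y b * t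
  r2 : ∃ t, Rot t (S.y b₂) (S.a b₂ * w) ∧ t * S.y b₁ = S.y b₁ * t ∧ t * (S.a b₁ * w) = (S.a b₁ * w) * t
  r3 : ∃ t c, Rot t (S.y b₂) c ∧ t * S.y b₁ = S.y b₁ * t ∧ t * (S.a b₁ * w) = (S.a b₁ * w) * t ∧
    c * S.e b₂ ∈ closure (Set.range S.y ∪ {x | ∃ b, b ∉ S.K ∧ x = S.a b})

/-- `C(V) = V × K` with `K` alternating, `V = V b₁`. -/
structure Mid (G : Type*) [Group G] (B : Type) [Fintype B] [DecidableEq B] (s : ℕ) extends JF G B where
  hs : s ≤ 1
  jg : toJF.JG
  b₁ : B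
  b₂ : B
  ne : b₂ ≠ b₁
  r1 : ∃ t, Rot t (y b₁) (a b₁)
  κ : Alt (Pt {b // b ≠ b₁} s) →* G
  inj : Function.Injective κ
  cV : centralizer (toJF.V b₁ : Set G) = toJF.V b₁ ⊔ κ.range
  disj : toJF.V b₁ ⊓ κ.range = ⊥
  v2 : toJF.V b₂ ≤ κ.range
  σ : G
  σJ : σ ∈ normalizer (toJF.J : Set G)
  σy : ∀ b, σ * y b * σ⁻¹ = y (swap b₁ b₂ b)
  σ1 : H8.cj σ (toJF.V b₁) = toJF.V b₂
  σ2 : H8.cj σ (toJF.V b₂) = toJF.V b₁
  alt : (centralizer ({y b₁} : Set G) ≤ normalizer (toJF.V b₁ : Set G) ∧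
      ∀ ζ ∈ toJF.Z, e b₁ * ζ ∉ centralizer (κ.range : Set G)) ∨
    ((∃ ζ ∈ toJF.Z, IsConj (y b₁) (e b₁ * e b₂ * ζ)) ∧ ∃ P : Finset B, b₁ ∈ P ∧ ∀ v ∈ toJF.V b₁, v ≠ 1 →
      ∀ x, Odd (orderOf x) → x * toJF.yP P = toJF.yP P * x → x * v = v * x → x ∈ centralizer (toJF.V b₁ : Set G))
  x3 : s = 1 → Fintype.card B = 2 → ∃ x, orderOf x = 3 ∧ x ∈ centralizer (toJF.V b₁ : Set G) ∧
    x ∈ centralizer (toJF.V b₂ : Set G)

namespace Mid

variable {G : Type*} [Group G] {B : Type} [Fintype B] [DecidableEq B] {s : ℕ} (M : Mid G B s)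

/-- the labels of `K` match the `y b` -/
def LabY : Prop := ∀ b : {b // b ≠ M.b₁}, M.κ (y0 s b) = M.y b

/-- the labels of `K` match the frame -/
def Lab : Prop := ∀ b : {b // b ≠ M.b₁}, M.κ (y0 s b) = M.y b ∧ M.κ (a0 s b) = M.a b ∧ M.κ (e0 s b) = M.e b

/-- `e b₁` acts on `K` as the transposition `τ0`, and `e b₁ y_P` has the weight of `y b₁ y_P` -/
def Out : Prop :=
  (∀ p q : Alt (Pt {b // b ≠ M.b₁} s), q.1 = τ0 s * p.1 * (τ0 s)⁻¹ → M.e M.b₁ * M.κ p * (M.e M.b₁)⁻¹ = M.κ q) ∧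
  ∀ P : Finset B, M.b₁ ∉ P → IsConj (M.e M.b₁ * M.yP P) (M.y M.b₁ * M.yP P)

end Mid

/-- the even permutations that preserve `X` -/
def St {α : Type} [Fintype α] [DecidableEq α] (X : Finset α) : Subgroup (Alt α) where
  carrier := {g | ∀ x, (g : Perm α) x ∈ X ↔ x ∈ X}
  one_mem' := fun x => Iff.rfl
  mul_mem' {p q} hp hq := fun x => (hp _).trans (hq x)
  inv_mem' {p} hp := fun x => by
    have := hp ((p⁻¹ : Alt α).1 x)
    simpa using this.symm

/-- the normalizer of the four-group on `X` is known -/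
structure HM (G : Type*) [Group G] (α : Type) [Fintype α] [DecidableEq α] where
  X : Finset α
  X' : Finset α
  cX : X.card = 4
  cX' : X'.card = 4
  dis : Disjoint X X'
  big : 10 ≤ Fintype.card α
  μ : St X →* G
  inj : Function.Injective μ
  h2 : ∀ v : St X, v * v = 1 → (v.1 : Perm α).support = X → centralizer ({μ v} : Set G) ≤ μ.range
  h3 : ∀ p q : St X, p * p = 1 → q * q = 1 → IsConj (μ p) (μ q) →
    (p.1 : Perm α).support.card = (q.1 : Perm α).support.card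
  h3' : ∀ p q : St X, p * p = 1 → q * q = 1 → (p.1 : Perm α).support.card = 4 → (q.1 : Perm α).support.card = 4 →
    IsConj (μ p) (μ q)
  h4 : ∃ g : G, ∀ v : St X, v * v = 1 → (v.1 : Perm α).support = X →
    ∃ v' : St X, v' * v' = 1 ∧ (v'.1 : Perm α).support = X' ∧ g * μ v * g⁻¹ = μ v'

end Cfsg.Agent.WA.Al
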