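import Cfsg.Agent.WA.ITeC2
import Cfsg.Agent.WA.TeC4

/- LINKED interface; the statements, proved in the imported files:

variable {G Ω : Type u} [Group G] [Finite G] [MulAction G Ω] {D : Set G} {a b c : Ω} {L A R : Subgroup G} {q r k : ℕ}
  {d e t z : G} [IsSimpleGroup G]
theorem Pre.cIIq (h : Pre Ω D) (hA : Fr D ⊤ a A) (hN : Nat.card Ω = #|A| + 1) : False
-/
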