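import Cfsg.Agent.WA.ITeC2
import Cfsg.Agent.WA.TeC5

/- LINKED interface; the statements, proved in the imported files:

variable {G Ω : Type u} [Group G] [Finite G] [MulAction G Ω] {D : Set G} {a b c : Ω} {L A R : Subgroup G} {q r k : ℕ}
  {d e t z : G} [IsSimpleGroup G]
theorem Pre.cIIq3 (h : Pre Ω D) (ht : Invo t) (ht' : t ∉ D) (hA : Fr D ⊤ a A) (hn : t ∈ 𝐍(A))
    (hq : #|(A ⊓ 𝐂[t] : Subgroup G)| = q) (h2 : #|A| = q ^ 2) (hs : ∀ y ∈ A ⊓ 𝐂[t], ∃ x ∈ A, x * (t * x * t) = y)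
    (hR : Loc D 𝐂[t] a (A ⊓ 𝐂[t]) R) (h3 : #|R| = q ^ 3) : False
-/
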