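import Cfsg.Agent.WA.ITeF
import Cfsg.Agent.WA.TeQ3

/- LINKED interface; the statements, proved in the imported files:

variable {G Ω : Type u} [Group G] [Finite G] [MulAction G Ω] {A : Ω → Subgroup G} {q r : ℕ} {F : Set Ω} {a b c : Ω}
  {g k s t w x y z η : G} {L P Q U : Subgroup G}
variable [IsSimpleGroup G]
theorem Fn.q3 (h : Fn A q (q ^ 3)) : False
-/
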