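import Cfsg.Agent.WA.ITeF
import Cfsg.Agent.WA.TeQT

/- LINKED interface; the statements, proved in the imported files:

variable {G Ω : Type u} [Group G] [Finite G] [MulAction G Ω] {A : Ω → Subgroup G} {q r : ℕ} {F : Set Ω} {a b c : Ω}
  {g k s t w x y z η : G} {L P Q U : Subgroup G}
variable [IsSimpleGroup G]
theorem Fn.torus (h : Fn A q q) (h1 : ∀ a, IsPGroup 2 𝐂(A a))
    (h2 : ∀ a b : Ω, a ≠ b → ∀ s ∈ st2 G a b, ∀ t ∈ st2 G a b, Invo s → Invo t → s = t) : False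
-/
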