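import Cfsg.Agent.WA.ITeL
import Cfsg.Agent.WA.TeV

/- LINKED interface; the statements, proved in the imported files:

variable {G Ω : Type u} [Group G] [Finite G] [MulAction G Ω] {D : Set G} {a b c : Ω} {L A : Subgroup G} {q r : ℕ}
theorem Pr1.comm [IsSimpleGroup G] (h : Pr1 Ω D q r) (h2 : TwoTr G Ω) {d e : G} (hd : d ∈ D) (he : e ∈ D)
    (ha : d • a = a) (hb : e • a = a) : d * e = e * d
-/
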