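import Cfsg.Agent.WA.ITeL
import Cfsg.Agent.WA.TeZa
import Cfsg.Agent.WA.TeZb

/- LINKED interface; the statements, proved in the imported files:

variable {G Ω : Type u} [Group G] [Finite G] [MulAction G Ω] {D : Set G} {a b c : Ω} {L A : Subgroup G} {q r : ℕ}
theorem TE.central (h : TE Ω D) (ih : IHn.{u} (Nat.card G)) (hg : closure D = ⊤) (hc : ∀ a : Ω, a ∈ Cov Ω D)
    (h2 : ∃ a b : Ω, a ≠ b) (hr : ∃ d ∈ D, ∃ e ∈ D, d ≠ e ∧ d * e = e * d)
    (hn : ∀ N : Subgroup G, N.Normal → N ≠ ⊤ → N ≤ center G) {z : G} (hz : Invo z) (hz' : z ∈ center G) : False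
-/
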