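import Cfsg.Agent.WA.GDef2
import Cfsg.Agent.WA.TeaP

/- LINKED interface; the statements, proved in the imported files:

variable {G : Type u} [Group G] [Finite G] {A E U S V V₁ V₂ T W : Subgroup G}
-- TEA (helper8) 
theorem tea [IsSimpleGroup G] (h : Mn A) (hW : Odd #|W|) (hn : 𝐍(A) ≤ 𝐍(W)) (hM : W ⊔ 𝐍(A) ≠ ⊤)
    (hC : ∀ a ∈ A, a ≠ 1 → 𝐂[a] ≤ W ⊔ 𝐍(A)) : IsStronglyEmbedded (W ⊔ 𝐍(A))
-/
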