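import Cfsg.Agent.WA.GDef2
import Cfsg.Agent.WA.GP

/- LINKED interface; the statements, proved in the imported files:

variable {G : Type u} [Group G] [Finite G] {A E U S V V₁ V₂ T W : Subgroup G}
-- Lemma P 
theorem lemP (h : Gold.Sep E V₁ V₂) (hne : V₁ ≠ V₂) : ∃ W : Subgroup G, Odd #|W| ∧ E ≤ 𝐍(W) ∧
    (∀ v ∈ V₂, v ≠ 1 → W ⊓ 𝐂[v] = Gold.th V₁ v) ∧ (∀ t ∈ V₁, t ≠ 1 → W ⊓ 𝐂[t] = Gold.th V₂ t) ∧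
    (∀ v ∈ V₂, v ≠ 1 → ∀ t ∈ V₁, t ≠ 1 → ⁅opp 2 𝐂[v], zpowers t⁆ ⊔ (opp 2 𝐂[v] ⊓ opp 2 𝐂[t]) ≤ Gold.th V₁ v) ∧
    ∀ T : Subgroup G, ∀ t ∈ V₁, t ≠ 1 → T ≤ 𝐂(V₂) ⊓ 𝐂[t] →
      (∀ v ∈ V₂, v ≠ 1 → ⁅opp 2 𝐂[v] ⊓ 𝐂[t], T⁆ ≤ opp 2 𝐂[t]) →
      T ≤ 𝐍(W) ∧ ∀ v ∈ V₂, v ≠ 1 → ⁅opp 2 𝐂[v], T⁆ ≤ Gold.th V₁ v
-/
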