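import Cfsg.Agent.WA.IGT2

/-! The type facts are in `IGT1`, `IGT2`. -/
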