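import Cfsg.Agent.WA.TeDef
import Cfsg.Agent.WA.TePa
import Cfsg.Agent.WA.TePb

/- LINKED interface; the statements, proved in the imported files:

-- double counting 
theorem ncard_rel {α β : Type*} [Finite α] [Finite β] (S : Set α) (T : Set β) (r : α → β → Prop) {m n : ℕ}
    (h1 : ∀ x ∈ S, {y | y ∈ T ∧ r x y}.ncard = m) (h2 : ∀ y ∈ T, {x | x ∈ S ∧ r x y}.ncard = n) :
    S.ncard * m = T.ncard * n
-- a set on which a `2`-group acts: an odd invariant set contains a fixed point 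
theorem exists_fixed_of_odd {G X : Type*} [Group G] [Finite G] [MulAction G X] {P : Subgroup G} (hP : IsPGroup 2 P)
    {S : Set X} (hS : ∀ g ∈ P, ∀ x ∈ S, g • x ∈ S) (ho : Odd S.ncard) : ∃ x ∈ S, ∀ g ∈ P, g • x = x
-- the same for conjugation 
theorem exists_cent_of_odd {G : Type*} [Group G] [Finite G] {P : Subgroup G} (hP : IsPGroup 2 P)
    {S : Set G} (hS : ∀ g ∈ P, ∀ x ∈ S, g * x * g⁻¹ ∈ S) (ho : Odd S.ncard) : ∃ x ∈ S, ∀ g ∈ P, g * x = x * g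
-- an element of prime order `p` acting on an invariant set 
theorem ncard_fixed_modEq {G X : Type*} [Group G] [Finite G] [MulAction G X] {p : ℕ} [Fact p.Prime] {P : Subgroup G}
    (hP : IsPGroup p P) {S : Set X} (hf : S.Finite) (hS : ∀ g ∈ P, ∀ x ∈ S, g • x ∈ S) :
    S.ncard ≡ {x | x ∈ S ∧ ∀ g ∈ P, g • x = x}.ncard [MOD p]
-- a group acting semiregularly on an invariant set 
theorem card_dvd_ncard {G X : Type*} [Group G] [Finite G] [MulAction G X] {P : Subgroup G} {S : Set X}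
    (hS : ∀ g ∈ P, ∀ x ∈ S, g • x ∈ S) (hf : ∀ g ∈ P, ∀ x ∈ S, g • x = x → g = 1) : #|P| ∣ S.ncard
-- the number of involutions of a group of even order is odd 
theorem odd_ncard_invo {G : Type u} [Group G] [Finite G] {H : Subgroup G} {t : G} (ht : Invo t) (hH : t ∈ H) :
    Odd {s | s ∈ H ∧ Invo s}.ncard
-- Brauer–Wielandt formula 
theorem bw {G : Type u} [Group G] [Finite G] {O : Subgroup G} {u s : G} (hO : Odd #|O|) (hu : u * u = 1)
    (hs : s * s = 1) (hc : u * s = s * u) (huO : u ∈ 𝐍(O)) (hsO : s ∈ 𝐍(O)) :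
    (invSet u O).ncard = (invSet u (O ⊓ 𝐂[s])).ncard * (invSet u (O ⊓ 𝐂[u * s])).ncard
-- the eigenvalue argument 
theorem geom {Ω L : Type*} [Finite Ω] [Finite L] (I : Ω → L → Prop) (adj : Ω → Ω → Prop) {q r j lam α k : ℕ}
    (σ : Equiv.Perm Ω) (l₀ : L) (hadj : ∀ a b, adj a b ↔ a ≠ b ∧ ∃ l, I a l ∧ I b l)
    (hline : ∀ l, {a | I a l}.ncard = r + 1) (hlam : ∀ a b, adj a b → {l | I a l ∧ I b l}.ncard = lam)
    (hk : ∀ a, {b | adj a b}.ncard = k) (hα : ∀ b l, ¬ I b l → {c | I c l ∧ adj b c}.ncard = α)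
    (hN : Nat.card Ω = (r + 1) * (r * (q - 1) + 1)) (hq : 4 ≤ q) (hq2 : 2 ∣ q) (hr : r = q * 2 ^ j)
    (hqp : ∃ n, q = 2 ^ n) (hd : q * r ∣ k) (hσ : σ * σ = 1) (hσa : ∀ a b, adj (σ a) (σ b) ↔ adj a b)
    (hσf : ∀ a, σ a = a ↔ I a l₀) (hσm : ∀ a, σ a ≠ a → adj a (σ a)) (a b : Ω) (hab : a ≠ b) : adj a b
-/
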