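import Cfsg.Agent.WA.IGoB
import Cfsg.Agent.WA.GMain
import Cfsg.Agent.WA.GoS

/- LINKED interface; the statements, proved in the imported files:

variable {G : Type u} [Group G] [Finite G] {S A B : Subgroup G}
-- a strongly closed `A` is a Sylow subgroup of its normal closure 
theorem Syl.sylow_closure (h : Syl S A B) (hS : IsSylowIn 2 S ⊤) (hc : SC A ⊤) :
    normalClosure (A : Set G) ⊓ S = A
-- an element of a coset that is central modulo the core 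
theorem exists_zstar {H P U R : Subgroup G} (hP : IsSylowIn 2 P H) (hU : U ≤ P) (hc : U ≤ 𝐂(P))
    (h2 : ∀ u ∈ U, u * u = 1) (hcl : ∀ u ∈ U, ∀ g ∈ H, g * u * g⁻¹ ∈ P → g * u * g⁻¹ ∈ U)
    (hR : ⁅H, H⁆ ≤ R) {s : G} (hs : s ∈ U) : ∃ t ∈ U, s * t ∈ R ∧ ∀ g ∈ H, ⁅t, g⁆ ∈ opp 2 H
-- the form in which it is used when `R ⊓ S` is elementary and centralized by `s` 
theorem exists_cent {R : Subgroup G} [R.Normal] (hO : pPrimeCore 2 G = ⊥) (hS : IsSylowIn 2 S ⊤)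
    (h2 : ∀ t ∈ R ⊓ S, t * t = 1) {s : G} (hs : s ∈ S) (hss : s * s = 1) (hc : ∀ t ∈ R ⊓ S, s * t = t * s) :
    ∃ t ∈ R ⊓ S, s * t ∈ 𝐂(R)
-- transfer into an abelian Sylow subgroup 
theorem not_mem_commutator {X P : Subgroup G} (hP : IsSylowIn 2 P X) (hab : P ≤ 𝐂(P)) {z : G} (hz : z ∈ P)
    (hc : z ∈ 𝐂(X)) (hm : z ∈ ⁅X, X⁆) : z = 1
-- a normal subgroup with central Sylow subgroup in a group without core 
theorem le_of_sylow_central {R : Subgroup G} [R.Normal] (hO : pPrimeCore 2 G = ⊥) (hS : IsSylowIn 2 S ⊤)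
    (hc : R ⊓ S ≤ 𝐂(R)) : R ≤ S
-/
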