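import Cfsg.Agent.H8.SylowIn
import Mathlib.GroupTheory.Sylow

/-! Frames for S3139 (see PLAN_H3.md). Conjugation is always written `g⁻¹ * y * g`. -/

set_option autoImplicit false

namespace Cfsg.Agent.WA.H3

open Subgroup

/-- every `2`-subgroup of `H` has order at most `n`. -/
def Bd {G : Type*} [Group G] (H : Subgroup G) (n : ℕ) : Prop :=
  ∀ P : Subgroup G, IsPGroup 2 P → P ≤ H → Nat.card P ≤ n

/-- Core frame: `⟨t⟩ × D₈`, `D₈ = ⟨a, s⟩`, `z = (as)²`, `A = ⟨z, a⟩`, `E = ⟨t, a, z⟩`. -/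
structure CF (Y : Type*) [Group Y] where
  t : Y
  a : Y
  s : Y
  z : Y
  ρ : Y
  b : Y
  t2 : t * t = 1
  a2 : a * a = 1
  s2 : s * s = 1
  z2 : z * z = 1
  hz : a * s * a * s = z
  ta : t * a = a * t
  ts : t * s = s * t
  cardD : Nat.card (closure ({t, a, s} : Set Y)) = 16
  ρt : ρ * t = t * ρ
  ρz : ρ⁻¹ * z * ρ = a
  ρa : ρ⁻¹ * a * ρ = a * z
  bz : b * z = z * b
  ba : b * a = a * b
  bt : b⁻¹ * t * b = t * z
  n1 : ¬ IsConj t z
  n2 : ¬ IsConj t s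
  n3 : ¬ IsConj (t * s) s
  n4 : ¬ IsConj (t * s) z
  bE : Bd (centralizer ({t, a, z} : Set Y)) 8
  bT : Bd (centralizer ({t} : Set Y)) 32
  h3 : ∀ R : Subgroup Y, IsPGroup 2 R → R ≤ centralizer ({t} : Set Y) → Nat.card R = 32 →
    t ∈ R → a ∈ R → s ∈ R → ∀ c ∈ R, (∀ r ∈ R, r⁻¹ * c * r = c ∨ r⁻¹ * c * r = c * z) →
    c ∈ closure ({t, a * s} : Set Y)
  bTS : Bd (centralizer ({t * s} : Set Y)) 32
  h2 : ∀ R : Subgroup Y, IsPGroup 2 R → R ≤ centralizer ({t * s} : Set Y) → Nat.card R = 32 →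
    ∀ y : Y, closure ({y⁻¹ * z * y, y⁻¹ * a * y} : Set Y) ≤ R →
    ¬ R ≤ normalizer ((closure ({y⁻¹ * z * y, y⁻¹ * a * y} : Set Y) : Subgroup Y) : Set Y)

/-- Core frame with the Sylow subgroup `W = ⟨t, a, s, p⟩` of `N(E)`; `B = ⟨a, z, p, sps⟩`. -/
structure CG (Y : Type*) [Group Y] extends CF Y where
  p : Y
  r : Y
  pz : p * z = z * p
  pa : p * a = a * p
  pt : p⁻¹ * t * p = t * a
  pp : p * (s * p * s) = (s * p * s) * p
  p2 : p * p = 1 ∨ p * p = a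
  pW : IsPGroup 2 (closure ({t, a, s, p} : Set Y))
  cardW : Nat.card (closure ({t, a, s, p} : Set Y)) = 64
  bN : Bd (normalizer ((closure ({t, a, z} : Set Y) : Subgroup Y) : Set Y)) 64
  rt : r * t = t * r
  rz : r⁻¹ * z * r = a
  ra : r⁻¹ * a * r = a * z
  rB : r ∈ normalizer ((closure ({a, z, p, s * p * s} : Set Y) : Subgroup Y) : Set Y)

/-- Case 2 frame: `S₀ = ⟨t⟩ × Hol(Z₈)`, `x` the translation, `a : x ↦ x³`, `u : x ↦ x⁵`;
`z = x⁴`, `s = x⁻¹ a x`, `A = ⟨z, a⟩`, `V₀ = ⟨u, z⟩`, `F = ⟨u, z, a⟩`, `E = ⟨t, u, a, z⟩`. -/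
structure F2 (G : Type*) [Group G] where
  t : G
  x : G
  a : G
  u : G
  z : G
  s : G
  ρ : G
  f : G
  x4 : x ^ 4 = z
  hs : x⁻¹ * a * x = s
  t2 : t * t = 1
  a2 : a * a = 1
  u2 : u * u = 1
  z2 : z * z = 1
  ax : a * x * a = x ^ 3
  ux : u * x * u = x ^ 5
  au : a * u = u * a
  tx : t * x = x * t
  ta : t * a = a * t
  tu : t * u = u * t
  card0 : Nat.card (closure ({t, x, a, u} : Set G)) = 64
  bT : Bd (centralizer ({t} : Set G)) 64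
  bU : Bd (centralizer ({t, u} : Set G)) 32
  bA : Bd (centralizer ({t, a, z} : Set G)) 16
  ρt : ρ * t = t * ρ
  ρu : ρ * u = u * ρ
  ρz : ρ⁻¹ * z * ρ = a
  ρa : ρ⁻¹ * a * ρ = a * z
  nz : ¬ IsConj t z
  fN : f ∈ normalizer ((closure ({t, x, a, u} : Set G) : Subgroup G) : Set G)
  ft : f⁻¹ * t * f = t * z
  f2 : f * f ∈ closure ({t, x, a, u} : Set G)
  act : ∀ h : G, h * t = t * h → h ∈ normalizer ((closure ({t, u, a, z} : Set G) : Subgroup G) : Set G) →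
    h * u = u * h ∧ h ∈ normalizer ((closure ({a, z} : Set G) : Subgroup G) : Set G)
  fus : ∃ k : G, k * t = t * k ∧ k⁻¹ * (u * a) * k = u

/-- Case 2 frame with the right choice of `u`. -/
structure F3 (G : Type*) [Group G] extends F2 G where
  nu : ¬ IsConj t u
  NE : ∀ g ∈ normalizer ((closure ({t, u, a, z} : Set G) : Subgroup G) : Set G), g * u = u * g
  big : ∃ P : Subgroup G, IsPGroup 2 P ∧ P ≤ centralizer ({u, z} : Set G) ∧ 128 ≤ Nat.card P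

namespace F3

variable {G : Type*} [Group G] (F : F3 G)

/-- a translation `t ↦ t z` centralizing `F`. -/
def Hb : Prop := ∃ b : G, b * F.z = F.z * b ∧ b * F.a = F.a * b ∧ b * F.u = F.u * b ∧
  b⁻¹ * F.t * b = F.t * F.z

/-- a translation `t ↦ t u` centralizing `F`. -/
def Hτ : Prop := ∃ τ : G, τ * F.z = F.z * τ ∧ τ * F.a = F.a * τ ∧ τ * F.u = F.u * τ ∧
  τ⁻¹ * F.t * τ = F.t * F.u

/-- `t ↦ t z`, `a ↦ a u`. -/
def Hq : Prop := ∃ q : G, q * F.z = F.z * q ∧ q⁻¹ * F.a * q = F.a * F.u ∧ q * F.u = F.u * q ∧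
  q⁻¹ * F.t * q = F.t * F.z

end F3

/-- Type 2b-i with the Sylow subgroup `W = ⟨t, u, a, s, τ, σ, p⟩` of `N(E)`, `σ = x⁻¹ τ x`. -/
structure F4 (G : Type*) [Group G] extends F3 G where
  τ : G
  σ : G
  p : G
  hσ : x⁻¹ * τ * x = σ
  τ2 : τ * τ = 1
  τa : τ * a = a * τ
  τs : τ * s = s * τ
  τu : τ * u = u * τ
  τt : τ⁻¹ * t * τ = t * u
  pz : p * z = z * p
  pa : p * a = a * p
  pu : p * u = u * p
  pt : p⁻¹ * t * p = t * a
  ps : ∃ v ∈ closure ({u, z, a} : Set G), s * p * s = p * τ * σ * v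
  pW : IsPGroup 2 (closure ({t, u, a, s, τ, σ, p} : Set G))
  cardW : Nat.card (closure ({t, u, a, s, τ, σ, p} : Set G)) = 256
  bN : Bd (normalizer ((closure ({t, u, a, z} : Set G) : Subgroup G) : Set G)) 256

namespace F4

variable {G : Type*} [Group G] (F : F4 G)

/-- type alpha: `P = ⟨u, z, a, τ, σ, p⟩` elementary abelian of order 64. -/
def Al : Prop := F.τ * F.σ = F.σ * F.τ ∧ F.p * F.p = 1 ∧ F.p * F.τ = F.τ * F.p ∧ F.p * F.σ = F.σ * F.p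

/-- type delta: `P = ⟨τ t, σ t, p⟩ ≅ Z₄³`, inverted by `t`. -/
def De : Prop := F.τ * F.σ = F.σ * F.τ * F.z ∧ F.p * F.p = F.a ∧
  F.p * (F.τ * F.t) = (F.τ * F.t) * F.p ∧ F.p * (F.σ * F.t) = (F.σ * F.t) * F.p

end F4

end Cfsg.Agent.WA.H3
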