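import Cfsg.Agent.WA.H3Def

/-! Class counting utilities for S3139. -/

set_option autoImplicit false

namespace Cfsg.Agent.WA.H3

open Subgroup H8

variable {G : Type*} [Group G]

/-- the `H`-class of `t`. -/
def cls (H : Subgroup G) (t : G) : Set G := {y | ∃ h ∈ H, h⁻¹ * t * h = y}

theorem mem_cls {H : Subgroup G} {t h : G} (hh : h ∈ H) : h⁻¹ * t * h ∈ cls H t := ⟨h, hh, rfl⟩

theorem self_mem_cls (H : Subgroup G) (t : G) : t ∈ cls H t := ⟨1, H.one_mem, by simp⟩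

theorem cls_mono {H K : Subgroup G} (h : H ≤ K) (t : G) : cls H t ⊆ cls K t :=
  fun _ ⟨g, hg, e⟩ => ⟨g, h hg, e⟩

theorem card_eq_cls [Finite G] (H : Subgroup G) (t : G) :
    Nat.card H = Nat.card ↥(H ⊓ centralizer ({t} : Set G)) * (cls H t).ncard := by
  let _ : MulAction H G := MulAction.compHom G (MulAut.conj.comp H.subtype)
  have h1 := MulAction.index_stabilizer H t
  have h2 : MulAction.orbit H t = cls H t := by
    ext y
    constructor
    · rintro ⟨h, rfl⟩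
      exact ⟨h⁻¹, H.inv_mem h.2, by simp; rfl⟩
    · rintro ⟨h, hh, rfl⟩
      refine ⟨⟨h⁻¹, H.inv_mem hh⟩, ?_⟩
      show h⁻¹ * t * h⁻¹⁻¹ = _
      simp
  have h3 : MulAction.stabilizer H t = (centralizer ({t} : Set G)).subgroupOf H := by
    ext h
    rw [MulAction.mem_stabilizer_iff, mem_subgroupOf, mem_centralizer_singleton_iff]
    show (h : G) * t * (h : G)⁻¹ = t ↔ _
    rw [mul_inv_eq_iff_eq_mul]
  rw [h2, h3] at h1
  rw [← h1, inf_comm, ← Subgroup.card_mul_index ((centralizer ({t} : Set G)).subgroupOf H)]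
  congr 1
  rw [← inf_subgroupOf_right, Nat.card_congr (subgroupOfEquivOfLe inf_le_right).toEquiv]

theorem ncard_cls_dvd [Finite G] (H : Subgroup G) (t : G) : (cls H t).ncard ∣ Nat.card H :=
  ⟨_, by rw [card_eq_cls H t, mul_comm]⟩

theorem ncard_cls_pow [Finite G] {H : Subgroup G} (hH : IsPGroup 2 H) (t : G) :
    ∃ k, (cls H t).ncard = 2 ^ k := by
  have : Fact (Nat.Prime 2) := ⟨Nat.prime_two⟩
  obtain ⟨n, hn⟩ := IsPGroup.iff_card.1 hH
  have := ncard_cls_dvd H t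
  rw [hn] at this
  obtain ⟨k, -, hk⟩ := (Nat.dvd_prime_pow Nat.prime_two).1 this
  exact ⟨k, hk⟩

/-- a Sylow subgroup is transitive on a class of 2-power size. -/
theorem syl_cls [Finite G] {Q H : Subgroup G} (hQ : IsSylowIn 2 Q H) {t : G} {k : ℕ}
    (h : (cls H t).ncard = 2 ^ k) : cls Q t = cls H t := by
  have : Fact (Nat.Prime 2) := ⟨Nat.prime_two⟩
  refine Set.eq_of_subset_of_ncard_le (cls_mono hQ.le t) ?_ (Set.toFinite _)
  have h1 := card_eq_cls H t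
  have h2 := card_eq_cls Q t
  have h3 : Nat.card ↥(Q ⊓ centralizer ({t} : Set G)) ∣ Nat.card ↥(H ⊓ centralizer ({t} : Set G)) :=
    card_dvd_of_le (inf_le_inf_right _ hQ.le)
  obtain ⟨m, hm⟩ := h3
  have h4 : Nat.card Q * Q.relIndex H = Nat.card H := by
    rw [relIndex, ← Nat.card_congr (subgroupOfEquivOfLe hQ.le).toEquiv, card_mul_index]
  have hodd := hQ.not_dvd_relIndex
  have hpos : 0 < Nat.card ↥(Q ⊓ centralizer ({t} : Set G)) := Nat.card_pos
  have h5 : (cls Q t).ncard * Q.relIndex H = m * 2 ^ k := by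
    apply Nat.eq_of_mul_eq_mul_left hpos
    rw [← mul_assoc, ← h2, h4, h1, hm, h]; ring
  have h6 : 2 ^ k ∣ (cls Q t).ncard := by
    apply Nat.Coprime.dvd_of_dvd_mul_right (k := 2 ^ k) (n := Q.relIndex H)
    · exact Nat.Coprime.pow_left _ ((Nat.Prime.coprime_iff_not_dvd Nat.prime_two).2 hodd)
    · exact ⟨m, by rw [h5, mul_comm]⟩
  rw [h]
  exact Nat.le_of_dvd ((Set.ncard_pos (Set.toFinite _)).2 ⟨t, self_mem_cls Q t⟩) h6

theorem Bd.mono {H K : Subgroup G} {n : ℕ} (h : Bd K n) (hHK : H ≤ K) : Bd H n :=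
  fun P hP hPH => h P hP (hPH.trans hHK)

theorem Bd.of_syl [Finite G] {P H : Subgroup G} {n : ℕ} (hP : IsSylowIn 2 P H) (h : Nat.card P ≤ n) : Bd H n := by
  have : Fact (Nat.Prime 2) := ⟨Nat.prime_two⟩
  intro R hR hRH
  obtain ⟨S, hS, hRS⟩ := exists_isSylowIn_ge hR hRH
  exact (card_le_of_le hRS).trans ((hS.card_eq_card hP).le.trans h)

theorem Bd.syl [Finite G] {P H : Subgroup G} {n : ℕ} (h : Bd H n) (hP : IsPGroup 2 P) (hPH : P ≤ H)
    (hc : n ≤ Nat.card P) : IsSylowIn 2 P H := by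
  have : Fact (Nat.Prime 2) := ⟨Nat.prime_two⟩
  obtain ⟨S, hS, -⟩ := exists_isSylowIn_ge hP hPH
  exact hS.of_card_ge hP hPH ((h S hS.pgroup hS.le).trans hc)

/-- a `2`-subgroup of `H` containing one of maximal allowed order equals it. -/
theorem Bd.eq_of_le [Finite G] {P R H : Subgroup G} {n : ℕ} (h : Bd H n) (hR : IsPGroup 2 R) (hRH : R ≤ H)
    (hPR : P ≤ R) (hc : n ≤ Nat.card P) : R = P :=
  (eq_of_le_of_card_ge hPR ((h R hR hRH).trans hc)).symm

theorem Bd.cj {H : Subgroup G} {n : ℕ} (h : Bd H n) (g : G) : Bd (H8.cj g H) n := by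
  intro P hP hPH
  rw [← card_cj g⁻¹ P]
  exact h _ (pgroup_cj hP _) (cj_le_iff.2 (by rwa [inv_inv]))

theorem exists_two_of_dvd [Finite G] {H : Subgroup G} {k : ℕ} (h : 2 ^ k ∣ Nat.card H) :
    ∃ P : Subgroup G, IsPGroup 2 P ∧ P ≤ H ∧ 2 ^ k ≤ Nat.card P := by
  have : Fact (Nat.Prime 2) := ⟨Nat.prime_two⟩
  obtain ⟨P, hP⟩ := exists_isSylowIn 2 H
  refine ⟨P, hP.pgroup, hP.le, ?_⟩
  rw [hP.card_eq]
  exact Nat.pow_le_pow_right (by norm_num)
    ((Nat.prime_two.pow_dvd_iff_le_factorization Nat.card_pos.ne').1 h)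

end Cfsg.Agent.WA.H3
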