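import Cfsg.Agent.WA.H3Def
import Cfsg.Agent.H7.TwoTools

/-! General tools for the climbs of S3139 (helper5). -/

set_option autoImplicit false

namespace Cfsg.Agent.WA.H3.U

open Subgroup

variable {G : Type*} [Group G]

theorem pow_cases {a : G} (h : a * a = 1) (n : ℕ) : a ^ n = 1 ∨ a ^ n = a := by
  induction n with
  | zero => left; simp
  | succ n ih =>
    rcases ih with h1 | h1
    · right; rw [pow_succ, h1, one_mul]
    · left; rw [pow_succ, h1, h]

theorem inv_eq {a : G} (h : a * a = 1) : a⁻¹ = a := inv_eq_of_mul_eq_one_right h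

theorem mem_cl2 {a b y : G} (a2 : a * a = 1) (b2 : b * b = 1) (ab : a * b = b * a)
    (hy : y ∈ closure ({a, b} : Set G)) : y = 1 ∨ y = b ∨ y = a ∨ y = a * b := by
  have key : ∃ i j : ℕ, y = a ^ i * b ^ j := by
    induction hy using closure_induction with
    | mem x hx =>
      rcases hx with rfl | rfl
      · exact ⟨1, 0, by simp⟩
      · exact ⟨0, 1, by simp⟩
    | one => exact ⟨0, 0, by simp⟩
    | mul x y _ _ hx hy =>
      obtain ⟨i, j, rfl⟩ := hx
      obtain ⟨i', j', rfl⟩ := hy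
      refine ⟨i + i', j + j', ?_⟩
      have c : Commute (b ^ j) (a ^ i') := (Commute.pow_pow (ab : Commute a b) i' j).symm
      rw [pow_add, pow_add, mul_assoc, ← mul_assoc (b ^ j), c.eq]; group
    | inv x _ hx =>
      obtain ⟨i, j, rfl⟩ := hx
      refine ⟨i, j, ?_⟩
      have c : Commute (a ^ i) (b ^ j) := Commute.pow_pow (ab : Commute a b) i j
      rw [mul_inv_rev, ← inv_pow, ← inv_pow, inv_eq a2, inv_eq b2, c.eq]
  obtain ⟨i, j, rfl⟩ := key
  rcases pow_cases a2 i with h | h <;> rcases pow_cases b2 j with h' | h' <;> simp [h, h']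

theorem mem_cl3 {a b c y : G} (a2 : a * a = 1) (b2 : b * b = 1) (c2 : c * c = 1) (ab : a * b = b * a)
    (ac : a * c = c * a) (bc : b * c = c * b) (hy : y ∈ closure ({a, b, c} : Set G)) :
    y = 1 ∨ y = c ∨ y = b ∨ y = b * c ∨ y = a ∨ y = a * c ∨ y = a * b ∨ y = a * b * c := by
  have key : ∃ i j k : ℕ, y = a ^ i * b ^ j * c ^ k := by
    induction hy using closure_induction with
    | mem x hx =>
      rcases hx with rfl | rfl | rfl
      · exact ⟨1, 0, 0, by simp⟩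
      · exact ⟨0, 1, 0, by simp⟩
      · exact ⟨0, 0, 1, by simp⟩
    | one => exact ⟨0, 0, 0, by simp⟩
    | mul x y _ _ hx hy =>
      obtain ⟨i, j, k, rfl⟩ := hx
      obtain ⟨i', j', k', rfl⟩ := hy
      refine ⟨i + i', j + j', k + k', ?_⟩
      have c1 : Commute (b ^ j) (a ^ i') := (Commute.pow_pow (ab : Commute a b) i' j).symm
      have c2 : Commute (c ^ k) (a ^ i') := (Commute.pow_pow (ac : Commute a c) i' k).symm
      have c3 : Commute (c ^ k) (b ^ j') := (Commute.pow_pow (bc : Commute b c) j' k).symm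
      calc a ^ i * b ^ j * c ^ k * (a ^ i' * b ^ j' * c ^ k')
          = a ^ i * b ^ j * (c ^ k * a ^ i') * b ^ j' * c ^ k' := by simp only [mul_assoc]
        _ = a ^ i * (b ^ j * a ^ i') * (c ^ k * b ^ j') * c ^ k' := by rw [c2.eq]; simp only [mul_assoc]
        _ = _ := by rw [c1.eq, c3.eq, pow_add, pow_add, pow_add]; simp only [mul_assoc]
    | inv x _ hx =>
      obtain ⟨i, j, k, rfl⟩ := hx
      refine ⟨i, j, k, ?_⟩
      have c1 : Commute (a ^ i) (b ^ j) := Commute.pow_pow (ab : Commute a b) i j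
      have c2' : Commute (a ^ i) (c ^ k) := Commute.pow_pow (ac : Commute a c) i k
      have c3 : Commute (b ^ j) (c ^ k) := Commute.pow_pow (bc : Commute b c) j k
      rw [mul_inv_rev, mul_inv_rev, ← inv_pow, ← inv_pow, ← inv_pow, inv_eq a2, inv_eq b2, inv_eq c2,
        ← c1.eq, ← (c2'.mul_left c3).eq]
  obtain ⟨i, j, k, rfl⟩ := key
  rcases pow_cases a2 i with h | h <;> rcases pow_cases b2 j with h' | h' <;>
    rcases pow_cases c2 k with h'' | h'' <;> simp [h, h', h'']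

theorem conj_eq_iff {g c : G} : g⁻¹ * c * g = c ↔ g * c = c * g := by
  constructor
  · intro h
    calc g * c = g * (g⁻¹ * c * g) := by rw [h]
      _ = c * g := by group
  · intro h
    rw [mul_assoc, ← h]; group

theorem mem_cen1 {g c : G} : g ∈ centralizer ({c} : Set G) ↔ g * c = c * g := mem_centralizer_singleton_iff

theorem mem_cen2 {g c d : G} : g ∈ centralizer ({c, d} : Set G) ↔ g * c = c * g ∧ g * d = d * g := by
  rw [mem_centralizer_iff]
  constructor
  · intro h; exact ⟨(h c (by simp)).symm, (h d (by simp)).symm⟩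
  · rintro ⟨h1, h2⟩ y (rfl | rfl)
    · exact h1.symm
    · exact h2.symm

theorem mem_cen3 {g c d e : G} :
    g ∈ centralizer ({c, d, e} : Set G) ↔ g * c = c * g ∧ g * d = d * g ∧ g * e = e * g := by
  rw [mem_centralizer_iff]
  constructor
  · intro h; exact ⟨(h c (by simp)).symm, (h d (by simp)).symm, (h e (by simp)).symm⟩
  · rintro ⟨h1, h2, h3⟩ y (rfl | rfl | rfl)
    · exact h1.symm
    · exact h2.symm
    · exact h3.symm

theorem isConj_of {a b g : G} (h : g⁻¹ * a * g = b) : IsConj a b :=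
  isConj_iff.2 ⟨g⁻¹, by rw [inv_inv]; exact h⟩

theorem conj_mem {H : Subgroup G} {g y : G} (hg : g ∈ normalizer (H : Set G)) (hy : y ∈ H) : g⁻¹ * y * g ∈ H := by
  have := (mem_normalizer_iff.1 (inv_mem hg) y).1 hy
  simpa using this

theorem conj_mem' {H : Subgroup G} {g y : G} (hg : g ∈ normalizer (H : Set G)) (hy : y ∈ H) : g * y * g⁻¹ ∈ H :=
  (mem_normalizer_iff.1 hg y).1 hy

theorem inf_le_norm {A B X : Subgroup G} (hA : X ≤ normalizer (A : Set G)) (hB : X ≤ normalizer (B : Set G)) :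
    X ≤ normalizer ((A ⊓ B : Subgroup G) : Set G) := by
  intro g hg
  rw [mem_normalizer_iff]
  intro y
  simp only [SetLike.mem_coe, mem_inf]
  rw [mem_normalizer_iff.1 (hA hg) y, mem_normalizer_iff.1 (hB hg) y]

theorem card_rel {P Q : Subgroup G} (hle : P ≤ Q) : Nat.card P * P.relIndex Q = Nat.card Q := by
  rw [relIndex, ← Nat.card_congr (subgroupOfEquivOfLe hle).toEquiv]
  exact card_mul_index _

variable [Finite G]

theorem mem_norm {H : Subgroup G} {g : G} (h : ∀ y ∈ H, g⁻¹ * y * g ∈ H) : g ∈ normalizer (H : Set G) := by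
  have : g⁻¹ ∈ normalizer (H : Set G) := by
    apply H8.mem_normalizer_of_cj_le
    rw [H8.cj_le_iff, inv_inv]
    intro y hy
    exact H8.mem_cj.2 (h y hy)
  simpa using inv_mem this

theorem mem_norm_cl {k : Set G} {g : G} (h : ∀ y ∈ k, g⁻¹ * y * g ∈ closure k) :
    g ∈ normalizer ((closure k : Subgroup G) : Set G) := by
  apply mem_norm
  intro y hy
  have : closure k ≤ H8.cj g (closure k) := (closure_le _).2 fun y hy => H8.mem_cj.2 (h y hy)
  exact H8.mem_cj.1 (this hy)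

theorem cls_card (X : Subgroup G) (c : G) (T : Finset G) (h : ∀ g ∈ X, g⁻¹ * c * g ∈ T) :
    Nat.card X = (centralizer {c}).relIndex X * Nat.card ↥(X ⊓ centralizer {c}) ∧
      (centralizer {c}).relIndex X ≤ T.card := by
  constructor
  · rw [← inf_relIndex_left, mul_comm]
    exact (card_rel inf_le_left).symm
  · rw [H7.relIndex_centralizer_eq, ← Set.ncard_coe_finset]
    refine Set.ncard_le_ncard ?_ (Finset.finite_toSet T)
    rintro _ ⟨g, hg, rfl⟩
    simpa using h g⁻¹ (inv_mem hg)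

theorem cls_le (X : Subgroup G) (c : G) (T : Finset G) (h : ∀ g ∈ X, g⁻¹ * c * g ∈ T) :
    Nat.card X ≤ T.card * Nat.card ↥(X ⊓ centralizer {c}) := by
  obtain ⟨h1, h2⟩ := cls_card X c T h
  rw [h1]; exact Nat.mul_le_mul_right _ h2

theorem cls_pow {X : Subgroup G} (hX : IsPGroup 2 X) (c : G) (T : Finset G) (h : ∀ g ∈ X, g⁻¹ * c * g ∈ T)
    {k : ℕ} (hT : T.card < 2 ^ (k + 1)) : Nat.card X ≤ 2 ^ k * Nat.card ↥(X ⊓ centralizer {c}) := by
  haveI : Fact (Nat.Prime 2) := ⟨Nat.prime_two⟩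
  obtain ⟨h1, h2⟩ := cls_card X c T h
  obtain ⟨n, hn⟩ := IsPGroup.iff_card.1 hX
  have hd : (centralizer {c}).relIndex X ∣ 2 ^ n := hn ▸ Dvd.intro _ h1.symm
  obtain ⟨m, -, hm⟩ := (Nat.dvd_prime_pow Nat.prime_two).1 hd
  have : m < k + 1 := (Nat.pow_lt_pow_iff_right (by norm_num)).1 (hm ▸ lt_of_le_of_lt h2 hT)
  rw [h1, hm]
  exact Nat.mul_le_mul_right _ (Nat.pow_le_pow_right (by norm_num) (by omega))

theorem cls2 (X : Subgroup G) (c d : G) (h : ∀ g ∈ X, g⁻¹ * c * g = c ∨ g⁻¹ * c * g = d) :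
    Nat.card X ≤ 2 * Nat.card ↥(X ⊓ centralizer {c}) := by
  classical
  refine (cls_le X c {c, d} (fun g hg => by simpa using h g hg)).trans (Nat.mul_le_mul_right _ ?_)
  exact Finset.card_le_two

theorem exists_norm {P Q : Subgroup G} (hQ : IsPGroup 2 Q) (hle : P ≤ Q) (hne : ¬ Q ≤ P) :
    ∃ g ∈ Q, g ∈ normalizer (P : Set G) ∧ g ∉ P := by
  haveI : Fact (Nat.Prime 2) := ⟨Nat.prime_two⟩
  obtain ⟨g, h1, h2⟩ := SetLike.exists_of_lt (H8.lt_inf_normalizer_of_pgroup hQ (lt_of_le_not_ge hle hne))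
  exact ⟨g, h1.1, h1.2, h2⟩

theorem le_of_card {P Q : Subgroup G} (hle : P ≤ Q) (hc : Nat.card Q ≤ Nat.card P) : Q ≤ P :=
  (eq_of_le_of_card_ge hle hc).ge

theorem two_mul_le {P Q : Subgroup G} (hle : P ≤ Q) {g : G} (hg : g ∈ Q) (hg' : g ∉ P) :
    2 * Nat.card P ≤ Nat.card Q := by
  obtain ⟨m, hm⟩ := card_dvd_of_le hle
  have h0 : 0 < Nat.card Q := Nat.card_pos
  have h1 : m ≠ 1 := by
    rintro rfl
    exact hg' (le_of_card hle (by omega) hg)
  have h2 : m ≠ 0 := by rintro rfl; omega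
  rw [hm, mul_comm]
  exact Nat.mul_le_mul_left _ (by omega)

theorem relIndex_two {P Q : Subgroup G} (hle : P ≤ Q) (hc : Nat.card Q ≤ 2 * Nat.card P) {g : G} (hg : g ∈ Q)
    (hg' : g ∉ P) : P.relIndex Q = 2 := by
  have h1 := card_rel hle
  have h2 := two_mul_le hle hg hg'
  have h0 : 0 < Nat.card P := Nat.card_pos
  have : Nat.card P * P.relIndex Q = Nat.card P * 2 := by omega
  exact Nat.eq_of_mul_eq_mul_left h0 this

theorem idx2 {P Q : Subgroup G} (hle : P ≤ Q) (hc : Nat.card Q ≤ 2 * Nat.card P) {a b : G} (ha : a ∈ Q)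
    (ha' : a ∉ P) (hb : b ∈ Q) (hb' : b ∉ P) : a * b ∈ P := by
  have h := relIndex_two hle hc ha ha'
  have := (mul_mem_iff_of_index_two (H := P.subgroupOf Q) h (a := ⟨a, ha⟩) (b := ⟨b, hb⟩)).2
    (by simp [mem_subgroupOf, ha', hb'])
  simpa [mem_subgroupOf] using this

theorem exists_central {S : Subgroup G} (hS : IsPGroup 2 S) {g : G} (hg : g ∈ S) (h1 : g ≠ 1) :
    ∃ c ∈ S, c ≠ 1 ∧ ∀ y ∈ S, y * c = c * y := by
  haveI : Fact (Nat.Prime 2) := ⟨Nat.prime_two⟩
  haveI : Nontrivial S := ⟨⟨⟨g, hg⟩, 1, fun h => h1 (congrArg Subtype.val h)⟩⟩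
  haveI := hS.center_nontrivial
  obtain ⟨⟨c, hc⟩, hc1⟩ := exists_ne (1 : center S)
  refine ⟨c, c.2, fun h => hc1 (Subtype.ext (Subtype.ext h)), fun y hy => ?_⟩
  exact congrArg Subtype.val (mem_center_iff.1 hc ⟨y, hy⟩)

omit [Finite G] in
theorem Bd_conj {H P : Subgroup G} {n : ℕ} (h : Bd H n) (hP : IsPGroup 2 P) (g : G)
    (hle : ∀ y ∈ P, g * y * g⁻¹ ∈ H) : Nat.card P ≤ n := by
  rw [← H8.card_cj g P]
  refine h _ (H8.pgroup_cj hP g) fun y hy => ?_
  have := hle _ (H8.mem_cj.1 hy)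
  simpa [mul_assoc] using this

theorem mem_of_Bd {H P X : Subgroup G} {n : ℕ} (h : Bd H n) (hX : IsPGroup 2 X) (hPX : P ≤ X) (hPH : P ≤ H)
    (hn : n ≤ Nat.card P) {g : G} (hg : g ∈ X) (hgH : g ∈ H) : g ∈ P :=
  le_of_card (le_inf hPX hPH) ((h _ (hX.to_inf_left) inf_le_right).trans hn) ⟨hg, hgH⟩

theorem Bd_of_syl {S K : Subgroup G} (hS : H8.IsSylowIn 2 S K) {n : ℕ} (hn : Nat.card S ≤ n) : Bd K n := by
  haveI : Fact (Nat.Prime 2) := ⟨Nat.prime_two⟩
  intro P hP hPK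
  obtain ⟨Q, hQ, hPQ⟩ := H8.exists_isSylowIn_ge hP hPK
  exact (card_le_of_le hPQ).trans ((hQ.card_eq_card hS).le.trans hn)

theorem odd_index {S : Subgroup G} (hS : H8.IsSylowIn 2 S ⊤) : Odd S.index := by
  haveI : Fact (Nat.Prime 2) := ⟨Nat.prime_two⟩
  have := hS.not_dvd_relIndex
  rw [relIndex_top_right] at this
  exact Nat.not_even_iff_odd.1 fun h => this h.two_dvd

end Cfsg.Agent.WA.H3.U
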