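import Cfsg.Agent.WA.H3U

/-! More utilities for S3139. -/

set_option autoImplicit false

namespace Cfsg.Agent.WA.H3

open Subgroup H8

variable {G : Type*} [Group G]

theorem conj_mem_closure {S : Set G} {K : Subgroup G} {g : G} (h : ∀ k ∈ S, g⁻¹ * k * g ∈ K) :
    ∀ k ∈ closure S, g⁻¹ * k * g ∈ K := by
  intro k hk
  have : closure S ≤ cj g K := (closure_le _).2 fun k hk => mem_cj.2 (h k hk)
  exact mem_cj.1 (this hk)

theorem mem_normalizer_closure [Finite G] {S : Set G} {g : G} (h : ∀ k ∈ S, g⁻¹ * k * g ∈ closure S) :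
    g ∈ normalizer ((closure S : Subgroup G) : Set G) := by
  rw [← inv_mem_iff]
  apply mem_normalizer_of_cj_le
  intro y hy
  have := conj_mem_closure h _ (mem_cj.1 hy)
  simpa [mul_assoc] using this

theorem mem_normalizer_of_conj [Finite G] {K : Subgroup G} {g : G} (h : ∀ k ∈ K, g⁻¹ * k * g ∈ K) :
    g ∈ normalizer (K : Set G) := by
  rw [← inv_mem_iff]
  apply mem_normalizer_of_cj_le
  intro y hy
  have := h _ (mem_cj.1 hy)
  simpa [mul_assoc] using this

theorem conj_mem_of_norm {K : Subgroup G} {g k : G} (hg : g ∈ normalizer (K : Set G)) (hk : k ∈ K) :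
    g⁻¹ * k * g ∈ K := by
  have := (mem_normalizer_iff.1 (inv_mem hg) k).1 hk
  simpa using this

theorem conj_mem_of_norm' {K : Subgroup G} {g k : G} (hg : g ∈ normalizer (K : Set G)) (hk : k ∈ K) :
    g * k * g⁻¹ ∈ K := (mem_normalizer_iff.1 hg k).1 hk

theorem mem_closure_insert {S : Set G} {t : G} (h2 : t * t ∈ closure S)
    (hn : ∀ k ∈ S, t⁻¹ * k * t ∈ closure S) {y : G} :
    y ∈ closure (insert t S) ↔ y ∈ closure S ∨ t⁻¹ * y ∈ closure S := by
  have hn' := conj_mem_closure hn
  constructor
  · intro hy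
    induction hy using closure_induction with
    | mem x hx =>
      rcases hx with rfl | hx
      · right; simp
      · left; exact subset_closure hx
    | one => left; exact one_mem _
    | mul x y _ _ hx hy =>
      rcases hx with hx | hx <;> rcases hy with hy | hy
      · left; exact mul_mem hx hy
      · right
        have := mul_mem (hn' x hx) hy
        simpa [mul_assoc] using this
      · right
        have := mul_mem hx hy
        simpa [mul_assoc] using this
      · left
        have := mul_mem (mul_mem h2 (hn' _ hx)) hy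
        simpa [mul_assoc] using this
    | inv x _ hx =>
      rcases hx with hx | hx
      · left; exact inv_mem hx
      · right
        have := mul_mem (hn' _ (inv_mem hx)) (inv_mem h2)
        simpa [mul_assoc] using this
  · rintro (hy | hy)
    · exact closure_mono (Set.subset_insert _ _) hy
    · have h1 : t ∈ closure (insert t S) := subset_closure (Set.mem_insert _ _)
      have := mul_mem h1 (closure_mono (Set.subset_insert t S) hy)
      simpa using this

theorem inv_eq_of_sq {t : G} (h : t * t = 1) : t⁻¹ = t := inv_eq_of_mul_eq_one_right h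

theorem mem_closure_one {z y : G} (h : z * z = 1) : y ∈ closure ({z} : Set G) ↔ y = 1 ∨ y = z := by
  have : ({z} : Set G) = insert z ∅ := by simp
  rw [this, mem_closure_insert (by simp [h]) (by simp)]
  simp [inv_mul_eq_one, eq_comm]

theorem mem_closure_two {a z y : G} (ha : a * a = 1) (hz : z * z = 1) (h : a * z = z * a) :
    y ∈ closure ({a, z} : Set G) ↔ y = 1 ∨ y = z ∨ y = a ∨ y = a * z := by
  rw [mem_closure_insert (by simp [ha]) (by
    rintro k rfl
    rw [mul_assoc, ← h]; simp [subset_closure]), mem_closure_one hz, mem_closure_one hz]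
  simp only [inv_mul_eq_one, inv_mul_eq_iff_eq_mul, or_assoc]
  constructor <;> rintro (h | h | h | h) <;> simp [h]

theorem isConj_of_eq {a b g : G} (h : g⁻¹ * a * g = b) : IsConj a b := isConj_iff.2 ⟨g⁻¹, by simpa using h⟩

theorem exists_of_isConj {a b : G} (h : IsConj a b) : ∃ g, g⁻¹ * a * g = b := by
  obtain ⟨c, hc⟩ := isConj_iff.1 h
  exact ⟨c⁻¹, by simpa using hc⟩

theorem conj_eq_iff_comm {g y : G} : g⁻¹ * y * g = y ↔ g * y = y * g := by
  rw [mul_assoc, inv_mul_eq_iff_eq_mul]; exact eq_comm

theorem conj_mul' (g x y : G) : g⁻¹ * (x * y) * g = (g⁻¹ * x * g) * (g⁻¹ * y * g) := by group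

theorem conj_conj (g h x : G) : (g * h)⁻¹ * x * (g * h) = h⁻¹ * (g⁻¹ * x * g) * h := by group

theorem mem_cen_iff {S : Set G} {g : G} : g ∈ centralizer S ↔ ∀ y ∈ S, g * y = y * g := by
  rw [mem_centralizer_iff]; exact forall₂_congr fun _ _ => eq_comm

theorem not_three_dvd [Finite G] {H : Subgroup G} (hH : IsPGroup 2 H) (t : G) : (cls H t).ncard ≠ 3 := by
  obtain ⟨k, hk⟩ := ncard_cls_pow hH t
  intro h
  rw [h] at hk
  have : (3 : ℕ) ∣ 2 := (Nat.prime_three).dvd_of_dvd_pow (n := k) (by rw [← hk])
  omega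

end Cfsg.Agent.WA.H3
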