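import Cfsg.Agent.WA.HwF
import Cfsg.Agent.WA.GoS
import Cfsg.Agent.H2.SC2
import Cfsg.Agent.H5.Q8Ext
import Cfsg.Agent.H5.RankOne
import Cfsg.Agent.H5.GWc4
import Cfsg.Agent.H7.It7
import Cfsg.Agent.H4.Dihedral
import Cfsg.Agent.S3189
import Cfsg.Agent.S3285

/-! Hayden–Winter, module E: the identifications. -/

set_option autoImplicit false
set_option linter.unusedSectionVars false

namespace Cfsg.Agent.WA.Hw

open Subgroup Cfsg.Agent.FT Cfsg.Agent.L0 Cfsg.Agent.H8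
open scoped MatrixGroups

universe u

variable {G : Type u} [Group G] [Finite G] {z x s u : G} {Q O S P N : Subgroup G}

namespace E

theorem n3 (hN : IsPGroup 2 N) (x3 : orderOf x = 3) : x ∉ N := fun h => by
  have := Fact.mk Nat.prime_two
  obtain ⟨n, e⟩ := hN.exists_card_eq
  exact absurd (Nat.prime_three.dvd_of_dvd_pow (e ▸ x3 ▸ N.orderOf_dvd_natCard h)) (by norm_num)

theorem nm (hN : IsPGroup 2 N) (x3 : orderOf x = 3) (sx : s * x * s⁻¹ = x⁻¹) (hx : x ∈ 𝐍(N)) : s ∉ N := fun h => by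
  have := mul_mem h ((mem_normalizer_iff.1 hx _).1 (inv_mem h))
  rw [show s * (x * s⁻¹ * x⁻¹) = s * x * s⁻¹ * x⁻¹ * 1 by group, sx, ← pow_orderOf_eq_one x, x3,
    show x⁻¹ * x⁻¹ * x ^ 3 = x by group] at this
  exact n3 hN x3 this

theorem core [P.Normal] (hP : IsPGroup 2 P) (hc : Nat.card G = 6 * #|P|) (x3 : orderOf x = 3) (sx : s * x * s⁻¹ = x⁻¹)
    (ss : s * s ∈ P) (hx : x ∉ 𝐂(P)) : pCore 2 G = P ∧ 𝐂(P) ≤ P ∧ ¬∃ T : Sylow 2 G, (T : Subgroup G).Normal := by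
  have := Fact.mk Nat.prime_two
  have := Fact.mk Nat.prime_three
  have nN : ∀ (N : Subgroup G) [N.Normal] (g : G), g ∈ 𝐍(N) := fun N _ g => (normalizer_eq_top N).ge (mem_top g)
  have k : ∀ (N : Subgroup G) [N.Normal], IsPGroup 2 N → P ≤ N → N = P := fun N _ hN h => by
    obtain ⟨n, e⟩ := hN.exists_card_eq
    have k := card_subgroup_dvd_card (N ⊔ zpowers s)
    rw [H5.card_sup_zpowers (nN N s) (nm hN x3 sx (nN N x)) (pow_two s ▸ h ss), hc,
      show 6 * #|P| = 3 * #|P| * 2 by ring, Nat.mul_dvd_mul_iff_right two_pos] at k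
    exact (eq_of_le_of_card_ge h (Nat.le_of_dvd Nat.card_pos
      ((show Nat.Coprime #|N| 3 from e ▸ Nat.Coprime.pow_left n (by norm_num)).dvd_of_dvd_mul_left k))).symm
  have k1 := k _ pCore_isPGroup (le_pCore ‹_› hP)
  refine ⟨k1, (le_pCore inferInstance ?_).trans k1.le, fun ⟨T, hT⟩ => T.not_dvd_index ?_⟩
  · obtain ⟨n, e⟩ := hP.exists_card_eq
    have k := card_subgroup_dvd_card (𝐂(P) ⊔ zpowers x)
    rw [H5.card_sup_zpowers (p := 3) (nN _ x) hx (by rw [← x3, pow_orderOf_eq_one]; exact one_mem _), hc, e,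
      show 6 * 2 ^ n = 2 ^ (n + 1) * 3 by ring, Nat.mul_dvd_mul_iff_right three_pos] at k
    obtain ⟨m, -, e⟩ := (Nat.dvd_prime_pow Nat.prime_two).1 k
    exact IsPGroup.of_card e
  · have k2 := (T : Subgroup G).card_mul_index
    rw [k _ T.2 (k1 ▸ pCore_le_sylow T), hc, mul_comm] at k2
    rw [k _ T.2 (k1 ▸ pCore_le_sylow T), Nat.eq_of_mul_eq_mul_right Nat.card_pos k2]; norm_num

theorem cm {Y : Type*} [Group Y] (f : G →* Y) (h : ∀ g ∈ P, f g = 1 → g = 1) : #|P.map f| = #|P| := by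
  rw [← relIndex_ker, ← inf_relIndex_right, show f.ker ⊓ P = ⊥ from eq_bot_iff.2 fun g hg => h g hg.2 hg.1,
    relIndex_bot_left]

theorem ord6 (h : Hyp z x) : orderOf (z * x) = 6 := by
  rw [Commute.orderOf_mul_eq_mul_orderOf_of_coprime h.comm (by rw [h.z2, h.x3]; norm_num), h.z2, h.x3]

theorem co6 (h : Hyp z x) : 𝐂[z * x] = zpowers (z * x) := by
  refine le_antisymm (fun g hg => ?_) (zpowers_le.2 (mem_centralizer_singleton_iff.2 rfl))
  have k : Commute g (z * x) := mem_centralizer_singleton_iff.1 hg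
  have z2 := h.z2 ▸ pow_orderOf_eq_one z
  have x3 := h.x3 ▸ pow_orderOf_eq_one x
  have k1 := k.pow_right 3
  have k2 := k.pow_right 4
  rw [Commute.mul_pow h.comm, x3, mul_one, pow_succ, z2, one_mul] at k1
  rw [Commute.mul_pow h.comm, show 4 = 2 * 2 from rfl, pow_mul, z2, one_pow, one_mul, pow_succ, x3, one_mul] at k2
  exact h.cent g k1 k2

theorem c6 (h : Hyp z x) (h1 : P ≤ 𝐂[z]) (h2 : x ∈ 𝐂(P)) : #|P| ∣ 6 := by
  rw [← ord6 h, ← Nat.card_zpowers]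
  exact card_dvd_of_le fun g hg => h.cent g (mem_centralizer_singleton_iff.1 (h1 hg)) (mem_centralizer_iff.1 h2 g hg)

variable [IsSimpleGroup G]

theorem syl (h : T3 z x s Q O) : IsSylowIn 2 (Q ⊔ zpowers s) ⊤ ∧ #|(Q ⊔ zpowers s : Subgroup G)| = #|Q| * 2 := by
  have := Fact.mk Nat.prime_two
  have c := H5.card_sup_zpowers (h.HQ h.sH) (nm h.Q2 h.hyp.x3 h.sx (h.HQ (mem_centralizer_singleton_iff.2 h.hyp.comm.symm)))
    (pow_two s ▸ zpowers_le.2 h.zQ h.ss)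
  obtain ⟨n, e⟩ := h.Q2.exists_card_eq
  have k : IsPGroup 2 (Q ⊔ zpowers s : Subgroup G) := IsPGroup.of_card (n := n + 1) (by rw [c, e, pow_succ])
  obtain ⟨T, hT⟩ := exists_isSylowIn 2 (⊤ : Subgroup G)
  obtain ⟨v, -, v2, hv, -⟩ := H9.exists_orderOf_centralized hT.pgroup hT.pgroup le_normalizer (H2.SC.sylow_ne_bot h.hyp.nab hT)
  obtain ⟨g, rfl⟩ := isConj_iff.1 (h.hyp.one v z v2 h.hyp.z2)
  refine ⟨hT.of_card_ge k le_top (Nat.le_of_dvd Nat.card_pos ?_), c⟩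
  have k1 : #|T| ∣ #|𝐂[v]| := card_dvd_of_le (le_centralizer_singleton_iff.2 hv)
  obtain ⟨m, e1⟩ := hT.pgroup.exists_card_eq
  rw [← card_cj g 𝐂[v], cj_centralizer_singleton, h.card, show 6 * #|Q| * #|O| = #|Q| * 2 * (3 * #|O|) by ring, ← c] at k1
  exact (show Nat.Coprime #|T| (3 * #|O|) from e1 ▸ Nat.Coprime.pow_left m (Nat.Coprime.mul_right (by norm_num)
    (h.cop.symm.coprime_dvd_left (by norm_num)))).dvd_of_dvd_mul_right k1

end E

open E

variable [IsSimpleGroup G]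

theorem T3.case4 (h : T3 z x s Q O) (hQ : Q = zpowers z) : ∃ (F : Type) (_ : Field F) (_ : Fintype F),
    (Fintype.card F = 11 ∨ Fintype.card F = 13) ∧ Nonempty (G ≃* Matrix.ProjectiveSpecialLinearGroup (Fin 2) F) := by
  obtain ⟨F, _, _, h1, -, ⟨e⟩⟩ := H2.SC.psl_of_card_four h.hyp.nab (syl h).1 (by rw [(syl h).2, hQ, Nat.card_zpowers, h.hyp.z2])
  refine ⟨F, inferInstance, inferInstance, ?_, ⟨e⟩⟩
  have h2 := H5.two_ne_zero_of_odd_card h1
  have o := (e.orderOf_eq (z * x)).trans (ord6 h.hyp)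
  have c : H7.CA.co (e (z * x)) = 6 := by
    rw [← ord6 h.hyp, ← Nat.card_zpowers, ← co6 h.hyp]
    exact Nat.card_congr (e.symm.toEquiv.subtypeEquiv fun g => by
      simp only [mem_centralizer_singleton_iff, ← e.symm.injective.eq_iff (a := g * _), map_mul]; simp)
  obtain ⟨A, hA⟩ := QuotientGroup.mk_surjective (e (z * x))
  rw [← hA] at o c
  obtain ⟨h3, -⟩ := H7.CA.co_mk h2 (A := A) fun k => by rw [(QuotientGroup.eq_one_iff A).2 k, orderOf_one] at o; omega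
  have h4 := h3 fun k => by
    have hd : A.1 0 0 * A.1 1 1 - A.1 0 1 * A.1 1 0 = 1 := by rw [← Matrix.det_fin_two, A.2]
    have : A * A = -1 := Subtype.ext (by
      change A.1 * A.1 = -1
      ext i j
      fin_cases i <;> fin_cases j <;> simp [Matrix.mul_apply, Fin.sum_univ_two] <;> grind)
    have k1 : (A : PSL(2, F)) ^ 2 = 1 := by
      rw [← QuotientGroup.mk_pow, pow_two, this, QuotientGroup.eq_one_iff]; exact H7.SL2_mem_center_iff.2 (Or.inr rfl)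
    exact absurd (o ▸ orderOf_dvd_of_pow_eq_one k1) (by norm_num)
  generalize A.1 0 0 + A.1 1 1 = τ at h4
  rw [← Nat.card_eq_fintype_card, Nat.odd_iff] at *
  by_cases h5 : τ ^ 2 = 4
  · rw [H7.CA.cN_two h2 h5] at h4; omega
  by_cases hr : ∃ r, r ^ 2 + τ * r + 1 = 0
  · have := H7.CA.cN_root h2 h5 hr.choose_spec; omega
  · rw [H7.CA.cN_no h2 (not_exists.1 hr)] at h4; omega

theorem T3.case8 (h : T3 z x s Q O) (hQ : Q ≠ zpowers z) (h1 : ∀ u ∈ Q, u * u = 1 → u = 1 ∨ u = z) :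
    #|Q| = 8 ∧ ∃ π : 𝐂[z] →* GL (Fin 2) (ZMod 3), Function.Surjective π ∧ π.ker = O.subgroupOf 𝐂[z] := by
  have := Fact.mk Nat.prime_two
  have := Fact.mk Nat.prime_three
  have : (O.subgroupOf 𝐂[z]).Normal := normal_subgroupOf_of_le_normalizer h.HO
  have hn : (Q.subgroupOf 𝐂[z]).Normal := normal_subgroupOf_of_le_normalizer h.HQ
  let f := QuotientGroup.mk' (O.subgroupOf 𝐂[z])
  have hf := QuotientGroup.mk'_surjective (O.subgroupOf 𝐂[z])
  obtain ⟨hS, -⟩ := syl h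
  obtain ⟨n, cS⟩ := hS.pgroup.exists_card_eq
  have k : ∀ g : 𝐂[z], g.1 ∈ Q ⊔ zpowers s → f g = 1 → g = 1 := fun g hg e => Subtype.ext ((disjoint_of_coprime_card (cS ▸
    Nat.Coprime.pow_left n (h.cop.symm.coprime_dvd_left (by norm_num)))).le ⟨hg, (QuotientGroup.eq_one_iff g).1 e⟩)
  have k2 : ∀ g : 𝐂[z], g.1 ∈ Q ⊔ zpowers s → BS.Invo g.1 → orderOf (f g) = 2 := fun g hg e => H4.orderOf_eq_two_of
    (by rw [← map_mul, show g * g = 1 from Subtype.ext e.1, map_one]) fun e' => e.2 (congrArg Subtype.val (k g hg e'))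
  have := hn.map f hf
  have c1 : #|(Q.subgroupOf 𝐂[z]).map f| = #|Q| := (cm f fun g hg => k g (mem_sup_left hg)).trans (card_subgroupOf_of_le h.QH)
  have c2 := (O.subgroupOf 𝐂[z]).card_eq_card_quotient_mul_card_subgroup
  rw [h.card, card_subgroupOf_of_le h.OH, ← c1] at c2
  have x3 : orderOf (f ⟨x, h.hyp.xz⟩) = 3 := orderOf_eq_prime (by
    rw [← map_pow, ← map_one f]; exact congrArg f (Subtype.ext (h.hyp.x3 ▸ pow_orderOf_eq_one x))) fun e =>
      absurd (h.hyp.x3 ▸ O.orderOf_dvd_natCard (x := x) ((QuotientGroup.eq_one_iff (N := O.subgroupOf 𝐂[z]) _).1 e))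
        (Nat.prime_three.coprime_iff_not_dvd.1 (h.cop.symm.coprime_dvd_left (by norm_num)))
  obtain ⟨e1, e2, e3⟩ := core ((pgroup_subgroupOf h.Q2 _).map f) (Nat.eq_of_mul_eq_mul_right Nat.card_pos c2).symm x3
    (s := f ⟨s, h.sH⟩) (by rw [← map_inv, ← map_mul, ← map_mul, ← map_inv]; exact congrArg f (Subtype.ext h.sx))
    ⟨⟨s, h.sH⟩ * ⟨s, h.sH⟩, zpowers_le.2 h.zQ h.ss, map_mul _ _ _⟩ fun e => hQ (le_antisymm (fun q hq => by
      have := k (⟨q, h.QH hq⟩ * (⟨x, h.hyp.xz⟩ * ⟨q, h.QH hq⟩⁻¹ * ⟨x, h.hyp.xz⟩⁻¹)) (mem_sup_left (mul_mem hq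
        ((mem_normalizer_iff.1 (h.HQ h.hyp.xz) _).1 (inv_mem hq)))) (by
          rw [map_mul, map_mul, map_mul, ← mul_assoc, ← mul_assoc, e _ ⟨⟨q, h.QH hq⟩, hq, rfl⟩]; simp)
      rcases h.hyp.fix h.Q2 h.QH hq (by
        rw [← mul_inv_eq_one, ← show q * (x * q⁻¹ * x⁻¹) = 1 from congrArg Subtype.val this]; group) with rfl | rfl <;> simp) (zpowers_le.2 h.zQ))
  obtain k3 | ⟨⟨e⟩, k3⟩ := H5.isPGroup_or_quaternion_of_unique_involution (e1.symm ▸ e2) (by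
    have : ∀ a ∈ (Q.subgroupOf 𝐂[z]).map f, orderOf a = 2 → a = f ⟨z, h.QH h.zQ⟩ := by
      rintro _ ⟨a, ha, rfl⟩ o
      rcases h1 a ha (congrArg Subtype.val (k (a * a) (mem_sup_left (mul_mem ha ha))
        (by rw [map_mul, H4.mul_self_of_orderOf_two o]))) with e | e
      · rw [show a = 1 from Subtype.ext e, map_one, orderOf_one] at o; omega
      · exact congrArg f (Subtype.ext e)
    exact e1.symm ▸ fun a ha b hb o o' => (this a ha o).trans (this b hb o').symm)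
  · exact (n3 (k3.to_subgroup ⊤) x3 (mem_top _)).elim
  obtain ⟨c3, i, j, d, t, r, hi, ht | ht⟩ := H5.exists_rel48 (e1.symm ▸ e2) e k3 e3
  · obtain ⟨φ⟩ := r.nonempty_equiv_GL hi c3 ht
    refine ⟨by have := Nat.eq_of_mul_eq_mul_right Nat.card_pos c2; omega, φ.toMonoidHom.comp f, φ.surjective.comp hf, ?_⟩
    rw [← MonoidHom.comap_ker, (MonoidHom.ker_eq_bot_iff _).2 φ.injective, MonoidHom.comap_bot, QuotientGroup.ker_mk']
  · obtain ⟨a, ha, b, hb, a2, b2, hab, -⟩ := Clos.exists_four_mem h.hyp.nab hS (H2.SC.sylow_ne_bot h.hyp.nab hS)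
    have l := sup_le h.QH (zpowers_le.2 h.sH)
    obtain ⟨T, hT⟩ := ((pgroup_subgroupOf hS.pgroup 𝐂[z]).map f).exists_le_sylow
    have := H5.unique_involution_of_equiv_quaternion (r.sylow_equiv_quaternion hi c3 ht T).some _ (hT ⟨⟨a, l ha⟩, ha, rfl⟩) _
      (hT ⟨⟨b, l hb⟩, hb, rfl⟩) (k2 _ ha a2) (k2 _ hb b2)
    exact (hab (mul_inv_eq_one.1 (congrArg Subtype.val (k (⟨a, l ha⟩ * ⟨b, l hb⟩⁻¹) (mul_mem ha (inv_mem hb))
      (by rw [map_mul, map_inv, this, mul_inv_cancel]))))).elim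

/-- the statement of module A -/
def SC3 : Prop := ∀ {Y : Type u} [Group Y] [Finite Y] {w : Y}, H9.F3.SC w →
  Group.IsNilpotent (pPrimeCore 3 Y) ∧ ((pPrimeCore 3 Y).index = 3 ∨ (pPrimeCore 3 Y).index = 6 ∨
    (IsSimpleGroup (Y ⧸ pPrimeCore 3 Y) ∧ (((pPrimeCore 3 Y).index = 60 ∧ IsPGroup 2 (pPrimeCore 3 Y)) ∨
      ((pPrimeCore 3 Y).index = 168 ∧ pPrimeCore 3 Y = ⊥))))

theorem Hyp.caseE8_of (sc3 : SC3.{u}) (h : Hyp z x) (hS : IsSylowIn 2 S ⊤) (hz : S ≤ 𝐂[z]) (hx : x ∈ 𝐍(S)) (h8 : #|S| = 8)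
    (h2 : ∀ g ∈ S, g * g = 1) : Cfsg.Spor.IsoJ1 G := by
  have := Fact.mk Nat.prime_two
  have zz : z ∈ 𝐂[z] := mem_centralizer_singleton_iff.2 rfl
  have : ((zpowers z).subgroupOf 𝐂[z]).Normal := normal_subgroupOf_of_le_normalizer fun g => cz_norm
  let f := QuotientGroup.mk' ((zpowers z).subgroupOf 𝐂[z])
  have hf := QuotientGroup.mk'_surjective ((zpowers z).subgroupOf 𝐂[z])
  have k : ∀ g : 𝐂[z], f g = 1 ↔ g.1 ∈ zpowers z := fun g => QuotientGroup.eq_one_iff g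
  have hz2 : IsPGroup 2 (zpowers z) := IsPGroup.of_card (n := 1) (by rw [Nat.card_zpowers, h.z2]; rfl)
  have fz : f ⟨z, zz⟩ = 1 := (k _).2 (mem_zpowers z)
  have c2 := ((zpowers z).subgroupOf 𝐂[z]).card_eq_card_quotient_mul_card_subgroup
  rw [card_subgroupOf_of_le (zpowers_le.2 zz), Nat.card_zpowers, h.z2] at c2
  have c3 := relIndex_mul_card_of_le hz
  have c4 := (hS.of_le hz le_top).not_dvd_relIndex
  rw [h8] at c3
  obtain ⟨hN, hc⟩ := sc3 (w := f ⟨x, h.xz⟩) ⟨fun e => n3 hz2 h.x3 ((k _).1 e),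
    by rw [← map_mul, ← map_mul, ← map_one f]; exact congrArg f (Subtype.ext h.cube), fun g e => by
      obtain ⟨g, rfl⟩ := hf g
      have k1 : g * x * g.1⁻¹ * x⁻¹ ∈ zpowers z := (k (g * ⟨x, h.xz⟩ * g⁻¹ * ⟨x, h.xz⟩⁻¹)).1 (by
        rw [map_mul, map_mul, map_mul, show f g * _ = _ from e]; simp [f])
      have k2 : g * x * g.1⁻¹ * x⁻¹ = 1 := ((H9.mem_zpowers_of_mul_self h.iz.1).1 k1).resolve_right fun k3 => by
        have k4 := ord6 h
        rw [← k3, inv_mul_cancel_right, ← MulAut.conj_apply, MulEquiv.orderOf_eq, h.x3] at k4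
        omega
      obtain ⟨n, hn⟩ := h.cent g (mem_centralizer_singleton_iff.1 g.2) (mul_inv_eq_iff_eq_mul.1 (mul_inv_eq_one.1 k2))
      have k3 : f ⟨x, h.xz⟩ ^ 3 = 1 := by
        rw [← map_pow, ← map_one f]; exact congrArg f (Subtype.ext (h.x3 ▸ pow_orderOf_eq_one x))
      rw [show g = (⟨z, zz⟩ * ⟨x, h.xz⟩) ^ n from Subtype.ext hn.symm, map_zpow, map_mul, fz, one_mul, zpow_eq_zpow_emod' n k3]
      rcases (by omega : n % (3 : ℕ) = 0 ∨ n % (3 : ℕ) = 1 ∨ n % (3 : ℕ) = 2) with e | e | e <;> rw [e]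
      · exact Or.inl (zpow_zero _)
      · exact Or.inr (Or.inl (zpow_one _))
      · exact Or.inr (Or.inr (eq_inv_of_mul_eq_one_left (by rw [← k3]; group)))⟩
  have c5 := (pPrimeCore 3 (𝐂[z] ⧸ (zpowers z).subgroupOf 𝐂[z])).card_mul_index
  obtain ⟨T, rfl⟩ := hS.exists_sylow_top
  have el := H9.isElementaryAbelian_two_iff.2 fun a ha => (pow_two a).trans (h2 a ha)
  have ns : ¬Group.IsSolvable 𝐂[z] := fun hs => by
    have k1 := S3189.result h.nab T el h8 fun t ht => by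
      obtain ⟨g, rfl⟩ := isConj_iff.1 (h.one z t h.z2 ht)
      exact cj_centralizer_singleton g z ▸ solvable_cj hs g
    have : (𝐂(T).subgroupOf 𝐍(T)).Normal := normal_subgroupOf_of_le_normalizer (normalizer_le_normalizer_centralizer _)
    have k2 := mul_mem (pow_mem (inv_mem (one_mem 𝐂((T : Subgroup G)))) 2) (show x ^ 7 ∈ 𝐂((T : Subgroup G)) from
      k1 ▸ (𝐂(T).subgroupOf 𝐍(T)).pow_index_mem ⟨x, hx⟩)
    rw [← pow_orderOf_eq_one x, h.x3, show (x ^ 3)⁻¹ ^ 2 * x ^ 7 = x by group] at k2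
    exact absurd (h8 ▸ c6 h hz k2) (by norm_num)
  have sv : ∀ a, (pPrimeCore 3 (𝐂[z] ⧸ (zpowers z).subgroupOf 𝐂[z])).index = 2 ^ a * 3 ^ 1 → False := fun a e => ns (by
    have := isSolvable_of_card_eq_pow_mul_pow Nat.prime_two Nat.prime_three e
    have := Group.isSolvable_of_ker_le_range (pPrimeCore 3 (𝐂[z] ⧸ (zpowers z).subgroupOf 𝐂[z])).subtype (QuotientGroup.mk' (pPrimeCore 3 _))
      (by rw [QuotientGroup.ker_mk', range_subtype])
    have := solvable_of_pgroup (pgroup_subgroupOf hz2 𝐂[z])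
    exact Group.isSolvable_of_ker_le_range ((zpowers z).subgroupOf 𝐂[z]).subtype f (by rw [QuotientGroup.ker_mk', range_subtype]))
  rcases hc with e | e | ⟨hs, ⟨e, h3⟩ | ⟨e, h3⟩⟩
  · exact (sv 0 e).elim
  · exact (sv 1 e).elim
  swap
  · rw [e, h3, card_bot] at c5; omega
  obtain ⟨n, c6⟩ := h3.exists_card_eq
  have c7 : pPrimeCore 3 (𝐂[z] ⧸ (zpowers z).subgroupOf 𝐂[z]) = ⊥ := card_eq_one.1 (by
    rcases n with _ | n
    · exact c6
    · rw [c6, e, pow_succ] at c5; omega)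
  obtain ⟨e0⟩ := H5.equiv_A5_of_card e
  let φ := e0.toMonoidHom.comp ((QuotientGroup.mk' _).comp f)
  have hφ : Function.Surjective φ := e0.surjective.comp ((QuotientGroup.mk'_surjective _).comp hf)
  have zT : z ∈ (T : Subgroup G) := hS.le_of_le_normalizer hz2 le_top (fun g hg => cz_norm (hz hg)) (mem_zpowers z)
  have z1 : z ∉ ⁅𝐂[z], 𝐂[z]⁆ := fun hm => h.iz.2 (Go.not_mem_commutator (hS.of_le hz le_top) (comm_iff_le_centralizer.1 el.1) zT
    (le_centralizer_singleton_iff.1 le_rfl) hm)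
  have i1 : zpowers z ⊓ ⁅𝐂[z], 𝐂[z]⁆ = ⊥ := eq_bot_iff.2 fun g hg =>
    ((H9.mem_zpowers_of_mul_self h.iz.1).1 hg.1).resolve_right fun e => z1 (e ▸ hg.2)
  have e1 := MulEquiv.ofBijective (φ.domRestrict (commutator 𝐂[z])) ⟨(injective_iff_map_eq_one _).2 fun g hg => Subtype.ext
    (Subtype.ext (i1.le ⟨(k _).1 (c7.le ((QuotientGroup.eq_one_iff _).1 (e0.map_eq_one_iff.1 hg))),
      map_subtype_commutator 𝐂[z] ▸ ⟨g, g.2, rfl⟩⟩)), MonoidHom.range_eq_top.1 (by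
        rw [MonoidHom.domRestrict_range, map_commutator_eq, MonoidHom.range_eq_top.2 hφ]
        exact commutator_alternatingGroup_eq_top (by simp))⟩
  have e2 : (⁅𝐂[z], 𝐂[z]⁆ : Subgroup G) ≃* alternatingGroup (Fin 5) :=
    map_subtype_commutator 𝐂[z] ▸ (equivMapOfInjective _ _ 𝐂[z].subtype_injective).symm.trans e1
  have l1 : ⁅𝐂[z], 𝐂[z]⁆ ≤ 𝐂[z] := commutator_le_self _
  refine ((S3285.result (fun k => h.nab ⟨⟨IsSimpleGroup.comm_iff_isSolvable.2 k⟩⟩) (fun N _ => H6.index_ne_two_of_perfect (H6.perfect_of_simple h.nab) N) z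
    ⟨h.z2, T, zT, fun g hg => hz hg _ rfl |>.symm⟩ 5 _ ⟨e2⟩ ⟨zpowers_le.2 zz, l1, fun a ha b hb => (zc ha (l1 hb)).symm, i1, ?_⟩).resolve_left
      fun k => by omega).2
  rw [sup_comm]
  refine eq_of_le_of_card_ge (sup_le l1 (zpowers_le.2 zz)) ?_
  rw [H5.card_sup_zpowers (p := 2) (centralizer_le_normalizer _ (le_centralizer_singleton_iff.1 l1)) z1
    (by rw [pow_two, h.iz.1]; exact one_mem _), Nat.card_congr e2.toEquiv, H5.a5_card, c2, ← c5, e, c7, card_bot]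

end Cfsg.Agent.WA.Hw
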