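import Cfsg.Agent.WA.HwA1
import Cfsg.Agent.WA.HwF
import Cfsg.Agent.WA.HwE

/-! The two shapes of `C(z)`. -/

set_option autoImplicit false
set_option linter.unusedSectionVars false

namespace Cfsg.Agent.WA.Hw

open Subgroup Cfsg.Agent.FT Cfsg.Agent.L0 Cfsg.Agent.H8 Cfsg.Agent.WA.Rw
open Cfsg.Agent.H9.F3 (SC Iv Gd)

universe u

variable {G : Type u} [Group G] [Finite G] [IsSimpleGroup G] {z x s u : G} {Q O S : Subgroup G}

namespace A

local instance fact3' : Fact (Nat.Prime 3) := ⟨Nat.prime_three⟩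
local instance fact2' : Fact (Nat.Prime 2) := ⟨Nat.prime_two⟩

theorem ex_sq {g : G} {k : ℕ} (h1 : g ^ 2 ^ k = 1) (h2 : g * g ≠ 1) : ∃ a : G, orderOf (a * a) = 2 := by
  induction k generalizing g with
  | zero => exact absurd (by rw [pow_zero, pow_one] at h1; rw [h1, one_mul]) h2
  | succ k ih =>
    by_cases e : g * g * (g * g) = 1
    · exact ⟨g, orderOf_eq_prime (by rwa [pow_two]) h2⟩
    · exact ih (g := g * g) (by rw [← pow_two, ← pow_mul, ← pow_succ', h1]) e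

theorem syl (h : Hyp z x) : ∃ S, IsSylowIn 2 S ⊤ ∧ S ≤ 𝐂[z] := by
  obtain ⟨T, hT, zT⟩ := exists_isSylowIn_ge (GS.G0.pg_of_sq h.iz.1) le_top
  obtain ⟨c, -, c2, hc⟩ := H7.exists_orderOf_eq_center hT.pgroup fun e =>
    h.iz.2 (mem_bot.1 (e ▸ zT (mem_zpowers z)))
  obtain ⟨g, rfl⟩ := isConj_iff.1 (h.one c z c2 h.z2)
  refine ⟨cj g T, hT.cj_of_mem_normalizer (by rw [normalizer_eq_top]; trivial), fun t ht => ?_⟩
  have := mem_c1.1 (hc (mem_cj.1 ht))
  refine mem_c1.2 ?_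
  calc _ = g * (g⁻¹ * t * g * c) * g⁻¹ := by group
    _ = _ := by rw [this]; group

theorem other (h : Hyp z x) : ∃ t ∈ 𝐂[z], t * t = 1 ∧ t ∉ zpowers z := by
  by_contra hn
  refine ((H7.Isolated.of_commute h.iz.1 fun g hc => ?_).eq_one_or_comm).elim h.iz.2 h.nab
  have : g * z * g⁻¹ ∈ zpowers z := by_contra fun e =>
    hn ⟨_, mem_c1.2 hc.symm.eq, by rw [conj_mul, h.iz.1]; group, e⟩
  exact ((mem_z h.iz).1 this).resolve_left fun e => h.iz.2 (by simpa using e)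

variable (h : Hyp z x) {Y : Type u} [Group Y] [Finite Y] {f : 𝐂[z] →* Y} (fs : Function.Surjective f)
  (fk : ∀ g, f g = 1 ↔ (g : G) ∈ zpowers z)
include h fk

theorem lift {a b : 𝐂[z]} (e : f a = f b) : (a : G) = b ∨ (a : G) = z * b := by
  have := (fk (a * b⁻¹)).1 (by rw [map_mul, map_inv, e, mul_inv_cancel])
  rcases (mem_z h.iz).1 this with e | e
  · exact Or.inl (mul_inv_eq_one.1 e)
  · exact Or.inr (mul_inv_eq_iff_eq_mul.1 e)

theorem lift3 {a b : 𝐂[z]} (e : f a = f b) (ha : (a : G) ^ 3 = 1) (hb : (b : G) ^ 3 = 1) : (a : G) = b := by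
  refine (lift h fk e).resolve_right fun e => h.iz.2 ?_
  rw [e, (show Commute z b from (mem_c1.1 b.2).symm).mul_pow, hb, mul_one, pow_three', h.iz.1, one_mul] at ha
  exact ha

omit fk in
theorem x3 : x ^ 3 = 1 := by rw [pow_three', h.cube]

theorem card_ker : Nat.card f.ker = 2 := by
  have : f.ker.map (𝐂[z]).subtype = zpowers z := by
    ext g
    exact ⟨fun ⟨a, ha, e⟩ => e ▸ (fk a).1 ha, fun hg => ⟨⟨g, mem_c1.2 (zc hg (mem_c1.2 rfl)).symm⟩,
      (fk _).2 hg, rfl⟩⟩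
  rw [← card_map_of_injective (𝐂[z]).subtype_injective, this, Nat.card_zpowers, h.z2]

include fs

theorem sc : SC (f ⟨x, h.xz⟩) := by
  refine ⟨fun e => ?_, by rw [← map_mul, ← map_mul, fk]; simp [h.cube], fun g e => ?_⟩
  · have := lift3 h fk (e.trans f.map_one.symm) (x3 h) (one_pow 3)
    simpa [show x = 1 from this] using h.x3
  · obtain ⟨g, rfl⟩ := fs g
    have e1 := lift3 h fk (a := g * ⟨x, h.xz⟩ * g⁻¹) (b := ⟨x, h.xz⟩)
      (by rw [map_mul, map_mul, e, map_inv, mul_inv_cancel_right]) (by simp [conj_pow, x3 h]) (x3 h)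
    obtain ⟨i, hi⟩ := h.cent g (mem_c1.1 g.2) (mul_inv_eq_iff_eq_mul.1 e1)
    have fz : f ⟨z, mem_c1.2 rfl⟩ = 1 := (fk _).2 (mem_zpowers z)
    have : g = (⟨z, mem_c1.2 rfl⟩ * ⟨x, h.xz⟩) ^ i := Subtype.ext hi.symm
    rw [this, map_zpow, map_mul, fz, one_mul]
    have c : f ⟨x, h.xz⟩ ^ (3 : ℤ) = 1 := by
      rw [← map_zpow, fk]
      simp only [SubgroupClass.coe_zpow]
      rw [show x ^ (3 : ℤ) = 1 by exact_mod_cast x3 h]; exact one_mem _
    generalize f ⟨x, h.xz⟩ = w at c ⊢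
    rw [← Int.mul_ediv_add_emod i 3, zpow_add, zpow_mul, c, one_zpow, one_mul]
    have : i % 3 = 0 ∨ i % 3 = 1 ∨ i % 3 = 2 := by omega
    rcases this with e | e | e <;> rw [e]
    · simp
    · simp
    · refine Or.inr (Or.inr (eq_inv_of_mul_eq_one_left ?_))
      rw [← zpow_add_one]; exact c

theorem alt1 {V : Subgroup Y} (hV : IsSylowIn 2 V ⊤) (hx : f ⟨x, h.xz⟩ ∈ 𝐍(V)) :
    ∃ S : Subgroup G, IsSylowIn 2 S ⊤ ∧ S ≤ 𝐂[z] ∧ x ∈ 𝐍(S) := by
  obtain ⟨T, hT, Tz⟩ := syl h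
  have k2 : IsPGroup 2 f.ker := .of_card (n := 1) (card_ker h fk)
  refine ⟨(V.comap f).map (𝐂[z]).subtype, hT.of_card_ge ((hV.pgroup.comap_of_ker_isPGroup f k2).map _) le_top ?_,
    map_subtype_le _, le_normalizer_map _ ⟨⟨x, h.xz⟩, ?_, rfl⟩⟩
  · obtain ⟨W, hW, le⟩ := exists_isSylowIn_ge ((hT.pgroup.comap_subtype (K := 𝐂[z])).map f) le_top
    rw [card_map_of_injective (𝐂[z]).subtype_injective, card_comap_of_surjective f fs, hV.card_eq_card hW,
      ← card_comap_of_surjective f fs, ← Nat.card_congr (subgroupOfEquivOfLe Tz).toEquiv]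
    exact card_le_of_le (map_le_iff_le_comap.1 le)
  · exact mem_normalizer_iff.2 fun y => by
      simpa only [mem_comap, map_mul, map_inv] using mem_normalizer_iff.1 hx (f y)

theorem not168 (e : Nat.card Y = 168) (h0 : pPrimeCore 3 Y = ⊥) : False := by
  obtain ⟨hs, hc⟩ := ((core_bot (sc h fs fk) h0).resolve_left (by omega)).resolve_left (by omega)
  obtain ⟨y, k, y1, y2⟩ := four168 hc (sc h fs fk) e
  obtain ⟨g, rfl⟩ := fs y
  have sq : ∀ c ∈ zpowers z, c * c = 1 := fun c hc => by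
    rcases (mem_z h.iz).1 hc with e | e <;> rw [e]
    exacts [one_mul 1, h.iz.1]
  obtain ⟨a, ha⟩ := ex_sq (g := (g : G)) (k := k + 1) (by
    rw [pow_succ, pow_mul, pow_two]
    exact sq _ ((fk (g ^ 2 ^ k)).1 (by rwa [map_pow]))) fun e => y2 (by
      rw [← map_mul, fk]; exact Set.mem_of_eq_of_mem e (one_mem _))
  obtain ⟨c, hc'⟩ := isConj_iff.1 (h.one _ z ha h.z2)
  rw [← conj_mul] at hc'
  generalize c * a * c⁻¹ = b at hc'
  have bz : b ∈ 𝐂[z] := mem_c1.2 (by rw [← hc', mul_assoc])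
  obtain ⟨t, tz, t2, t1⟩ := other h
  obtain ⟨v, -, hv, -⟩ := simple_facts hc (sc h fs fk)
  have c1 := hv (f ⟨b, bz⟩) (by rw [← map_mul, fk]; exact hc' ▸ mem_zpowers z) fun e =>
    h.iz.2 (hc' ▸ sq b ((fk _).1 e))
  have c2 := hv (f ⟨t, tz⟩) (by rw [← map_mul, fk]; exact Set.mem_of_eq_of_mem t2 (one_mem _)) fun e => t1 ((fk _).1 e)
  obtain ⟨d, hd⟩ := isConj_iff.1 (c1.symm.trans c2)
  obtain ⟨d, rfl⟩ := fs d
  rw [← map_inv, ← map_mul, ← map_mul] at hd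
  have e1 : (d : G) * b * (d : G)⁻¹ * ((d : G) * b * (d : G)⁻¹) = z := by
    rw [conj_mul, hc', mem_c1.1 d.2, mul_inv_cancel_right]
  refine h.iz.2 ?_
  rcases lift h fk hd with e | e
  · rw [← e1, show (d : G) * b * (d : G)⁻¹ = t from e, t2]
  · rw [show (d : G) * b * (d : G)⁻¹ = z * t from e, mul_assoc, ← mul_assoc t, mem_c1.1 tz, mul_assoc, t2,
      mul_one, h.iz.1] at e1
    exact e1.symm

theorem alt2 (e : (pPrimeCore 3 Y).index = 6) : ∃ s Q O, T3 z x s Q O := by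
  have hw := sc h fs fk
  obtain ⟨s, hs⟩ := inverter6 hw e
  have s2 := hw.inverter_sq hs
  obtain ⟨s, rfl⟩ := fs s
  set M := (pPrimeCore 3 Y).comap f with hM
  haveI := nil_of_iv hw (iv_core hw)
  haveI : Group.IsNilpotent M := Subgroup.isNilpotent_of_ker_le_center (f.subgroupComap (pPrimeCore 3 Y)) fun g hg =>
    mem_center_iff.2 fun a => Subtype.ext (Subtype.ext (zc ((fk g.1).1 (congrArg Subtype.val hg)) a.1.2))
  set N := M.map (𝐂[z]).subtype with hN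
  haveI : Group.IsNilpotent N := nilpotent_of_mulEquiv (M.equivMapOfInjective _ (𝐂[z]).subtype_injective)
  have NH : N ≤ 𝐂[z] := map_subtype_le _
  have HN : 𝐂[z] ≤ 𝐍(N) := fun g hg => le_normalizer_map _ ⟨⟨g, hg⟩, by rw [normalizer_eq_top]; trivial, rfl⟩
  have cN : Nat.card N = Nat.card M := card_map_of_injective (𝐂[z]).subtype_injective
  have N3 : ¬ 3 ∣ Nat.card N := by
    rw [cN]
    exact not_dvd_card_comap f (by rw [card_ker h fk]; decide) not_dvd_card_pPrimeCore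
  have zN : z ∈ N := ⟨⟨z, mem_c1.2 rfl⟩, by
    rw [SetLike.mem_coe, hM, mem_comap, (fk _).2 (mem_zpowers z)]; exact one_mem _, rfl⟩
  have Q2 : IsPGroup 2 (Op 2 N) := map_pCore_isPGroup N
  have O2 : ¬ 2 ∣ Nat.card (Opp 2 N) := not_dvd_card_map_pPrimeCore N
  have QN : Op 2 N ≤ N := map_subtype_le _
  have ON : Opp 2 N ≤ N := map_subtype_le _
  have cop : (Nat.card (Opp 2 N)).Coprime (Nat.card (Op 2 N)) := by
    obtain ⟨k, hk⟩ := Q2.exists_card_eq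
    rw [hk]
    exact Nat.Coprime.pow_right k ((Nat.Prime.coprime_iff_not_dvd Nat.prime_two).2 O2).symm
  refine ⟨s, Op 2 N, Opp 2 N, h, Q2, le_map_pCore (zpowers_le.2 zN) (fun g hg => cz_norm (NH hg))
    (GS.G0.pg_of_sq h.iz.1) (mem_zpowers z), QN.trans NH, HN.trans (normalizer_le_normalizer_map_pCore N),
    ON.trans NH, HN.trans (normalizer_le_normalizer_map_pPrimeCore N), ?_,
    commutator_eq_bot_iff_le_centralizer.1 (commutator_eq_bot_of_le_isNilpotent_of_coprime ON QN cop), ?_, s.2,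
    lift3 h fk (a := s * ⟨x, h.xz⟩ * s⁻¹) (b := ⟨x, h.xz⟩⁻¹) (by simpa only [map_mul, map_inv] using hs)
      (by simp [conj_pow, x3 h]) (by simp [x3 h]), (fk (s * s)).1 (by rwa [map_mul])⟩
  · exact Nat.Coprime.mul_right (k := _) (m := 2) (n := 3) ((Nat.Prime.coprime_iff_not_dvd Nat.prime_two).2 O2).symm
      ((Nat.Prime.coprime_iff_not_dvd Nat.prime_three).2 fun a => N3 (a.trans (card_dvd_of_le ON))).symm
  · have h1 := card_sup_mul_card_inf_of_le_normalizer (QN.trans (le_normalizer_map_pPrimeCore (p := 2) N))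
    rw [map_pCore_sup_map_pPrimeCore_of_isNilpotent, inf_eq_bot_of_coprime cop.symm, card_bot, mul_one] at h1
    rw [← M.card_mul_index, hM, index_comap_of_surjective _ fs, e, ← hM, ← cN, h1]
    ring

end A

open A in
/-- the two shapes of `C(z)` -/
theorem Hyp.str (h : Hyp z x) :
    (∃ (S : Subgroup G) (y : G), Hyp z y ∧ IsSylowIn 2 S ⊤ ∧ S ≤ 𝐂[z] ∧ y ∈ 𝐍(S)) ∨ ∃ s Q O, T3 z x s Q O := by
  haveI : ((zpowers z).subgroupOf 𝐂[z]).Normal := (normal_subgroupOf_iff_le_normalizer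
    (zpowers_le.2 (mem_c1.2 rfl))).2 fun _ a => cz_norm a
  have fs := QuotientGroup.mk'_surjective ((zpowers z).subgroupOf 𝐂[z])
  have fk : ∀ g, QuotientGroup.mk' ((zpowers z).subgroupOf 𝐂[z]) g = 1 ↔ (g : G) ∈ zpowers z :=
    fun g => QuotientGroup.eq_one_iff g
  have hw := sc h fs fk
  rcases (sc3 hw).2 with e | e | ⟨hs, ⟨e, -⟩ | ⟨e, h0⟩⟩
  · obtain ⟨V, hV, hx⟩ := syl_of_iv hw (iv_core hw) (by rw [e]; decide)
    obtain ⟨S, a⟩ := alt1 h fs fk hV hx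
    exact Or.inl ⟨S, x, h, a⟩
  · exact Or.inr (alt2 h fs fk e)
  · obtain ⟨V, hV, hx⟩ := syl60 hw hs e
    obtain ⟨S, a⟩ := alt1 h fs fk hV hx
    exact Or.inl ⟨S, x, h, a⟩
  · exact (not168 h fs fk (by rwa [h0, index_bot] at e) h0).elim

theorem Hyp.caseE8 (h : Hyp z x) (hS : IsSylowIn 2 S ⊤) (hz : S ≤ 𝐂[z]) (hx : x ∈ 𝐍(S)) (h8 : #|S| = 8)
    (h2 : ∀ g ∈ S, g * g = 1) : Cfsg.Spor.IsoJ1 G := h.caseE8_of @sc3 hS hz hx h8 h2

end Cfsg.Agent.WA.Hw
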