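import Cfsg.Agent.WA.GDef
import Cfsg.Agent.WA.G0a
import Cfsg.Agent.WA.G0b

/- LINKED interface; the statements, proved in the imported files:

variable {G : Type u} [Group G] [Finite G] {A B H K J P R X S : Subgroup G}
-- ### strong closure 
theorem SC.mono (h : SC A H) (h1 : A ≤ X) (h2 : X ≤ H) : SC A X :=
  ⟨h1, h.sq, fun a ha g hg => h.cl a ha g (h2 hg)⟩
theorem SC.comm (h : SC A H) {a b : G} (ha : a ∈ A) (hb : b ∈ A) : a * b = b * a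
theorem SC.pgroup (h : SC A H) : IsPGroup 2 A
theorem SC.cj (h : SC A H) (g : G) : SC (cj g A) (cj g H)
-- `A` is normal in every `2`-subgroup containing it 
theorem SC.le_norm (h : SC A H) (hP : IsPGroup 2 P) (hAP : A ≤ P) (hPH : P ≤ H) : P ≤ 𝐍(A)
theorem SC.of_sylow (hS : IsSylowIn 2 S H) (hAS : A ≤ S) (h2 : ∀ a ∈ A, a * a = 1)
    (hc : ∀ a ∈ A, ∀ g ∈ H, g * a * g⁻¹ ∈ S → g * a * g⁻¹ ∈ A) : SC A H
-- `N(A)` controls fusion of `2`-elements of `C(A)` 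
theorem SC.fusion (h : SC A H) {x g : G} (hx : x ∈ H ⊓ 𝐂(A)) (hg : g ∈ H) (hxg : g * x * g⁻¹ ∈ 𝐂(A)) :
    ∃ n ∈ H ⊓ 𝐍(A), n * x * n⁻¹ = g * x * g⁻¹
theorem SC.of_norm (h : SC A H) (hB : B ≤ A) (hn : H ⊓ 𝐍(A) ≤ 𝐍(B)) : SC B H
theorem SC.map {G' : Type u} [Group G'] [Finite G'] (h : SC A H) (f : G →* G') : SC (A.map f) (H.map f)
theorem SC.subgroupOf (h : SC A H) (hH : H ≤ X) : SC (A.subgroupOf X) (H.subgroupOf X)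
-- Frattini argument 
theorem SC.frattini (h : SC A H) (hX : X ≤ H) (hn : H ≤ 𝐍(X)) (hA : A ≤ X) : H ≤ X ⊔ (H ⊓ 𝐍(A))
-- a strongly embedded subgroup containing `N(A)` 
theorem SC.se_of_se [IsSimpleGroup G] (hG : ¬ IsMulCommutative G) (h : SC A ⊤) (hA : A ≠ ⊥) {M : Subgroup G}
    (hM : IsStronglyEmbedded M) : IsStronglyEmbedded 𝐍(A) ∧ ∀ t ∈ 𝐍(A), t * t = 1 → t ∈ A
-- if a proper subgroup contains `N(A)` and all `C(a)` then `N(A)` is transitive on `A#` 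
theorem SC.trans_of_embed [IsSimpleGroup G] (h : SC A ⊤) {M : Subgroup G} (hM : M ≠ ⊤) (hN : 𝐍(A) ≤ M)
    (hC : ∀ a ∈ A, a ≠ 1 → 𝐂[a] ≤ M) {a b : G} (ha : a ∈ A) (hb : b ∈ A) (ha1 : a ≠ 1) (hb1 : b ≠ 1) :
    ∃ n ∈ 𝐍(A), n * a * n⁻¹ = b
-- ### `cm` 
theorem le_cm_iff (hK : PCompOf 2 K H) (hX : X ≤ H) : X ≤ cm K ↔ ⁅K, X⁆ ≤ opp 2 H
theorem opp_le_cm (hK : PCompOf 2 K H) : opp 2 H ≤ cm K
theorem not_le_cm (hK : PQS 2 K) : ¬ K ≤ cm K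
theorem cj_cm (g : G) (K : Subgroup G) : cj g (cm K) = cm (cj g K)
theorem le_cm_of_ne (hK : PCompOf 2 K H) (hJ : PCompOf 2 J H) (hne : K ≠ J) : K ≤ cm J
theorem simple_sq (hK : PQS 2 K) : IsSimpleGroup (sq K) ∧ ¬ IsMulCommutative (sq K)
theorem KC.cj (h : KC A K) (g : G) : KC (cj g A) (cj g K)
-- ### passing to `L(C_K(X))` and pumping up 
-- a `2`-subgroup `X` of `cm K` 
theorem low_spec (hK : PQS 2 K) (hX : IsPGroup 2 X) (hc : X ≤ cm K) :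
    PCompOf 2 (low K X) (K ⊓ 𝐂(X)) ∧ K ≤ opp 2 K ⊔ low K X ∧ opp 2 (low K X) = opp 2 K ⊓ low K X ∧
      ∀ x ∈ 𝐍(K) ⊓ 𝐍(low K X), x ∈ cm K ↔ x ∈ cm (low K X)
theorem low_comp (hK : PCompOf 2 K H) (hX : IsPGroup 2 X) (hc : X ≤ cm K) :
    PCompOf 2 (low K X) (H ⊓ 𝐂(X))
-- `K₀ ≤ K` covers `K/O(K)`: same invariants 
theorem KC.cover (h : KC A K) {K₀ : Subgroup G} (h₀ : PQS 2 K₀) (hle : K₀ ≤ K) (hn : A ≤ 𝐍(K₀))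
    (hc : K ≤ opp 2 K ⊔ K₀) : KC A K₀ ∧ AA A K₀ = AA A K ∧ BB A K₀ = BB A K ∧ A ⊓ K₀ = A ⊓ K ∧
      (TS A K₀ ↔ TS A K) ∧ (TF A K₀ ↔ TF A K) ∧ (TJ A K₀ ↔ TJ A K) ∧
      (opp 2 K₀).relIndex K₀ = (opp 2 K).relIndex K
-/
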