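import Cfsg.Agent.WA.GDef2
import Cfsg.Agent.WA.GM3d

/- LINKED interface; the statements, proved in the imported files:

variable {G : Type u} [Group G] [Finite G] {A E U S V V₁ V₂ T W : Subgroup G}
-- M3 
theorem m3 [IsSimpleGroup G] (h : Mn A) (hc : Alpha A) : False
-/
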