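import Cfsg.Agent.WA.GDef2
import Cfsg.Agent.WA.GM5a4

/- LINKED interface; the statements, proved in the imported files:

variable {G : Type u} [Group G] [Finite G] {A E U S V V₁ V₂ T W : Subgroup G}
-- M5a 
theorem m5a [IsSimpleGroup G] (h : Mn A) (hc : Beta A) {t : G} (ht : t ∈ A) (h1 : t ≠ 1) {K : Subgroup G} (hK : AC A K 𝐂[t]) :
    TF A K
-/
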