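import Cfsg.Agent.WA.GDef2
import Cfsg.Agent.WA.GM7a

/- LINKED interface; the statements, proved in the imported files:

variable {G : Type u} [Group G] [Finite G] {A E U S V V₁ V₂ T W : Subgroup G}
-- M7a 
theorem m7a [IsSimpleGroup G] (h : Mn A) (h4 : #|A| = 4) : GG A ∨ Gam A
-/
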