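import Cfsg.Agent.WA.GDef2
import Cfsg.Agent.WA.GM7c3

/- LINKED interface; the statements, proved in the imported files:

variable {G : Type u} [Group G] [Finite G] {A E U S V V₁ V₂ T W : Subgroup G}
-- M7c 
theorem m7c [IsSimpleGroup G] (h : Gam A) : ∃ E U S, L34 A E U S
-/
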