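import Cfsg.Agent.WA.IP
import Cfsg.Agent.WA.ITea
import Cfsg.Agent.WA.IM1
import Cfsg.Agent.WA.IM3
import Cfsg.Agent.WA.IM4
import Cfsg.Agent.WA.IM5a
import Cfsg.Agent.WA.IM5
import Cfsg.Agent.WA.IM7a
import Cfsg.Agent.WA.IM7b
import Cfsg.Agent.WA.IM7c
import Cfsg.Agent.WA.IM7d

/-! All modules of the proof (PLAN_GS.md). -/
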