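import Cfsg.Agent.WA.IGT
import Cfsg.Agent.WA.GSa
import Cfsg.Agent.WA.GSb

/- LINKED interface; the statements, proved in the imported files:

variable {G : Type u} [Group G] [Finite G] {A B H K J P R X S : Subgroup G}
-- ### the structure theorem 
-- (a1) 
theorem SC.norm_comp (h : SC A H) (hK : PCompOf 2 K H) : A ≤ 𝐍(K)
-- (a0) 
theorem AC.kc {n : ℕ} (ih : IH.{u} n) (hn : #|H| < n) (h : SC A H) (hK : AC A K H) : KC A K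
-- (a4): `A O(H) E` is normal in `H`, where `E` is the product of the `A`-components 
theorem SC.struct {n : ℕ} (ih : IH.{u} n) (hn : #|H| < n) (h : SC A H) :
    H ≤ 𝐍(opp 2 H ⊔ sSup {K | AC A K H} ⊔ A) ∧ H ≤ opp 2 H ⊔ sSup {K | AC A K H} ⊔ (H ⊓ 𝐍(A))
-- (a4), in the form in which it is used 
theorem SC.le_of_struct {n : ℕ} (ih : IH.{u} n) (hn : #|H| < n) (h : SC A H) (h1 : opp 2 H ≤ X)
    (h2 : ∀ K, AC A K H → K ≤ X) (h3 : H ⊓ 𝐍(A) ≤ X) : H ≤ X :=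
  (h.struct ih hn).2.trans (sup_le (sup_le h1 (sSup_le h2)) h3)
-- (a5) 
theorem SC.comm_le_opp {n : ℕ} (ih : IH.{u} n) (hn : #|H| < n) (h : SC A H) (hR : R ≤ H) (ho : Odd #|R|)
    (hA : A ≤ 𝐍(R)) (hc : ∀ K, AC A K H → R ≤ cm K) : ⁅R, A⁆ ≤ opp 2 H
-- (a7) 
theorem AC.cent_le_norm {n : ℕ} (ih : IH.{u} n) (hn : #|H| < n) (h : SC A H) (hK : AC A K H) :
    H ⊓ 𝐍(A) ⊓ 𝐍(BB A K) ≤ 𝐍(K)
-- (a6) 
theorem AC.odd_le_norm {n : ℕ} (ih : IH.{u} n) (hn : #|H| < n) (h : SC A H) (hK : AC A K H) (hR : R ≤ H)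
    (ho : Odd #|R|) (hA : A ≤ 𝐍(R)) : R ≤ 𝐍(K)
-- two different `A`-components 
theorem AC.aa_le_of_ne (h : SC A H) (hK : AC A K H) (hJ : AC A J H) (hne : K ≠ J) : AA A K ≤ BB A J
-- L-balance: an `A`-component of `C_H(x)` lies in a unique `A`-component of `H` 
theorem AC.pump {n : ℕ} (ih : IH.{u} n) (hn : #|H| < n) (h : SC A H) {x : G} (hx : x * x = 1)
    (hxH : x ∈ H ⊓ 𝐂(A)) (hK : AC A K (H ⊓ 𝐂[x])) :
    ∃ J, AC A J H ∧ K ≤ J ∧ x ∈ 𝐍(J) ∧ BB A J ≤ BB A K ∧ AA A K ≤ AA A J ∧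
      ((x ∈ cm J ∧ J ≤ opp 2 J ⊔ K) ∨ (x ∉ cm J ∧ (opp 2 K).relIndex K < (opp 2 J).relIndex J))
-/
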