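import Cfsg.Agent.WA.IG0
import Cfsg.Agent.WA.GT1a
import Cfsg.Agent.WA.GT1b
import Cfsg.Agent.WA.GT1c
import Cfsg.Agent.WA.GT1d

/- LINKED interface; the statements, proved in the imported files:

variable {G : Type u} [Group G] [Finite G] {A B E H K J L P R X S U : Subgroup G}
-- ### all types 
-- (t0) 
theorem KC.types (h : KC A K) : TS A K ∨ TL A K ∨ TJ A K
-- (t1) 
theorem KC.sing (h : KC A K) : ∃ c ∈ K, Sing A (BB A K) c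
-- (t2) 
theorem KC.two_comm (h : KC A K) (hP : IsPGroup 2 P) (hle : P ≤ K ⊓ 𝐍(A)) : ⁅A, P⁆ ≤ cm K
-- (t3) 
theorem KC.le_sup (h : KC A K) : A ≤ AA A K ⊔ BB A K
-- (t4) 
theorem KC.of_sylow (h : KC A K) (hs : IsSylowIn 2 (A ⊓ K) K) :
    A ⊓ K ⊓ cm K = ⊥ ∧ AA A K = A ⊓ K ∧ K ⊓ cm K = opp 2 K ∧ #|A| = #|(A ⊓ K : Subgroup G)| * #|BB A K|
-- (t5) a `2`-element centralizing the Sylow subgroup `A ⊓ K` acts like an element of it 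
theorem KC.inner_of_sylow (h : KC A K) (hs : IsSylowIn 2 (A ⊓ K) K) {x : G} (hx : x ∈ 𝐍(K))
    (h2 : ∃ k, x ^ 2 ^ k = 1) (hc : x ∈ 𝐂((A ⊓ K : Subgroup G))) : ∃ a ∈ A ⊓ K, x * a ∈ cm K
-- (t6) 
theorem KC.der_of_not_sylow (h : KC A K) (hs : ¬ IsSylowIn 2 (A ⊓ K) K) :
    ∃ P, P ≤ K ⊓ 𝐍(A) ∧ IsPGroup 2 P ∧ ¬ der P ⊓ A ≤ cm K
-- ### strongly embedded type 
-- (t7) only covers of Suzuki groups are not split 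
theorem KC.nonsplit (h : KC A K) (hn : ¬ Split A K) :
    (∃ u ∈ K ⊓ 𝐍(A), (∀ a ∈ A, u * a * u⁻¹ * a⁻¹ ∈ cm K) ∧ u ∉ 𝐂(A) ∧ ∃ a ∈ A, a ∉ cm K ∧ u * a = a * u) ∧
      ∀ u ∈ 𝐍(K) ⊓ 𝐍(A), (∀ a ∈ A, u * u * a * (u * u)⁻¹ * a⁻¹ ∈ cm K) → ∀ a ∈ A, u * a * u⁻¹ * a⁻¹ ∈ cm K
-- (t8) balance 
theorem KC.bal_ts (h : KC A K) (ht : TS A K) (hs : Split A K) (hE : E ≤ A) (hE' : ¬ E ≤ cm K) (hR : R ≤ 𝐍(K))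
    (ho : Odd #|R|) (hc : ⁅R, K ⊓ 𝐂(E)⁆ ≤ opp 2 (K ⊓ 𝐂(E))) : R ≤ cm K
-- (t9) no `A`-component in `C_K(a)` 
theorem KC.le_cm_of_ts (h : KC A K) (ht : TS A K) {a : G} (ha : a ∈ A) (ha' : a ∉ cm K) (hL : PQS 2 L)
    (hle : L ≤ K ⊓ 𝐂[a]) (hn : A ≤ 𝐍(L)) : A ≤ cm L
-/
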