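import Cfsg.Agent.WA.IGT1
import Cfsg.Agent.WA.GT2b

/- LINKED interface; the statements, proved in the imported files:

variable {G : Type u} [Group G] [Finite G] {A B E H K J L P R X S U : Subgroup G}
-- ### four-group type 
-- (f1) normal `2`-complement in `C_K(a)` 
theorem KC.cent_tf (h : KC A K) (ht : TF A K) {a : G} (ha : a ∈ A) (ha' : a ∉ cm K) :
    K ⊓ 𝐂[a] ≤ opp 2 (K ⊓ 𝐂[a]) ⊔ (A ⊓ K)
-- (f2) 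
theorem KC.psl_tf (h : KC A K) (ht : TF A K) : ∃ (F : Type) (_ : Field F) (_ : Fintype F),
    Odd (Fintype.card F) ∧ 3 < Fintype.card F ∧ Nonempty (sq K ≃* Matrix.ProjectiveSpecialLinearGroup (Fin 2) F) :=
  sorry
-- (f3) generation 
theorem KC.gen_tl (h : KC A K) (ht : TL A K) (h1 : opp 2 K ≤ X) (h2 : A ⊓ K ≤ X)
    (h3 : ∀ a ∈ A ⊓ K, a ≠ 1 → TT A K a ≤ X) : K ≤ X
-- (f4) 
theorem KC.comm_le_tt (h : KC A K) (ht : TF A K) {a : G} (ha : a ∈ A) (ha' : a ∉ cm K) (hR : R ≤ 𝐍(K) ⊓ 𝐂[a])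
    (ho : Odd #|R|) (hn : A ≤ 𝐍(R)) : ⁅R, A ⊓ K⁆ ≤ TT A K a
-- (f5) small involution centralizers 
theorem KC.card_cent_tf (h : KC A K) (ht : TF A K) {t : sq K} (h1 : t * t = 1) (h2 : t ≠ 1) :
    3 * #|𝐂[t]| ^ 3 < 8 * Nat.card (sq K)
-- ### Janko–Ree type 
-- (j1) 
theorem KC.comp_tj (h : KC A K) (ht : TJ A K) {t : G} (ha : t ∈ A) (ha' : t ∉ cm K) :
    PQS 2 (playerOf 2 (K ⊓ 𝐂[t])) ∧ ¬ A ≤ cm (playerOf 2 (K ⊓ 𝐂[t]))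
-- (j2) balance 
theorem KC.bal_tj (h : KC A K) (ht : TJ A K) {t : G} (ha : t ∈ A) (ha' : t ∉ cm K) (hR : R ≤ 𝐍(K))
    (ho : Odd #|R|) (hc : ⁅R, K ⊓ 𝐂[t]⁆ ≤ opp 2 (K ⊓ 𝐂[t])) : R ≤ cm K
-- (j3) generation 
theorem KC.gen_tj (h : KC A K) (ht : TJ A K) (hU : U ≤ A ⊓ K) (h4 : 4 ≤ #|U|) (h1 : opp 2 K ≤ X)
    (h2 : ∀ t ∈ U, t ≠ 1 → playerOf 2 (K ⊓ 𝐂[t]) ≤ X) : K ≤ X
-/
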