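import Cfsg.Agent.WA.GoDef
import Cfsg.Agent.WA.GoB

/- LINKED interface; the statements, proved in the imported files:

variable {G : Type u} [Group G] [Finite G] {S A B : Subgroup G}
theorem Syl.symm (h : Syl S A B) : Syl S B A
theorem Hy.symm (h : Hy S A B) : Hy S B A
theorem Loc.symm (h : Loc S A B) : Loc S B A
theorem Syl.commA (h : Syl S A B) {a a' : G} (ha : a ∈ A) (ha' : a' ∈ A) : a * a' = a' * a
theorem Syl.pgA (h : Syl S A B) : IsPGroup 2 A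
theorem Syl.normA (h : Syl S A B) : S ≤ 𝐍(A)
-- `Z = A ⊓ B` is central in `S` 
theorem Syl.centZ (h : Syl S A B) {z s : G} (hzA : z ∈ A) (hzB : z ∈ B) (hs : s ∈ S) : z * s = s * z
theorem Syl.comm_mem (h : Syl S A B) {s t : G} (hs : s ∈ S) (ht : t ∈ S) : ⁅s, t⁆ ∈ A ⊓ B
theorem Syl.of_comm (h : Syl S A B) {a b : G} (ha : a ∈ A) (hb : b ∈ B) (hc : a * b = b * a) : a ∈ B ∨ b ∈ A
-- `C_S(a) = A` for `a ∈ A ∖ B` 
theorem Syl.mem_of_comm (h : Syl S A B) {a s : G} (ha : a ∈ A) (hB : a ∉ B) (hs : s ∈ S) (hc : a * s = s * a) :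
    s ∈ A
theorem Syl.elem_le (h : Syl S A B) {E : Subgroup G} (hE : E ≤ S) (h2 : ∀ e ∈ E, e * e = 1) : E ≤ A ∨ E ≤ B
theorem Syl.relIndex_eq (h : Syl S A B) : A.relIndex S = A.relIndex B
theorem Syl.conj (h : Syl S A B) (g : G) : Syl (cj g S) (cj g A) (cj g B)
theorem Hy.conj (h : Hy S A B) (g : G) : Hy (cj g S) (cj g A) (cj g B)
theorem Loc.conj (h : Loc S A B) (g : G) : Loc (cj g S) (cj g A) (cj g B)
theorem cj_cor (g : G) (A B : Subgroup G) : cj g (cor A B) = cor (cj g A) (cj g B)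
theorem cor_le (A B : Subgroup G) : cor A B ≤ A ⊓ B
theorem norm_cor (A B : Subgroup G) : 𝐍(A) ≤ 𝐍(cor A B)
theorem le_cor {U : Subgroup G} (h1 : U ≤ A ⊓ B) (h2 : 𝐍(A) ≤ 𝐍(U)) : U ≤ cor A B
-- `A₀` does not depend on the conjugate of `B` 
theorem cor_cj {y : G} (hy : y ∈ 𝐍(A)) (B : Subgroup G) : cor A (cj y B) = cor A B
theorem Syl.subgroupOf (h : Syl S A B) {H : Subgroup G} (hH : S ≤ H) :
    Syl (S.subgroupOf H) (A.subgroupOf H) (B.subgroupOf H)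
-- passing to a quotient by a subgroup that meets `S` in a subgroup of `Z` without commutators 
theorem Syl.map (h : Syl S A B) {G' : Type u} [Group G'] (f : G →* G') (hk : f.ker ⊓ S ≤ A ⊓ B)
    (hc : ∀ a ∈ A, ∀ b ∈ B, f ⁅a, b⁆ = 1 → a ∈ B ∨ b ∈ A) :
    Syl (S.map f) (A.map f) (B.map f) ∧ A.map f ⊓ B.map f = (A ⊓ B).map f ∧
      (A.map f).relIndex (S.map f) = A.relIndex S ∧ (B.map f).relIndex (S.map f) = B.relIndex S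
-- `A` and `B` are not conjugate 
theorem Syl.not_cj_le (h : Syl S A B) (hS : IsSylowIn 2 S ⊤) (g : G) : ¬ cj g A ≤ B
-- `A` is weakly closed in `S` 
theorem Syl.weak (h : Syl S A B) (hS : IsSylowIn 2 S ⊤) {g : G} (hg : cj g A ≤ S) : g ∈ 𝐍(A)
theorem Syl.normS (h : Syl S A B) (hS : IsSylowIn 2 S ⊤) : 𝐍(S) ≤ 𝐍(A)
-- `A` is weakly closed in `N(A)` 
theorem Syl.weakN (h : Syl S A B) (hS : IsSylowIn 2 S ⊤) {g : G} (hg : cj g A ≤ 𝐍(A)) : g ∈ 𝐍(A)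
-- a conjugate of `B` that normalizes `A` is conjugate to `B` in `N(A)` 
theorem Syl.flag (h : Syl S A B) (hS : IsSylowIn 2 S ⊤) {g : G} (hg : cj g B ≤ 𝐍(A)) :
    ∃ y ∈ 𝐍(A), cj y B = cj g B
-- the involutions of `N(A)` 
theorem Syl.invol (h : Syl S A B) (hS : IsSylowIn 2 S ⊤) {t : G} (ht : t * t = 1) (hn : t ∈ 𝐍(A)) :
    t ∈ A ∨ ∃ y ∈ 𝐍(A), t ∈ cj y B
-- `N(A)` controls fusion in `A` 
theorem Syl.fusion (h : Syl S A B) (hS : IsSylowIn 2 S ⊤) {a g : G} (ha : a ∈ A) (hg : g * a * g⁻¹ ∈ A) :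
    ∃ n ∈ 𝐍(A), n * a * n⁻¹ = g * a * g⁻¹
theorem Syl.fusion' (h : Syl S A B) (hS : IsSylowIn 2 S ⊤) {a g : G} (ha : a ∈ A) (hg : g * a * g⁻¹ ∈ B) :
    ∃ n ∈ 𝐍(B), n * (g * a * g⁻¹) * n⁻¹ ∈ A
theorem Syl.sc (h : Syl S A B) (hS : IsSylowIn 2 S ⊤) (hn : 𝐍(B) ≤ 𝐍(A ⊓ B)) : SC A ⊤
-- Frattini argument: `N(A) = (N(A) ⊓ C(A₀)) N(S)` 
theorem Syl.frattini (h : Syl S A B) (hS : IsSylowIn 2 S ⊤) {y : G} (hy : y ∈ 𝐍(A)) :
    ∃ n ∈ 𝐍(S), ∀ a ∈ cor A B, y * a * y⁻¹ = n * a * n⁻¹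
-- `Z₀ = A₀ ⊓ B₀` is strongly closed 
theorem Syl.sc_cor (h : Syl S A B) (hS : IsSylowIn 2 S ⊤) {z g : G} (hz : z ∈ cor A B ⊓ cor B A)
    (hg : g * z * g⁻¹ ∈ S) : g * z * g⁻¹ ∈ cor A B ⊓ cor B A
-/
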