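import Cfsg.Agent.WA.IGoR
import Cfsg.Agent.WA.GoCa
import Cfsg.Agent.WA.GoC

/- LINKED interface; the statements, proved in the imported files:

variable {G : Type u} [Group G] [Finite G] {S A B : Subgroup G}
theorem Hy.loc [IsSimpleGroup G] (h : Hy S A B) : Loc S A B
-/
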