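import Cfsg.Agent.WA.IGoB
import Cfsg.Agent.BS.I1
import Cfsg.Agent.WA.GoF1
import Cfsg.Agent.WA.GoF2
import Cfsg.Agent.WA.GoF3

/- LINKED interface; the statements, proved in the imported files:

variable {G : Type u} [Group G] [Finite G] {S A B : Subgroup G}
theorem Syl.index_le (h : Syl S A B) (hS : IsSylowIn 2 S ⊤) (hn : ¬ 𝐍(A) ≤ 𝐍(A ⊓ B)) :
    A.relIndex S ≤ B.relIndex S
theorem Hy.index_eq (h : Hy S A B) : A.relIndex S = B.relIndex S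
theorem Hy.four_le (h : Hy S A B) : 4 ≤ A.relIndex S
-- two different conjugates of `Z` meet in `A₀` 
theorem Hy.inf_eq (h : Hy S A B) {y : G} (hy : y ∈ 𝐍(A)) (hn : y ∉ 𝐍(A ⊓ B)) :
    A ⊓ B ⊓ cj y B = cor A B
-- `A = Z Z^y` 
theorem Hy.dec (h : Hy S A B) {y : G} (hy : y ∈ 𝐍(A)) (hn : y ∉ 𝐍(A ⊓ B)) {a : G} (ha : a ∈ A) :
    ∃ z ∈ A ⊓ B, ∃ z' ∈ A ⊓ cj y B, a = z * z'
theorem Hy.comm_cor (h : Hy S A B) {a b : G} (ha : a ∈ A) (hb : b ∈ B) (hc : ⁅a, b⁆ ∈ cor A B) :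
    a ∈ B ∨ b ∈ A
theorem Hy.comm_onto (h : Hy S A B) {a z : G} (ha : a ∈ A) (hB : a ∉ B) (hz : z ∈ A ⊓ B) :
    ∃ b ∈ B, z * ⁅a, b⁆ ∈ cor A B
-- the conjugates of `Z` cover `A` 
theorem Hy.cover (h : Hy S A B) {a : G} (ha : a ∈ A) : ∃ y ∈ 𝐍(A), a ∈ cj y B
-- `B` is transitive on the other conjugates of `Z` 
theorem Hy.trans (h : Hy S A B) {y w : G} (hy : y ∈ 𝐍(A)) (hn : y ∉ 𝐍(A ⊓ B)) (hw : w ∈ 𝐍(A))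
    (hn' : w ∉ 𝐍(A ⊓ B)) : ∃ b ∈ B, cj b (A ⊓ cj y B) = A ⊓ cj w B
theorem Hy.semireg (h : Hy S A B) {y b : G} (hy : y ∈ 𝐍(A)) (hn : y ∉ 𝐍(A ⊓ B)) (hb : b ∈ B)
    (hf : b ∈ 𝐍(A ⊓ cj y B)) : b ∈ A
theorem Hy.relIndex_cor (h : Hy S A B) : (cor A B).relIndex (A ⊓ B) = A.relIndex S
-- the field 
theorem Hy.exists_co (h : Hy S A B) {y : G} (hy : y ∈ 𝐍(A)) (hn : y ∉ 𝐍(A ⊓ B)) :
    ∃ (F : Type) (_ : Field F) (_ : Fintype F), Fintype.card F = A.relIndex S ∧ Nonempty (Co S A B y F)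
-- `N(A) ⊓ C(A₀)` is irreducible on `A / A₀` 
theorem Hy.irr (h : Hy S A B) {U : Subgroup G} (hU : U ≤ A) (hn : 𝐍(A) ⊓ 𝐂(cor A B) ≤ 𝐍(U)) :
    U ≤ cor A B ∨ A ≤ U ⊔ cor A B
theorem Hy.irrZ (h : Hy S A B) {U : Subgroup G} (hU : U ≤ A ⊓ B) (hn : 𝐍(S) ≤ 𝐍(U)) (h1 : ¬ U ≤ cor A B)
    (h2 : ¬ U ≤ cor B A) : A ⊓ B ≤ U ⊔ (cor A B ⊓ cor B A)
theorem Hy.cor_cases (h : Hy S A B) : cor A B = cor B A ∨ A ⊓ B ≤ cor A B ⊔ cor B A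
theorem Hy.le_comm_sup (h : Hy S A B) : A ⊓ B ≤ ⁅A, B⁆ ⊔ (cor A B ⊓ cor B A)
-/
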