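import Cfsg.Agent.WA.IGoF
import Cfsg.Agent.WA.IGoS
import Cfsg.Agent.WA.GoR

/- LINKED interface; the statements, proved in the imported files:

variable {G : Type u} [Group G] [Finite G] {S A B : Subgroup G}
theorem Hy.map (h : Hy S A B) {G' : Type u} [Group G'] [Finite G'] (f : G →* G') (hf : Function.Surjective f)
    (hk : f.ker ⊓ S ≤ cor A B ⊓ cor B A) :
    Hy (S.map f) (A.map f) (B.map f) ∧ (A.map f).relIndex (S.map f) = A.relIndex S
theorem Hy.subgroupOf (h : Hy S A B) {X : Subgroup G} [X.Normal] (hX : S ≤ X) :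
    Hy (S.subgroupOf X) (A.subgroupOf X) (B.subgroupOf X) ∧
      (A.subgroupOf X).relIndex (S.subgroupOf X) = A.relIndex S
-- normal subgroups are small or large 
theorem Hy.small_or_large (h : Hy S A B) (N : Subgroup G) [N.Normal] :
    N ⊓ S ≤ cor A B ⊓ cor B A ∨ (⁅A, B⁆ ≤ N ∧ S ≤ (N ⊓ S) ⊔ (cor A B ⊓ cor B A))
-- the reduction to a simple group 
theorem Hy.reduce (h : Hy S A B) (hO : pPrimeCore 2 G = ⊥) (hp : pClos 2 (⊤ : Subgroup G) = ⊤) :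
    ∃ (K L : Subgroup G) (_ : K.Normal), L.Normal ∧ K = 𝐂(L) ∧ K ⊔ L = ⊤ ∧ K ⊓ S ≤ cor A B ⊓ cor B A ∧
      ⁅L, L⁆ = L ∧ IsSimpleGroup (G ⧸ K) ∧ ¬ IsMulCommutative (G ⧸ K)
theorem Hy.cor_inf [IsSimpleGroup G] (h : Hy S A B) : cor A B ⊓ cor B A = ⊥
-/
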