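import Cfsg.Agent.WA.Lk1a1

/-! Case II: construction of the first storey. -/

set_option autoImplicit false
set_option linter.unusedSectionVars false

namespace Cfsg.Agent.WA.Lk

open Subgroup Cfsg.Agent.H1.U3 Cfsg.Agent.H8

variable {F : Type*} [Field F] [Finite F] {σ : F →+* F} [Ctx σ] {G : Type*} [Group G] [Finite G]

structure II (f : Fr σ G) (e₁ : G) (ω : Fˣ) : Prop where
  he : e₁ ∈ f.E
  e1 : e₁ ≠ 1
  ex : ∃ p ∈ f.W, p ∉ f.C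
  ωK : σ ω = ω
  ω1 : (ω : F) ^ 2 + 1 ≠ 0

namespace II

variable {f : Fr σ G} {e₁ : G} {ω : Fˣ} (h : II f e₁ ω)
include h

theorem surjE {e : G} (he : e ∈ f.E) (e1 : e ≠ 1) {x : F} (hx : σ x = x) :
    ∃ p ∈ f.W, f.ph p e = x := by
  by_cases x0 : x = 0
  · exact ⟨1, one_mem _, by rw [f.ph_C (one_mem _) he, x0]⟩
  obtain ⟨p, hp, hC⟩ := h.ex
  have h1 : f.ph p e ≠ 0 := fun e' => hC (f.mem_C_of_ph hp he e1 e')
  obtain ⟨l, hl, e2⟩ := exists_sqrt (σ := σ) (x := x / f.ph p e) (by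
    rw [map_div₀, hx, f.ph_K hp he])
  have l0 : l ≠ 0 := fun e' => div_ne_zero x0 h1 (by rw [← e2, e']; simp)
  refine ⟨_, f.conj_W (f.D_le_M (f.d_mem_D (Units.mk0 l l0))) hp, ?_⟩
  rw [f.ph_conj_d hl hp he, Units.val_mk0, e2, div_mul_cancel₀ _ h1]

theorem TC_A {a : G} (ha : a ∈ f.A) (hV : a ∉ f.V) : f.TC a := by
  obtain ⟨e, he, v, hv, rfl⟩ := f.mem_A.1 ha
  have e1 : e ≠ 1 := fun e' => hV (by rwa [e', one_mul])
  obtain ⟨x, hx, rfl⟩ := f.mem_V.1 hv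
  obtain ⟨p, hp, rfl⟩ := h.surjE he e1 hx
  rw [← f.ph_spec hp he]
  exact f.TC_conj (f.TC_E he e1) p

theorem ker {g : G} (hg : g ∈ f.W) (h0 : f.ph g e₁ = 0) : ∃ y ∈ f.T1, ∃ z ∈ f.Z, g = y * z :=
  f.ker' (mem_inf.mpr ⟨f.mem_C_of_ph hg h.he h.e1 h0, f.W_NQ hg⟩) hg.2.2.1 hg.2.2.2

theorem ph_div {g k : G} (hg : g ∈ f.W) (hk : k ∈ f.W) (e : f.ph g e₁ = f.ph k e₁) :
    f.ph (k⁻¹ * g) e₁ = 0 := by
  rw [f.ph_mul (inv_mem hk) hg h.he, f.ph_inv hk h.he, e]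
  linear_combination f.ph k e₁ * two σ

theorem ph_eq_mul {g p e : G} (hg : g ∈ f.W) (hp : p ∈ f.W) (h1 : f.ph p e₁ = 1) (he : e ∈ f.E) :
    f.ph g e = f.ph g e₁ * f.ph p e := by
  by_cases x0 : f.ph g e₁ = 0
  · rw [x0, zero_mul, f.ph_C (f.mem_C_of_ph hg h.he h.e1 x0) he]
  obtain ⟨l, hl, e2⟩ := exists_sqrt (f.ph_K hg h.he)
  have l0 : l ≠ 0 := fun e' => x0 (by rw [← e2, e']; simp)
  have hk := f.conj_W (f.D_le_M (f.d_mem_D (Units.mk0 l l0))) hp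
  have h2 := f.ph_C (f.mem_C_of_ph (mul_mem (inv_mem hk) hg) h.he h.e1 (h.ph_div hg hk (by
    rw [f.ph_conj_d hl hp h.he, h1, mul_one]; exact e2.symm))) he
  rw [f.ph_mul (inv_mem hk) hg he, f.ph_inv hk he, f.ph_conj_d hl hp he, Units.val_mk0, e2] at h2
  linear_combination h2 - f.ph g e₁ * f.ph p e * two σ

/-- `[d ω, r]` -/
def dl (f : Fr σ G) (ω : Fˣ) (r : G) : G := f.d ω * r * (f.d ω)⁻¹ * r⁻¹

theorem dl_W {r : G} (hr : r ∈ f.W) : dl f ω r ∈ f.W :=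
  mul_mem (f.conj_W (f.D_le_M (f.d_mem_D ω)) hr) (inv_mem hr)

theorem ph_dl {r : G} (hr : r ∈ f.W) : f.ph (dl f ω r) e₁ = ((ω : F) ^ 2 + 1) * f.ph r e₁ := by
  rw [dl, f.ph_mul (f.conj_W (f.D_le_M (f.d_mem_D ω)) hr) (inv_mem hr) h.he, f.ph_inv hr h.he,
    f.ph_conj_d h.ωK hr h.he, add_mul, one_mul]

theorem div_K {x : F} (hx : σ x = x) : σ (x / ((ω : F) ^ 2 + 1)) = x / ((ω : F) ^ 2 + 1) := by
  rw [map_div₀, map_add, map_pow, hx, h.ωK, map_one]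

theorem W_dec_Z {g : G} (hg : g ∈ f.W) :
    ∃ c ∈ centralizer (f.Z : Set G), ∃ z ∈ f.Z, g = c * z := by
  obtain ⟨r, hr, e⟩ := h.surjE h.he h.e1 (h.div_K (f.ph_K hg h.he))
  obtain ⟨y, hy, z', hz', e2⟩ := h.ker (mul_mem (inv_mem (h.dl_W hr)) hg)
    (h.ph_div hg (h.dl_W hr) (by rw [h.ph_dl hr, e, mul_div_cancel₀ _ h.ω1]))
  refine ⟨dl f ω r * y, fun z hz => ?_, z', hz', by rw [mul_assoc, ← e2, mul_inv_cancel_left]⟩
  have h1 : Commute (dl f ω r) z := by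
    have m1 : Commute (f.d ω) z := (f.Zd z hz ω).symm
    have m2 : Commute (f.d ω) (r⁻¹ * z * r⁻¹⁻¹) := (f.Zd _ (f.M_conj_Z (inv_mem hr.1) hz) ω).symm
    have m3 : Commute (r * (f.d ω)⁻¹ * r⁻¹) z := by
      have := m2.inv_left.eq
      change _ = _
      calc _ = r * ((f.d ω)⁻¹ * (r⁻¹ * z * r⁻¹⁻¹)) * r⁻¹ := by group
        _ = _ := by rw [this]; group
    simpa only [dl, mul_assoc] using m1.mul_left m3
  exact (h1.mul_left (f.Z_comm hy hz)).symm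

theorem W_cen_Z {g z : G} (hg : g ∈ f.W) (h2 : ∃ k, g ^ 2 ^ k = 1) (hz : z ∈ f.Z) : g * z = z * g := by
  obtain ⟨c, hc, z', hz', rfl⟩ := h.W_dec_Z hg
  exact (cen_of_two hc hz' (f.Zo z' hz') h2 z hz).symm

omit h in
theorem two_of_sq {r : G} (hr : r * r ∈ f.V) : ∃ k, r ^ 2 ^ k = 1 :=
  ⟨2, by rw [show 2 ^ 2 = 2 * 2 from rfl, pow_mul, pow_two, pow_two, f.V_sq hr]⟩

theorem W_dec {g : G} (hg : g ∈ f.W) : ∃ u, f.j u * g ∈ centralizer (f.Q : Set G) := by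
  obtain ⟨μ, m1, m2, -, m3⟩ := f.exists_h0
  have hd := f.d_mem_D μ
  have t1 := (f.ct_d μ).2.1
  have c1 : f.cc (f.d μ) - 1 ≠ 0 := sub_ne_zero.2 m2
  have hk := f.conj_W (f.D_le_M hd) hg
  obtain ⟨y, hy, z, hz, e⟩ := h.ker (mul_mem hk (inv_mem hg)) (by
    rw [f.ph_mul hk (inv_mem hg) h.he, f.ph_inv hg h.he, f.ph_conj hd hg h.he, m3, t1, one_mul]
    change f.ph g e₁ + _ = 0
    linear_combination f.ph g e₁ * two σ)
  obtain ⟨u, hu⟩ := exists_a (σ := σ) (f.ta y / (f.cc (f.d μ) - 1))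
  refine ⟨u, ?_⟩
  have hj : ∀ u, f.j u ∈ f.T1 := fun u => mem_sup_right ⟨u, rfl⟩
  have tj : ∀ u, f.ta (f.j u) = u.a := fun u => by simpa using f.ta_eq f.E.one_mem u
  have n1 := (f.ta_conj hd (hj u)).1
  have n2 : f.d μ * f.j u * (f.d μ)⁻¹ * y * f.j u⁻¹ ∈ f.A :=
    (f.ta_eq_zero (mul_mem (mul_mem n1 hy) (hj _))).1 (by
      rw [f.ta_mul (mul_mem n1 hy) (hj _), f.ta_mul n1 hy, (f.ta_conj hd (hj u)).2, t1, tj, tj,
        inv_a, hu]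
      change f.cc (f.d μ) * (f.ta y / _) + _ + _ = 0
      field_simp
      linear_combination (f.cc (f.d μ) - 1) * f.ta y * two σ)
  have hW := mul_mem (f.T1_le_W (hj u)) hg
  have n3 : f.d μ * (f.j u * g) * (f.d μ)⁻¹ * (f.j u * g)⁻¹ ∈ centralizer (f.Q : Set G) := by
    have := mul_mem (sup_le f.E_cen_Q f.V_cen_Q n2) (f.Z_cen_Q hz)
    convert this using 1
    rw [map_inv, mul_assoc _ _ z, ← (Commute.inv_right (f.Zj z hz u)).eq]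
    calc _ = f.d μ * f.j u * (f.d μ)⁻¹ * (f.d μ * g * (f.d μ)⁻¹ * g⁻¹) * (f.j u)⁻¹ := by group
      _ = _ := by rw [e]; group
  generalize f.j u * g = k at hW n3
  obtain ⟨φ, hφ⟩ := exists_cenAut (α := f.aut k) fun r => by
    rw [f.aut_a, hW.2.2.1, hW.2.2.2, one_mul]; rfl
  have n4 : ∀ a, φ (f.cc (f.d μ) * a) = φ a := fun a => by
    obtain ⟨r, rfl⟩ := exists_a (σ := σ) a
    have e1 : f.aut (f.d μ) (f.aut k r) = f.aut k (f.aut (f.d μ) r) := f.j_inj (by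
      rw [← f.conj_j hd.2, ← f.conj_j (f.W_NQ hW), ← f.conj_j (f.W_NQ hW)]
      have := n3 _ ⟨f.aut k (f.aut (f.d μ) r), rfl⟩
      rw [← f.conj_j (f.W_NQ hW), ← f.conj_j hd.2] at this
      rw [← f.conj_j hd.2]
      calc _ = f.d μ * k * (f.d μ)⁻¹ * k⁻¹ * (k * (f.d μ * f.j r * (f.d μ)⁻¹) * k⁻¹) *
            (f.d μ * k * (f.d μ)⁻¹ * k⁻¹)⁻¹ := by group
        _ = _ := by rw [← this]; group)
    rw [← hφ] at e1
    have e2 : f.aut (f.d μ) (zk (φ r.a)) = zk (φ r.a) := f.j_inj (by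
      rw [← f.conj_j hd.2, ← f.d_cen_V m1 _ (f.j_mem_V.2 rfl), mul_inv_cancel_right])
    have e3 : f.aut (f.d μ) (r * zk (φ r.a)) = f.aut (f.d μ) r * zk (φ (f.aut (f.d μ) r).a) := e1
    rw [map_mul, e2, mul_left_cancel_iff, f.aut_a, t1] at e3
    exact Subtype.ext (congrArg US.b e3).symm
  rintro _ ⟨r, rfl⟩
  have n5 : φ r.a = 0 := by
    rw [← mul_div_cancel₀ r.a c1, sub_mul, map_sub, n4, one_mul, sub_self]
  have := f.conj_j (f.W_NQ hW) r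
  rw [← hφ, show cenAut φ r = r by
    ext
    · exact cenAut_a φ r
    · rw [cenAut_b, n5]; simp] at this
  exact (mul_inv_eq_iff_eq_mul.1 this).symm

theorem cen_dec {g : G} (hg : g ∈ f.W) (hQ : g ∈ centralizer (f.Q : Set G)) (h0 : f.ph g e₁ = 0) :
    ∃ y ∈ f.A, ∃ z ∈ f.Z, g = y * z := f.cen_Q (f.mem_C_of_ph hg h.he h.e1 h0) hQ

theorem sq_V {x : G} (hx : x * x ∈ f.A) : x * x ∈ f.V := by
  by_contra hV
  exact f.nonsq (h.TC_A hx hV) x rfl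

theorem ph_sq {g : G} (hg : g ∈ f.W) : f.ph (g * g) e₁ = 0 := by
  rw [f.ph_mul hg hg h.he]; linear_combination f.ph g e₁ * two σ

/-- `P = O₂(C_W(Q))` -/
def P : Subgroup G where
  carrier := {p | p ∈ f.W ∧ p ∈ centralizer (f.Q : Set G) ∧ p * p ∈ f.V}
  one_mem' := ⟨one_mem _, one_mem _, by simp⟩
  inv_mem' := fun {p} hp => ⟨inv_mem hp.1, inv_mem hp.2.1, by
    rw [← mul_inv_rev]; exact inv_mem hp.2.2⟩
  mul_mem' := fun {p r} hp hr => ⟨mul_mem hp.1 hr.1, mul_mem hp.2.1 hr.2.1, h.sq_V (by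
    obtain ⟨a, ha, z, hz, e⟩ := h.cen_dec (g := r * p * r⁻¹ * p⁻¹)
      (mul_mem (mul_mem (mul_mem hr.1 hp.1) (inv_mem hr.1)) (inv_mem hp.1))
      (mul_mem (mul_mem (mul_mem hr.2.1 hp.2.1) (inv_mem hr.2.1)) (inv_mem hp.2.1)) (by
        rw [f.ph_mul (mul_mem (mul_mem hr.1 hp.1) (inv_mem hr.1)) (inv_mem hp.1) h.he,
          f.ph_mul (mul_mem hr.1 hp.1) (inv_mem hr.1) h.he, f.ph_mul hr.1 hp.1 h.he,
          f.ph_inv hr.1 h.he, f.ph_inv hp.1 h.he]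
        linear_combination (f.ph r e₁ + f.ph p e₁) * two σ)
    have h1 : r * a * r⁻¹ * a * (z * z) = 1 := by
      have := f.W_cen_V hp.1 _ hr.2.2
      calc _ = r * a * r⁻¹ * (a * z) * z := by group
        _ = r * a * (r⁻¹ * z) * (a * z) := by rw [(f.Z_comm (f.A_le_T1 ha) hz).eq]; nth_rewrite 2 [← (f.Z_comm (f.A_le_T1 ha) hz).eq]; group
        _ = r * (a * z) * r⁻¹ * (a * z) := by 
          rw [h.W_cen_Z (inv_mem hr.1) (two_of_sq (by rw [← mul_inv_rev]; exact inv_mem hr.2.2)) hz]; group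
        _ = r * r * p * (r * r)⁻¹ * p⁻¹ * (p * r * (r * p * r⁻¹ * p⁻¹) * (p * r)⁻¹)⁻¹ *
            (p * r * (r * p * r⁻¹ * p⁻¹) * (p * r)⁻¹) := by rw [← e]; group
        _ = 1 := by rw [this]; group
    have h2 : z = 1 := f.Z_two hz (k := 2) (by
      have := f.A_sq (f.A.inv_mem (f.A.mul_mem (H9.conj_mem_of_mem_normalizer hr.1.1 ha) ha))
      rw [← eq_inv_of_mul_eq_one_right h1] at this
      rw [← this, show 2 ^ 2 = 1 + 1 + 1 + 1 from rfl]; simp [pow_succ, mul_assoc])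
    rw [h2, mul_one] at e
    have := f.A.mul_mem (f.A.mul_mem (H9.conj_mem_of_mem_normalizer hp.1.1 ha)
      (mem_sup_right hp.2.2)) (mem_sup_right hr.2.2)
    convert this using 1
    rw [← e]; group)⟩

theorem P_cm {a b : G} (ha : a ∈ h.P) (hb : b ∈ h.P) : a * b * a⁻¹ * b⁻¹ ∈ f.V := by
  have h1 := f.V.mul_mem (f.V.mul_mem (mul_mem ha hb).2.2 (f.V.inv_mem hb.2.2)) (f.V.inv_mem ha.2.2)
  have h2 := H9.conj_mem_of_mem_normalizer' (f.NQ_le_NV (f.W_NQ ha.1)) h1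
  have := f.V.inv_mem h2
  convert this using 1
  group

theorem A_le_P : f.A ≤ h.P := fun a ha => ⟨f.T1_le_W (f.A_le_T1 ha), sup_le f.E_cen_Q f.V_cen_Q ha, by
  rw [f.A_sq ha]; exact one_mem _⟩

theorem exists_P {x : F} (hx : σ x = x) : ∃ p ∈ h.P, f.ph p e₁ = x := by
  obtain ⟨g, hg, rfl⟩ := h.surjE h.he h.e1 hx
  obtain ⟨u, hu⟩ := h.W_dec hg
  have hj := f.T1_le_W (mem_sup_right ⟨u, rfl⟩ : f.j u ∈ f.T1)
  have hW := mul_mem hj hg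
  obtain ⟨c, hc, z', hz', e1⟩ := h.W_dec_Z hW
  have cW : c ∈ f.W := (mul_mem_cancel_right (f.Z_le_W hz')).1 (e1 ▸ hW)
  have cQ : c ∈ centralizer (f.Q : Set G) := (mul_mem_cancel_right (f.Z_cen_Q hz')).1 (e1 ▸ hu)
  obtain ⟨a, ha, z, hz, e⟩ := h.cen_dec (mul_mem cW cW) (mul_mem cQ cQ) (h.ph_sq cW)
  obtain ⟨i, hi⟩ := f.Zo z hz
  have zi := pow_mem hz i
  have e2 : c * z ^ i * (c * z ^ i) = a := by
    calc _ = c * (z ^ i * c) * z ^ i := by group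
      _ = a * z ^ (2 * i + 1) := by rw [hc _ zi, ← mul_assoc, e]; group
      _ = a := by rw [← hi, pow_orderOf_eq_one, mul_one]
  refine ⟨c * z ^ i, ⟨mul_mem cW (f.Z_le_W zi), mul_mem cQ (f.Z_cen_Q zi), h.sq_V (e2 ▸ ha)⟩, ?_⟩
  have e3 := f.ph_mul cW (f.Z_le_W hz') h.he
  rw [← e1, f.ph_mul hj hg h.he, f.ph_C (f.U_le (f.ZU hz')) h.he,
    f.ph_C (f.Q_le_C ⟨u, rfl⟩) h.he, zero_add, add_zero] at e3
  rw [f.ph_mul cW (f.Z_le_W zi) h.he, f.ph_C (f.U_le (f.ZU zi)) h.he, add_zero, e3]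

theorem mem_A_of_ph {p : G} (hp : p ∈ h.P) (h0 : f.ph p e₁ = 0) : p ∈ f.A := by
  obtain ⟨a, ha, z, hz, rfl⟩ := h.cen_dec hp.1 hp.2.1 h0
  have h1 := f.V_sq hp.2.2
  have h2 := (f.Z_comm (f.A_le_T1 ha) hz).mul_pow 2
  rw [pow_two, pow_two, f.A_sq ha, one_mul] at h2
  rw [h2, ← pow_add] at h1
  rw [f.Z_two hz (k := 2) h1, mul_one]
  exact ha

theorem conj_P {m p : G} (hm : m ∈ normalizer (f.A : Set G)) (hp : p ∈ h.P) :
    m * p * m⁻¹ ∈ h.P :=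
  ⟨f.conj_W hm hp.1, H9.conj_mem_of_mem_normalizer
    (normalizer_le_normalizer_centralizer _ (f.M_le_NQ hm)) hp.2.1, by
    rw [conj_mul]; exact H9.conj_mem_of_mem_normalizer (f.NQ_le_NV (f.M_le_NQ hm)) hp.2.2⟩

theorem dl_P {r : G} (hr : r ∈ h.P) : dl f ω r ∈ h.P :=
  mul_mem (h.conj_P (f.D_le_M (f.d_mem_D ω)) hr) (inv_mem hr)

theorem dl_A {a : G} (ha : a ∈ f.A) : dl f ω a ∈ f.V := by
  obtain ⟨e, he, v, hv, rfl⟩ := f.mem_A.1 ha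
  have h1 := f.V.mul_mem (H9.conj_mem_of_mem_normalizer (f.NQ_le_NV (f.d_mem_D ω).2) hv)
    (f.V.inv_mem hv)
  convert h1 using 1
  rw [dl, ← mul_assoc (f.d ω), ← (f.d_mem_D ω).1 e he]
  calc _ = e * (f.d ω * v * (f.d ω)⁻¹ * v⁻¹) * e⁻¹ := by group
    _ = _ := by rw [f.Q_le_C (f.V_le_Q h1) e he]; group

theorem dl_mul {a b : G} (ha : a ∈ h.P) (hb : b ∈ h.P) :
    ∃ v ∈ f.V, dl f ω (a * b) = dl f ω a * dl f ω b * v := by
  refine ⟨_, h.P_cm (inv_mem (h.dl_P hb)) ha, ?_⟩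
  simp only [dl]; group

/-- `P₀ = [P, d ω] V` -/
def P0 : Subgroup G where
  carrier := {p | ∃ r ∈ h.P, ∃ v ∈ f.V, p = dl f ω r * v}
  one_mem' := ⟨1, one_mem _, 1, one_mem _, by simp [dl]⟩
  mul_mem' := by
    rintro _ _ ⟨a, ha, v, hv, rfl⟩ ⟨b, hb, w, hw, rfl⟩
    obtain ⟨x, hx, e⟩ := h.dl_mul ha hb
    refine ⟨_, mul_mem ha hb, x⁻¹ * v * w, mul_mem (mul_mem (inv_mem hx) hv) hw, ?_⟩
    rw [e, mul_assoc _ v, ← mul_assoc v, f.W_cen_V (h.dl_P hb).1 v hv]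
    group
  inv_mem' := by
    rintro _ ⟨a, ha, v, hv, rfl⟩
    refine ⟨a, ha, (dl f ω a * dl f ω a)⁻¹ * v⁻¹, mul_mem (inv_mem (h.dl_P ha).2.2) (inv_mem hv), ?_⟩
    rw [mul_inv_rev, inv_mem (f.W_cen_V (h.dl_P ha).1) _ (inv_mem hv)]
    group

theorem V_le_P0 : f.V ≤ h.P0 := fun v hv => ⟨1, one_mem _, v, hv, by simp [dl]⟩

theorem P0_le : h.P0 ≤ h.P := by
  rintro _ ⟨a, ha, v, hv, rfl⟩
  exact mul_mem (h.dl_P ha) (h.A_le_P (mem_sup_right hv))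

theorem ph_V {a v : G} (ha : a ∈ f.W) (hv : v ∈ f.V) : f.ph (a * v) e₁ = f.ph a e₁ := by
  rw [f.ph_mul ha (h.A_le_P (mem_sup_right hv)).1 h.he, f.ph_C (f.Q_le_C (f.V_le_Q hv)) h.he,
    add_zero]

theorem mem_V_of_ph {p : G} (hp : p ∈ h.P0) (h0 : f.ph p e₁ = 0) : p ∈ f.V := by
  obtain ⟨a, ha, v, hv, rfl⟩ := hp
  rw [h.ph_V (h.dl_W ha.1) hv, h.ph_dl ha.1] at h0
  exact mul_mem (h.dl_A (h.mem_A_of_ph ha ((mul_eq_zero.1 h0).resolve_left h.ω1))) hv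

theorem exists_P0 {x : F} (hx : σ x = x) : ∃ p ∈ h.P0, f.ph p e₁ = x := by
  obtain ⟨r, hr, e⟩ := h.exists_P (h.div_K hx)
  exact ⟨_, ⟨r, hr, 1, one_mem _, (mul_one _).symm⟩, by rw [h.ph_dl hr.1, e, mul_div_cancel₀ _ h.ω1]⟩

theorem P0_eq {p r : G} (hp : p ∈ h.P0) (hr : r ∈ h.P0) (e : f.ph p e₁ = f.ph r e₁) :
    ∃ v ∈ f.V, p = r * v :=
  ⟨_, h.mem_V_of_ph (mul_mem (inv_mem hr) hp) (h.ph_div (h.P0_le hp).1 (h.P0_le hr).1 e), by group⟩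

theorem P_dec {r : G} (hr : r ∈ h.P) : ∃ e ∈ f.E, ∃ p ∈ h.P0, r = e * p := by
  obtain ⟨p, hp, e⟩ := h.exists_P0 (f.ph_K hr.1 h.he)
  have hp' := h.P0_le hp
  obtain ⟨x, hx, v, hv, e2⟩ := f.mem_A.1 (h.mem_A_of_ph (mul_mem hr (inv_mem hp')) (by
    rw [f.ph_mul hr.1 (inv_mem hp'.1) h.he, f.ph_inv hp'.1 h.he, e]
    linear_combination f.ph r e₁ * two σ))
  exact ⟨x, hx, _, mul_mem (h.V_le_P0 hv) hp, by rw [← mul_assoc, ← e2]; group⟩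

theorem conj_P0_P {a p : G} (ha : a ∈ h.P) (hp : p ∈ h.P0) : a * p * a⁻¹ ∈ h.P0 := by
  simpa using mul_mem (h.V_le_P0 (h.P_cm ha (h.P0_le hp))) hp

theorem conj_P0_d (μ : Fˣ) {p : G} (hp : p ∈ h.P0) : f.d μ * p * (f.d μ)⁻¹ ∈ h.P0 := by
  obtain ⟨a, ha, v, hv, rfl⟩ := hp
  refine ⟨_, h.conj_P (f.D_le_M (f.d_mem_D μ)) ha, _,
    H9.conj_mem_of_mem_normalizer (f.NQ_le_NV (f.d_mem_D μ).2) hv, ?_⟩
  have : f.d μ * f.d ω = f.d ω * f.d μ := by rw [← map_mul, mul_comm, map_mul]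
  simp only [dl]
  calc _ = f.d μ * f.d ω * a * (f.d μ * f.d ω)⁻¹ * f.d μ * a⁻¹ * v * (f.d μ)⁻¹ := by group
    _ = _ := by rw [this]; group

theorem conj_T1 {y r : G} (hy : y ∈ f.T1) (hr : r ∈ h.P) : y * r * y⁻¹ * r⁻¹ ∈ f.V := by
  obtain ⟨e, he, u, rfl⟩ := f.mem_T1.1 hy
  have := h.P_cm (h.A_le_P (mem_sup_left he)) hr
  convert this using 1
  rw [mul_assoc e, hr.2.1 _ ⟨u, rfl⟩]; group

theorem conj_P0_N {n p : G} (hn : n ∈ normalizer (f.A : Set G)) (hE : n ∈ normalizer (f.E : Set G))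
    (hp : p ∈ h.P0) : n * p * n⁻¹ ∈ h.P0 := by
  obtain ⟨a, ha, v, hv, rfl⟩ := hp
  have hQ := f.M_le_NQ hn
  let ν := Units.mk0 (f.tt n ω) ((map_ne_zero _).2 ω.ne_zero)
  have hω := f.d_mem_D ω
  have hν := f.d_mem_D ν
  have h3 := f.ct_div (mul_mem hQ hω.2) (mul_mem hν.2 hQ)
    (by rw [f.cc_mul hQ hω.2, f.cc_mul hν.2 hQ, f.cc_d_K h.ωK,
      f.cc_d_K (μ := ν) (f.tt_fixed n h.ωK), (f.ct_d ν).2.1, mul_comm]; rfl)
    (by rw [f.tt_mul hQ hω.2, f.tt_mul hν.2 hQ, (f.ct_d ν).2.1, (f.ct_d ω).2.1, one_mul, mul_one])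
  obtain ⟨y, hy, z, hz, e⟩ := f.ker' (mem_inf.mpr ⟨by
    have := f.C.mul_mem (H9.conj_mem_of_mem_normalizer (normalizer_le_normalizer_centralizer _ hE)
      hω.1) (f.C.inv_mem hν.1)
    convert this using 1; group, mul_mem (mul_mem hQ hω.2) (inv_mem (mul_mem hν.2 hQ))⟩) h3.1 h3.2
  obtain ⟨x, hx, p, hp, e2⟩ := h.P_dec (h.conj_P hn ha)
  have m1 := h.conj_P (f.D_le_M hν) (h.conj_P hn ha)
  have m2 := h.conj_P0_P (h.A_le_P (mem_sup_left hx)) (mul_mem (h.conj_P0_d ν hp) (inv_mem hp))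
  have := mul_mem (mul_mem (h.V_le_P0 (h.conj_T1 hy m1)) m2)
    (h.V_le_P0 (H9.conj_mem_of_mem_normalizer (f.NQ_le_NV hQ) hv))
  convert this using 1
  have e3 : x * (f.d ν * p * (f.d ν)⁻¹ * p⁻¹) * x⁻¹ =
      f.d ν * (n * a * n⁻¹) * (f.d ν)⁻¹ * (n * a * n⁻¹)⁻¹ := by
    rw [e2, ← mul_assoc (f.d ν) x, ← hν.1 x hx]; group
  rw [e3, dl]
  calc _ = n * f.d ω * (f.d ν * n)⁻¹ * (f.d ν * (n * a * n⁻¹) * (f.d ν)⁻¹) *
        (n * f.d ω * (f.d ν * n)⁻¹)⁻¹ * (n * a * n⁻¹)⁻¹ * (n * v * n⁻¹) := by group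
    _ = _ := by rw [e, mul_assoc y z, ← h.W_cen_Z m1.1 (two_of_sq m1.2.2) hz]; group

theorem M_dec {g : G} (hg : g ∈ normalizer (f.A : Set G)) :
    ∃ p ∈ h.P, p⁻¹ * g ∈ normalizer (f.E : Set G) := by
  obtain ⟨e, he, v, hv, e2⟩ := f.mem_A.1 (H9.conj_mem_of_mem_normalizer hg (mem_sup_left h.he))
  obtain ⟨x, hx, rfl⟩ := f.mem_V.1 hv
  have h1 := f.TC_conj (f.TC_E h.he h.e1) g
  have e1 : e ≠ 1 := fun e' => by
    rw [e', one_mul] at e2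
    exact f.not_VC h1 ⟨_, e2 ▸ hv, by simpa using h.e1, .refl _⟩
  obtain ⟨k, hk, rfl⟩ := h.surjE he e1 hx
  obtain ⟨p, hp, e3⟩ := h.exists_P (f.ph_K hk h.he)
  have h2 := f.mem_C_of_ph (mul_mem (inv_mem hp.1) hk) h.he h.e1 (h.ph_div hk hp.1 e3.symm)
  refine ⟨p, hp, f.mem_NE h.he h.e1 ?_⟩
  rw [← f.ph_spec hk he] at e2
  have : p⁻¹ * g * e₁ * (p⁻¹ * g)⁻¹ = e := by
    calc _ = p⁻¹ * (g * e₁ * g⁻¹) * p := by group
      _ = p⁻¹ * k * e * (p⁻¹ * k)⁻¹ := by rw [e2]; group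
      _ = e := by rw [← h2 e he]; group
  rwa [this]

theorem conj_P0 {g p : G} (hg : g ∈ normalizer (f.A : Set G)) (hp : p ∈ h.P0) :
    g * p * g⁻¹ ∈ h.P0 := by
  obtain ⟨a, ha, h1⟩ := h.M_dec hg
  have := h.conj_P0_P ha (h.conj_P0_N (mul_mem (inv_mem ha.1.1) hg) h1 hp)
  convert this using 1; group

theorem P0_sq : ∃ c, σ c = c ∧ ∀ p ∈ h.P0, p * p = f.vv (c * f.ph p e₁) := by
  obtain ⟨p₁, hp₁, e1⟩ := h.exists_P0 (map_one σ)
  obtain ⟨c, hc, e2⟩ := f.mem_V.1 (h.P0_le hp₁).2.2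
  refine ⟨c, hc, fun p hp => ?_⟩
  by_cases x0 : f.ph p e₁ = 0
  · rw [x0, mul_zero, f.vv_zero, f.V_sq (h.mem_V_of_ph hp x0)]
  obtain ⟨l, hl, e3⟩ := exists_sqrt (f.ph_K (h.P0_le hp).1 h.he)
  have l0 : l ≠ 0 := fun e' => x0 (by rw [← e3, e']; simp)
  have h1 := h.conj_P0_d (Units.mk0 l l0) hp₁
  obtain ⟨v, hv, e4⟩ := h.P0_eq hp h1 (by
    rw [f.ph_conj_d hl (h.P0_le hp₁).1 h.he, e1, mul_one]; exact e3.symm)
  have h2 := f.conj_vv (f.d_mem_D (Units.mk0 l l0)).2 hc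
  rw [f.cc_d_K hl, (f.ct_d _).2.1, Units.val_mk0, nm, hl, ← pow_two, e3, mul_comm _ (_ : F), e2,
    ← conj_mul] at h2
  nth_rewrite 1 2 [e4]
  rw [mul_assoc, ← mul_assoc v, f.W_cen_V (h.P0_le h1).1 v hv, mul_assoc _ v, f.V_sq hv, mul_one]
  exact h2

theorem P0_comm {p r : G} (hp : p ∈ h.P0) (hr : r ∈ h.P0) : p * r = r * p := by
  choose! s hs es using fun (y : F) (hy : σ y = y) =>
    h.exists_P0 (x := y ^ 2) (by rw [map_pow, hy])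
  have cV : ∀ {a b : G}, a ∈ h.P0 → b ∈ h.P0 → a * b * a⁻¹ * b⁻¹ ∈ f.V := fun ha hb =>
    h.P_cm (h.P0_le ha) (h.P0_le hb)
  have cen : ∀ {a v : G}, a ∈ h.P0 → v ∈ f.V → v * a = a * v := fun ha hv =>
    f.W_cen_V (h.P0_le ha).1 _ hv
  have k0 : ∀ {a b a' b' : G}, a ∈ h.P0 → b ∈ h.P0 → a' ∈ h.P0 → b' ∈ h.P0 →
      f.ph a e₁ = f.ph a' e₁ → f.ph b e₁ = f.ph b' e₁ →
      a * b * a⁻¹ * b⁻¹ = a' * b' * a'⁻¹ * b'⁻¹ := fun {a b a' b'} ha hb ha' hb' e e' => by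
    obtain ⟨v, hv, rfl⟩ := h.P0_eq ha ha' e
    obtain ⟨w, hw, rfl⟩ := h.P0_eq hb hb' e'
    calc _ = a' * (v * (b' * w)) * v⁻¹ * a'⁻¹ * (b' * w)⁻¹ := by group
      _ = a' * b' * (w * a'⁻¹) * (b' * w)⁻¹ := by rw [cen hb hv]; group
      _ = _ := by rw [cen (inv_mem ha') hw]; group
  have sa : ∀ x, σ x = x → ∀ y, σ y = y → f.ph (s (x + y)) e₁ = f.ph (s x * s y) e₁ :=
    fun x hx y hy => by
      rw [es _ (by rw [map_add, hx, hy]), f.ph_mul (h.P0_le (hs x hx)).1 (h.P0_le (hs y hy)).1 h.he,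
        es x hx, es y hy]
      linear_combination x * y * two σ
  have key := fun l x y => pol (σ := σ) (W := KK σ) (fun l hl x (hx : σ x = x) =>
      (by rw [map_mul, hl, hx] : σ (l * x) = l * x))
    (g := fun x y => f.co (s x * s y * (s x)⁻¹ * (s y)⁻¹))
    (fun x hx x' hx' y hy => by
      rw [k0 (hs _ ((KK σ).add_mem hx hx')) (hs y hy) (mul_mem (hs x hx) (hs x' hx')) (hs y hy)
        (sa x hx x' hx') rfl, ← f.co_mul (cV (hs x hx) (hs y hy)) (cV (hs x' hx') (hs y hy))]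
      congr 1
      calc _ = s x * (s x' * s y * (s x')⁻¹ * (s y)⁻¹) * (s y * (s x)⁻¹ * (s y)⁻¹) := by group
        _ = _ := by
          rw [mul_assoc (s x), cen (mul_mem (mul_mem (hs y hy) (inv_mem (hs x hx))) (inv_mem (hs y hy)))
            (cV (hs x' hx') (hs y hy))]; group)
    (fun x hx y hy y' hy' => by
      rw [k0 (hs x hx) (hs _ ((KK σ).add_mem hy hy')) (hs x hx) (mul_mem (hs y hy) (hs y' hy'))
        rfl (sa y hy y' hy'), ← f.co_mul (cV (hs x hx) (hs y hy)) (cV (hs x hx) (hs y' hy'))]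
      congr 1
      calc _ = s x * s y * (s x)⁻¹ * ((s x * s y' * (s x)⁻¹ * (s y')⁻¹) * (s y)⁻¹) := by group
        _ = _ := by rw [cen (inv_mem (hs y hy)) (cV (hs x hx) (hs y' hy'))]; group)
    (fun l hl x hx y hy => by
      have kl : ∀ x, σ x = x → σ (l * x) = l * x := fun x hx => by rw [map_mul, hl, hx]
      by_cases l0 : l = 0
      · simp [l0, f.co_one]
      have kd : ∀ x, σ x = x → f.ph (s (l * x)) e₁ =
          f.ph (f.d (Units.mk0 l l0) * s x * (f.d (Units.mk0 l l0))⁻¹) e₁ := fun x hx => by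
        rw [es _ (kl x hx), f.ph_conj_d hl (h.P0_le (hs x hx)).1 h.he, es x hx, mul_pow]; rfl
      rw [k0 (hs _ (kl x hx)) (hs _ (kl y hy)) (h.conj_P0_d _ (hs x hx)) (h.conj_P0_d _ (hs y hy))
        (kd x hx) (kd y hy)]
      have := f.co_conj (f.d_mem_D (Units.mk0 l l0)).2 (cV (hs x hx) (hs y hy))
      rw [f.cc_d_K hl, (f.ct_d _).2.1, Units.val_mk0, nm, hl, ← pow_two] at this
      refine Eq.trans ?_ this
      congr 1; group) (l := l) (x := x) (y := y)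
  obtain ⟨x, hx, e1⟩ := exists_sqrt (f.ph_K (h.P0_le hp).1 h.he)
  obtain ⟨y, hy, e2⟩ := exists_sqrt (f.ph_K (h.P0_le hr).1 h.he)
  have h1 := (key x 1 y hx (map_one σ) hy).1
  have h2 := (key y 1 1 hy (map_one σ) (map_one σ)).2
  simp only [mul_one, mul_inv_cancel_right, mul_inv_cancel, f.co_one, mul_zero] at h1 h2
  rw [h2, mul_zero] at h1
  have h3 := (f.co_spec (cV (hs x hx) (hs y hy))).2
  rw [h1, f.vv_zero, ← k0 hp hr (hs x hx) (hs y hy) (by rw [es x hx, e1]) (by rw [es y hy, e2])] at h3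
  rw [← mul_inv_eq_one, mul_inv_rev, ← mul_assoc]
  exact h3.symm

theorem mul_eq {p p' e e' : G} (hp' : p' ∈ h.P0) (he : e ∈ f.E) (he' : e' ∈ f.E) (u u' : US σ) :
    p * e * f.j u * (p' * e' * f.j u') =
      p * p' * f.vv (f.ph p' e) * (e * e') * f.j (u * u') := by
  have h1 := f.ph_spec (inv_mem (h.P0_le hp').1) he
  rw [f.ph_inv (h.P0_le hp').1 he, f.Q_le_C (f.V_le_Q (f.vv_mem _)) e he] at h1
  calc _ = p * e * (f.j u * p') * e' * f.j u' := by group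
    _ = p * p' * (p'⁻¹ * e * p'⁻¹⁻¹) * (f.j u * e') * f.j u' := by
      rw [(h.P0_le hp').2.1 _ ⟨u, rfl⟩]; group
    _ = _ := by rw [h1, ← f.Q_le_C ⟨u, rfl⟩ e' he', map_mul]; group

/-- `S = P₀ E Q` -/
def S : Subgroup G where
  carrier := {s | ∃ p ∈ h.P0, ∃ e ∈ f.E, ∃ u, s = p * e * f.j u}
  one_mem' := ⟨1, one_mem _, 1, one_mem _, 1, by simp⟩
  mul_mem' := by
    rintro _ _ ⟨p, hp, e, he, u, rfl⟩ ⟨p', hp', e', he', u', rfl⟩
    exact ⟨_, mul_mem (mul_mem hp hp') (h.V_le_P0 (f.vv_mem _)), _, mul_mem he he', _,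
      h.mul_eq hp' he he' u u'⟩
  inv_mem' := by
    rintro _ ⟨p, hp, e, he, u, rfl⟩
    refine ⟨_, mul_mem (inv_mem hp) (h.V_le_P0 (f.vv_mem (f.ph p⁻¹ e⁻¹))), _, inv_mem he, u⁻¹, ?_⟩
    have := h.mul_eq (p := 1) (inv_mem hp) (inv_mem he) f.E.one_mem u⁻¹ 1
    simp only [one_mul, mul_one, map_one] at this
    rw [← this, f.Q_le_C ⟨u⁻¹, rfl⟩ _ (inv_mem he), map_inv]; group

theorem mem_S {p e : G} (hp : p ∈ h.P0) (he : e ∈ f.E) (u : US σ) : p * e * f.j u ∈ h.S :=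
  ⟨p, hp, e, he, u, rfl⟩

theorem P0_le_S : h.P0 ≤ h.S := fun p hp => ⟨p, hp, 1, one_mem _, 1, by simp⟩

theorem T1_le_S : f.T1 ≤ h.S := fun y hy => by
  obtain ⟨e, he, u, rfl⟩ := f.mem_T1.1 hy
  exact ⟨1, one_mem _, e, he, u, by simp⟩

theorem S_le_W : h.S ≤ f.W := by
  rintro _ ⟨p, hp, e, he, u, rfl⟩
  exact mul_mem (mul_mem (h.P0_le hp).1 (f.T1_le_W (mem_sup_left he)))
    (f.T1_le_W (mem_sup_right ⟨u, rfl⟩))

theorem ph_S {p e e' : G} (hp : p ∈ h.P0) (he : e ∈ f.E) (he' : e' ∈ f.E) (u : US σ) :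
    f.ph (p * e * f.j u) e' = f.ph p e' := by
  have h1 : e * f.j u ∈ f.T1 := mul_mem (mem_sup_left he) (mem_sup_right ⟨u, rfl⟩)
  rw [mul_assoc, f.ph_mul (h.P0_le hp).1 (f.T1_le_W h1) he', f.ph_C (f.T1_le_C h1) he', add_zero]

theorem uniq {p p' e e' : G} {u u' : US σ} (hp : p ∈ h.P0) (hp' : p' ∈ h.P0) (he : e ∈ f.E)
    (he' : e' ∈ f.E) (h1 : p * e * f.j u = p' * e' * f.j u') : e = e' ∧ u.a = u'.a := by
  obtain ⟨v, hv, rfl⟩ := h.P0_eq hp hp' (by rw [← h.ph_S hp he h.he u, h1, h.ph_S hp' he' h.he])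
  obtain ⟨r, rfl⟩ := f.V_le_Q hv
  have h2 : e * f.j (r * u) = e' * f.j u' := by
    rw [map_mul, ← mul_assoc, f.Q_le_C ⟨r, rfl⟩ e he]
    exact mul_left_cancel (a := p') (by simpa only [mul_assoc] using h1)
  refine ⟨?_, ?_⟩
  · have := f.disj (e'⁻¹ * e) (mul_mem (inv_mem he') he) (by
      rw [show e'⁻¹ * e = f.j u' * (f.j (r * u))⁻¹ by
        rw [eq_mul_inv_iff_mul_eq, mul_assoc, h2]; group]
      exact mul_mem (f.jU _) (inv_mem (f.jU _)))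
    exact (inv_mul_eq_one.1 this).symm
  · have := congrArg f.ta h2
    rwa [f.ta_eq he, f.ta_eq he', mul_a, f.j_mem_V.1 hv, zero_add] at this

theorem exists_coord : ∃ (ee : G → G) (aa : G → F), ∀ p ∈ h.P0, ∀ e ∈ f.E, ∀ u,
    ee (p * e * f.j u) = e ∧ aa (p * e * f.j u) = u.a := by
  have : ∀ s ∈ h.S, ∃ e a, ∃ p ∈ h.P0, e ∈ f.E ∧ ∃ u : US σ, u.a = a ∧ s = p * e * f.j u := by
    rintro _ ⟨p, hp, e, he, u, rfl⟩
    exact ⟨e, _, p, hp, he, u, rfl, rfl⟩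
  choose! ee aa hs using this
  refine ⟨ee, aa, fun p hp e he u => ?_⟩
  obtain ⟨p', hp', he', u', e1, e2⟩ := hs _ (h.mem_S hp he u)
  have := h.uniq hp hp' he he' e2
  exact ⟨this.1.symm, by rw [← e1, this.2]⟩

end II

theorem Fr.exists_two (f : Fr σ G) {s : G} (hs : s ∈ f.A) (h : f.TC s) (hE : s ∉ f.E) :
    ∃ w : Two σ G, w.toFr = f := by
  obtain ⟨⟨e₁, he⟩, e1⟩ := (Subgroup.ne_bot_iff_exists_ne_one).1 f.E_ne
  obtain ⟨ω, ωK, ω0, ω1, -⟩ := f.exists_K 1 1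
  have h : II f e₁ (Units.mk0 ω ω0) := ⟨he, fun e => e1 (Subtype.ext e), f.exists_W hs h hE, ωK,
    fun e => ω1 (by
      have : (ω - 1) ^ 2 = 0 := by
        rw [Units.val_mk0] at e
        linear_combination e - ω * two σ
      exact sub_eq_zero.1 (pow_eq_zero_iff two_ne_zero |>.1 this))⟩
  obtain ⟨p₁, hp₁, e₁p⟩ := h.exists_P0 (map_one σ)
  have hp₁' := (h.P0_le hp₁).1
  obtain ⟨c, cK, hc⟩ := h.P0_sq
  obtain ⟨ee, aa, hco⟩ := h.exists_coord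
  have pe : ∀ {p e : G}, p ∈ h.P0 → e ∈ f.E → f.ph p e = f.ph p₁ e * f.ph p e₁ := fun hp he => by
    rw [h.ph_eq_mul (h.P0_le hp).1 hp₁' e₁p he, mul_comm]
  have pK : ∀ {p e : G}, p ∈ h.P0 → e ∈ f.E → σ (f.ph p e) = f.ph p e := fun hp he =>
    f.ph_K (h.P0_le hp).1 he
  have cV : ∀ {s : G} (x : F), s ∈ h.S → f.vv x * s = s * f.vv x := fun x hs =>
    f.W_cen_V (h.S_le_W hs) _ (f.vv_mem x)
  have hP : ∀ p ∈ h.P0, ee p = 1 ∧ aa p = 0 := fun p hp => by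
    simpa using hco p hp 1 (one_mem _) 1
  have sq : ∀ s ∈ h.S, s * s = f.vv ((f.ph p₁ (ee s) + c) * f.ph s e₁ + nm σ (aa s)) := by
    rintro _ ⟨p, hp, e, he', u, rfl⟩
    rw [(hco p hp e he' u).1, (hco p hp e he' u).2, h.ph_S hp he' he, h.mul_eq hp he' he',
      f.E_sq e he', mul_one, map_mul, f.j_sq, hc p hp, add_mul, ← pe hp he',
      ← f.vv_add (by rw [map_mul, cK, pK hp he]) (pK hp he'),
      ← f.vv_add (by rw [map_add, map_mul, cK, pK hp he, pK hp he']) (nm_fixed _), add_comm (c * _)]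
  refine ⟨{ f with
    S := h.S, c := c, ce := f.ph p₁, ee := ee, xx := fun s => f.ph s e₁, aa := aa
    pg := fun s => ⟨2, Subtype.ext ?_⟩
    ES := le_sup_left.trans h.T1_le_S
    jS := fun u => h.T1_le_S (mem_sup_right ⟨u, rfl⟩)
    cK := cK
    ceK := fun e he => pK hp₁ he
    ce_mul := fun e he e' he' => f.ph_mul' hp₁' he he'
    ce_inj := fun e he' h0 => ?_
    eeE := ?_
    xxK := fun s hs => f.ph_K (h.S_le_W hs) he
    ee_mul := ?_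
    xx_mul := fun s hs r hr => f.ph_mul (h.S_le_W hs) (h.S_le_W hr) he
    aa_mul := ?_
    kerV := ?_
    surj := fun e he' x a hx => ?_
    on_E := fun e he' => ?_
    on_j := fun u => ?_
    sq := sq
    cm := ?_
    Zc' := fun z hz s hs => (h.W_cen_Z (h.S_le_W hs)
      (II.two_of_sq (f := f) (by rw [sq s hs]; exact f.vv_mem _)) hz).symm
    MS := fun g hg => H9.mem_normalizer_of_conj_mem ?_
    MQ := f.M_le_NQ
    MP := ?_
    M_dec := fun g hg => ?_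
    D_act := ?_ }, rfl⟩
  · have := f.V_sq (v := s * s) (by rw [sq s s.2]; exact f.vv_mem _)
    rw [show 2 ^ 2 = 1 + 1 + 1 + 1 from rfl]
    simpa [pow_succ, mul_assoc] using this
  · by_contra e'
    have := f.ph_C (f.mem_C_of_ph hp₁' he' e' h0) he
    rw [e₁p] at this
    exact one_ne_zero this
  · rintro _ ⟨p, hp, e, he', u, rfl⟩
    rwa [(hco p hp e he' u).1]
  · rintro _ ⟨p, hp, e, he', u, rfl⟩ _ ⟨p', hp', e', he'', u', rfl⟩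
    rw [h.mul_eq hp' he' he'', (hco p hp e he' u).1, (hco p' hp' e' he'' u').1,
      (hco _ (mul_mem (mul_mem hp hp') (h.V_le_P0 (f.vv_mem _))) _ (mul_mem he' he'') _).1]
  · rintro _ ⟨p, hp, e, he', u, rfl⟩ _ ⟨p', hp', e', he'', u', rfl⟩
    rw [h.mul_eq hp' he' he'', (hco p hp e he' u).2, (hco p' hp' e' he'' u').2,
      (hco _ (mul_mem (mul_mem hp hp') (h.V_le_P0 (f.vv_mem _))) _ (mul_mem he' he'') _).2, mul_a]
  · intro s hs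
    refine ⟨fun hv => ⟨(hP s (h.V_le_P0 hv)).1, f.ph_C (f.Q_le_C (f.V_le_Q hv)) he,
      (hP s (h.V_le_P0 hv)).2⟩, ?_⟩
    obtain ⟨p, hp, e, he', u, rfl⟩ := hs
    rw [(hco p hp e he' u).1, (hco p hp e he' u).2, h.ph_S hp he' he]
    rintro ⟨rfl, h1, h2⟩
    rw [mul_one]
    exact mul_mem (h.mem_V_of_ph hp h1) (f.j_mem_V.2 h2)
  · obtain ⟨p, hp, e1⟩ := h.exists_P0 hx
    obtain ⟨u, hu⟩ := exists_a (σ := σ) a
    exact ⟨_, h.mem_S hp he' u, (hco p hp e he' u).1, by rw [h.ph_S hp he' he, e1],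
      by rw [(hco p hp e he' u).2, hu]⟩
  · have := hco 1 (one_mem _) e he' 1
    simp only [one_mul, map_one, mul_one] at this
    exact ⟨this.1, f.ph_C (f.E_le_C he') he, this.2⟩
  · have := hco 1 (one_mem _) 1 (one_mem _) u
    simp only [one_mul] at this
    exact ⟨this.1, f.ph_C (f.Q_le_C ⟨u, rfl⟩) he, this.2⟩
  · rintro _ ⟨p, hp, e, he', u, rfl⟩ _ ⟨p', hp', e', he'', u', rfl⟩
    rw [(hco p hp e he' u).1, (hco p hp e he' u).2, (hco p' hp' e' he'' u').1,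
      (hco p' hp' e' he'' u').2, h.ph_S hp he' he, h.ph_S hp' he'' he, ← pe hp' he', ← pe hp he'',
      f.vv_add (by rw [map_add, pK hp' he', pK hp he'']) (bl_fixed _ _),
      f.vv_add (pK hp' he') (pK hp he''), mul_assoc _ _ _⁻¹, ← mul_inv_rev,
      mul_inv_eq_iff_eq_mul, h.mul_eq hp' he' he'', h.mul_eq hp he'' he', h.P0_comm hp' hp,
      f.E_comm he'' he']
    have h1 : f.j (u * u') = f.vv (bl σ u.a u'.a) * f.j (u' * u) := by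
      rw [← f.j_cm, map_mul, map_mul]; group
    have h2 := h.P0_le_S (mul_mem hp hp')
    have h3 : e * e' ∈ h.S := h.T1_le_S (mem_sup_left (mul_mem he' he''))
    have h4 : ∀ x, f.vv x ∈ h.S := fun x => h.P0_le_S (h.V_le_P0 (f.vv_mem x))
    have h5 := f.V_sq (f.vv_mem (f.ph p e'))
    rw [h1]
    generalize f.ph p e' = x, f.ph p' e = y, bl σ u.a u'.a = z, p * p' = a, e * e' = b at *
    calc _ = a * f.vv y * (b * f.vv z) * f.j (u' * u) := by group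
      _ = a * f.vv y * f.vv z * (f.vv x * f.vv x) * b * f.j (u' * u) := by
        rw [← cV z h3, h5]; group
      _ = a * (f.vv y * (f.vv z * f.vv x)) * f.vv x * b * f.j (u' * u) := by group
      _ = _ := by
        rw [← (Commute.mul_left (cV y h2) (Commute.mul_left (cV z h2) (cV x h2))).eq,
          cV z (h4 x)]; group
  · rintro _ ⟨p, hp, e, he', u, rfl⟩
    have := mul_mem (h.P0_le_S (h.conj_P0 hg hp)) (h.T1_le_S (H9.conj_mem_of_mem_normalizer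
      (f.M_le_NT1 hg) (mul_mem (mem_sup_left he') (mem_sup_right ⟨u, rfl⟩))))
    convert this using 1; group
  · rintro g hg _ ⟨p, hp, e, he', u, rfl⟩ h1 h2
    rw [(hco p hp e he' u).1] at h1
    rw [(hco p hp e he' u).2] at h2
    rw [h1, mul_one]
    exact hP _ (h.conj_P0 hg (mul_mem hp (h.V_le_P0 (f.j_mem_V.2 h2))))
  · obtain ⟨p, hp, h1⟩ := h.M_dec hg
    obtain ⟨e, he', p', hp', rfl⟩ := h.P_dec hp
    exact ⟨_, mul_mem (h.T1_le_S (mem_sup_left he')) (h.P0_le_S hp'), h1⟩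
  · rintro g hg _ ⟨p, hp, e, he', u, rfl⟩
    have h1 := h.conj_P0 (f.D_le_M hg) hp
    have h2 : g * (p * e * f.j u) * g⁻¹ = g * p * g⁻¹ * e * f.j (f.aut g u) := by
      rw [← f.conj_j hg.2, mul_assoc _ g⁻¹ e, ← f.C.inv_mem hg.1 e he']; group
    refine ⟨?_, f.ph_conj hg (h.S_le_W (h.mem_S hp he' u)) he, ?_⟩
    · rw [h2, (hco _ h1 e he' _).1, (hco p hp e he' u).1]
    · rw [h2, (hco _ h1 e he' _).2, (hco p hp e he' u).2, f.aut_a]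

end Cfsg.Agent.WA.Lk
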