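import Cfsg.Agent.WA.Lk2b3

/-! Module Lk2b: the non-abelian top of the tower; Thompson transfer. -/

set_option autoImplicit false
set_option linter.unusedSectionVars false
set_option linter.unusedVariables false

namespace Cfsg.Agent.WA.Lk

open Subgroup Cfsg.Agent.H1.U3 Cfsg.Agent.H8
open Cfsg.Agent.WA.Rw (conj_mem' conj_mem'' norm_of mem_c1 mem_cH)

variable {F : Type*} [Field F] [Finite F] {σ : F →+* F} [Ctx σ] {G : Type*} [Group G] [Finite G]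

namespace X2

open Rw (mem_sup' c_le_n)

variable {f : Fr σ G} {t a b g n p r s v x z φ ψ : G} {P S M : Subgroup G} {y ξ : G → F} {κ : F}

theorem mem_ext (hg : g ∈ normalizer (M : Set G)) (g2 : g * g ∈ M) (hx : x ∈ zpowers g ⊔ M) :
    x ∈ M ∨ x * g⁻¹ ∈ M := by
  obtain ⟨a, ha, b, hb, rfl⟩ := (mem_sup' (zpowers_le.2 hg)).1 hx
  obtain ⟨i, rfl⟩ := mem_powers_iff_mem_zpowers.2 ha
  have e : ∀ i : ℕ, g ^ (2 * i) ∈ M := fun i => by rw [pow_mul, pow_two]; exact pow_mem g2 i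
  obtain ⟨i, rfl | rfl⟩ := Nat.even_or_odd' i
  · exact Or.inl (mul_mem (e i) hb)
  · refine Or.inr ?_
    have := mul_mem (e i) (conj_mem' hg hb)
    rwa [← mul_assoc, ← mul_assoc, ← pow_succ] at this

variable (h : f.Top t P y ξ κ)
include h

theorem ext_swap (idx : ∀ a ∈ S, ∀ b ∈ S, a ∉ RR f P → b ∉ RR f P → a * b ∈ RR f P)
    (hT : ∀ a ∈ f.T1, g * a * g⁻¹ ∈ S) (s1 : g * t * g⁻¹ ∉ RR f P)
    (sN : g * t * g⁻¹ ∈ normalizer (RR f P : Set G)) (hs : Rt f P (g * t * g⁻¹ * t * (g * t * g⁻¹)⁻¹)) : False := by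
  have good : ∀ α, ∃ x ∈ f.T1, f.ta x = α ∧ g * x * g⁻¹ ∈ RR f P := fun α => by
    obtain ⟨u, rfl⟩ := exists_a (σ := σ) α
    obtain ⟨m, e⟩ := jT1 (f := f) u
    by_cases c : g * f.j u * g⁻¹ ∈ RR f P
    · exact ⟨_, m, e, c⟩
    · exact ⟨_, (tT1 h m).1, (tT1 h m).2.trans e,
        cj_mul' g t _ ▸ idx _ (hT t (mem_sup_left h.tE)) _ (hT _ m) s1 c⟩
  have sq : ∀ a ∈ f.T1, g * a * g⁻¹ * (g * a * g⁻¹) ∈ YY f P := fun a ha =>
    cj_mul' g a a ▸ V_Y h good (f.sq_mem_V ha)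
  have ty : ∀ a ∈ f.T1, g * a * g⁻¹ ∈ RR f P → g * a * g⁻¹ ∉ YY f P → Rt f P (t * (g * a * g⁻¹)) :=
    fun a ha a1 a2 => (sw_fix h sN hs a1 (f.tt_cases (RNQ h a1) (ctY h (sq a ha)).2) (one_mem _) (by
      rw [← cj_comm g (Tt h (f.T1_le_T ha)), mul_inv_cancel_right, mul_one])).resolve_left a2
  have gV : g ∈ normalizer (f.V : Set G) := V_V h good fun a ha b hb a1 b1 a2 b2 => by
    have := mul_mem (sq a ha) (Rt_div h (ty a ha a1 a2) (ty b hb b1 b2))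
    rwa [show ∀ a b : G, a * a * ((t * a)⁻¹ * (t * b)) = a * b from fun a b => by group] at this
  exact sw_notTC h sN hs (TC_cj h g)
    (conj_mem' (normalizer_le_normalizer_centralizer _ gV) (centralizer_le f.V_le_Q (f.E_cen_Q h.tE)))

theorem Rt_M (ha : Rt f P a) (hb : Rt f P b) (m : a ∈ MM f P φ) : b ∈ MM f P φ :=
  (mul_mem_cancel_left (inv_mem m)).1 (YM h (Rt_div h ha hb))

theorem tt_ne (k : Gen f P t φ) (hr : Rt f P r) : f.tt φ ≠ 1 := fun e => by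
  have key : ∀ b ∈ MM f P φ, f.tt b = 1 := fun b hb => by
    obtain ⟨i, c, hc, rfl⟩ := (memM h k.T).1 hb
    rw [f.tt_mul (f.T_N (pow_mem k.T _)) (RNQ h (YR h hc)), (ctY h hc).2, f.tt_pow (f.T_N k.T), e, one_pow, one_mul]
  rcases cover h k hr.1 with m | m
  · exact sig_ne (hr.2.1.symm.trans (key _ m))
  · exact sig_ne (hr.2.1.symm.trans ((ttt h hr.1).symm.trans (key _ m)))

theorem pick : ∃ φ, Gen f P t φ ∧ ∀ g, (∀ a ∈ f.T, g * a * g⁻¹ ∈ RR f P) → Rt f P (g * t * g⁻¹) →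
    g * t * g⁻¹ ∉ MM f P φ := by
  by_contra hn
  push Not at hn
  obtain ⟨φ, k⟩ := exists_gen h
  obtain ⟨g, g1, g2, g3⟩ := hn φ k
  have k' := gen_t h k (tt_ne h k g2)
  obtain ⟨g', -, g4, g5⟩ := hn _ k'
  obtain ⟨ψ, hψ, b, hb, e⟩ := both h k k' g3 (Rt_M h g4 g2 g5)
  exact expo h k hψ hb (e ▸ g2) (e ▸ g3) g1 g2

section
variable (hg : g ∈ normalizer (RR f P : Set G)) (hs : Rt f P (g * t * g⁻¹))
include hg hs

theorem sw_sq (ha : a ∈ RR f P) : f.tt (g * (a * a) * g⁻¹) = f.tt (a * a) := by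
  have := charP_two σ
  have := isCyclic_ringAut (F := F)
  have m := conj_mem' hg ha
  have m' := mul_mem m (inv_mem ha)
  have e : f.tt (g * a * g⁻¹) = f.tt (g * a * g⁻¹ * a⁻¹) * f.tt a := by
    rw [← f.tt_mul (RNQ h m') (RNQ h ha), inv_mul_cancel_right]
  have e2 : f.tt (g * a * g⁻¹ * a⁻¹) * f.tt (g * a * g⁻¹ * a⁻¹) = 1 := by
    rcases sw_tt h hg hs ha with c | c <;> rw [c]
    exacts [one_mul 1, sig_sig]
  rw [cj_mul', f.tt_mul (RNQ h m) (RNQ h m), e, f.tt_mul (RNQ h ha) (RNQ h ha)]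
  generalize f.tt (g * a * g⁻¹ * a⁻¹) = l at e2 ⊢
  rw [mul_assoc l, ← mul_assoc (f.tt a), mul_comm' (f.tt a) l, mul_assoc l, ← mul_assoc l, e2, one_mul]

theorem sw_mem (θ : t * (g * t * g⁻¹) ∈ MM f P φ) (ha : a ∈ YY f P ∨ Rt f P (t * a)) : a ∈ MM f P φ := by
  refine ha.elim (fun e => YM h e) fun e => (mul_mem_cancel_left (inv_mem θ)).1 (YM h ?_)
  have := Rt_div h hs e
  rwa [mul_inv_rev, ti h, mul_assoc]

theorem sw_norm (g2 : g * g ∈ RR f P) (k : Gen f P t φ) (θ : t * (g * t * g⁻¹) ∈ MM f P φ) :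
    g ∈ normalizer (MM f P φ : Set G) := norm_of fun a ha => by
  have aR := MR h k.T ha
  have m := mul_mem (conj_mem' hg aR) (inv_mem aR)
  have c := sw_tt h hg hs aR
  have l2 : g * a * g⁻¹ * a⁻¹ * (g * a * g⁻¹ * a⁻¹) ∈ YY f P :=
    (kerR h (mul_mem m m) (by
      rw [f.tt_mul (RNQ h m) (RNQ h m)]
      rcases c with c | c <;> rw [c]
      exacts [one_mul 1, sig_sig])).resolve_right fun e => k.tn ((mul_mem_cancel_right (sqM h k m)).1 (YM h e))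
  refine (mul_mem_cancel_right (inv_mem ha)).1 (sw_mem h hg hs θ (sw_fix h hg hs m c
    (mul_mem (conj_mem'' (RNY h m) (cmR h g2 aR)) (inv_mem l2)) (by group)))

theorem sw_pick (g2 : g * g ∈ RR f P) (k : Gen f P t φ) (θ : t * (g * t * g⁻¹) ∈ MM f P φ) :
    ∃ φ, Gen f P t φ ∧ t * (g * t * g⁻¹) ∈ MM f P φ ∧ g * g ∈ MM f P φ := by
  have k' := gen_t h k (tt_ne h k hs)
  by_cases c1 : g * g ∈ MM f P φ
  · exact ⟨φ, k, θ, c1⟩
  by_cases c2 : t * (g * t * g⁻¹) ∈ MM f P (t * φ)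
  · refine ⟨_, k', c2, (cover h k' g2).resolve_right fun c3 => ?_⟩
    obtain ⟨ψ, hψ, b, hb, e⟩ := both h k k' ((cover h k g2).resolve_left c1) c3
    have ψ2 := TR h (mul_mem hψ hψ)
    have e1 : f.tt (g * (ψ * ψ * b) * g⁻¹) = f.tt (ψ * ψ * b) := by
      have bY := conj_mem' (NY h hg hs) hb
      rw [cj_mul', f.tt_mul (RNQ h (conj_mem' hg ψ2)) (RNQ h (YR h bY)), f.tt_mul (RNQ h ψ2) (RNQ h (YR h hb)),
        sw_sq h hg hs (TR h hψ), (ctY h bY).2, (ctY h hb).2]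
    rw [e, ttt h g2, show g * (t * (g * g)) * g⁻¹ = g * t * g⁻¹ * (g * g) by group, f.tt_mul (RNQ h hs.1) (RNQ h g2),
      hs.2.1, mul_eq_right] at e1
    exact sig_ne e1
  · exact absurd (sw_mem h hg hs θ (sw_fix h hg hs g2 (only h k θ c2 ((ttt h hs.1).trans hs.2.1) g2) (one_mem _)
      (by group))) c1

end

section
variable (hS : IsPGroup 2 S) (RS : RR f P ≤ S)
include hS RS

theorem inR (hn : n ∈ S) (e : t * (n * t * n⁻¹) ∈ YY f P) : n ∈ RR f P := by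
  obtain ⟨p, hp, e1⟩ := invT h e (s2 h n)
  have pR := YR h (PY h hp)
  have m : p⁻¹ * n ∈ S ⊓ f.C := ⟨S.mul_mem (S.inv_mem (RS pR)) hn, (memC h).2 (by
    calc _ = p⁻¹ * (n * t * n⁻¹) * n := by group
      _ = _ := by rw [← e1]; group)⟩
  rw [f.T_syl.max _ inf_le_right (hS.to_le inf_le_left) (le_inf ((TR h).trans RS) f.T_syl.le)] at m
  exact (mul_mem_cancel_left (inv_mem pR)).1 (TR h m)

theorem isSw (hn : n ∈ S) (nN : n ∈ normalizer (RR f P : Set G)) (n1 : n ∉ RR f P) : Rt f P (n * t * n⁻¹) :=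
  (TCR h (TC_cj h n) (conj_mem' nN (tR h))).resolve_left fun e => n1 (inR h hS RS hn e)

theorem mulR (ha : a ∈ S) (hb : b ∈ S) (aN : a ∈ normalizer (RR f P : Set G)) (a1 : a ∉ RR f P)
    (e : Rt f P (b * t * b⁻¹)) : a * b ∈ RR f P := by
  have e1 : a * b * t * (a * b)⁻¹ = a * (b * t * b⁻¹) * a⁻¹ := by group
  exact inR h hS RS (mul_mem ha hb) ((TCR h (TC_cj h _) (e1 ▸ conj_mem' aN e.1)).resolve_right
    (e1 ▸ sw_r h aN (isSw h hS RS ha aN a1) e))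

theorem idxS (a : G) (ha : a ∈ S ⊓ normalizer (RR f P : Set G)) (b : G) (hb : b ∈ S ⊓ normalizer (RR f P : Set G))
    (a1 : a ∉ RR f P) (b1 : b ∉ RR f P) : a * b ∈ RR f P :=
  mulR h hS RS ha.1 hb.1 ha.2 a1 (isSw h hS RS hb.1 hb.2 b1)

theorem SN : S ≤ normalizer (RR f P : Set G) := by
  by_contra hn
  have R1 : RR f P ≤ S ⊓ normalizer (RR f P : Set G) := le_inf RS le_normalizer
  obtain ⟨k, ⟨hk, kN⟩, k1⟩ := SetLike.exists_of_lt (lt_inf_normalizer_of_pgroup hS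
    (lt_of_le_of_ne (inf_le_left (b := normalizer (RR f P : Set G))) fun e => hn (e.ge.trans inf_le_right)))
  have m := conj_mem' kN (R1 (tR h))
  by_cases c : k * t * k⁻¹ ∈ RR f P
  · rcases TCR h (TC_cj h k) c with e | e
    · exact k1 (R1 (inR h hS RS hk e))
    · by_cases c2 : S ⊓ normalizer (RR f P : Set G) ≤ RR f P
      · exact k1 ⟨hk, le_antisymm c2 R1 ▸ kN⟩
      · obtain ⟨a, ha, a1⟩ := SetLike.not_le_iff_exists.1 c2
        exact k1 ((mul_mem_cancel_left ha).1 (R1 (mulR h hS RS ha.1 hk ha.2 a1 e)))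
  · exact ext_swap h (idxS h hS RS) (fun a ha => conj_mem' kN (R1 (TR h (f.T1_le_T ha)))) c m.2
      (isSw h hS RS m.1 m.2 c)

theorem idxS' (a : G) (ha : a ∈ S) (b : G) (hb : b ∈ S) : a ∉ RR f P → b ∉ RR f P → a * b ∈ RR f P :=
  idxS h hS RS a ⟨ha, SN h hS RS ha⟩ b ⟨hb, SN h hS RS hb⟩

theorem extR (hT : cj g f.T ≤ S) : g * t * g⁻¹ ∈ RR f P := by
  by_contra c
  have m := hT (conj_mem_cj g (tT h))
  exact ext_swap h (idxS' h hS RS) (fun a ha => hT (conj_mem_cj g (f.T1_le_T ha))) c (SN h hS RS m)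
    (isSw h hS RS m (SN h hS RS m) c)

end

end X2

open X2 in
theorem Fr.Top.con {f : Fr σ G} {t : G} {P : Subgroup G} {y ξ : G → F} {κ : F}
    (h : f.Top t P y ξ κ) : f.Con := by
  obtain ⟨S, hS, RS⟩ := exists_isSylowIn_ge (Rpg h) (le_top : _ ≤ ⊤)
  obtain ⟨φ, k, hφ⟩ := pick h
  by_cases c : S ≤ RR f P
  · refine f.con_of_transfer h.toInv hS ((MR h k.T).trans RS) (H9.relIndex_eq_two_of (RS (tR h)) k.tn
      fun s hs s1 => idxM h k (c hs) (tR h) s1 k.tn) fun g hg hT => ?_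
    rcases TCR h (TC_cj h g) (MR h k.T hg) with e | e
    · exact k.tn ((mul_mem_cancel_right hg).1 (YM h e))
    · exact hφ g (fun a ha => c (hT (conj_mem_cj g ha))) e hg
  obtain ⟨n, hn, n1⟩ := SetLike.not_le_iff_exists.1 c
  have nN := SN h hS.pgroup RS hn
  have hs := isSw h hS.pgroup RS hn nN n1
  have n2 := idxS' h hS.pgroup RS n hn n hn n1 n1
  obtain ⟨φ, k, θ, γ⟩ := sw_pick h nN hs n2 k
    ((cover h k hs.1).resolve_left (hφ n (fun a ha => conj_mem' nN (TR h ha)) hs))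
  have low : ∀ x ∈ zpowers n ⊔ MM f P φ, x ∈ RR f P → x ∈ MM f P φ := fun x hx xR =>
    (mem_ext (sw_norm h nN hs n2 k θ) γ hx).resolve_right fun e =>
      n1 (inv_mem_iff.1 ((mul_mem_cancel_left xR).1 (MR h k.T e)))
  have r1 : n * t * n⁻¹ ∉ MM f P φ := fun e => k.tn ((mul_mem_cancel_right e).1 θ)
  have nM : n ∈ zpowers n ⊔ MM f P φ := mem_sup_left (mem_zpowers n)
  refine f.con_of_transfer h.toInv hS (R₀ := zpowers n ⊔ MM f P φ) (sup_le (zpowers_le.2 hn) ((MR h k.T).trans RS))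
    (H9.relIndex_eq_two_of (RS (tR h)) (fun e => k.tn (low t e (tR h))) fun s hs' s1 => ?_) fun g hg hT => ?_
  · by_cases sR : s ∈ RR f P
    · exact mem_sup_right (idxM h k sR (tR h) (fun e => s1 (mem_sup_right e)) k.tn)
    · have := idxM h k (idxS' h hS.pgroup RS s hs' _ (inv_mem hn) sR fun e => n1 (inv_mem_iff.1 e)) hs.1
        (fun e => s1 ((mul_mem_cancel_right (inv_mem nM)).1 (mem_sup_right e))) r1
      rw [show s * n⁻¹ * (n * t * n⁻¹) = s * t * n⁻¹ by group] at this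
      exact (mul_mem_cancel_right (inv_mem nM)).1 (mem_sup_right this)
  · have gR := extR h hS.pgroup RS hT
    have gM := low _ hg gR
    rcases TCR h (TC_cj h g) gR with e | e
    · exact k.tn ((mul_mem_cancel_right gM).1 (YM h e))
    · exact r1 (Rt_M h e hs gM)

end Cfsg.Agent.WA.Lk
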