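import Cfsg.Agent.WA.Lk2a4
import Cfsg.Agent.WA.Lk2b

/-! The tower over `E = {1, t}` (module Lk2a, see PLAN_LK.md). -/

set_option autoImplicit false

namespace Cfsg.Agent.WA.Lk

open Subgroup Cfsg.Agent.H1.U3 Cfsg.Agent.H8

variable {F : Type*} [Field F] [Finite F] {σ : F →+* F} [Ctx σ] {G : Type*} [Group G] [Finite G]

theorem Two.con_tower (w : Two σ G) (h2 : Nat.card w.E = 2)
    (h : w.c = 0 → ∀ g ∈ normalizer (w.S : Set G), cj g w.A = w.A) : w.Con :=
  X2a.con_tower_of w (fun _ _ _ _ _ h => h.con) h2 h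

end Cfsg.Agent.WA.Lk
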