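import Cfsg.Agent.WA.Lk3a2

/-! Module Lk3a: the storey of order `q ^ 6`. -/

set_option autoImplicit false
set_option linter.unusedSectionVars false

namespace Cfsg.Agent.WA.Lk

open Subgroup Cfsg.Agent.H1.U3 Cfsg.Agent.H8

namespace X4

variable {F : Type*} [Field F] [Finite F] {σ : F →+* F} [Ctx σ] {G : Type*} [Group G] [Finite G] {w : Two σ G}
  {g s y u p e : G} {Y : Subgroup G} {b α φ : G → F}

theorem P0Y1 : w.P0 ≤ Y1 w := fun _ hp => mY1.2 ⟨hp.1, hp.2.1⟩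

theorem neg2 (σ : F →+* F) [Ctx σ] (x : F) : -x = x := by linear_combination -x * two σ

theorem eqv {f : F → F → F} {χ : F → F} (f1 : ∀ x x' y, f (x + x') y = f x y + f x' y)
    (h : ∀ μ x y, f (w.cc (w.d μ) * x) (w.cc (w.d μ) * y) = χ (w.cc (w.d μ)) * f x y) (hχ : ∀ l, σ l = l → χ l = l ^ 2)
    (l : F) (hl : σ l = l) (x y : F) : f (l * x) (l * y) = l ^ 2 * f x y := by
  by_cases l0 : l = 0
  · simpa [l0] using f1 0 0 0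
  · simpa only [w.cc_d_K (μ := Units.mk0 l l0) hl, Units.val_mk0, hχ l hl] using h (Units.mk0 l l0) x y

theorem nmK2 (l : F) (hl : σ l = l) : nm σ l = l ^ 2 := by rw [nm, hl, sq]

namespace St

variable (h : St w Y b)
include h

theorem ad : Ad Y b := fun x hx y hy => (h.tr _ (mul_mem hx hy)).uniq ((h.tr x hx).mul (h.tr y hy))

theorem b0 (hs : s ∈ Y1 w) : b s = 0 := (h.tr s (h.le hs)).uniq (trS hs.1)

theorem dY (μ : Fˣ) (hy : y ∈ Y) : w.d μ * y * (w.d μ)⁻¹ ∈ Y := cjS (h.DN (w.d_mem_D μ)) hy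

theorem bd (μ : Fˣ) (hy : y ∈ Y) : b (w.d μ * y * (w.d μ)⁻¹) = w.cc (w.d μ) * b y := (h.tr _ (h.dY μ hy)).uniq ((h.tr y hy).cjd μ)

theorem cj1 (hy : y ∈ Y) (hs : s ∈ Y1 w) : y * s * y⁻¹ ∈ Y1 w ∧ w.aa (y * s * y⁻¹) = w.aa s := by
  obtain ⟨a1, a2⟩ := (h.tr y hy).2 s hs.1
  exact ⟨mY1.2 ⟨cjS (h.tr y hy).1 hs.1, a1.trans (mY1.1 hs).2⟩, by rw [a2, (mY1.1 hs).2, ce1, zero_mul, add_zero]⟩

theorem cm1 (hy : y ∈ Y) (hu : u ∈ Y) : y * u * y⁻¹ * u⁻¹ ∈ Y1 w := h.ker _ (mul_mem (mul_mem (mul_mem hy hu) (inv_mem hy)) (inv_mem hu)) (by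
  rw [h.ad _ (mul_mem (mul_mem hy hu) (inv_mem hy)) _ (inv_mem hu), h.ad _ (mul_mem hy hu) _ (inv_mem hy), h.ad _ hy _ hu, h.ad.inv hy, h.ad.inv hu]
  ring)

theorem cmP (hy : y ∈ Y) (hu : u ∈ Y) : y * u * y⁻¹ * u⁻¹ ∈ w.P0 := by
  have s1 : ∀ y ∈ Y, ∀ u ∈ Y, w.aa (u * y * u⁻¹ * y⁻¹) = w.aa (y * u * y⁻¹ * u⁻¹) := fun y hy u hu => by
    rw [← neg2 σ (w.aa (y * _ * _ * _)), ← adA.inv (h.cm1 hy hu)]; congr 1; group
  have s2 : ∀ u ∈ Y, Ad Y fun y => w.aa (y * u * y⁻¹ * u⁻¹) := fun u hu x hx y hy => by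
    beta_reduce
    rw [← (h.cj1 hx (h.cm1 hy hu)).2, add_comm, ← adA _ (h.cj1 hx (h.cm1 hy hu)).1 _ (h.cm1 hx hu)]; congr 1; group
  have s3 : ∀ y ∈ Y, ∀ u ∈ Y, b y = 0 → w.aa (y * u * y⁻¹ * u⁻¹) = 0 := fun y hy u hu e => by
    have m := h.ker y hy e
    rw [show y * u * y⁻¹ * u⁻¹ = y * (u * y⁻¹ * u⁻¹) by group, adA _ m _ (h.cj1 hu (inv_mem m)).1, (h.cj1 hu (inv_mem m)).2, adA.inv m,
      add_neg_cancel]
  obtain ⟨f, f1, f2, f3⟩ := desc (ψ := fun y u => w.aa (y * u * y⁻¹ * u⁻¹)) h.ad h.ad h.su h.su s2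
    (fun y hy x hx u hu => by beta_reduce; rw [s1 _ (mul_mem hx hu) _ hy, s1 _ hx _ hy, s1 _ hu _ hy]; exact s2 y hy x hx u hu) s3
    fun y hy u hu e => (s1 _ hu _ hy).trans (s3 u hu y hy e)
  have f4 : ∀ μ x y, f (w.cc (w.d μ) * x) (w.cc (w.d μ) * y) ^ 2 = w.cc (w.d μ) ^ 2 * f x y ^ 2 := fun μ x y => by
    obtain ⟨x, hx, rfl⟩ := h.su x
    obtain ⟨y, hy, rfl⟩ := h.su y
    rw [← h.bd μ hx, ← h.bd μ hy, f3 _ (h.dY μ hx) _ (h.dY μ hy), f3 _ hx _ hy, ← mul_pow, ← (dact μ (h.cm1 hx hy).1).2.2]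
    congr 2; group
  obtain ⟨μ, -, -, c1, c2⟩ := w.exists_h0
  have t := two σ
  have g1 : ∀ x x' y, f (x + x') y ^ 2 = f x y ^ 2 + f x' y ^ 2 := fun x x' y => by rw [f1]; linear_combination f x y * f x' y * t
  have := alt (g := fun x y => f x y ^ 2) c1 c2 g1 (fun x y y' => by rw [f2]; linear_combination f x y * f x y' * t)
    (eqv (w := w) (f := fun x y => f x y ^ 2) (χ := (· ^ 2)) g1 f4 fun _ _ => rfl) (fun x => by
      obtain ⟨x, hx, rfl⟩ := h.su x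
      rw [f3 _ hx _ hx]; simp [adA.one]) (f4 μ) (b y) (b u)
  rw [f3 _ hy _ hu] at this
  exact ⟨(h.cm1 hy hu).1, (mY1.1 (h.cm1 hy hu)).2, pow_eq_zero_iff two_ne_zero |>.1 this⟩

theorem cen (hy : y ∈ Y) (hp : p ∈ w.P0) : y * p * y⁻¹ = p := by rw [← h.cP hy p hp, mul_inv_cancel_right]

theorem sqP (hy : y ∈ Y) : y * y ∈ w.P0 := by
  have m := h.ker _ (mul_mem hy hy) (by rw [h.ad _ hy _ hy]; linear_combination b y * two σ)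
  refine ⟨m.1, (mY1.1 m).2, by_contra fun e => ?_⟩
  obtain ⟨x, hx⟩ := exists_bl e (map_one σ)
  obtain ⟨u, hu, rfl⟩ := h.su x
  have k := (h.tr u hu).xx h.hc m.1
  have k1 := P0sq h.hc (h.cmP hu hy)
  nth_rewrite 2 [← h.cen hy (h.cmP hu hy)] at k1
  rw [show u * (y * y) * u⁻¹ = u * y * u⁻¹ * y⁻¹ * (y * (u * y * u⁻¹ * y⁻¹) * y⁻¹) * (y * y) by group, k1, one_mul, (mY1.1 m).2, ce1] at k
  simp only [bl] at k hx
  exact one_ne_zero (show (1 : F) = 0 by linear_combination -hx - k)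

theorem ψ1 (hφ : Ad w.P0 φ) (hu : u ∈ Y) : Ad Y fun y => φ (y * u * y⁻¹ * u⁻¹) := fun x hx y hy => by
  beta_reduce
  rw [← h.cen hx (h.cmP hy hu), add_comm, h.cen hx (h.cmP hy hu), ← hφ _ (h.cmP hy hu) _ (h.cmP hx hu), ← h.cen hx (h.cmP hy hu)]
  congr 1; group

theorem ψs (hφ : Ad w.P0 φ) (hy : y ∈ Y) (hu : u ∈ Y) : φ (u * y * u⁻¹ * y⁻¹) = φ (y * u * y⁻¹ * u⁻¹) := by
  rw [← neg2 σ (φ (y * _ * _ * _)), ← hφ.inv (h.cmP hy hu)]; congr 1; group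

theorem ψ2 (hφ : Ad w.P0 φ) (hy : y ∈ Y) : Ad Y fun u => φ (y * u * y⁻¹ * u⁻¹) := fun x hx u hu => by
  beta_reduce
  rw [h.ψs hφ (mul_mem hx hu) hy, h.ψs hφ hx hy, h.ψs hφ hu hy]; exact h.ψ1 hφ hy x hx u hu

theorem ψ0 (hφ : Ad w.P0 φ) (hy : y ∈ Y) (hp : p ∈ w.P0) : φ (y * p * y⁻¹ * p⁻¹) = 0 := by rw [h.cen hy hp, mul_inv_cancel, hφ.one]

theorem sqm (hφ : Ad w.P0 φ) (hy : y ∈ Y) (hu : u ∈ Y) : φ (y * u * (y * u)) = φ (y * y) + φ (u * u) + φ (y * u * y⁻¹ * u⁻¹) := by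
  have := (h.ψ1 hφ hu).inv hy
  beta_reduce at this
  rw [show y * u * (y * u) = y * y * (y⁻¹ * u * y⁻¹⁻¹ * u⁻¹) * (u * u) by group,
    hφ _ (mul_mem (h.sqP hy) (h.cmP (inv_mem hy) hu)) _ (h.sqP hu), hφ _ (h.sqP hy) _ (h.cmP (inv_mem hy) hu), this, neg2 σ]
  ring

theorem exα : ∃ α, Ad Y α ∧ (∀ μ y, α (w.d μ * y * (w.d μ)⁻¹) = w.cc (w.d μ) * α y) ∧ ∀ s ∈ Y1 w, α s = w.aa s := by
  obtain ⟨a, a1, -, a3⟩ := extend P0Y1 h.le (fun y hy => h.sqP hy) adA fun y hy => hy.2.2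
  obtain ⟨α, k1, k2, k3, -⟩ := avg (σ := σ) (d := w.d) (χ := fun μ => w.cc (w.d μ)) (fun μ ν => by
    rw [map_mul, w.cc_mul (w.d_mem_D _).2 (w.d_mem_D _).2, (w.ct_d μ).2.1]; rfl) (fun μ => w.cc_ne _) (fun μ y hy => h.dY μ hy) a1
  exact ⟨α, k1, k2, fun s hs => by
    rw [k3 s fun μ => by rw [a3 _ (cjY1 (DS (w.d_mem_D μ)) (w.M_le_NP (w.D_le_M (w.d_mem_D μ))) hs), a3 s hs, (dact μ hs.1).2.2], a3 s hs]⟩

theorem exv : ∃ v, Ad w.P0 v ∧ (∀ μ y, v (w.d μ * y * (w.d μ)⁻¹) = nm σ (w.cc (w.d μ)) * v y) ∧ (∀ p ∈ w.P0, σ (v p) = v p) ∧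
    ∀ x, σ x = x → v (w.vv x) = x := by
  have : ∀ s, ∃ x, s ∈ w.V → σ x = x ∧ w.vv x = s := fun s => by
    by_cases hs : s ∈ w.V
    · exact (w.mem_V.1 hs).imp fun _ k _ => k
    · exact ⟨0, fun k => absurd k hs⟩
  choose a ha using this
  have a0 : ∀ x, σ x = x → a (w.vv x) = x := fun x hx =>
    w.vv_inj (ha _ (w.mem_V.2 ⟨x, hx, rfl⟩)).1 hx (ha _ (w.mem_V.2 ⟨x, hx, rfl⟩)).2
  have ad : Ad w.V a := fun x hx y hy => by
    rw [← a0 _ (show σ (a x + a y) = _ by rw [map_add, (ha x hx).1, (ha y hy).1]), w.vv_add (ha x hx).1 (ha y hy).1, (ha x hx).2, (ha y hy).2]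
  obtain ⟨c, a1, a2, a3⟩ := extend (Y := w.P0) bot_le (fun s hs => ⟨w.V_le hs, ((w.kerV s (w.V_le hs)).1 hs).1, ((w.kerV s (w.V_le hs)).1 hs).2.2⟩)
    (fun y hy => P0sq h.hc hy) ad fun y hy => by rw [mem_bot.1 hy, ad.one]
  obtain ⟨v, k1, k2, k3, k4⟩ := avg (σ := σ) (d := w.d) (χ := fun μ => nm σ (w.cc (w.d μ))) (fun μ ν => by
      rw [(w.ct_d _).2.2, (w.ct_d _).2.2, (w.ct_d _).2.2]; simp only [nm, Units.val_mul, map_mul]; ring)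
    (fun μ => mul_ne_zero ((map_ne_zero σ).2 (w.cc_ne _)) (w.cc_ne _)) (fun μ y hy => cjS (w.M_le_NP (w.D_le_M (w.d_mem_D μ))) hy) a1
  refine ⟨v, k1, k2, k4 (fun μ => nmK _) fun y hy => ?_, fun x hx => ?_⟩
  · obtain ⟨x, hx, e⟩ := a2 y hy
    rw [e, (ha x hx).1]
  · have a4 : ∀ x, σ x = x → c (w.vv x) = x := fun x hx => by rw [a3 _ (w.mem_V.2 ⟨x, hx, rfl⟩), a0 x hx]
    rw [k3 _ fun μ => by
      rw [w.conj_vv (w.d_mem_D μ).2 hx, (w.ct_d μ).2.1, RingAut.one_apply, a4 x hx, a4 _ (by rw [map_mul, nmK, hx])], a4 x hx]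

theorem dcm (hα : Ad Y α) (h1 : ∀ s ∈ Y1 w, α s = w.aa s) (hy : y ∈ Y) : ∃ x ∈ hα.ker, ∃ s ∈ Y1 w, y = x * s ∧ b x = b y ∧ w.aa s = α y := by
  obtain ⟨s, hs, e⟩ := suA (w := w) (α y)
  have m := inv_mem (h.le hs)
  exact ⟨y * s⁻¹, ⟨mul_mem hy m, by rw [hα _ hy _ m, hα.inv (h.le hs), h1 s hs, e, add_neg_cancel]⟩, s, hs, by group,
    by rw [h.ad _ hy _ m, h.b0 (inv_mem hs), add_zero], e⟩

theorem form (hα : Ad Y α) (h0 : ∀ μ y, α (w.d μ * y * (w.d μ)⁻¹) = w.cc (w.d μ) * α y) (h1 : ∀ s ∈ Y1 w, α s = w.aa s)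
    (hφ : Ad w.P0 φ) (h2 : ∀ μ, ∀ p ∈ w.P0, φ (w.d μ * p * (w.d μ)⁻¹) = nm σ (w.cc (w.d μ)) * φ p) (h3 : ∀ p ∈ w.P0, σ (φ p) = φ p) :
    ∃ κ η, σ κ = κ ∧ ∀ x ∈ hα.ker, φ (x * x) = κ * nm σ (b x) ∧ ∀ s ∈ Y1 w, φ (x * s * x⁻¹ * s⁻¹) = bl σ (η * b x) (w.aa s) := by
  have le : hα.ker ≤ Y := fun _ k => k.1
  have su : ∀ a, ∃ x ∈ hα.ker, b x = a := fun a => by
    obtain ⟨y, hy, rfl⟩ := h.su a
    obtain ⟨x, hx, -, -, -, e, -⟩ := h.dcm hα h1 hy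
    exact ⟨x, hx, e⟩
  have k0 : ∀ x ∈ hα.ker, b x = 0 → x ∈ w.P0 := fun x hx e => by
    have m := h.ker x hx.1 e
    exact ⟨m.1, (mY1.1 m).2, (h1 x m).symm.trans hx.2⟩
  have dX : ∀ μ, ∀ x ∈ hα.ker, w.d μ * x * (w.d μ)⁻¹ ∈ hα.ker := fun μ x hx => ⟨h.dY μ hx.1, by rw [h0, hx.2, mul_zero]⟩
  obtain ⟨μ0, -, -, c1, c2⟩ := w.exists_h0
  obtain ⟨q, hq⟩ := desc1 (φ := fun x => φ (x * x)) (h.ad.mono le) su fun y hy u hu e => by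
    rw [h.sqm hφ hy.1 hu.1, h.ψ0 hφ hy.1 (k0 u hu e), P0sq h.hc (k0 u hu e), hφ.one, add_zero, add_zero]
  obtain ⟨f, f1, f2, f3⟩ := desc (ψ := fun y u => φ (y * u * y⁻¹ * u⁻¹)) (h.ad.mono le) (h.ad.mono le) su su
    (fun u hu => (h.ψ1 hφ hu.1).mono le) (fun u hu => (h.ψ2 hφ hu.1).mono le)
    (fun y hy u hu e => (h.ψs hφ hu.1 hy.1).trans (h.ψ0 hφ hu.1 (k0 y hy e))) fun y hy u hu e => h.ψ0 hφ hy.1 (k0 u hu e)
  obtain ⟨g, g1, g2, g3⟩ := desc (ψ := fun y u => φ (y * u * y⁻¹ * u⁻¹)) (h.ad.mono le) adA su suA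
    (fun u hu => (h.ψ1 hφ (h.le hu)).mono le) (fun u hu => (h.ψ2 hφ hu.1).mono h.le)
    (fun y hy u hu e => (h.ψs hφ (h.le hu) hy.1).trans (h.ψ0 hφ (h.le hu) (k0 y hy e)))
    fun y hy u hu e => h.ψ0 hφ hy.1 ⟨hu.1, (mY1.1 hu).2, e⟩
  have q4 : ∀ x, σ (q x) = q x := fun x => by
    obtain ⟨x, hx, rfl⟩ := su x
    rw [hq x hx, h3 _ (h.sqP hx.1)]
  have q3 : ∀ μ x, q (w.cc (w.d μ) * x) = nm σ (w.cc (w.d μ)) * q x := fun μ x => by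
    obtain ⟨x, hx, rfl⟩ := su x
    rw [← h.bd μ hx.1, hq _ (dX μ x hx), hq x hx, conj_mul, h2 μ _ (h.sqP hx.1)]
  have q0 : ∀ x y, q (x + y) = q x + q y + f x y := fun x y => by
    obtain ⟨x, hx, rfl⟩ := su x
    obtain ⟨y, hy, rfl⟩ := su y
    rw [← h.ad x hx.1 y hy.1, hq _ (mul_mem hx hy), hq x hx, hq y hy, f3 x hx y hy, h.sqm hφ hx.1 hy.1]
  have g4 : ∀ μ x y, g (w.cc (w.d μ) * x) (w.cc (w.d μ) * y) = nm σ (w.cc (w.d μ)) * g x y := fun μ x y => by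
    obtain ⟨x, hx, rfl⟩ := su x
    obtain ⟨y, hy, rfl⟩ := suA (w := w) y
    rw [← h.bd μ hx.1, ← (dact μ hy.1).2.2, g3 _ (dX μ x hx) _ (cjY1 (DS (w.d_mem_D μ)) (w.M_le_NP (w.D_le_M (w.d_mem_D μ))) hy), g3 x hx y hy,
      ← h2 μ _ (h.cmP hx.1 (h.le hy))]
    congr 1; group
  obtain ⟨η, hη⟩ := bil c1 c2 g1 g2 (eqv g1 g4 nmK2) (fun x y => by
    obtain ⟨x, hx, rfl⟩ := su x
    obtain ⟨y, hy, rfl⟩ := suA (w := w) y
    rw [g3 x hx y hy, h3 _ (h.cmP hx.1 (h.le hy))]) fun x y => by rw [g4, c2, one_mul]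
  refine ⟨q 1, η, q4 1, fun x hx => ⟨?_, fun s hs => by rw [← hη, g3 x hx s hs]⟩⟩
  rw [← hq x hx]
  refine quad c1 c2 f1 f2 q0 (fun l hl x => ?_) q4 (fun x => by rw [q3, c2, one_mul]) _
  by_cases l0 : l = 0
  · have := q0 0 0
    have f0 := f1 0 0 0
    rw [add_zero] at this f0
    rw [l0, zero_mul]
    linear_combination -this + f0
  · simpa only [w.cc_d_K (μ := Units.mk0 l l0) hl, Units.val_mk0, nmK2 l hl] using q3 (Units.mk0 l l0) x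

theorem ED (he : e ∈ w.E) : e ∈ w.D := w.T_le_D (w.T1_le_T (mem_sup_left he))

theorem eact (hα : Ad Y α) (h1 : ∀ s ∈ Y1 w, α s = w.aa s) (he : e ∈ w.E) (hy : y ∈ Y) :
    b (e * y * e⁻¹) = b y ∧ α (e * y * e⁻¹) = α y + w.ce e * b y := by
  have m := cjS (h.DN (h.ED he)) hy
  have k : b (e * y * e⁻¹) = b y := by
    simpa [(w.ct_S (w.ES he)).1, (w.ct_S (w.ES he)).2] using (h.tr _ m).uniq ((h.tr y hy).cjD (h.ED he))
  have m1 := h.ker _ (mul_mem (inv_mem hy) m) (by rw [h.ad _ (inv_mem hy) _ m, k, h.ad.inv hy, neg_add_cancel])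
  have k1 := (h.tr y hy).inv
  have k2 := h1 _ m1
  rw [hα _ (inv_mem hy) _ m, hα.inv hy, show y⁻¹ * (e * y * e⁻¹) = y⁻¹ * e * y⁻¹⁻¹ * e⁻¹ by group,
    w.aa_mul _ (cjS k1.1 (w.ES he)) _ (w.ES (inv_mem he)), (k1.2 e (w.ES he)).2, (w.on_E e he).1, (w.on_E e he).2.2,
    (w.on_E _ (inv_mem he)).2.2] at k2
  exact ⟨k, by linear_combination k2⟩

/-- the coordinates -/
theorem coord : ∃ (α v : G → F) (κ η : F), Ad Y α ∧ (∀ s ∈ Y1 w, α s = w.aa s) ∧ Ad w.P0 v ∧ (∀ p ∈ w.P0, σ (v p) = v p) ∧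
    (∀ x, σ x = x → v (w.vv x) = x) ∧ σ η = η ∧ ∀ y ∈ Y, w.xx (y * y) = κ * nm σ (b y) + bl σ (b y) (α y) ∧
      v (y * y) = η * nm σ (b y) + nm σ (α y) := by
  obtain ⟨α, a1, a2, a3⟩ := h.exα
  obtain ⟨v, v1, v2, v3, v4⟩ := h.exv
  have x1 : Ad w.P0 w.xx := Ad.mono w.xx_mul fun _ hp => hp.1
  obtain ⟨κ, η0, -, k⟩ := h.form a1 a2 a3 x1 (fun μ p hp => (dact μ hp.1).2.1) fun p hp => w.xxK p hp.1
  obtain ⟨κ', η, k1, k'⟩ := h.form a1 a2 a3 v1 (fun μ p _ => v2 μ p) v3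
  have t := two σ
  refine ⟨fun y => α y + η * b y, v, κ + η + σ η, κ' + nm σ η, fun x hx y hy => by beta_reduce; rw [a1 x hx y hy, h.ad x hx y hy]; ring,
    fun s hs => by beta_reduce; rw [a3 s hs, h.b0 hs, mul_zero, add_zero], v1, v3, v4, by rw [map_add, k1, nmK], fun y hy => ?_⟩
  obtain ⟨x, hx, s, hs, e, e1, e2⟩ := h.dcm a1 a3 hy
  have e3 : s * s = w.vv (nm σ (α y)) := by rw [w.sq s hs.1, (mY1.1 hs).2, ce1, h.hc, e2]; simp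
  have e4 := (h.tr x hx.1).xx h.hc hs.1
  have e5 := w.xx_mul _ (cjS (h.tr x hx.1).1 hs.1) _ (inv_mem hs.1)
  rw [e4, Ad.inv (Y := w.S) w.xx_mul hs.1, (mY1.1 hs).2, ce1, e1, e2] at e5
  beta_reduce
  rw [show y * y = x * s * (x * s) by rw [e]]
  have m := w.mem_V.2 ⟨_, nmK (α y), rfl⟩
  rw [h.sqm x1 hx.1 (h.le hs), h.sqm v1 hx.1 (h.le hs), (k x hx).1, (k' x hx).1, (k' x hx).2 s hs, e5, e1, e2, e3, v4 _ (nmK _),
    ((w.kerV _ (w.V_le m)).1 m).2.1]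
  simp only [nm, bl, map_add, map_mul]
  exact ⟨by linear_combination -((η + σ η) * σ (b y) * b y) * t, by linear_combination -(σ η * η * σ (b y) * b y) * t⟩

theorem six : ∃ t Y W a₁ a₂, w.Six t Y W a₁ a₂ := by
  obtain ⟨α, v, κ, η, a1, a2, v1, v2, v3, hη, k⟩ := h.coord
  have t2 := two σ
  have x1 : Ad w.P0 w.xx := Ad.mono w.xx_mul fun _ hp => hp.1
  have kc : ∀ e ∈ w.E, e ≠ 1 → w.ce e = κ := fun e he e1 => by
    obtain ⟨y, hy, y1⟩ := h.su 1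
    have p := h.sqP hy
    have c1 := w.cm e (w.ES he) _ p.1
    obtain ⟨o1, o2, o3⟩ := w.on_E e he
    rw [o1, o2, o3, p.2.1, p.2.2, mul_inv_eq_iff_eq_mul] at c1
    simp only [bl, map_zero, mul_zero, add_zero] at c1
    have cK : σ (w.ce e * w.xx (y * y)) = w.ce e * w.xx (y * y) := by rw [map_mul, w.ceK e he, w.xxK _ p.1]
    have m := w.mem_V.2 ⟨_, cK, rfl⟩
    have c2 := (k _ (cjS (h.DN (h.ED he)) hy)).2
    rw [conj_mul, c1, v1 _ ⟨w.V_le m, ((w.kerV _ (w.V_le m)).1 m).1, ((w.kerV _ (w.V_le m)).1 m).2.2⟩ _ p, v3 _ cK, (k y hy).1, (k y hy).2,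
      (h.eact a1 a2 he hy).1, (h.eact a1 a2 he hy).2, y1] at c2
    simp only [nm, bl, map_add, map_mul, map_one, w.ceK e he] at c2
    exact mul_left_cancel₀ (fun c => e1 (w.ce_inj e he c)) (by linear_combination -c2)
  obtain ⟨t, ht, t1⟩ := exE w
  have c0 : κ ≠ 0 := fun c => t1 (w.ce_inj t ht ((kc t ht t1).trans c))
  have cK : σ κ = κ := kc t ht t1 ▸ w.ceK t ht
  have ti : t⁻¹ = t := inv_eq_of_mul_eq_one_right (w.E_sq t ht)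
  obtain ⟨l0, l1, l2⟩ := root (x := η / κ ^ 2) (by rw [map_div₀, map_pow, hη, cK])
  obtain ⟨l, l3, l4⟩ : ∃ l, l ^ 2 + κ * l = η ∧ (σ l = l ∨ σ l = l + κ) :=
    ⟨κ * l0, by rw [← div_mul_cancel₀ η (pow_ne_zero 2 c0), ← l1]; ring, l2.imp (fun e => by rw [map_mul, cK, e]) fun e => by
      rw [map_mul, cK, e]; ring⟩
  have inj : ∀ x ∈ w.P0, v x + l * w.xx x = 0 → v x + (l + κ) * w.xx x = 0 → x = 1 := fun x hx e1 e2 => by
    have e3 : w.xx x = 0 := (mul_eq_zero.1 (show κ * w.xx x = 0 by linear_combination e2 - e1)).resolve_left c0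
    obtain ⟨z, hz, rfl⟩ := w.mem_V.1 ((w.kerV x hx.1).2 ⟨hx.2.1, e3, hx.2.2⟩)
    rw [e3, v3 z hz, mul_zero, add_zero] at e1
    rw [e1, w.vv_zero]
  have b0 : ∀ {x y : F}, x + l * y = x + (l + κ) * y → y = 0 := fun e => (mul_eq_zero.1 (by linear_combination -e)).resolve_left c0
  refine ⟨t, Y, w.P0, fun y => α y + l * b y, fun y => α y + (l + κ) * b y, ⟨ht, t1, fun e he => or_iff_not_imp_left.2 fun e1 => ?_⟩, h.pg,
    P0Y1.trans h.le, fun p hp y hy => h.cP hy p hp, fun p hp => P0sq h.hc hp, w.card_P0, w.T_le_D.trans h.DN,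
    fun x hx y hy => by rw [a1 x hx y hy, h.ad x hx y hy]; ring, fun x hx y hy => by rw [a1 x hx y hy, h.ad x hx y hy]; ring,
    fun y hy => ⟨fun k => by simp [a2 y (P0Y1 k), h.b0 (P0Y1 k), k.2.2], fun ⟨e1, e2⟩ => ?_⟩, fun x y => ?_, fun u => h.le (jY1 u),
    fun u => by simp [a2 _ (jY1 u), h.b0 (jY1 u), (w.on_j u).2.2], fun u => by simp [a2 _ (jY1 u), h.b0 (jY1 u), (w.on_j u).2.2],
    fun y hy e => ?_, fun y hy => ?_, l4.imp (fun e => ⟨fun x => v x + l * w.xx x, fun x => v x + (l + κ) * w.xx x, fun x hx y hy => ?_,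
      fun x hx => by simp [v2 x hx, w.xxK x hx.1, e, cK], inj, fun y hy => ?_⟩)
      fun e => ⟨fun x => v x + l * w.xx x, fun x hx y hy => ?_, fun x hx e1 => inj x hx e1 ?_, fun y hy => ?_⟩⟩
  · rw [← mul_left_inj t, w.E_sq t ht]
    exact w.ce_inj _ (mul_mem he ht) (by rw [w.ce_mul e he t ht, kc e he e1, kc t ht t1]; linear_combination κ * t2)
  · have e3 := b0 (e1.trans e2.symm)
    have m := h.ker y hy e3
    rw [e3, a2 y m, mul_zero, add_zero] at e1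
    exact ⟨m.1, (mY1.1 m).2, e1⟩
  · obtain ⟨z, hz, e⟩ := h.su ((x + y) / κ)
    obtain ⟨s, hs, e1⟩ := suA (w := w) (x + l * b z + α z)
    refine ⟨z * s, mul_mem hz (h.le hs), ?_⟩
    rw [a1 z hz s (h.le hs), h.ad z hz s (h.le hs), a2 s hs, h.b0 hs, e1]
    rw [eq_div_iff c0] at e
    exact ⟨by linear_combination (α z + l * b z) * t2, by linear_combination e + (α z + l * b z + x) * t2⟩
  · have e1 := (h.eact a1 a2 ht hy).2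
    rw [← e, mul_inv_cancel_right, left_eq_add, kc t ht t1] at e1
    have m := h.ker y hy ((mul_eq_zero.1 e1).resolve_left c0)
    have c1 := w.cm t (w.ES ht) _ m.1
    obtain ⟨o1, o2, o3⟩ := w.on_E t ht
    rw [o1, o2, o3, ← e, kc t ht t1, mul_inv_cancel_right, mul_inv_cancel, ← w.vv_zero] at c1
    simp only [bl, map_zero, mul_zero, zero_mul, add_zero] at c1
    exact w.mem_Q.2 ⟨m.1, (mY1.1 m).2, (mul_eq_zero.1 (w.vv_inj (map_zero σ) (by rw [map_mul, cK, w.xxK y m.1]) c1).symm).resolve_left c0⟩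
  · have := h.eact a1 a2 ht hy
    rw [ti, kc t ht t1] at this
    rw [this.1, this.2]; ring
  · beta_reduce; rw [v1 x hx y hy, x1 x hx y hy]; exact ⟨by ring, by ring⟩
  · beta_reduce; rw [(k y hy).1, (k y hy).2, ← l3]
    simp only [nm, bl, map_add, map_mul, e, cK]
    exact ⟨by linear_combination (κ * l * σ (b y) * b y) * t2, by ring⟩
  · beta_reduce; rw [v1 x hx y hy, x1 x hx y hy]; ring
  · simpa [v2 x hx, w.xxK x hx.1, e] using congrArg σ e1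
  · beta_reduce; rw [(k y hy).1, (k y hy).2, ← l3]
    simp only [nm, bl, map_add, map_mul, e, cK]
    linear_combination -(κ * σ (b y) * α y) * t2

end St

end X4

variable {F : Type*} [Field F] [Finite F] {σ : F →+* F} [Ctx σ] {G : Type*} [Group G] [Finite G]

theorem Two.exists_six (w : Two σ G) (hc : w.c = 0) {g : G} (hg : g ∈ normalizer (w.S : Set G))
    (hP : g ∈ normalizer (w.P0 : Set G)) (hA : cj g w.A ≠ w.A) :
    ∃ t Y W a₁ a₂, w.Six t Y W a₁ a₂ := by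
  obtain ⟨k, β, h0, h⟩ := X4.exB hc hg hP hA
  obtain ⟨Y, b, h⟩ := X4.exSt hc (h.surj h0)
  exact h.six

end Cfsg.Agent.WA.Lk
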