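import Cfsg.Agent.WA.Lk3b2

/-! The storey of order `q ^ 6`: transfer. -/

set_option autoImplicit false
set_option linter.unusedSectionVars false

namespace Cfsg.Agent.WA.Lk

open Subgroup Cfsg.Agent.H1.U3 Cfsg.Agent.H8 X1

variable {F : Type*} [Field F] [Finite F] {σ : F →+* F} [Ctx σ] {G : Type*} [Group G] [Finite G]

namespace X3b

variable {f : Fr σ G} {t : G} {Y W : Subgroup G} {a₁ a₂ : G → F} (h : f.Six t Y W a₁ a₂)
include h

theorem W_fix {R W' : Subgroup G} (hR : IsPGroup 2 R) (hN : R ≤ normalizer (Y : Set G)) (hT : f.T ≤ R) (hY : Y ≤ R)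
    (hK : W' ≤ R) (hn : R ≤ normalizer (W' : Set G)) (h2 : ∀ x ∈ W', x * x = 1) (hc : Nat.card W' = Nat.card W) :
    W' = W := by
  have a : ∀ y ∈ W', y ∈ Y → y ∈ W := fun y hy hyY => by
    rcases cases h with ⟨v₁, v₂, k⟩ | ⟨v, k⟩
    · have := k.sq y hyY
      rw [h2 y hy, add_one fun x hx y hy => (k.mul x hx y hy).1, add_one fun x hx y hy => (k.mul x hx y hy).2] at this
      exact (h.ker y hyY).2 ⟨nm0.1 this.1.symm, nm0.1 this.2.symm⟩
    · by_contra hn'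
      refine hn' ((eq_of_le_of_card_ge (H := W) (fun w hw => ?_) hc.le).ge hy)
      obtain ⟨x, hx, rfl⟩ := k.cm_surj h hyY hn' hw
      exact mul_mem (inv_mem hy) ((mem_normalizer_iff.1 (hn (hY hx)) y).1 hy)
  refine eq_of_le_of_card_ge (fun y hy => a y hy ?_) hc.ge
  revert y
  by_contra hle
  obtain ⟨y, hy, x, hx, hz, hxY⟩ := cent h hR hN hT hY hK hn hle
  have key : ∀ p ∈ Y, a₁ (x * p * x⁻¹) = a₁ p := fun p hp => by
    have h1 := cjY (hN (hK hz)) hp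
    have := a_W h (a _ (by
      rw [show p⁻¹ * (y * x * p * (y * x)⁻¹) = p⁻¹ * (y * x) * p⁻¹⁻¹ * (y * x)⁻¹ by group]
      exact mul_mem ((mem_normalizer_iff.1 (hn (hY (inv_mem hp))) _).1 hz) (inv_mem hz)) (mul_mem (inv_mem hp) h1))
    rw [h.a₁_mul _ (inv_mem hp) _ h1, a_inv h hp, a_mul_conj h hy (h.TN hx) hp] at this
    exact ((add0 σ).1 this).symm
  have e := (f.ct_unique (g := x) (c := 1) (τ := 1) fun u => by
    have := key _ (h.jY u)
    rw [f.conj_j (f.T_N hx), h.a₁_j, h.a₁_j] at this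
    rw [this, one_mul]; rfl).2
  obtain ⟨p, hp, p1, p2⟩ := h.surj 1 0
  exact one_ne_zero (p1.symm.trans ((key p hp).symm.trans ((tri h hx e hxY hp).trans p2)))

theorem noinv {z : G} (hz : z ∈ Y) (L : G → Prop) (h1 : ∀ p, L p → p ∈ Y ∧ z * p * z⁻¹ = p⁻¹)
    (h2 : ∀ p p', L p → L p' → L (p * p')) (h3 : ∀ w ∈ W, ∃ p, L p ∧ p * p = w) : False := by
  obtain ⟨l, hl, l0, l1, -⟩ := f.exists_K 1 1
  have sq : ∀ p, L p → z * p * (z * p) = z * z := fun p hp => by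
    calc z * p * (z * p) = z * p * (z * p * z⁻¹) * z := by group
      _ = _ := by rw [(h1 p hp).2]; group
  refine l1 (mul_left_cancel₀ l0 (Eq.trans ?_ (mul_one l).symm))
  rcases cases h with ⟨v₁, v₂, k⟩ | ⟨v, k⟩
  · have e : ∀ p, L p → nm σ (a₁ z + a₁ p) = nm σ (a₁ z) := fun p hp => by
      rw [← h.a₁_mul z hz p (h1 p hp).1, ← (k.sq _ (mul_mem hz (h1 p hp).1)).1, sq p hp, (k.sq z hz).1]
    have ex : ∀ x, σ x = x → ∃ p, L p ∧ nm σ (a₁ p) = x := fun x hx => by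
      obtain ⟨a, rfl⟩ := exists_nm hx
      obtain ⟨y, hy, rfl, -⟩ := h.surj a 0
      obtain ⟨p, hp, e⟩ := h3 _ (sqW h hy)
      exact ⟨p, hp, by rw [← (k.sq p (h1 p hp).1).1, e, (k.sq y hy).1]⟩
    obtain ⟨p, hp, e1⟩ := ex 1 (map_one σ)
    obtain ⟨p', hp', e2⟩ := ex l hl
    exact alg1 e1 e2 (e p hp) (e p' hp') (h.a₁_mul p (h1 p hp).1 p' (h1 p' hp').1 ▸ e _ (h2 p p' hp hp'))
  · have e : ∀ p, L p → (a₁ z + a₁ p) * (σ (a₂ z) + σ (a₂ p)) = a₁ z * σ (a₂ z) := fun p hp => by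
      rw [← map_add, ← h.a₁_mul z hz p (h1 p hp).1, ← h.a₂_mul z hz p (h1 p hp).1, ← k.sq _ (mul_mem hz (h1 p hp).1),
        sq p hp, k.sq z hz]
    have ex : ∀ x, ∃ p, L p ∧ a₁ p * σ (a₂ p) = x := fun x => by
      obtain ⟨y, hy, rfl, y2⟩ := h.surj x 1
      obtain ⟨p, hp, e⟩ := h3 _ (sqW h hy)
      exact ⟨p, hp, by rw [← k.sq p (h1 p hp).1, e, k.sq y hy, y2, map_one, mul_one]⟩
    obtain ⟨p, hp, e1⟩ := ex 1
    obtain ⟨p', hp', e2⟩ := ex l
    have e3 := e _ (h2 p p' hp hp')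
    rw [h.a₁_mul p (h1 p hp).1 p' (h1 p' hp').1, h.a₂_mul p (h1 p hp).1 p' (h1 p' hp').1, map_add] at e3
    exact alg2 σ e1 e2 (e p hp) (e p' hp') e3

theorem fill {x : G} (hx : x ∈ f.T) (hxY : x ∉ Y) (x2 : x * x ∈ Y) (hc : ∀ w ∈ W, x * w * x⁻¹ = w) {w : G}
    (hw : w ∈ W) : ∃ r ∈ Y, r * (x * r * x⁻¹) * (r * (x * r * x⁻¹)) = w := by
  have hN := h.TN hx
  have hQ := f.T_N hx
  obtain ⟨u, hu⟩ := h.CY _ x2 ((f.mem_C h.tE h.t1).1 (f.T_syl.le (mul_mem hx hx)))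
  have sq : ∀ p ∈ Y, x * p * x⁻¹ * (x * p * x⁻¹) = p * p := fun p hp => by rw [← hc _ (sqW h hp)]; group
  have ct := f.ct_j u
  rw [hu] at ct
  obtain ⟨l, hl⟩ := ex_nK σ
  have s1 : ∀ r ∈ Y, a₁ (r * (x * r * x⁻¹)) = a₁ r + a₁ (x * r * x⁻¹) := fun r hr => h.a₁_mul _ hr _ (cjY hN hr)
  have s2 : ∀ r ∈ Y, a₂ (r * (x * r * x⁻¹)) = a₂ r + a₂ (x * r * x⁻¹) := fun r hr => h.a₂_mul _ hr _ (cjY hN hr)
  rcases cases h with ⟨v₁, v₂, k⟩ | ⟨v, k⟩
  · obtain ⟨p, hp, p1, p2⟩ := h.surj 1 0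
    have e := (k.sq _ (cjY hN hp)).1
    rw [sq p hp, (k.sq p hp).1, p1, nm_one] at e
    have m := (pair h hN).resolve_right fun m => by
      rw [m.2 p hp p2, nm_zero] at e; exact one_ne_zero e
    rcases f.tt_cases hQ ct.2 with c | c
    · rw [tri h hx c hxY hp, p2, nm_zero] at e; exact absurd e one_ne_zero
    obtain ⟨a₀, a0, f1, f2⟩ := exists_fix (f.nm_cc_of_sig hQ c ct.1).1
    have n0 : nm σ a₀ ≠ 0 := fun e => a0 (nm0.1 e)
    have ex : ∀ y, σ y = y → ∃ b, nm σ (b + f.cc x * σ b) = y := fun y hy => by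
      obtain ⟨s, hs, e⟩ := exists_sqrt (σ := σ) (x := y / nm σ a₀) (by rw [map_div₀, hy, nmK])
      obtain ⟨b, hb⟩ := f2 _ ((f1 _).2 ⟨s, hs, rfl⟩)
      exact ⟨b, by rw [hb, nm_mul, nm_K hs, e, div_mul_cancel₀ _ n0]⟩
    obtain ⟨a, ha⟩ := ex _ (k.fix w hw).1
    obtain ⟨b, hb⟩ := ex _ (k.fix w hw).2
    obtain ⟨r, hr, rfl, rfl⟩ := h.surj a b
    have hr' := mul_mem hr (cjY hN hr)
    exact ⟨r, hr, k.ext (sqW h hr') hw (by rw [(k.sq _ hr').1, s1 r hr, act1 h hx m.1 hr, c, sigAut_apply, ha])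
      (by rw [(k.sq _ hr').2, s2 r hr, act1 (symm h) hx m.2 hr, c, sigAut_apply, hb])⟩
  · obtain ⟨p, hp, p1, p2⟩ := h.surj l 1
    have e := k.sq _ (cjY hN hp)
    rw [sq p hp, k.sq p hp, p1, p2, map_one, mul_one] at e
    rcases f.tt_cases hQ ct.2 with c | c
    · rw [tri h hx c hxY hp, tri (symm h) hx c hxY hp, p1, p2, one_mul] at e; exact absurd e.symm hl
    have n1 : σ (f.cc x) * f.cc x = 1 := (f.nm_cc_of_sig hQ c ct.1).1
    have m := (pair h hN).resolve_left fun m => by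
      rw [act1 h hx m.1 hp, act1 (symm h) hx m.2 hp, c, p1, p2, map_one, mul_one, sigAut_apply] at e
      exact hl (by linear_combination -e - σ l * n1)
    haveI := charP_two σ
    obtain ⟨a, ha⟩ := FiniteField.isSquare_of_char_two (ringChar.eq F 2) (f.cc x * v w)
    obtain ⟨r, hr, rfl, r2⟩ := h.surj a 0
    have hr' := mul_mem hr (cjY hN hr)
    refine ⟨r, hr, k.ext (sqW h hr') hw ?_⟩
    rw [k.sq _ hr', s1 r hr, s2 r hr, m.2 r hr r2, act2 (symm h) hx m.1 hr, c, sigAut_apply, r2, add_zero, zero_add,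
      map_mul, invol]
    linear_combination -σ (f.cc x) * ha + v w * n1

theorem Y_fix {R : Subgroup G} (hR : IsPGroup 2 R) (hN : R ≤ normalizer (Y : Set G)) (hT : f.T ≤ R) (hY : Y ≤ R)
    {g : G} (hg : g ∈ normalizer (R : Set G)) : g ∈ normalizer (Y : Set G) := by
  have hW : cj g W = W := W_fix h hR hN hT hY (cj_le_of_mem_normalizer hg (h.WY.trans hY))
    (le_normalizer_cj (hN.trans (NY_le h)) hg) (cj_sq h.Wsq g) (card_cj g W)
  have mW : ∀ {w}, w ∈ W ↔ g⁻¹ * w * g ∈ W := by intro w; rw [← mem_cj, hW]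
  by_contra hn
  have hK := le_normalizer_cj hN hg
  obtain ⟨y, hy, x, hx, hz, hxY⟩ := cent h hR hN hT hY (cj_le_of_mem_normalizer hg hY) hK
    fun e => hn (mem_normalizer_of_cj_le e)
  have hxN := h.TN hx
  obtain ⟨z, hzd⟩ : ∃ z, z = y * x := ⟨_, rfl⟩
  have zN : z ∈ normalizer (Y : Set G) := hzd ▸ mul_mem (le_normalizer hy) hxN
  rw [← hzd] at hz
  have z0 := mem_cj.1 hz
  have zc : ∀ w ∈ W, z * w * z⁻¹ = w := fun w hw => by
    calc z * w * z⁻¹ = g * (g⁻¹ * z * g * (g⁻¹ * w * g)) * g⁻¹ * z⁻¹ := by group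
      _ = w := by rw [← h.Wc _ (mW.1 hw) _ z0]; group
  have z2 : z * z ∈ W := mW.2 (by have := sqW h z0; convert this using 1; group)
  have xc : ∀ w ∈ W, x * w * x⁻¹ = w := fun w hw => by
    calc x * w * x⁻¹ = y⁻¹ * (z * w * z⁻¹) * y := by rw [hzd]; group
      _ = w := by rw [zc w hw, mul_assoc, h.Wc w hw y hy]; group
  have x2 : x * x ∈ Y := by
    have := mul_mem (inv_mem (mul_mem hy (cjY hxN hy))) (h.WY z2)
    rwa [hzd, show (y * (x * y * x⁻¹))⁻¹ * (y * x * (y * x)) = x * x by group] at this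
  refine noinv h z0 (fun p => ∃ r ∈ Y, ∃ w ∈ W, g * p * g⁻¹ = r * (z * r * z⁻¹) * w) ?_ ?_ fun w hw => ?_
  · rintro p ⟨r, hr, w, hw, e⟩
    have hr' := cjY zN hr
    refine ⟨?_, ?_⟩
    · have : r * (z * r * z⁻¹) * w ∈ cj g Y := by
        rw [show r * (z * r * z⁻¹) * w = r * r * (r⁻¹ * z * r⁻¹⁻¹ * z⁻¹) * w by group]
        exact mul_mem (mul_mem (cj_mono g h.WY (hW.ge (sqW h hr))) (mul_mem
          ((mem_normalizer_iff.1 (hK (hY (inv_mem hr))) _).1 hz) (inv_mem hz))) (cj_mono g h.WY (hW.ge hw))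
      rw [← e, mem_cj] at this
      convert this using 1; group
    · have e1 : z * (z * r * z⁻¹) * z⁻¹ = r := by
        calc z * (z * r * z⁻¹) * z⁻¹ = z * z * r * (z * z)⁻¹ := by group
          _ = r := by rw [h.Wc _ z2 r hr]; group
      have e2 : z * r * z⁻¹ * (z * r * z⁻¹) = r * r := by rw [← zc _ (sqW h hr)]; group
      have e3 : z * (g * p * g⁻¹) * z⁻¹ * (g * p * g⁻¹) = 1 := by
        rw [e]
        generalize hs : z * r * z⁻¹ = s at *
        calc z * (r * s * w) * z⁻¹ * (r * s * w) = (z * r * z⁻¹) * (z * s * z⁻¹) * ((z * w * z⁻¹) * (r * s)) * w := by group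
          _ = s * (r * r * s) * (w * w) := by rw [hs, e1, zc w hw, h.Wc w hw _ (mul_mem hr hr')]; group
          _ = 1 := by
            rw [h.Wc _ (sqW h hr) s hr', ← mul_assoc s s, e2, h.Wsq _ (sqW h hr), h.Wsq w hw, mul_one]
      refine eq_inv_of_mul_eq_one_left ?_
      calc _ = g⁻¹ * (z * (g * p * g⁻¹) * z⁻¹ * (g * p * g⁻¹)) * g := by group
        _ = 1 := by rw [e3]; group
  · rintro p p' ⟨r, hr, w, hw, e⟩ ⟨r', hr', w', hw', e'⟩
    have c := cmW h (cjY zN hr) (inv_mem hr')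
    refine ⟨r * r', mul_mem hr hr', _, mul_mem (mul_mem c hw) hw', ?_⟩
    calc g * (p * p') * g⁻¹ = g * p * g⁻¹ * (g * p' * g⁻¹) := by group
      _ = r * (z * r * z⁻¹) * (w * (r' * (z * r' * z⁻¹))) * w' := by rw [e, e']; group
      _ = r * r' * (z * r * z⁻¹) * ((z * r * z⁻¹)⁻¹ * (r'⁻¹ * (z * r * z⁻¹) * r'⁻¹⁻¹) * (z * r' * z⁻¹)) * w * w' := by
        rw [h.Wc w hw _ (mul_mem hr' (cjY zN hr'))]; group
      _ = _ := by rw [h.Wc _ c _ (cjY zN hr')]; group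
  · have hw' : g * w * g⁻¹ ∈ W := mW.2 (by convert hw using 1; group)
    obtain ⟨r, hr, e⟩ := fill h hx hxY x2 xc hw'
    have h1 := cjY zN hr
    have h2 := cjY hxN hr
    have c := divW h h1 h2 (by rw [hzd, a_mul_conj h hy hxN hr]) (by rw [hzd, a_mul_conj (symm h) hy hxN hr])
    refine ⟨g⁻¹ * (r * (x * r * x⁻¹)) * g, ⟨r, hr, _, c, by group⟩, ?_⟩
    calc _ = g⁻¹ * (r * (x * r * x⁻¹) * (r * (x * r * x⁻¹))) * g := by group
      _ = w := by rw [e]; group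

theorem big {s : G} (hs : f.TC s) (s2 : s * s = 1) {B : Subgroup G} (h2 : ∀ x ∈ B, x * x = 1)
    (hc : ∀ x ∈ B, x * s = s * x) (hn : s ∉ B) : Nat.card B ≤ 2 * f.q := by
  let X : Subgroup G :=
    { carrier := {x | x ∈ B ∨ s * x ∈ B}
      one_mem' := Or.inl B.one_mem
      mul_mem' := by
        rintro a b (ha | ha) (hb | hb)
        · exact Or.inl (mul_mem ha hb)
        · exact Or.inr (by rw [← mul_assoc, ← hc a ha, mul_assoc]; exact mul_mem ha hb)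
        · exact Or.inr (by rw [← mul_assoc]; exact mul_mem ha hb)
        · refine Or.inl ?_
          have := mul_mem ha hb
          rwa [← mul_assoc, hc _ ha, ← mul_assoc, s2, one_mul] at this
      inv_mem' := by
        rintro a (ha | ha)
        · exact Or.inl (inv_mem ha)
        · refine Or.inr ?_
          have := hc _ (inv_mem ha)
          rw [mul_inv_rev, inv_eq_of_mul_eq_one_right s2, mul_assoc, s2, mul_one] at this
          rw [show s * a⁻¹ = (s * a)⁻¹ by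
            rw [mul_inv_rev, inv_eq_of_mul_eq_one_right s2]; nth_rw 2 [this]; rw [mul_assoc, mul_assoc, s2, mul_one]]
          exact inv_mem ha }
  have h3 := f.rank_le hs (X := X) (by
    rintro x (hx | hx)
    · exact h2 x hx
    · have e1 := hc _ hx
      have e2 := h2 _ hx
      rwa [← mul_assoc, e1, ← mul_assoc, s2, one_mul] at e2) (by
    rintro x (hx | hx)
    · exact mem_centralizer_singleton_iff.2 (hc x hx)
    · exact mem_centralizer_singleton_iff.2 (mul_left_cancel (a := s) (by rw [← mul_assoc]; exact hc _ hx)))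
  have hle : B ≤ X := fun x hx => Or.inl hx
  obtain ⟨c, hc'⟩ := card_dvd_of_le hle
  have hne : c ≠ 1 := fun e => hn ((eq_of_le_of_card_ge hle (by rw [hc', e, mul_one])).ge (Or.inr (s2 ▸ B.one_mem)))
  have hpos : c ≠ 0 := fun e => by rw [e, mul_zero] at hc'; exact Nat.card_pos.ne' hc'
  rw [f.inv_iff.2 ⟨t, h.toInv⟩, hc'] at h3
  have : Nat.card B * 2 ≤ Nat.card B * c := Nat.mul_le_mul_left _ (by omega)
  omega

/-- the kernel of a coordinate -/
def ker1 : Subgroup G where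
  carrier := {y | y ∈ Y ∧ a₁ y = 0}
  one_mem' := ⟨Y.one_mem, add_one h.a₁_mul⟩
  mul_mem' := fun {a b} ha hb => ⟨mul_mem ha.1 hb.1, by rw [h.a₁_mul a ha.1 b hb.1, ha.2, hb.2, add_zero]⟩
  inv_mem' := fun {a} ha => ⟨inv_mem ha.1, by rw [a_inv h ha.1, ha.2]⟩

theorem card_ker1 : f.q ^ 2 * f.q ^ 2 ≤ Nat.card (ker1 h) := by
  have := card_ge' (X := ker1 h) (N := W) (K := ⊤) (ψ := a₂) (fun a ha b hb => h.a₂_mul a ha.1 b hb.1)
    (fun k _ => (h.surj 0 k).imp fun y hy => ⟨⟨hy.1, hy.2.1⟩, hy.2.2⟩)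
    fun a ha => ⟨⟨h.WY ha, a_W h ha⟩, a_W (symm h) ha⟩
  rwa [h.cardW, AddSubgroup.card_top, f.card_F] at this

theorem Sp.nm_fix {v₁ v₂ : G → F} (k : Sp σ Y W a₁ a₂ v₁ v₂) {s : G} (hN : s ∈ normalizer (Y : Set G))
    (s2 : s * s = 1) (m1 : Mp Y a₁ a₁ s) {p : G} (hp : p ∈ Y) : nm σ (a₁ (s * p * s⁻¹)) = nm σ (a₁ p) := by
  choose e eY e1 e2 using fun a => h.surj a 0
  have wd : ∀ p ∈ Y, a₁ (s * e (a₁ p) * s⁻¹) = a₁ (s * p * s⁻¹) := fun p hp => by
    have h1 := eY (a₁ p)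
    have := m1 _ (mul_mem (inv_mem h1) hp) (by rw [h.a₁_mul _ (inv_mem h1) _ hp, a_inv h h1, e1, aa σ])
    rw [show s * ((e (a₁ p))⁻¹ * p) * s⁻¹ = (s * e (a₁ p) * s⁻¹)⁻¹ * (s * p * s⁻¹) by group,
      h.a₁_mul _ (inv_mem (cjY hN h1)) _ (cjY hN hp), a_inv h (cjY hN h1)] at this
    exact (add0 σ).1 this
  let A : F →+ F := AddMonoidHom.mk' (fun a => a₁ (s * e a * s⁻¹)) fun a b => by
    have := wd _ (mul_mem (eY a) (eY b))
    rw [h.a₁_mul _ (eY a) _ (eY b), e1, e1] at this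
    rw [this, ← h.a₁_mul _ (cjY hN (eY a)) _ (cjY hN (eY b))]
    congr 1; group
  have ex : ∀ x, ∃ w ∈ W, σ x = x → v₁ w = x ∧ v₂ w = 0 := fun x => by
    by_cases hx : σ x = x
    · obtain ⟨a, rfl⟩ := exists_nm hx
      exact ⟨_, sqW h (eY a), fun _ => ⟨by rw [(k.sq _ (eY a)).1, e1], by rw [(k.sq _ (eY a)).2, e2, nm_zero]⟩⟩
    · exact ⟨1, W.one_mem, fun e => absurd e hx⟩
  choose ω ωW ω1 using ex
  rw [← wd p hp]
  refine nm_inv A (fun x => v₁ (s * ω x * s⁻¹)) (fun x y hx hy => ?_) (fun a => ?_) (fun a => ?_) _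
  · have hxy : σ (x + y) = x + y := by rw [map_add, hx, hy]
    have km := k.mul _ (ωW x) _ (ωW y)
    rw [k.ext (ωW _) (mul_mem (ωW x) (ωW y)) (by rw [km.1, (ω1 _ hxy).1, (ω1 _ hx).1, (ω1 _ hy).1])
      (by rw [km.2, (ω1 _ hxy).2, (ω1 _ hx).2, (ω1 _ hy).2, add_zero]), ← (k.mul _ (cjW h hN (ωW x)) _ (cjW h hN (ωW y))).1]
    congr 1; group
  · rw [k.ext (ωW _) (sqW h (eY a)) (by rw [(ω1 _ (nmK a)).1, (k.sq _ (eY a)).1, e1])
      (by rw [(ω1 _ (nmK a)).2, (k.sq _ (eY a)).2, e2, nm_zero])]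
    refine (k.sq _ (cjY hN (eY a))).1.symm.trans ?_
    congr 1; group
  · refine (wd _ (cjY hN (eY a))).trans ?_
    rw [show s * (s * e a * s⁻¹) * s⁻¹ = s * s * e a * (s * s)⁻¹ by group, s2, one_mul, inv_one, mul_one, e1]

theorem noTC {s : G} (hs : f.TC s) (hN : s ∈ normalizer (Y : Set G)) (m1 : Mp Y a₁ a₁ s) (m2 : Mp Y a₂ a₂ s) :
    False := by
  have s2 : s * s = 1 := by
    obtain ⟨e, he, -, hc⟩ := hs
    obtain ⟨c, rfl⟩ := isConj_iff.1 hc
    rw [show c * e * c⁻¹ * (c * e * c⁻¹) = c * (e * e) * c⁻¹ by group, f.E_sq e he]; group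
  have q4 := f.four_le
  have hk := card_ker1 h
  have hE := f.inv_iff.2 ⟨t, h.toInv⟩
  rcases cases h with ⟨v₁, v₂, k⟩ | ⟨v, k⟩
  · by_cases hW : s ∈ W
    · obtain ⟨m, -, hm, -, hT⟩ := f.card_T
      have h1 := f.card_le_T hs h.pg fun y hy => mem_centralizer_singleton_iff.2 (h.Wc s hW y hy).symm
      have h2 := card_ge' (X := Y) (N := ker1 h) (K := ⊤) (ψ := a₁) h.a₁_mul
        (fun k _ => (h.surj k 0).imp fun y hy => ⟨hy.1, hy.2.1⟩) fun a ha => ha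
      rw [AddSubgroup.card_top, f.card_F] at h2
      rw [hT, hE] at h1
      have h3 := (Nat.mul_le_mul_right (f.q ^ 2) hk).trans (h2.trans h1)
      have h4 : f.q ^ 3 * (2 * m) ≤ f.q ^ 3 * f.q ^ 2 := Nat.mul_le_mul_left _ hm.le
      have h5 : f.q ^ 5 * 4 ≤ f.q ^ 5 * f.q := Nat.mul_le_mul_left _ q4
      have h6 : 0 < f.q ^ 5 := by positivity
      have e1 : f.q ^ 2 * f.q ^ 2 * f.q ^ 2 = f.q ^ 5 * f.q := by ring
      have e2 : f.q ^ 3 * f.q ^ 2 = f.q ^ 5 := by ring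
      have e3 : 2 * f.q ^ 3 * m = f.q ^ 3 * (2 * m) := by ring
      omega
    · have := big h hs s2 h.Wsq (fun w hw => by
        obtain ⟨p, hp, rfl⟩ := W_sq h hw
        have hp' := cjY hN hp
        have := k.ext (sqW h hp') (sqW h hp) (by rw [(k.sq _ hp').1, (k.sq _ hp).1, k.nm_fix h hN s2 m1 hp])
          (by rw [(k.sq _ hp').2, (k.sq _ hp).2, k.symm.nm_fix (symm h) hN s2 m2 hp])
        nth_rw 1 [← this]; group) hW
      rw [h.cardW] at this
      nlinarith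
  · have sq : ∀ x ∈ ker1 h, x * x = 1 := fun x hx => (k.sq_iff h hx.1).2 (Or.inl hx.2)
    by_cases hW : s ∈ ker1 h
    · have := f.rank_le hs sq fun x hx => mem_centralizer_singleton_iff.2 (comm_sq sq hx hW)
      rw [hE] at this
      nlinarith [Nat.mul_le_mul q4 q4, Nat.mul_le_mul (Nat.mul_le_mul q4 q4) (Nat.mul_le_mul q4 (le_refl f.q))]
    · have cs : ∀ x ∈ ker1 h, s * x * s⁻¹ ∈ ker1 h := fun x hx => ⟨cjY hN hx.1, m1 x hx.1 hx.2⟩
      have si := inv_eq_of_mul_eq_one_right s2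
      have h1 := big h hs s2 (B := ker1 h ⊓ centralizer {s}) (fun x hx => sq x hx.1)
        (fun x hx => mem_centralizer_singleton_iff.1 hx.2) fun e => hW e.1
      have h2 := card_le (X := ker1 h) (N := ker1 h ⊓ centralizer {s}) (K := ker1 h ⊓ centralizer {s})
        (ψ := fun x => x * (s * x * s⁻¹)) (fun a ha b hb => by
          calc a * b * (s * (a * b) * s⁻¹) = a * (b * (s * a * s⁻¹)) * (s * b * s⁻¹) := by group
            _ = _ := by rw [comm_sq sq hb (cs a ha)]; group)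
        (fun a ha => ⟨mul_mem ha (cs a ha), mem_centralizer_singleton_iff.2 (by
          nth_rw 2 [comm_sq sq ha (cs a ha)]
          rw [si]
          calc a * (s * a * s) * s = a * s * a * (s * s) := by group
            _ = s * s * a * s * a := by rw [s2]; group
            _ = _ := by group)⟩)
        fun a ha e => ⟨ha, mem_centralizer_singleton_iff.2 (by
          rw [← sq a ha, mul_right_inj, mul_inv_eq_iff_eq_mul] at e; exact e.symm)⟩
      have h3 := hk.trans (h2.trans (Nat.mul_le_mul h1 h1))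
      nlinarith [Nat.mul_le_mul q4 q4, Nat.mul_le_mul (Nat.mul_le_mul q4 q4) (Nat.mul_le_mul (le_refl f.q) (le_refl f.q))]

end X3b

open X3b in
/-- module Lk3b -/
theorem Fr.Six.con {f : Fr σ G} {t : G} {Y W : Subgroup G} {a₁ a₂ : G → F}
    (h : f.Six t Y W a₁ a₂) : f.Con := by
  obtain ⟨R, hR, hT⟩ := exists_isSylowIn_ge f.T_syl.pgroup h.TN
  have hY : Y ≤ R := hR.le_of_le_normalizer h.pg le_normalizer hR.le
  have hS : IsSylowIn 2 R ⊤ := IsSylowIn.of_normalizer le_top (hR.of_le (le_inf le_top le_normalizer)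
    fun g hg => Y_fix h hR.pgroup hR.le hT hY hg.2)
  have mp : ∀ g ∈ normalizer (Y : Set G), g ∈ normalizer (ker1 h : Set G) ↔ Mp Y a₁ a₁ g := fun g hg =>
    ⟨fun e y hy y1 => ((mem_normalizer_iff.1 e y).1 ⟨hy, y1⟩).2, fun e => mem_normalizer_of_cj_le (by
      rintro _ ⟨y, hy, rfl⟩; exact ⟨cjY hg hy.1, e y hy.1 hy.2⟩)⟩
  have tR := hT (tT h)
  refine f.con_of_transfer h.toInv hS (R₀ := R ⊓ normalizer (ker1 h : Set G)) inf_le_left
    (relIndex_eq_two_iff.2 ⟨t, tR, fun b hb => ?_⟩) fun g hg _ => ?_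
  · have hb' := hR.le hb
    have hbt := hR.le (mul_mem hb tR)
    simp only [mem_inf, hb, mul_mem hb tR, true_and, mp b hb', mp _ hbt]
    rcases pair h hb' with m | m
    · exact Or.inr ⟨m.1, fun e => not_both h hbt e ((mp_t (symm h)).mul (hR.le tR) m.2)⟩
    · exact Or.inl ⟨(mp_t (symm h)).mul (hR.le tR) m.2, fun e => not_both h hb' e m.1⟩
  · have hN := hR.le hg.1
    have m := (mp _ hN).1 hg.2
    exact noTC h ⟨t, h.tE, h.t1, isConj_iff.2 ⟨g, rfl⟩⟩ hN m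
      ((pair h hN).resolve_right fun e => not_both h hN m e.1).2

end Cfsg.Agent.WA.Lk
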