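import Cfsg.Agent.WA.RwDef
import Cfsg.Agent.H5.PBasic

/-! Counting tools for PLAN_RW.md. -/

set_option autoImplicit false
set_option linter.unusedSectionVars false
set_option linter.unusedVariables false

namespace Cfsg.Agent.WA.Rw

open Subgroup Cfsg.Agent.FT Cfsg.Agent.L0 Cfsg.Agent.H8
open Cfsg.Agent.BS (Invo)
open scoped commutatorElement

universe u

variable {G : Type u} [Group G] [Finite G] {A B D K L P U X Y : Subgroup G} {a b d e x y : G}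

theorem cle (h : A ≤ B) : #|A| ≤ #|B| := Subgroup.card_le_of_le h

theorem cpos (A : Subgroup G) : 0 < #|A| := Nat.card_pos

theorem eq_of_cle (h : A ≤ B) (hc : #|B| ≤ #|A|) : A = B := H5.eq_of_le_of_card_le h hc

theorem clt (h : A ≤ B) (hb : b ∈ B) (ha : b ∉ A) : 2 * #|A| ≤ #|B| := by
  obtain ⟨k, hk⟩ := Subgroup.card_dvd_of_le h
  have h1 : k ≠ 1 := by
    rintro rfl
    exact ha (eq_of_cle h (by omega) ▸ hb)
  have h0 : k ≠ 0 := by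
    rintro rfl
    have := cpos B
    omega
  rw [hk]
  nlinarith [cpos A, (by omega : 2 ≤ k)]

theorem ex_not_mem (hc : #|A| < #|B|) : ∃ b ∈ B, b ∉ A := by
  by_contra hn
  push Not at hn
  have := cle (show B ≤ A from hn)
  omega

/-- index at most two -/
theorem idx2 (h : A ≤ B) (hc : #|B| ≤ 2 * #|A|) (ha : a ∈ B) (hb : b ∈ B) (ha' : a ∉ A) (hb' : b ∉ A) : a * b ∈ A := by
  have h1 := clt h ha ha'
  have h2 := H5.card_mul_relIndex_of_le h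
  have h3 : (A.subgroupOf B).index = 2 := by
    have : #|A| * A.relIndex B = #|A| * 2 := by omega
    exact Nat.eq_of_mul_eq_mul_left (cpos A) this
  have := (mul_mem_iff_of_index_two h3 (a := ⟨a, ha⟩) (b := ⟨b, hb⟩)).mpr
    (by simp only [mem_subgroupOf]; exact iff_of_false ha' hb')
  exact this

theorem idx2' (h : A ≤ B) (hc : #|B| ≤ 2 * #|A|) (ha : a ∈ B) (hb : b ∈ B) (ha' : a ∉ A) (hb' : b ∉ A) :
    ∃ c ∈ A, b = a * c :=
  ⟨a⁻¹ * b, idx2 h hc (inv_mem ha) hb (fun h => ha' (inv_mem_iff.mp h)) hb', by group⟩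

/-- if all elements of `B \ A` are congruent then the index is at most two -/
theorem cle2 (h : ∀ a ∈ B, ∀ b ∈ B, a ∉ A → b ∉ A → a * b ∈ A) : #|B| ≤ 2 * #|(B ⊓ A : Subgroup G)| := by
  have h2 := H5.card_inf_mul_relIndex A B
  rw [inf_comm]
  by_cases hle : B ≤ A
  · rw [inf_eq_right.mpr hle]; omega
  · obtain ⟨b, hb, hb'⟩ := SetLike.not_le_iff_exists.mp hle
    have : (A.subgroupOf B).index = 2 := index_eq_two_iff.mpr ⟨⟨b, hb⟩, fun a => by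
      simp only [mem_subgroupOf, coe_mul]
      by_cases ha : (a : G) ∈ A
      · exact Or.inr ⟨ha, fun h' => hb' ((mul_mem_cancel_left ha).mp h')⟩
      · exact Or.inl ⟨h a a.2 b hb ha hb', ha⟩⟩
    rw [← h2, show A.relIndex B = 2 from this]
    omega

/-- counting along a map whose fibres modulo `D` lie in cosets of `K` -/
theorem cnt (f : G → G) (hD : D ≤ L) (h1 : ∀ y ∈ Y, f y ∈ L)
    (h2 : ∀ y ∈ Y, ∀ y' ∈ Y, (f y)⁻¹ * f y' ∈ D → y⁻¹ * y' ∈ K) :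
    #|Y| * #|D| ≤ #|L| * #|(Y ⊓ K : Subgroup G)| := by
  classical
  let F : L ⧸ D.subgroupOf L → Y ⧸ K.subgroupOf Y := fun q =>
    if h : ∃ y : Y, ((⟨f y, h1 y y.2⟩ : L) : L ⧸ D.subgroupOf L) = q then (h.choose : Y) else ((1 : Y) : Y ⧸ K.subgroupOf Y)
  have hF : Function.Surjective F := by
    intro q
    obtain ⟨y, rfl⟩ := QuotientGroup.mk_surjective q
    have h : ∃ y' : Y, ((⟨f y', h1 y' y'.2⟩ : L) : L ⧸ D.subgroupOf L) = ((⟨f y, h1 y y.2⟩ : L) : L ⧸ D.subgroupOf L) :=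
      ⟨y, rfl⟩
    refine ⟨_, (dif_pos h).trans ?_⟩
    have := QuotientGroup.eq.mp h.choose_spec
    exact QuotientGroup.eq.mpr (h2 _ h.choose.2 _ y.2 this)
  have e0 : K.relIndex Y ≤ D.relIndex L := Nat.card_le_card_of_surjective F hF
  have e1 := H5.card_inf_mul_relIndex K Y
  have e2 := H5.card_mul_relIndex_of_le hD
  rw [inf_comm, ← e1, ← e2]
  nlinarith [Nat.mul_le_mul_left (#|(K ⊓ Y : Subgroup G)| * #|D|) e0]

theorem cnt1 (f : G → G) (h1 : ∀ y ∈ Y, f y ∈ L) (h2 : ∀ y ∈ Y, ∀ y' ∈ Y, f y = f y' → y⁻¹ * y' ∈ K) :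
    #|Y| ≤ #|L| * #|(Y ⊓ K : Subgroup G)| := by
  have := cnt (D := ⊥) f bot_le h1 fun y hy y' hy' e => h2 y hy y' hy' (inv_mul_eq_one.mp (mem_bot.mp e))
  simpa using this

theorem mem_c1 : x ∈ 𝐂[y] ↔ x * y = y * x := mem_centralizer_singleton_iff

theorem mem_cH : x ∈ 𝐂(A) ↔ ∀ a ∈ A, a * x = x * a := mem_centralizer_iff

/-- orbit bound -/
theorem cnt_c (h1 : ∀ y ∈ Y, ⁅y, e⁆ ∈ L) : #|Y| ≤ #|L| * #|(Y ⊓ 𝐂[e] : Subgroup G)| :=
  cnt1 (fun y => ⁅y, e⁆) h1 fun y _ y' _ h => by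
    simp only [commutatorElement_def] at h
    have h' : y * e * y⁻¹ = y' * e * y'⁻¹ := mul_right_cancel h
    rw [mem_c1]
    calc y⁻¹ * y' * e = y⁻¹ * (y' * e * y'⁻¹) * y' := by group
      _ = e * (y⁻¹ * y') := by rw [← h']; group

theorem cnt_c' (h1 : ∀ y ∈ Y, ⁅e, y⁆ ∈ L) : #|Y| ≤ #|L| * #|(Y ⊓ 𝐂[e] : Subgroup G)| :=
  cnt_c fun y hy => by rw [← commutatorElement_inv]; exact inv_mem (h1 y hy)

/-- the same modulo `D` -/
theorem cnt_m (hD : D ≤ L) (hY : Y ≤ 𝐍(D)) (h1 : ∀ y ∈ Y, ⁅e, y⁆ ∈ L) :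
    #|Y| * #|D| ≤ #|L| * #|(Y ⊓ cmod D {e} : Subgroup G)| :=
  cnt (fun y => ⁅e, y⁆) hD h1 fun y hy y' hy' h => by
    refine mem_cmod_single.mpr ⟨hY (mul_mem (inv_mem hy) hy'), ?_⟩
    have hn := (mem_normalizer_iff.mp (inv_mem (hY hy)) _).mp h
    convert hn using 1
    simp only [commutatorElement_def]
    group

theorem csup (h : A ≤ 𝐍(B)) : #|(A ⊔ B : Subgroup G)| * #|(A ⊓ B : Subgroup G)| = #|A| * #|B| :=
  card_sup_mul_card_inf_of_le_normalizer h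

theorem mem_sup' (h : A ≤ 𝐍(B)) : x ∈ A ⊔ B ↔ ∃ a ∈ A, ∃ b ∈ B, a * b = x := mem_sup_of_le_normalizer' h

theorem mem_z (h : Invo x) : y ∈ zpowers x ↔ y = 1 ∨ y = x := h.mem_zpowers_iff

theorem mem_z' (h : x * x = 1) (hy : y ∈ zpowers x) : y = 1 ∨ y = x := by
  by_cases h1 : x = 1
  · subst h1; left; simpa using hy
  · exact (mem_z ⟨h, h1⟩).mp hy

theorem cz_le (h : x * x = 1) : #|zpowers x| ≤ 2 := by
  by_cases h1 : x = 1
  · subst h1; simp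
  · exact (Invo.card_zpowers ⟨h, h1⟩).le

theorem conj_mem' (h : x ∈ 𝐍(A)) (ha : a ∈ A) : x * a * x⁻¹ ∈ A := (mem_normalizer_iff.mp h _).mp ha

theorem conj_mem'' (h : x ∈ 𝐍(A)) (ha : a ∈ A) : x⁻¹ * a * x ∈ A := by
  simpa using conj_mem' (inv_mem h) ha

theorem comm_mem_r (h : x ∈ 𝐍(A)) (ha : a ∈ A) : ⁅x, a⁆ ∈ A := mul_mem (conj_mem' h ha) (inv_mem ha)

theorem comm_mem_l (h : x ∈ 𝐍(A)) (ha : a ∈ A) : ⁅a, x⁆ ∈ A := by
  rw [← commutatorElement_inv]; exact inv_mem (comm_mem_r h ha)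

theorem norm_of (h : ∀ a ∈ A, x * a * x⁻¹ ∈ A) : x ∈ 𝐍(A) := H5.mem_normalizer_of_conj_mem h

theorem c_le_n : 𝐂(A) ≤ 𝐍(A) := centralizer_le_normalizer _

theorem comm1 : ⁅x, y⁆ = 1 ↔ x * y = y * x := commutatorElement_eq_one_iff_mul_comm

/-- the order of a subgroup of a `2`-group -/
theorem two_pow (h : IsPGroup 2 P) (hA : A ≤ P) : ∃ k, #|A| = 2 ^ k := IsPGroup.iff_card.mp (h.to_le hA)

theorem le_of_lt_pow (h : IsPGroup 2 P) (hA : A ≤ P) {k : ℕ} (hc : 2 ^ k < #|A|) : 2 ^ (k + 1) ≤ #|A| := by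
  obtain ⟨n, hn⟩ := two_pow h hA
  rw [hn] at hc ⊢
  exact Nat.pow_le_pow_right two_pos ((Nat.pow_lt_pow_iff_right one_lt_two).mp hc)

theorem le_of_lt_pow' (h : IsPGroup 2 P) (hA : A ≤ P) {k : ℕ} (hc : #|A| < 2 ^ (k + 1)) : #|A| ≤ 2 ^ k := by
  by_contra hn
  have := le_of_lt_pow h hA (not_le.mp hn)
  omega

end Cfsg.Agent.WA.Rw
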