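import Cfsg.Agent.WA.ILk1
import Cfsg.Agent.WA.RwT

/-! Module Lk4a: `V` is strongly closed when `R` is a Sylow subgroup. -/

set_option autoImplicit false
set_option linter.unusedSectionVars false
set_option linter.unusedVariables false

namespace Cfsg.Agent.WA.Lk

open Subgroup Cfsg.Agent.H1.U3 Cfsg.Agent.H8
open Cfsg.Agent.WA.Rw (conj_mem' conj_mem'' norm_of mem_c1 mem_cH)

variable {F : Type*} [Field F] [Finite F] {σ : F →+* F} [Ctx σ] {G : Type*} [Group G] [Finite G]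

namespace X4

theorem nm_zero {a : F} (h : nm σ a = 0) : a = 0 := by
  rcases mul_eq_zero.1 h with e | e
  exacts [(map_eq_zero σ).1 e, e]

theorem nm_K (a : F) : σ (nm σ a) = nm σ a := norm_fixed a

theorem bl_K (a b : F) : σ (bl σ a b) = bl σ a b := by
  simp only [bl, map_add, map_mul, invol]; ring

theorem add_self (σ : F →+* F) [Ctx σ] (a : F) : a + a = 0 := by linear_combination a * two σ

theorem bl_fix {c a b : F} (hc : c ≠ 0) (ha : c * σ a = a) (hb : c * σ b = b) : bl σ a b = 0 := by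
  refine mul_left_cancel₀ hc ?_
  unfold bl
  linear_combination b * ha + a * hb + a * b * two σ

variable (w : Two σ G) {a b e g r s u v y : G} {x : F} {P : Subgroup G}

theorem ce_one : w.ce 1 = 0 := by
  have := w.ce_mul 1 w.E.one_mem 1 w.E.one_mem
  rw [mul_one] at this
  exact left_eq_add.1 this

theorem inv_c (hs : s ∈ w.S) : w.ee s⁻¹ = w.ee s ∧ w.xx s⁻¹ = w.xx s ∧ w.aa s⁻¹ = w.aa s := by
  have hi := w.S.inv_mem hs
  have h := w.on_E 1 w.E.one_mem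
  have h1 := w.ee_mul s hs _ hi
  have h2 := w.xx_mul s hs _ hi
  have h3 := w.aa_mul s hs _ hi
  rw [mul_inv_cancel] at h1 h2 h3
  rw [h.1] at h1
  rw [h.2.1] at h2
  rw [h.2.2] at h3
  exact ⟨mul_left_cancel (h1.symm.trans (w.E_sq _ (w.eeE s hs)).symm), by linear_combination -h2 - w.xx s * two σ,
    by linear_combination -h3 - w.aa s * two σ⟩

theorem vv_mem (hx : σ x = x) : w.vv x ∈ w.V := w.mem_V.2 ⟨x, hx, rfl⟩

theorem vv_eq_one (hx : σ x = x) (h : w.vv x = 1) : x = 0 := w.vv_inj hx (map_zero σ) (h.trans w.vv_zero.symm)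

theorem cm_K (hs : s ∈ w.S) (hr : r ∈ w.S) :
    σ (w.ce (w.ee s) * w.xx r + w.ce (w.ee r) * w.xx s + bl σ (w.aa s) (w.aa r)) =
      w.ce (w.ee s) * w.xx r + w.ce (w.ee r) * w.xx s + bl σ (w.aa s) (w.aa r) := by
  rw [map_add, map_add, map_mul, map_mul, w.ceK _ (w.eeE s hs), w.ceK _ (w.eeE r hr), w.xxK s hs, w.xxK r hr, bl_K]

theorem sq_K (hs : s ∈ w.S) : σ ((w.ce (w.ee s) + w.c) * w.xx s + nm σ (w.aa s)) =
    (w.ce (w.ee s) + w.c) * w.xx s + nm σ (w.aa s) := by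
  rw [map_add, map_mul, map_add, w.ceK _ (w.eeE s hs), w.cK, w.xxK s hs, nm_K]

theorem sq_mem (hs : s ∈ w.S) : s * s ∈ w.V := by rw [w.sq s hs]; exact vv_mem w (sq_K w hs)

theorem sq_zero (hs : s ∈ w.S) (h : s * s = 1) : (w.ce (w.ee s) + w.c) * w.xx s + nm σ (w.aa s) = 0 :=
  vv_eq_one w (sq_K w hs) ((w.sq s hs).symm.trans h)

theorem comm_of (hs : s ∈ w.S) (hr : r ∈ w.S)
    (h : w.ce (w.ee s) * w.xx r + w.ce (w.ee r) * w.xx s + bl σ (w.aa s) (w.aa r) = 0) : s * r = r * s := by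
  have := w.cm s hs r hr
  rw [h, w.vv_zero, mul_inv_eq_one, mul_inv_eq_iff_eq_mul] at this
  exact this

theorem S_le_R : w.S ≤ w.R := le_sup_left

theorem R_le_NQ : w.R ≤ normalizer (w.Q : Set G) := w.R_syl.le.trans w.MQ

theorem R_le_NS : w.R ≤ normalizer (w.S : Set G) := w.R_syl.le.trans w.MS

theorem tt_inv (hg : g ∈ normalizer (w.Q : Set G)) : w.tt g⁻¹ = (w.tt g)⁻¹ := by
  have := w.tt_mul hg (inv_mem hg)
  rw [mul_inv_cancel, (w.ct_S (one_mem _)).2] at this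
  exact eq_inv_of_mul_eq_one_right this.symm

theorem tt_comm (ha : a ∈ normalizer (w.Q : Set G)) (hb : b ∈ normalizer (w.Q : Set G)) :
    w.tt (a * b * a⁻¹ * b⁻¹) = 1 := by
  have := charP_two σ
  have := isCyclic_ringAut (F := F)
  rw [w.tt_mul (mul_mem (mul_mem ha hb) (inv_mem ha)) (inv_mem hb), w.tt_mul (mul_mem ha hb) (inv_mem ha),
    w.tt_mul ha hb, tt_inv w ha, tt_inv w hb, mul_comm' (w.tt a), mul_inv_cancel_right, mul_inv_cancel]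

theorem quot_c (hs : s ∈ w.S) (hr : r ∈ w.S) : w.ee (s * r⁻¹) = w.ee s * w.ee r ∧ w.xx (s * r⁻¹) = w.xx s + w.xx r ∧
    w.aa (s * r⁻¹) = w.aa s + w.aa r := by
  obtain ⟨h1, h2, h3⟩ := inv_c w hr
  rw [w.ee_mul s hs _ (inv_mem hr), w.xx_mul s hs _ (inv_mem hr), w.aa_mul s hs _ (inv_mem hr), h1, h2, h3]
  exact ⟨rfl, rfl, rfl⟩

theorem sig_c (hy : y ∈ w.R) (ht : w.tt y = sigAut σ) (y2 : y * y ∈ w.S) (hu : u ∈ w.S) :
    y * u * y⁻¹ * u⁻¹ ∈ w.S ∧ w.ee (y * u * y⁻¹ * u⁻¹) = 1 ∧ w.xx (y * u * y⁻¹ * u⁻¹) = 0 ∧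
      w.aa (y * u * y⁻¹ * u⁻¹) = w.cc y * σ (w.aa u) + w.aa u := by
  have m := conj_mem' (R_le_NS w hy) hu
  obtain ⟨h1, h2, h3⟩ := quot_c w m hu
  obtain ⟨a1, a2, a3⟩ := w.R_act hy hu
  rw [h1, h2, h3, a1, a2, a3, ht, sigAut_apply, sigAut_apply, w.xxK u hu,
    (w.nm_cc_of_sig (R_le_NQ w hy) ht (w.ct_S y2).1).1, one_mul]
  exact ⟨mul_mem m (inv_mem hu), w.E_sq _ (w.eeE u hu), add_self σ _, rfl⟩

theorem cm1 (hy : y ∈ w.R) (ht : w.tt y = sigAut σ) (y2 : y * y ∈ w.S) (hu : u ∈ w.S)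
    (h2 : y * u * y⁻¹ * u⁻¹ * (y * u * y⁻¹ * u⁻¹) = 1) : y * u * y⁻¹ * u⁻¹ ∈ w.V := by
  obtain ⟨m, h1, h3, -⟩ := sig_c w hy ht y2 hu
  have := sq_zero w m h2
  rw [h3, mul_zero, zero_add] at this
  exact (w.kerV _ m).2 ⟨h1, h3, nm_zero this⟩

theorem cm (ha : a ∈ w.R) (hb : b ∈ w.R) (a2 : a * a ∈ w.S) (b2 : b * b ∈ w.S)
    (h2 : a * b * a⁻¹ * b⁻¹ * (a * b * a⁻¹ * b⁻¹) = 1) : a * b * a⁻¹ * b⁻¹ ∈ w.V := by
  have aN := R_le_NQ w ha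
  rcases w.tt_cases aN (w.ct_S a2).2 with h | h <;> rcases w.tt_cases (R_le_NQ w hb) (w.ct_S b2).2 with h' | h'
  · have a1 := w.mem_S_of_tt ha h
    have b1 := w.mem_S_of_tt hb h'
    rw [w.cm a a1 b b1]; exact vv_mem w (cm_K w a1 b1)
  · have := cm1 w hb h' b2 (w.mem_S_of_tt ha h) (by
      rw [← inv_eq_one, ← h2]; group)
    simpa [mul_assoc] using inv_mem this
  · exact cm1 w ha h a2 (w.mem_S_of_tt hb h') h2
  · have m : a⁻¹ * b ∈ w.S := w.mem_S_of_tt (mul_mem (inv_mem ha) hb) (by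
      rw [w.tt_mul (inv_mem aN) (R_le_NQ w hb), tt_inv w aN, h, h', inv_mul_cancel])
    have := conj_mem' (w.NQ_le_NV aN) (cm1 w ha h a2 m (by
      calc _ = a⁻¹ * (a * b * a⁻¹ * b⁻¹ * (a * b * a⁻¹ * b⁻¹)) * a := by group
        _ = 1 := by rw [h2]; group))
    rwa [show a * (a * (a⁻¹ * b) * a⁻¹ * (a⁻¹ * b)⁻¹) * a⁻¹ = a * b * a⁻¹ * b⁻¹ by group] at this

/-- the commutators of `C_S(s)` fill `V` -/
def Fill (s : G) : Prop := ∀ x, σ x = x → ∃ a ∈ w.S, ∃ b ∈ w.S, a * s = s * a ∧ b * s = s * b ∧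
  a * b * a⁻¹ * b⁻¹ = w.vv x

theorem exists_e : ∃ e ∈ w.E, e ≠ 1 := w.E.bot_or_exists_ne_one.resolve_left w.E_ne

/-- lifting of the third coordinate to the centralizer -/
theorem lift_a (hs : s ∈ w.S) (h : w.aa s = 0 ∨ w.ee s ≠ 1) (α : F) :
    ∃ t ∈ w.S, w.ee t = 1 ∧ w.aa t = α ∧ t * s = s * t := by
  rcases h with h | h
  · obtain ⟨t, ht, h1, h2, h3⟩ := w.surj 1 (one_mem _) 0 α (map_zero σ)
    exact ⟨t, ht, h1, h3, comm_of w ht hs (by rw [h1, h2, h, ce_one]; simp [bl])⟩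
  · have c0 : w.ce (w.ee s) ≠ 0 := fun e => h (w.ce_inj _ (w.eeE s hs) e)
    obtain ⟨t, ht, h1, h2, h3⟩ := w.surj 1 (one_mem _) (bl σ α (w.aa s) / w.ce (w.ee s)) α (by
      rw [map_div₀, bl_K, w.ceK _ (w.eeE s hs)])
    exact ⟨t, ht, h1, h3, comm_of w ht hs (by
      rw [h1, h2, h3, ce_one, zero_mul, zero_add, mul_div_cancel₀ _ c0, add_self σ])⟩

theorem cm_ee (ha : a ∈ w.S) (hb : b ∈ w.S) (h1 : w.ee a = 1) (h2 : w.ee b = 1) :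
    a * b * a⁻¹ * b⁻¹ = w.vv (bl σ (w.aa a) (w.aa b)) := by
  rw [w.cm a ha b hb, h1, h2, ce_one, zero_mul, zero_mul, zero_add, zero_add]

theorem fill_S (hs : s ∈ w.S) : Fill w s := fun x hx => by
  by_cases h : w.aa s = 0 ∨ w.ee s ≠ 1
  · obtain ⟨β, hβ⟩ := exists_bl (σ := σ) (one_ne_zero (α := F)) hx
    obtain ⟨a, ha, a1, a2, a3⟩ := lift_a w hs h 1
    obtain ⟨b, hb, b1, b2, b3⟩ := lift_a w hs h β
    exact ⟨a, ha, b, hb, a3, b3, by rw [cm_ee w ha hb a1 b1, a2, b2, hβ]⟩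
  · push Not at h
    obtain ⟨e, he, e1⟩ := exists_e w
    have c0 : w.ce e ≠ 0 := fun h => e1 (w.ce_inj _ he h)
    obtain ⟨β, hβ⟩ := exists_bl (σ := σ) h.1 (x := w.ce e * w.xx s) (by rw [map_mul, w.ceK e he, w.xxK s hs])
    obtain ⟨a, ha, a1, a2, a3⟩ := w.surj e he 0 β (map_zero σ)
    obtain ⟨b, hb, b1, b2, b3⟩ := w.surj 1 (one_mem _) (x / w.ce e) 0 (by rw [map_div₀, hx, w.ceK e he])
    refine ⟨a, ha, b, hb, (comm_of w hs ha ?_).symm, comm_of w hb hs ?_, ?_⟩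
    · rw [a1, a2, a3, hβ, mul_zero, zero_add, add_self σ]
    · rw [b1, b3, h.2, ce_one]; simp [bl]
    · rw [w.cm a ha b hb, a1, a2, b2, b3, mul_div_cancel₀ _ c0]; simp [bl]

/-- correcting an element that centralizes `s` modulo `V` -/
theorem correct (hsV : ∀ v ∈ w.V, s * v = v * s) (hr : r ∈ w.S) (h : s * r * s⁻¹ * r⁻¹ ∈ w.V) {t : G}
    (ht : t * s * t⁻¹ = s * (s * r * s⁻¹ * r⁻¹)) : r * t * s = s * (r * t) := by
  have c := mem_cH.1 (w.S_le_CV hr) _ h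
  have c2 := hsV _ h
  rw [← mul_inv_eq_iff_eq_mul]
  calc r * t * s * (r * t)⁻¹ = r * (t * s * t⁻¹) * r⁻¹ := by group
    _ = r * s * (s * r * s⁻¹ * r⁻¹) * r⁻¹ := by rw [ht]; group
    _ = r * (s * (s * r * s⁻¹ * r⁻¹)) * r⁻¹ := by group
    _ = (r * (s * r * s⁻¹ * r⁻¹)) * s * r⁻¹ := by rw [c2]; group
    _ = (s * r * s⁻¹ * r⁻¹) * r * s * r⁻¹ := by rw [← c]
    _ = s := by group

theorem fill_sig (hs : s ∈ w.R) (ht : w.tt s = sigAut σ) (s2 : s * s = 1) : Fill w s := fun x hx => by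
  have sN := R_le_NQ w hs
  have s2' : s * s ∈ w.S := s2 ▸ one_mem _
  have sV := (w.nm_cc_of_sig sN ht (w.ct_S s2').1).2
  have key : ∀ r ∈ w.S, w.aa r = 0 → ∃ t ∈ w.S, w.ee t = w.ee r ∧ w.xx t = w.xx r ∧
      w.cc s * σ (w.aa t) = w.aa t ∧ t * s = s * t := fun r hr r0 => by
    obtain ⟨m, h1, h2, h3⟩ := sig_c w hs ht s2' hr
    have mV := (w.kerV _ m).2 ⟨h1, h2, by rw [h3, r0]; simp⟩
    obtain ⟨u, hu⟩ := w.sig_conj sN ht (s2 ▸ one_mem _) mV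
    have c := correct w (fun v hv => (mem_cH.1 sV v hv).symm) hr mV hu
    have m' := mul_mem hr (w.jS u)
    refine ⟨_, m', by rw [w.ee_mul r hr _ (w.jS u), (w.on_j u).1, mul_one],
      by rw [w.xx_mul r hr _ (w.jS u), (w.on_j u).2.1, add_zero], ?_, c⟩
    have := (w.R_act hs m').2.2
    rwa [← c, mul_inv_cancel_right, ht, sigAut_apply, eq_comm] at this
  obtain ⟨e, he, e1⟩ := exists_e w
  have c0 : w.ce e ≠ 0 := fun h => e1 (w.ce_inj _ he h)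
  obtain ⟨a, ha, a1, a2, a3, a4⟩ := key e (w.ES he) (w.on_E e he).2.2
  obtain ⟨p, hp, p1, p2, p3⟩ := w.surj 1 (one_mem _) (x / w.ce e) 0 (by rw [map_div₀, hx, w.ceK e he])
  obtain ⟨b, hb, b1, b2, b3, b4⟩ := key p hp p3
  refine ⟨a, ha, b, hb, a4, b4, ?_⟩
  rw [w.cm a ha b hb, a1, a2, b1, b2, p1, p2, (w.on_E e he).1, (w.on_E e he).2.1, bl_fix (w.cc_ne s) a3 b3,
    mul_div_cancel₀ _ c0, mul_zero, add_zero, add_zero]

theorem V_ne : w.V ≠ ⊥ := fun e => by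
  have := w.card_V
  have := w.four_le
  rw [e, card_bot] at *
  omega

theorem ext (hP : IsSylowIn 2 P ⊤) (hR : w.R ≤ P) (hN : P ≤ normalizer (w.Q : Set G)) (hs : w.VC s) :
    ∃ g, g * s * g⁻¹ ∈ w.V ∧ ∀ r ∈ P, r * s = s * r → g * r * g⁻¹ ∈ P := by
  haveI := Nat.fact_prime_two
  obtain ⟨v, hv, v1, -, vc⟩ := H5.exists_mem_not_mem_central_mod (H := ⊥) hP.pgroup
    (w.V_le.trans ((S_le_R w).trans hR)) (hN.trans w.NQ_le_NV) fun e => V_ne w (eq_bot_iff.2 e)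
  obtain ⟨g, hg⟩ := isConj_iff.1 (w.VC_conj hs hv v1)
  obtain ⟨S, rfl⟩ := hP.exists_sylow_top
  obtain ⟨k, h1, h2⟩ := H9.exists_extremal_conj S (z := v) (b := s) (g := g)
    (fun r hr => (commutatorElement_eq_one_iff_mul_comm.1 (vc r hr)).symm) (by rw [← hg]; group)
    (R := S ⊓ centralizer {s}) (hP.pgroup.to_le inf_le_left) fun r hr => mem_c1.1 hr.2
  exact ⟨k⁻¹, by rwa [inv_inv, h1], fun r hr c => by rw [inv_inv]; exact h2 r ⟨hr, mem_c1.2 c⟩⟩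

theorem fin (h : ∀ v ∈ w.V, g * v * g⁻¹ ∈ w.V) (hs : g * s * g⁻¹ ∈ w.V) : s ∈ w.V := by
  simpa [mul_assoc] using conj_mem'' (norm_of h) hs

theorem conj_cm (g a b : G) : g * (a * b * a⁻¹ * b⁻¹) * g⁻¹ =
    g * a * g⁻¹ * (g * b * g⁻¹) * (g * a * g⁻¹)⁻¹ * (g * b * g⁻¹)⁻¹ := by group

theorem cm_conj (hV : ∀ v ∈ w.V, g * v * g⁻¹ ∈ w.S) (ha : a ∈ w.S) (hb : b ∈ w.S) (a1 : g * a * g⁻¹ ∈ w.R)
    (b1 : g * b * g⁻¹ ∈ w.R) : g * (a * b * a⁻¹ * b⁻¹) * g⁻¹ ∈ w.V := by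
  have sq : ∀ a ∈ w.S, g * a * g⁻¹ * (g * a * g⁻¹) ∈ w.S := fun a ha => by
    rw [show g * a * g⁻¹ * (g * a * g⁻¹) = g * (a * a) * g⁻¹ by group]; exact hV _ (sq_mem w ha)
  have m : a * b * a⁻¹ * b⁻¹ ∈ w.V := by rw [w.cm a ha b hb]; exact vv_mem w (cm_K w ha hb)
  rw [conj_cm]
  refine cm w a1 b1 (sq a ha) (sq b hb) ?_
  rw [← conj_cm]
  calc _ = g * (a * b * a⁻¹ * b⁻¹ * (a * b * a⁻¹ * b⁻¹)) * g⁻¹ := by group
    _ = 1 := by rw [w.V_sq m]; group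

theorem key1 (hf : Fill w s) (h : ∀ r ∈ w.R, r * s = s * r → g * r * g⁻¹ ∈ w.R) : ∀ v ∈ w.V, g * v * g⁻¹ ∈ w.V := by
  have k0 : ∀ v ∈ w.V, g * v * g⁻¹ ∈ w.S := fun v hv => by
    obtain ⟨x, hx, rfl⟩ := w.mem_V.1 hv
    obtain ⟨a, ha, b, hb, a1, b1, e⟩ := hf x hx
    have a2 := h a (S_le_R w ha) a1
    have b2 := h b (S_le_R w hb) b1
    rw [← e, conj_cm]
    exact w.mem_S_of_tt (mul_mem (mul_mem (mul_mem a2 b2) (inv_mem a2)) (inv_mem b2))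
      (tt_comm w (R_le_NQ w a2) (R_le_NQ w b2))
  intro v hv
  obtain ⟨x, hx, rfl⟩ := w.mem_V.1 hv
  obtain ⟨a, ha, b, hb, a1, b1, e⟩ := hf x hx
  rw [← e]
  exact cm_conj w k0 ha hb (h a (S_le_R w ha) a1) (h b (S_le_R w hb) b1)

end X4

open X4 in
theorem Two.con_syl (w : Two σ G) (h4 : 4 ≤ Nat.card w.E) (hR : IsSylowIn 2 w.R ⊤) : w.Con := by
  refine w.con_of_sc hR (w.V_le.trans (S_le_R w)) (V_ne w) (fun _ h => w.V_sq h) fun v hv k hk => ?_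
  by_cases v1 : v = 1
  · simp [v1]
  have s2 : k * v * k⁻¹ * (k * v * k⁻¹) = 1 := by
    rw [show k * v * k⁻¹ * (k * v * k⁻¹) = k * (v * v) * k⁻¹ by group, w.V_sq hv]; group
  obtain ⟨g, h1, h2⟩ := ext w hR le_rfl (R_le_NQ w) ⟨v, hv, v1, isConj_iff.2 ⟨k, rfl⟩⟩
  refine fin w (key1 w ?_ h2) h1
  rcases w.tt_cases (R_le_NQ w hk) (by rw [s2]; exact (w.ct_S (one_mem _)).2) with h | h
  · exact fill_S w (w.mem_S_of_tt hk h)
  · exact fill_sig w hk h s2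

end Cfsg.Agent.WA.Lk
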