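import Cfsg.Agent.WA.Lk1b

/-! The points `A` and `P₀` form a block (module Lk4b, see PLAN_LK.md). -/

set_option autoImplicit false
set_option linter.unusedSectionVars false

namespace Cfsg.Agent.WA.Lk

open Subgroup Cfsg.Agent.H1.U3 Cfsg.Agent.H8 X1

variable {F : Type*} [Field F] [Finite F] {σ : F →+* F} [Ctx σ] {G : Type*} [Group G] [Finite G]

namespace X4b

theorem cube4 {a b c d : F} (ha : a ≠ 0) (hb : b ≠ 0) (hc : c ≠ 0) (hd : d ≠ 0) :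
    (∃ t, t ≠ 0 ∧ b = t ^ 3 * a) ∨ (∃ t, t ≠ 0 ∧ c = t ^ 3 * a) ∨ (∃ t, t ≠ 0 ∧ d = t ^ 3 * a) ∨
    (∃ t, t ≠ 0 ∧ c = t ^ 3 * b) ∨ (∃ t, t ≠ 0 ∧ d = t ^ 3 * b) ∨ ∃ t, t ≠ 0 ∧ d = t ^ 3 * c := by
  obtain ⟨ζ, hζ⟩ := IsCyclic.exists_generator (α := Fˣ)
  have ex : ∀ x : F, x ≠ 0 → ∃ i : ℤ, x = (ζ : F) ^ i := fun x hx => by
    obtain ⟨i, hi⟩ := hζ (Units.mk0 x hx)
    exact ⟨i, by simpa using (congrArg Units.val hi).symm⟩
  have key : ∀ i j : ℤ, i % 3 = j % 3 → ∃ t, t ≠ 0 ∧ (ζ : F) ^ j = t ^ 3 * (ζ : F) ^ i := fun i j e =>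
    ⟨(ζ : F) ^ ((j - i) / 3), zpow_ne_zero _ ζ.ne_zero, by
      rw [← zpow_natCast, ← zpow_mul, ← zpow_add₀ ζ.ne_zero]
      congr 1
      omega⟩
  obtain ⟨i, rfl⟩ := ex a ha
  obtain ⟨j, rfl⟩ := ex b hb
  obtain ⟨k, rfl⟩ := ex c hc
  obtain ⟨l, rfl⟩ := ex d hd
  have : i % 3 = j % 3 ∨ i % 3 = k % 3 ∨ i % 3 = l % 3 ∨ j % 3 = k % 3 ∨ j % 3 = l % 3 ∨ k % 3 = l % 3 := by
    omega
  exact this.imp (key _ _) (.imp (key _ _) (.imp (key _ _) (.imp (key _ _) (.imp (key _ _) (key _ _)))))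

/-- the polar form on coordinate vectors -/
def Bv (σ : F →+* F) (u v : F × F × F) : F := u.1 * v.2.1 + v.1 * u.2.1 + bl σ u.2.2 v.2.2

/-- admissible coordinate vectors -/
def Om (σ : F →+* F) (v : F × F × F) : Prop := σ v.1 = v.1 ∧ σ v.2.1 = v.2.1

/-- the singular vector with parameter `α` -/
def uu (σ : F →+* F) (α : F) : F × F × F := (1, nm σ α, α)

theorem Bv_smul {l : F} (hl : σ l = l) (u v : F × F × F) : Bv σ (l • u) v = l * Bv σ u v := by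
  simp only [Bv, bl, Prod.smul_fst, Prod.smul_snd, smul_eq_mul, map_mul, hl]; ring

theorem Bv_comm (u v : F × F × F) : Bv σ u v = Bv σ v u := by
  simp only [Bv, bl]; ring

theorem Bv_uu (a b : F) : Bv σ (uu σ a) (uu σ b) = nm σ (a + b) := by
  simp only [Bv, uu, nm_add]; ring

theorem nondeg {u v : F × F × F} (h : ∀ t, Om σ t → Bv σ u t = Bv σ v t) : u = v := by
  have h1 := h (0, 1, 0) ⟨map_zero σ, map_one σ⟩
  have h2 := h (1, 0, 0) ⟨map_one σ, map_zero σ⟩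
  simp only [Bv, bl_zero, mul_one, zero_mul, add_zero, mul_zero, zero_add, one_mul] at h1 h2
  refine Prod.ext h1 (Prod.ext h2 ((add0 σ).1 (by_contra fun e => ?_)))
  obtain ⟨b, hb⟩ := exists_bl e (map_one σ)
  have h3 := h (0, 0, b) ⟨map_zero σ, map_zero σ⟩
  simp only [Bv, mul_zero, zero_mul, zero_add] at h3
  rw [bl_add, h3, (add0 σ).2 rfl] at hb
  exact zero_ne_one hb

variable (w : Two σ G) {s r g k : G} {X Y Y' : Subgroup G}

/-- coordinates -/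
def co (s : G) : F × F × F := (w.ce (w.ee s), w.xx s, w.aa s)

theorem co_Om (hs : s ∈ w.S) : Om σ (co w s) := ⟨w.ceK' hs, w.xxK s hs⟩

theorem co_mul (hs : s ∈ w.S) (hr : r ∈ w.S) : co w (s * r) = co w s + co w r := by
  simp only [co, w.ee_mul s hs r hr, w.xx_mul s hs r hr, w.aa_mul s hs r hr,
    w.ce_mul _ (w.eeE s hs) _ (w.eeE r hr), Prod.mk_add_mk]

theorem cjS (hg : g ∈ normalizer (w.S : Set G)) (hs : s ∈ w.S) : g * s * g⁻¹ ∈ w.S :=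
  (mem_normalizer_iff.1 hg s).1 hs

theorem co_cj (hg : g ∈ normalizer (w.S : Set G)) (hs : s ∈ w.S) (hr : r ∈ w.S) (h : co w s = co w r) :
    co w (g * s * g⁻¹) = co w (g * r * g⁻¹) := by
  have := w.div_mem (w.S.inv_mem hs) (w.S.inv_mem hr)
    (by rw [(w.co_inv hs).1, (w.co_inv hr).1]; exact w.ce_eq (w.eeE s hs) (w.eeE r hr) (congrArg Prod.fst h))
    (by rw [(w.co_inv hs).2.1, (w.co_inv hr).2.1]; exact congrArg (·.2.1) h)
    (by rw [(w.co_inv hs).2.2, (w.co_inv hr).2.2]; exact congrArg (·.2.2) h)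
  obtain ⟨a, b, c⟩ := w.co_V_mul ((mem_normalizer_iff.1 (w.NS_le_NV hg) _).1 this) (cjS w hg hr)
  rw [show g * (s⁻¹⁻¹ * r⁻¹) * g⁻¹ * (g * r * g⁻¹) = g * s * g⁻¹ by group] at a b c
  simp only [co, a, b, c]

theorem co_pt {α : F} (hs : s ∈ w.pt α) : co w s = (co w s).1 • uu σ α := by
  simp only [co, uu, Prod.smul_mk, smul_eq_mul, mul_one, ← hs.2.1, ← hs.2.2]

theorem co_surj (hq : Nat.card w.E = w.q) {v : F × F × F} (hv : Om σ v) : ∃ s ∈ w.S, co w s = v := by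
  obtain ⟨e, he, e1⟩ := w.ce_surj hq hv.1
  obtain ⟨s, hs, a, b, c⟩ := w.surj e he v.2.1 v.2.2 hv.2
  exact ⟨s, hs, by simp only [co, a, b, c, e1]⟩

theorem ex_pt (α : F) : ∃ s ∈ w.pt α, w.ce (w.ee s) ≠ 0 := by
  obtain ⟨e, he, e1⟩ := w.ex_e
  obtain ⟨s, hs, a, b, c⟩ := w.surj e he (w.ce e * nm σ α) (w.ce e * α) (by rw [map_mul, w.ceK e he, nmK])
  exact ⟨s, ⟨hs, by rw [a, b], by rw [a, c]⟩, a ▸ w.ce_ne he e1⟩

theorem pt_inj {α β : F} (h : w.pt α = w.pt β) : α = β := by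
  obtain ⟨s, hs, c⟩ := ex_pt w α
  exact mul_left_cancel₀ c (hs.2.2.symm.trans (h ▸ hs : s ∈ w.pt β).2.2)

theorem pt_ne (α : F) : w.pt α ≠ w.P0 := fun h => by
  obtain ⟨s, hs, c⟩ := ex_pt w α
  exact c (by rw [(h ▸ hs : s ∈ w.P0).2.1, w.ce_one])

theorem d_NS (μ : Fˣ) : w.d μ ∈ normalizer (w.S : Set G) := w.MS (w.D_le_M (w.d_mem_D μ))

theorem cj_d (μ : Fˣ) (α : F) : cj (w.d μ) (w.pt α) = w.pt (w.cc (w.d μ) * α) := by
  refine eq_of_le_of_card_ge (fun t ht => ?_) (by rw [card_cj, w.card_pt, w.card_pt])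
  obtain ⟨s, hs, rfl⟩ : ∃ s ∈ w.pt α, t = w.d μ * s * (w.d μ)⁻¹ := ⟨_, mem_cj.1 ht, by group⟩
  obtain ⟨a, b, c⟩ := w.D_act _ (w.d_mem_D μ) s hs.1
  rw [(w.ct_d μ).2.1] at b c
  refine ⟨cjS w (d_NS w μ) hs.1, ?_, ?_⟩
  · rw [a, b, nm_mul]; change _ * w.xx s = _; rw [hs.2.1]; ring
  · rw [a, c]; change _ * w.aa s = _; rw [hs.2.2]; ring

theorem point (hc : w.c = 0) (hq : Nat.card w.E = w.q) (hg : g ∈ normalizer (w.S : Set G)) (hX : X ≤ w.S)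
    (h2 : ∀ x ∈ X, x * x = 1) (h : Nat.card X = w.q * w.q) : cj g X = w.P0 ∨ ∃ α, cj g X = w.pt α :=
  (w.ts hc (cj_le_of_mem_normalizer hg hX) (cj_sq h2 g)).imp
    (fun a => eq_of_le_of_card_ge a (by rw [card_cj, h, w.card_P0, pow_two]))
    fun ⟨α, a⟩ => ⟨α, eq_of_le_of_card_ge a (by rw [card_cj, h, w.card_pt, hq])⟩

/-- the action of a conjugate of `d l` -/
theorem key (hq : Nat.card w.E = w.q) (hg : g ∈ normalizer (w.S : Set G)) {a p : F} (hap : a ≠ p)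
    (h1 : cj g w.A = w.pt a) (h2 : cj g w.P0 = w.pt p) :
    ∃ l, σ l = l ∧ l ≠ 0 ∧ l ≠ 1 ∧ ∃ k ∈ normalizer (w.S : Set G), ∀ s ∈ w.S,
      nm σ (a + p) • co w (k * s * k⁻¹) = (nm σ (a + p) * l) • co w s +
        ((1 + l) * Bv σ (co w s) (uu σ p)) • uu σ a + ((l + l ^ 2) * Bv σ (co w s) (uu σ a)) • uu σ p := by
  choose! ρ ρS ρc using fun v => co_surj w hq (v := v)
  obtain ⟨φ, hφ⟩ : ∃ φ : F × F × F → F × F × F, φ = fun v => co w (g * ρ v * g⁻¹) := ⟨_, rfl⟩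
  have φc : ∀ r ∈ w.S, φ (co w r) = co w (g * r * g⁻¹) := fun r hr =>
    hφ ▸ co_cj w hg (ρS _ (co_Om w hr)) hr (ρc _ (co_Om w hr))
  have φO : ∀ v, Om σ v → Om σ (φ v) := fun v hv => hφ ▸ co_Om w (cjS w hg (ρS v hv))
  have φa : ∀ u v, Om σ u → Om σ v → φ (u + v) = φ u + φ v := fun u v hu hv => by
    rw [← ρc u hu, ← ρc v hv, ← co_mul w (ρS u hu) (ρS v hv), φc _ (mul_mem (ρS u hu) (ρS v hv)), ← conj_mul,
      co_mul w (cjS w hg (ρS u hu)) (cjS w hg (ρS v hv)), φc _ (ρS u hu), φc _ (ρS v hv)]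
  have φv : ∀ u v, Om σ u → Om σ v → w.vv (Bv σ (φ u) (φ v)) = g * w.vv (Bv σ u v) * g⁻¹ := fun u v hu hv => by
    have e1 := w.cm _ (ρS u hu) _ (ρS v hv)
    have e2 := w.cm _ (cjS w hg (ρS u hu)) _ (cjS w hg (ρS v hv))
    change _ = w.vv (Bv σ (co w _) (co w _)) at e1 e2
    rw [ρc u hu, ρc v hv] at e1
    rw [hφ, ← e1, ← e2]
    group
  have BK : ∀ u v, Om σ u → Om σ v → σ (Bv σ u v) = Bv σ u v := fun u v hu hv => by
    simp only [Bv, map_add, map_mul, hu.1, hu.2, hv.1, hv.2, blK]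
  have φB : ∀ u v u' v', Om σ u → Om σ v → Om σ u' → Om σ v' →
      (Bv σ (φ u) (φ v) = Bv σ (φ u') (φ v') ↔ Bv σ u v = Bv σ u' v') := fun u v u' v' hu hv hu' hv' =>
    ⟨fun e => w.vv_inj (BK _ _ hu hv) (BK _ _ hu' hv') (by
        have := φv u v hu hv
        rw [e, φv u' v' hu' hv'] at this
        simpa using this.symm),
      fun e => w.vv_inj (BK _ _ (φO u hu) (φO v hv)) (BK _ _ (φO u' hu') (φO v' hv'))
        (by rw [φv u v hu hv, φv u' v' hu' hv', e])⟩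
  have o1 : ∀ y, σ y = y → Om σ (y, 0, 0) := fun y hy => ⟨hy, map_zero σ⟩
  have o2 : ∀ y, σ y = y → Om σ (0, y, 0) := fun y hy => ⟨map_zero σ, hy⟩
  have f1 : ∀ y, σ y = y → φ (y, 0, 0) = (φ (y, 0, 0)).1 • uu σ a := fun y hy => by
    have c := ρc _ (o1 y hy)
    rw [hφ]
    exact co_pt w (h1 ▸ conj_mem_cj g (w.mem_A.2 ⟨ρS _ (o1 y hy), congrArg (·.2.1) c, congrArg (·.2.2) c⟩))
  have f2 : ∀ y, σ y = y → φ (0, y, 0) = (φ (0, y, 0)).1 • uu σ p := fun y hy => by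
    have c := ρc _ (o2 y hy)
    have m := ρS _ (o2 y hy)
    rw [hφ]
    exact co_pt w (h2 ▸ conj_mem_cj g
      (show _ ∈ w.P0 from ⟨m, w.ce_inj _ (w.eeE _ m) (congrArg Prod.fst c), congrArg (·.2.2) c⟩))
  have n0 : nm σ (a + p) ≠ 0 := fun e => hap ((add0 σ).1 (nm0.1 e))
  have iso : ∀ y x, σ y = y → σ x = x → Bv σ (φ (y, 0, 0)) (φ (0, x, 0)) =
      (φ (y, 0, 0)).1 * ((φ (0, x, 0)).1 * nm σ (a + p)) := fun y x hy hx => by
    rw [← Bv_uu, Bv_comm (uu σ a), ← Bv_smul (φO _ (o2 x hx)).1, ← f2 x hx, Bv_comm (φ (0, x, 0)),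
      ← Bv_smul (φO _ (o1 y hy)).1, ← f1 y hy]
  have B12 : ∀ y x : F, Bv σ (y, 0, 0) (0, x, 0) = y * x := fun y x => by simp [Bv, bl]
  have k1 := map_one σ
  have φ0 : φ (0, 0, 0) = 0 := by
    have := φa _ _ (o1 0 (map_zero σ)) (o1 0 (map_zero σ))
    simpa using this
  have nz : (φ (1, 0, 0)).1 * ((φ (0, 1, 0)).1 * nm σ (a + p)) ≠ 0 := fun e => by
    have := (φB _ _ _ _ (o1 1 k1) (o2 1 k1) (o1 0 (map_zero σ)) (o2 1 k1)).1 (by
      rw [iso 1 1 k1 k1, e, φ0]; simp [Bv, bl])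
    rw [B12, B12] at this
    simp at this
  have z1 := left_ne_zero_of_mul nz
  have z2 := left_ne_zero_of_mul (right_ne_zero_of_mul nz)
  obtain ⟨m, hm, m0, m1, -⟩ := w.exists_K 1 1
  obtain ⟨l, hl⟩ : ∃ l, (φ (m, 0, 0)).1 = l * (φ (1, 0, 0)).1 := ⟨_, (div_mul_cancel₀ _ z1).symm⟩
  have lK : σ l = l := mul_right_cancel₀ z1 (by
    rw [← hl, ← (φO _ (o1 m hm)).1, hl, map_mul, (φO _ (o1 1 k1)).1])
  have oS : ∀ v, Om σ v → Om σ (m • v) := fun v hv =>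
    ⟨by rw [Prod.smul_fst, smul_eq_mul, map_mul, hm, hv.1], by
      rw [Prod.smul_snd, Prod.smul_fst, smul_eq_mul, map_mul, hm, hv.2]⟩
  have φs : ∀ v, Om σ v → φ (m • v) = l • φ v := fun v hv => nondeg (σ := σ) fun t ht => by
    obtain ⟨r, hr, rfl⟩ := co_surj w hq ht
    have hr' := cjS w (inv_mem hg) hr
    have b := BK _ _ hv (co_Om w hr')
    rw [show r = g * (g⁻¹ * r * g⁻¹⁻¹) * g⁻¹ by group, ← φc _ hr', Bv_smul lK,
      (φB _ _ _ _ (oS v hv) (co_Om w hr') (o1 m hm) (o2 _ b)).2 (by rw [B12, Bv_smul hm]),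
      (φB _ _ _ _ hv (co_Om w hr') (o1 1 k1) (o2 _ b)).2 (by rw [B12, one_mul]), iso _ _ hm b, iso _ _ k1 b, hl]
    ring
  refine ⟨l, lK, fun e => ?_, fun e => ?_, g * w.d (Units.mk0 m m0) * g⁻¹,
    mul_mem (mul_mem hg (d_NS w _)) (inv_mem hg), fun s hs => ?_⟩
  · have := (φB _ _ _ _ (o1 m hm) (o2 1 k1) (o1 0 (map_zero σ)) (o2 1 k1)).1 (by
      rw [iso m 1 hm k1, hl, e, φ0]; simp [Bv, bl])
    rw [B12, B12] at this
    exact m0 (by simpa using this)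
  · have := (φB _ _ _ _ (o1 m hm) (o2 1 k1) (o1 1 k1) (o2 1 k1)).1 (by
      rw [iso m 1 hm k1, iso 1 1 k1 k1, hl, e, one_mul])
    rw [B12, B12] at this
    exact m1 (by simpa using this)
  obtain ⟨r, hr, rfl⟩ : ∃ r ∈ w.S, s = g * r * g⁻¹ := ⟨_, cjS w (inv_mem hg) hs, by group⟩
  obtain ⟨hy, hx⟩ := co_Om w hr
  obtain ⟨c1, c2, c3⟩ := w.D_act _ (w.d_mem_D (Units.mk0 m m0)) r hr
  rw [(w.ct_d _).2.1, w.cc_d_K (μ := Units.mk0 m m0) hm] at c2 c3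
  have e : co w (w.d (Units.mk0 m m0) * r * (w.d (Units.mk0 m m0))⁻¹) = m • co w r + (((co w r).1, 0, 0) +
      (m • ((co w r).1, 0, 0) + (m • (0, (co w r).2.1, 0) + m • m • (0, (co w r).2.1, 0)))) := by
    simp only [co, c1, c2, c3, Units.val_mk0, nm_K hm, RingAut.one_apply, Prod.smul_mk, Prod.mk_add_mk, smul_eq_mul]
    refine Prod.ext ?_ (Prod.ext ?_ ?_)
    · simp only; linear_combination -m * w.ce (w.ee r) * two σ
    · simp only; linear_combination -m * w.xx r * two σ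
    · simp only; ring
  have oa : ∀ u v, Om σ u → Om σ v → Om σ (u + v) := fun u v hu hv =>
    ⟨by rw [Prod.fst_add, map_add, hu.1, hv.1], by rw [Prod.snd_add, Prod.fst_add, map_add, hu.2, hv.2]⟩
  have g1 := (φB _ _ _ _ (co_Om w hr) (o2 1 k1) (o1 _ hy) (o2 1 k1)).2 (by simp [Bv, bl])
  have g2 := (φB _ _ _ _ (o1 1 k1) (co_Om w hr) (o1 1 k1) (o2 _ hx)).2 (by simp [Bv, bl])
  rw [iso _ _ hy k1, f2 1 k1, Bv_comm, Bv_smul (φO _ (o2 1 k1)).1, Bv_comm, ← f2 1 k1, mul_left_comm,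
    mul_right_inj' z2] at g1
  rw [iso _ _ k1 hx, f1 1 k1, Bv_smul (φO _ (o1 1 k1)).1, Bv_comm, ← f1 1 k1, mul_right_inj' z1] at g2
  rw [show g * w.d (Units.mk0 m m0) * g⁻¹ * (g * r * g⁻¹) * (g * w.d (Units.mk0 m m0) * g⁻¹)⁻¹ =
    g * (w.d (Units.mk0 m m0) * r * (w.d (Units.mk0 m m0))⁻¹) * g⁻¹ by group, ← φc _ (cjS w (d_NS w _) hr),
    ← φc _ hr, e, g1, g2,
    φa _ _ (oS _ (co_Om w hr)) (oa _ _ (o1 _ hy) (oa _ _ (oS _ (o1 _ hy)) (oa _ _ (oS _ (o2 _ hx))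
      (oS _ (oS _ (o2 _ hx)))))),
    φa _ _ (o1 _ hy) (oa _ _ (oS _ (o1 _ hy)) (oa _ _ (oS _ (o2 _ hx)) (oS _ (oS _ (o2 _ hx))))),
    φa _ _ (oS _ (o1 _ hy)) (oa _ _ (oS _ (o2 _ hx)) (oS _ (oS _ (o2 _ hx)))),
    φa _ _ (oS _ (o2 _ hx)) (oS _ (oS _ (o2 _ hx))), φs _ (oS _ (o2 _ hx)), φs _ (o2 _ hx), φs _ (o1 _ hy),
    φs _ (co_Om w hr)]
  have f1' := f1 _ hy
  have f2' := f2 _ hx
  generalize (φ ((co w r).1, 0, 0)).1 = y at f1' ⊢
  generalize (φ (0, (co w r).2.1, 0)).1 = x at f2' ⊢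
  rw [f1', f2']
  module

/-- images of the pair `(A, P₀)` -/
def Pr (X Y : Subgroup G) : Prop := ∃ k ∈ normalizer (w.S : Set G), cj k w.A = X ∧ cj k w.P0 = Y

theorem cj_of_eq {g k : G} {X Y : Subgroup G} (h : cj g X = cj k Y) : cj (k⁻¹ * g) X = Y := by
  rw [cj_mul, h, cj_inv_cj]

theorem eq_of_cj {g k : G} {X Y : Subgroup G} (h : cj (k⁻¹ * g) X = Y) : cj g X = cj k Y := by
  rw [← h, ← cj_mul, mul_inv_cancel_left]

variable {w}

theorem Pr.func (h : Pr w X Y) (h' : Pr w X Y') : Y = Y' := by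
  obtain ⟨k, -, rfl, rfl⟩ := h
  obtain ⟨g, -, e, rfl⟩ := h'
  exact (eq_of_cj (cj_eq_self (w.M_le_NP (cj_eq_self_iff.1 (cj_of_eq e))))).symm

theorem Pr.scale {α β : F} (h : Pr w (w.pt α) (w.pt β)) (μ : Fˣ) :
    Pr w (w.pt (w.cc (w.d μ) * α)) (w.pt (w.cc (w.d μ) * β)) := by
  obtain ⟨k, hk, a, b⟩ := h
  exact ⟨w.d μ * k, mul_mem (d_NS w μ) hk, by rw [cj_mul, a, cj_d], by rw [cj_mul, b, cj_d]⟩

variable (hc : w.c = 0) (hq : Nat.card w.E = w.q)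
  (hP : ∀ g ∈ normalizer (w.S : Set G), g ∈ normalizer (w.P0 : Set G) → cj g w.A = w.A)
include hP

theorem Pr.inj (h : Pr w Y X) (h' : Pr w Y' X) : Y = Y' := by
  obtain ⟨k, hk, rfl, rfl⟩ := h
  obtain ⟨g, hg, rfl, e⟩ := h'
  exact (eq_of_cj (hP _ (mul_mem (inv_mem hk) hg) (cj_eq_self_iff.1 (cj_of_eq e)))).symm

include hc hq

omit hP in
theorem ptA (hg : g ∈ normalizer (w.S : Set G)) : cj g w.A = w.P0 ∨ ∃ α, cj g w.A = w.pt α :=
  point w hc hq hg w.A_le (fun _ => w.A_sq) (by rw [w.card_A, hq])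

omit hP in
theorem ptP (hg : g ∈ normalizer (w.S : Set G)) : cj g w.P0 = w.P0 ∨ ∃ α, cj g w.P0 = w.pt α :=
  point w hc hq hg (fun _ a => a.1) (fun _ => w.P0_sq hc) (by rw [w.card_P0, pow_two])

theorem swap (hg : g ∈ normalizer (w.S : Set G)) (h : cj g w.P0 = w.A) : cj g w.A = w.P0 := by
  refine (ptA hc hq hg).resolve_right fun ⟨α, e⟩ => ?_
  obtain ⟨m, hm, m0, m1, -⟩ := w.exists_K 1 1
  have d1 := w.D_le_M (w.d_mem_D (Units.mk0 m m0))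
  have := eq_of_cj (k := g) (hP (g⁻¹ * (w.d (Units.mk0 m m0) * g))
    (mul_mem (inv_mem hg) (mul_mem (d_NS w _) hg))
    (cj_eq_self_iff.1 (cj_of_eq (by rw [cj_mul, h, cj_eq_self d1]))))
  rw [cj_mul, e, cj_d, w.cc_d_K (μ := Units.mk0 m m0) hm] at this
  have α0 : α = 0 := by_contra fun a => m1 (mul_right_cancel₀ a ((pt_inj w this).trans (one_mul α).symm))
  rw [α0, w.pt_zero] at e
  exact pt_ne w 0 (by rw [w.pt_zero, ← h, cj_eq_self (w.M_le_NP (cj_eq_self_iff.1 e))])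

theorem Pr.cross (h : Pr w X Y) (h' : Pr w Y' X) : Y' = Y := by
  obtain ⟨k, hk, rfl, rfl⟩ := h
  obtain ⟨g, hg, rfl, e⟩ := h'
  exact eq_of_cj (swap hc hq hP (mul_mem (inv_mem hk) hg) (cj_of_eq e))

omit hc hq hP in
theorem Pr.ne {α β : F} (h : Pr w (w.pt α) (w.pt β)) : α ≠ β := by
  rintro rfl
  obtain ⟨k, -, a, b⟩ := h
  exact pt_ne w 0 (w.pt_zero ▸ cj_injective k (a.trans b.symm))

theorem Pr.not_d {α β : F} (h : Pr w (w.pt α) (w.pt β)) (hα : α ≠ 0) (μ : Fˣ) : β ≠ w.cc (w.d μ) * α := fun e => by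
  have h2 := h.scale μ
  rw [← e] at h2
  have := pt_inj w (Pr.cross hc hq hP h2 h)
  refine h.ne ?_
  have c : (w.cc (w.d μ) + 1) ^ 2 * α = 0 := by
    rw [e] at this
    linear_combination -this + (w.cc (w.d μ) + 1) * α * two σ
  have c1 := (add0 σ).1 (pow_eq_zero_iff two_ne_zero |>.1 ((mul_eq_zero.1 c).resolve_right hα))
  rw [e, c1, one_mul]

end X4b

open X4b in
/-- module Lk4b -/
theorem Two.pair (w : Two σ G) (hc : w.c = 0) (hq : Nat.card w.E = w.q)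
    (hP : ∀ g ∈ normalizer (w.S : Set G), g ∈ normalizer (w.P0 : Set G) → cj g w.A = w.A)
    {g : G} (hg : g ∈ normalizer (w.S : Set G)) :
    (cj g w.A = w.A ∧ cj g w.P0 = w.P0) ∨ (cj g w.A = w.P0 ∧ cj g w.P0 = w.A) := by
  have back : ∀ k ∈ normalizer (w.S : Set G), cj k w.A = w.P0 → cj k w.P0 = w.A := fun k hk e => by
    rw [← swap hc hq hP (inv_mem hk) (by rw [← e, cj_inv_cj]), cj_cj_inv]
  rcases ptA hc hq hg with h1 | ⟨a, h1⟩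
  · exact Or.inr ⟨h1, back g hg h1⟩
  rcases ptP hc hq hg with h2 | ⟨p, h2⟩
  · exact Or.inl ⟨hP g hg (cj_eq_self_iff.1 h2), h2⟩
  exfalso
  have pr : Pr w (w.pt a) (w.pt p) := ⟨g, hg, h1, h2⟩
  have nz : ∀ α β, Pr w (w.pt α) (w.pt β) → α ≠ 0 ∧ β ≠ 0 := fun α β ⟨k, hk, a, b⟩ =>
    ⟨fun e => pt_ne w β (by
      rw [e, w.pt_zero] at a
      rw [← b, cj_eq_self (w.M_le_NP (cj_eq_self_iff.1 a))]),
    fun e => pt_ne w α (by rw [← a, swap hc hq hP hk (by rw [b, e, w.pt_zero])])⟩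
  obtain ⟨a0, p0⟩ := nz a p pr
  obtain ⟨l, hl, l0, l1, k, hk, H⟩ := key w hq hg pr.ne h1 h2
  have n0 : nm σ (a + p) ≠ 0 := fun e => pr.ne ((add0 σ).1 (nm0.1 e))
  have l1' : 1 + l ≠ 0 := fun e => l1 ((add0 σ).1 e).symm
  have t := two σ
  obtain ⟨e, he, e1⟩ := w.ce_surj hq (map_one σ)
  obtain ⟨s, hs, s1, s2, s3⟩ := w.surj 1 w.E.one_mem 1 0 (map_one σ)
  obtain ⟨e2, e3, e4⟩ := w.on_E e he
  have He := H e (w.ES he)
  have Hs := H s hs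
  have y0 := congrArg Prod.fst He
  have a0' := congrArg (·.2.2) He
  have y1 := congrArg Prod.fst Hs
  have a1 := congrArg (·.2.2) Hs
  simp only [co, uu, Bv, e1, e2, e3, e4, s1, s2, s3, w.ce_one, zero_bl, Prod.smul_mk, Prod.mk_add_mk, smul_eq_mul,
    mul_one, mul_zero, zero_add, add_zero, one_mul, zero_mul] at y0 a0' y1 a1
  have me : k * e * k⁻¹ ∈ cj k w.A := conj_mem_cj k (mem_sup_left he)
  have ms : k * s * k⁻¹ ∈ cj k w.P0 := conj_mem_cj k (show s ∈ w.P0 from ⟨hs, s1, s3⟩)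
  have y0' : nm σ (a + p) * w.ce (w.ee (k * e * k⁻¹)) = nm σ (p + l * a) := by
    rw [y0]
    simp only [nm, map_add, map_mul, hl]
    linear_combination (l * σ a * a + l * σ p * p) * t
  obtain ⟨β, k2⟩ := (ptP hc hq hk).resolve_left fun b => by
    rw [(b ▸ ms : _ ∈ w.P0).2.1, w.ce_one] at y1
    exact mul_ne_zero l1' l1' (by linear_combination -y1)
  have hβ : (1 + l) * β = a + l * p := mul_left_cancel₀ l1' (by
    rw [(k2 ▸ ms : _ ∈ w.pt β).2.2] at a1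
    linear_combination a1 - β * y1)
  obtain ⟨α, k1⟩ := (ptA hc hq hk).resolve_left fun b => by
    have b0 := pt_inj w (k2.symm.trans ((back k hk b).trans w.pt_zero.symm))
    rw [(b ▸ me : _ ∈ w.P0).2.1, w.ce_one, mul_zero] at y0'
    have := nm0.1 y0'.symm
    rw [b0, mul_zero] at hβ
    refine mul_ne_zero (mul_ne_zero l1' l1') a0 ?_
    linear_combination l * this - hβ + (l * a - l * p) * t
  have pr' : Pr w (w.pt α) (w.pt β) := ⟨k, hk, k1, k2⟩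
  obtain ⟨α0, β0⟩ := nz α β pr'
  have m := (k1 ▸ me : _ ∈ w.pt α)
  have pl : p + l * a ≠ 0 := fun z => by
    rw [z, nm_zero, mul_eq_zero_iff_left n0] at y0'
    have v := (w.kerV _ m.1).2 ⟨w.ce_inj _ (w.eeE _ m.1) y0', by rw [m.2.1, y0', zero_mul],
      by rw [m.2.2, y0', zero_mul]⟩
    refine w.E_not_V he (fun z => ?_) ((mem_normalizer_iff.1 (w.NS_le_NV hk) e).2 v)
    rw [z, w.ce_one] at e1
    exact zero_ne_one e1
  have hα : (p + l * a) * α = (1 + l) * a * p := mul_left_cancel₀ ((map_ne_zero σ).2 pl) (by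
    rw [m.2.2, ← mul_assoc, y0'] at a0'
    simp only [nm, map_add, map_mul, hl] at a0' ⊢
    linear_combination a0')
  have notK : ∀ x y : F, σ x = x → σ y = y → x ≠ 0 ∨ y ≠ 0 → x * p ≠ y * a := fun x y hx hy h0 e => by
    have y0 : y ≠ 0 := h0.elim (fun x0 z => mul_ne_zero x0 p0 (by rw [e, z, zero_mul])) id
    have x0 : x ≠ 0 := fun z => mul_ne_zero y0 a0 (by rw [← e, z, zero_mul])
    have hk : σ (y / x) = y / x := by rw [map_div₀, hx, hy]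
    refine pr.not_d hc hq hP a0 (Units.mk0 _ (div_ne_zero y0 x0)) ?_
    rw [w.cc_d_K (μ := Units.mk0 _ (div_ne_zero y0 x0)) hk, Units.val_mk0]
    field_simp
    linear_combination e
  have ap : a + p ≠ 0 := fun e => n0 (nm0.2 e)
  have lK : σ (l ^ 2 + l + 1) = l ^ 2 + l + 1 := by rw [map_add, map_add, map_pow, hl, map_one]
  have r1 : β * a ≠ α * p := fun e => notK _ _ lK hl (Or.inr l0) (mul_left_cancel₀ (mul_ne_zero a0 ap) (by
    linear_combination (p + l * a) * (1 + l) * e - a * (p + l * a) * hβ + p * (1 + l) * hα +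
      a * ((l ^ 2 + l + 1) * p ^ 2 - l * a ^ 2) * t))
  have r2 : β * p ≠ α * a := fun e => notK _ _ hl lK (Or.inl l0) (mul_left_cancel₀ (mul_ne_zero p0 ap) (by
    linear_combination (p + l * a) * (1 + l) * e - p * (p + l * a) * hβ + a * (1 + l) * hα -
      (1 + l ^ 2) * a * p ^ 2 * t))
  have cu : ∀ {x y : F}, (∃ t, t ≠ 0 ∧ y = t ^ 3 * x) → ∃ μ, y = w.cc (w.d μ) * x := fun ⟨t, t0, e⟩ => by
    obtain ⟨μ, hμ⟩ := w.exists_d_cube t0
    exact ⟨μ, by rw [hμ, e]⟩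
  rcases cube4 a0 p0 α0 β0 with c | c | c | c | c | c <;> obtain ⟨μ, c⟩ := cu c
  · exact pr.not_d hc hq hP a0 μ c
  · have := pt_inj w (pr'.func (c ▸ pr.scale μ))
    exact r1 (by rw [this, c]; ring)
  · have := pt_inj w (Pr.cross hc hq hP (pr.scale μ) (c ▸ pr'))
    exact r2 (by rw [this, c]; ring)
  · have := pt_inj w (Pr.cross hc hq hP pr' (c ▸ pr.scale μ))
    exact r2 (by rw [← this, c]; ring)
  · have := pt_inj w (Pr.inj hP pr' (c ▸ pr.scale μ))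
    exact r1 (by rw [this, c]; ring)
  · exact pr'.not_d hc hq hP α0 μ c

end Cfsg.Agent.WA.Lk
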