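import Cfsg.Agent.WA.Lk4a

/-! Module Lk4c: `V` is strongly closed in a Sylow subgroup of `N(S)` in the swap case. -/

set_option autoImplicit false
set_option linter.unusedSectionVars false
set_option linter.unusedVariables false

namespace Cfsg.Agent.WA.Lk

open Subgroup Cfsg.Agent.H1.U3 Cfsg.Agent.H8
open Cfsg.Agent.WA.Rw (conj_mem' conj_mem'' norm_of mem_c1 mem_cH)

variable {F : Type*} [Field F] [Finite F] {σ : F →+* F} [Ctx σ] {G : Type*} [Group G] [Finite G]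

namespace X4

theorem fillK (f : Fr σ G) {L K₀ : F → Prop} (add : ∀ a b, L a → L b → L (a + b))
    (idx : ∀ a b, ¬ L a → ¬ L b → L (a + b)) (hK : ∀ a b, L a → L b → K₀ (bl σ a b)) {x : F} (hx : σ x = x) : K₀ x := by
  obtain ⟨l, l1, l0, l2, -⟩ := f.exists_K 1 1
  have l3 : 1 + l ≠ 0 := fun e => l2 (by linear_combination e - two σ)
  obtain ⟨a, a0, ha⟩ : ∃ a, a ≠ 0 ∧ L a := by
    by_cases h1 : L 1
    · exact ⟨1, one_ne_zero, h1⟩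
    by_cases h2 : L l
    exacts [⟨l, l0, h2⟩, ⟨_, l3, idx _ _ h1 h2⟩]
  obtain ⟨b, rfl⟩ := exists_bl (σ := σ) a0 hx
  by_cases hb : L b
  · exact hK a b ha hb
  by_cases h : ∀ k, σ k = k → L (k * a)
  · have key : ∀ k, σ k = k → k ≠ 0 → L (k * b) → K₀ (bl σ a b) := fun k k1 k0 hk => by
      have := hK _ _ (h k⁻¹ (by rw [map_inv₀, k1])) hk
      rwa [show bl σ (k⁻¹ * a) (k * b) = bl σ a b by
        simp only [bl, map_mul, map_inv₀, k1]; field_simp] at this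
    by_cases h2 : L (l * b)
    · exact key l l1 l0 h2
    · exact key (1 + l) (by rw [map_add, map_one, l1]) l3 (by rw [add_mul, one_mul]; exact idx _ _ hb h2)
  · push Not at h
    obtain ⟨k, k1, hk⟩ := h
    have := hK _ _ ha (idx _ _ hb hk)
    rwa [show bl σ a (b + k * a) = bl σ a b by
      simp only [bl, map_mul, map_add, k1]; linear_combination k * σ a * a * two σ] at this

theorem VC_cj (f : Fr σ G) {s : G} (h : f.VC s) (g : G) : f.VC (g * s * g⁻¹) :=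
  let ⟨v, hv, v1, c⟩ := h
  ⟨v, hv, v1, c.trans (isConj_iff.2 ⟨g, rfl⟩)⟩

theorem VC_of (f : Fr σ G) {s g : G} (h : f.VC (g * s * g⁻¹)) : f.VC s := by
  simpa [mul_assoc] using VC_cj f h g⁻¹

theorem VC_sq (f : Fr σ G) {s : G} (h : f.VC s) : s * s = 1 := by
  obtain ⟨v, hv, -, c⟩ := h
  obtain ⟨k, rfl⟩ := isConj_iff.1 c
  rw [show k * v * k⁻¹ * (k * v * k⁻¹) = k * (v * v) * k⁻¹ by group, f.V_sq hv]; group

/-- the hypotheses of the swap case; `P` is a Sylow 2-subgroup of `N(S)` -/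
structure Sw (w : Two σ G) (P : Subgroup G) : Prop where
  hc : w.c = 0
  hq : Nat.card w.E = w.q
  hX : ∀ g ∈ normalizer (w.S : Set G), (cj g w.A = w.A ∧ cj g w.P0 = w.P0) ∨ (cj g w.A = w.P0 ∧ cj g w.P0 = w.A)
  syl : IsSylowIn 2 P (normalizer (w.S : Set G))
  RP : w.R ≤ P

variable {w : Two σ G} {a b e g r s u v y z : G} {x : F} {P X : Subgroup G}

theorem cm_zero (hs : s ∈ w.S) (hr : r ∈ w.S) (h : s * r = r * s) :
    w.ce (w.ee s) * w.xx r + w.ce (w.ee r) * w.xx s + bl σ (w.aa s) (w.aa r) = 0 :=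
  vv_eq_one w (cm_K w hs hr) (by rw [← w.cm s hs r hr, h]; group)

theorem E_le_A : w.E ≤ w.A := le_sup_left

theorem exists_p (hx : σ x = x) : ∃ p ∈ w.P0, w.xx p = x := by
  obtain ⟨p, hp, h1, h2, h3⟩ := w.surj 1 (one_mem _) x 0 hx
  exact ⟨p, ⟨hp, h1, h3⟩, h2⟩

namespace Sw

variable (h : Sw w P)
include h

theorem NQ (hg : g ∈ normalizer (w.S : Set G)) : g ∈ normalizer (w.Q : Set G) := norm_of fun u hu => by
  obtain ⟨uS, u1, u2⟩ := w.mem_Q.1 hu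
  have cA : ∀ a ∈ w.A, a * u = u * a := fun a ha => by
    obtain ⟨aS, a1, a2⟩ := w.mem_A.1 ha
    exact comm_of w aS uS (by rw [u2, a1, a2]; simp [bl])
  have cP : ∀ a ∈ w.P0, a * u = u * a := fun a ha =>
    comm_of w ha.1 uS (by rw [u2, u1, ha.2.2, ce_one]; simp [bl])
  have key : ∀ a, g⁻¹ * a * g * u = u * (g⁻¹ * a * g) → a * (g * u * g⁻¹) = g * u * g⁻¹ * a := fun a e => by
    calc _ = g * (g⁻¹ * a * g * u) * g⁻¹ := by group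
      _ = _ := by rw [e]; group
  have both : (∀ a ∈ w.A, a * (g * u * g⁻¹) = g * u * g⁻¹ * a) ∧ ∀ a ∈ w.P0, a * (g * u * g⁻¹) = g * u * g⁻¹ * a := by
    rcases h.hX g hg with ⟨e1, e2⟩ | ⟨e1, e2⟩
    · exact ⟨fun a ha => key a (cA _ (mem_cj.1 (e1.ge ha))), fun a ha => key a (cP _ (mem_cj.1 (e2.ge ha)))⟩
    · exact ⟨fun a ha => key a (cP _ (mem_cj.1 (e2.ge ha))), fun a ha => key a (cA _ (mem_cj.1 (e1.ge ha)))⟩
  have m := conj_mem' hg uS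
  obtain ⟨e, he, e1⟩ := exists_e w
  obtain ⟨p, hp, p1⟩ := exists_p (w := w) (map_one σ)
  have c1 := cm_zero (w.ES he) m (both.1 e (E_le_A he))
  have c2 := cm_zero hp.1 m (both.2 p hp)
  rw [(w.on_E e he).1, (w.on_E e he).2.1, (w.on_E e he).2.2] at c1
  rw [hp.2.1, hp.2.2, p1, ce_one] at c2
  simp only [bl, map_zero, zero_mul, mul_zero, add_zero, mul_one, zero_add, mul_eq_zero] at c1 c2
  exact w.mem_Q.2 ⟨m, w.ce_inj _ (w.eeE _ m) c2, c1.resolve_left fun c => e1 (w.ce_inj e he c)⟩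

theorem PN : P ≤ normalizer (w.Q : Set G) := fun _ hg => h.NQ (h.syl.le hg)

theorem memR (hg : g ∈ P) (hA : cj g w.A = w.A) : g ∈ w.R :=
  (w.R_syl.max (P ⊓ normalizer (w.A : Set G)) inf_le_right (h.syl.pgroup.to_le inf_le_left)
    (le_inf h.RP w.R_syl.le)).le ⟨hg, cj_eq_self_iff.1 hA⟩

theorem swap (hg : g ∈ P) (g1 : g ∉ w.R) : cj g w.A = w.P0 ∧ cj g w.P0 = w.A :=
  (h.hX g (h.syl.le hg)).resolve_left fun e => g1 (h.memR hg e.1)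

theorem idx (ha : a ∈ P) (hb : b ∈ P) (a1 : a ∉ w.R) (b1 : b ∉ w.R) : a * b ∈ w.R :=
  h.memR (mul_mem ha hb) (by rw [cj_mul, (h.swap hb b1).1, (h.swap ha a1).2])

theorem commS (ha : a ∈ P) (hb : b ∈ P) : a * b * a⁻¹ * b⁻¹ ∈ w.S := by
  refine w.mem_S_of_tt ?_ (tt_comm w (h.PN ha) (h.PN hb))
  rw [mul_assoc]
  have ab := mul_mem ha hb
  have ab' := mul_mem (inv_mem ha) (inv_mem hb)
  by_cases a1 : a ∈ w.R <;> by_cases b1 : b ∈ w.R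
  · exact mul_mem (mul_mem a1 b1) (mul_mem (inv_mem a1) (inv_mem b1))
  · exact h.idx ab ab' (fun e => b1 ((mul_mem_cancel_left a1).1 e))
      fun e => b1 (inv_mem_iff.1 ((mul_mem_cancel_left (inv_mem a1)).1 e))
  · exact h.idx ab ab' (fun e => a1 ((mul_mem_cancel_right b1).1 e))
      fun e => a1 (inv_mem_iff.1 ((mul_mem_cancel_right (inv_mem b1)).1 e))
  · exact mul_mem (h.idx ha hb a1 b1) (h.idx (inv_mem ha) (inv_mem hb) (fun e => a1 (inv_mem_iff.1 e))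
      fun e => b1 (inv_mem_iff.1 e))

theorem key2 (hT : ∀ α, ∃ t ∈ w.S, w.ee t = 1 ∧ w.aa t = α ∧ t ∈ X) (hX : ∀ r ∈ X, g * r * g⁻¹ ∈ P) :
    ∀ v ∈ w.V, g * v * g⁻¹ ∈ w.V := by
  have k0 : ∀ v ∈ w.V, g * v * g⁻¹ ∈ w.S := fun v hv => by
    obtain ⟨x, hx, rfl⟩ := w.mem_V.1 hv
    obtain ⟨β, rfl⟩ := exists_bl (σ := σ) (one_ne_zero (α := F)) hx
    obtain ⟨a, ha, a1, a2, a3⟩ := hT 1
    obtain ⟨b, hb, b1, rfl, b3⟩ := hT β
    rw [← a2, ← cm_ee w ha hb a1 b1, conj_cm]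
    exact h.commS (hX a a3) (hX b b3)
  have mul : ∀ a ∈ w.S, ∀ b ∈ w.S, w.ee a = 1 → w.ee b = 1 → a ∈ X → b ∈ X → g * a * g⁻¹ * (g * b * g⁻¹) ∈ w.R →
      ∃ t ∈ w.S, w.ee t = 1 ∧ w.aa t = w.aa a + w.aa b ∧ t ∈ X ∧ g * t * g⁻¹ ∈ w.R := fun a ha b hb a1 b1 a3 b3 m =>
    ⟨a * b, mul_mem ha hb, by rw [w.ee_mul a ha b hb, a1, b1, one_mul], w.aa_mul a ha b hb, mul_mem a3 b3, by
      rwa [show g * (a * b) * g⁻¹ = g * a * g⁻¹ * (g * b * g⁻¹) by group]⟩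
  intro v hv
  obtain ⟨x, hx, rfl⟩ := w.mem_V.1 hv
  refine fillK w.toFr (L := fun α => ∃ t ∈ w.S, w.ee t = 1 ∧ w.aa t = α ∧ t ∈ X ∧ g * t * g⁻¹ ∈ w.R)
    (K₀ := fun x => g * w.vv x * g⁻¹ ∈ w.V) ?_ (fun α β n1 n2 => ?_) ?_ hx
  · rintro _ _ ⟨a, ha, a1, rfl, a3, a4⟩ ⟨b, hb, b1, rfl, b3, b4⟩
    exact mul a ha b hb a1 b1 a3 b3 (mul_mem a4 b4)
  · obtain ⟨a, ha, a1, rfl, a3⟩ := hT α
    obtain ⟨b, hb, b1, rfl, b3⟩ := hT β
    exact mul a ha b hb a1 b1 a3 b3 (h.idx (hX a a3) (hX b b3) (fun e => n1 ⟨a, ha, a1, rfl, a3, e⟩)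
      fun e => n2 ⟨b, hb, b1, rfl, b3, e⟩)
  · rintro _ _ ⟨a, ha, a1, rfl, a3, a4⟩ ⟨b, hb, b1, rfl, b3, b4⟩
    rw [← cm_ee w ha hb a1 b1]
    exact cm_conj w k0 ha hb a4 b4

theorem NP_le (hg : g ∈ normalizer (P : Set G)) : g ∈ normalizer (w.S : Set G) := by
  have SP : w.S ≤ P := (S_le_R w).trans h.RP
  have gV : g ∈ normalizer (w.V : Set G) := norm_of (h.key2 (X := ⊤ ⊓ P) (fun α => by
    obtain ⟨u, rfl⟩ := exists_a (σ := σ) α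
    exact ⟨_, w.jS u, (w.on_j u).1, (w.on_j u).2.2, trivial, SP (w.jS u)⟩) fun r hr => conj_mem' hg hr.2)
  have t1 : ∀ e ∈ w.E, w.tt (g * e * g⁻¹) = 1 := fun e he => by
    have eS := w.ES he
    have yN := h.PN (conj_mem' hg (SP eS))
    refine (w.tt_cases yN (by
      rw [show g * e * g⁻¹ * (g * e * g⁻¹) = g * (e * e) * g⁻¹ by group, w.E_sq e he, mul_one, mul_inv_cancel]
      exact (w.ct_S (one_mem _)).2)).resolve_right fun ht => ?_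
    have fx : ∀ u : US σ, g⁻¹ * w.j u * g ∈ w.R → w.cc (g * e * g⁻¹) * σ u.a = u.a := fun u hu => by
      obtain ⟨a1, a2, a3⟩ := w.R_act hu eS
      have m := conj_mem' (R_le_NS w hu) eS
      obtain ⟨b1, b2, b3⟩ := quot_c w eS m
      have mV := conj_mem' gV ((w.kerV _ (mul_mem eS (inv_mem m))).2 ⟨by rw [b1, a1]; exact w.E_sq _ (w.eeE e eS),
        by rw [b2, a2, (w.on_E e he).2.1]; simp, by rw [b3, a3, (w.on_E e he).2.2]; simp⟩)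
      rw [show g * (e * (g⁻¹ * w.j u * g * e * (g⁻¹ * w.j u * g)⁻¹)⁻¹) * g⁻¹ =
        g * e * g⁻¹ * w.j u * (g * e * g⁻¹)⁻¹ * (w.j u)⁻¹ by group, w.conj_j yN, ← map_inv, ← map_mul, w.j_mem_V,
        mul_a, w.aut_a, ht, sigAut_apply] at mV
      exact add_neg_eq_zero.1 mV
    obtain ⟨α, hα⟩ : ∃ α, w.cc (g * e * g⁻¹) * σ α ≠ α := by
      by_contra hn
      push Not at hn
      obtain ⟨ω, hω⟩ := Ctx.ex (σ := σ)
      have c1 := hn 1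
      have c2 := hn ω
      rw [map_one, mul_one] at c1
      rw [c1, one_mul] at c2
      rw [c2, add_self σ] at hω
      exact zero_ne_one hω
    obtain ⟨l, l1, l0, l2, -⟩ := w.exists_K 1 1
    have l3 : 1 + l ≠ 0 := fun e => l2 (by linear_combination e - two σ)
    obtain ⟨u₁, e1⟩ := exists_a (σ := σ) α
    obtain ⟨u₂, e2⟩ := exists_a (σ := σ) (l * α)
    have m : ∀ u, g⁻¹ * w.j u * g ∈ P := fun u => conj_mem'' hg (SP (w.jS u))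
    have := fx (u₁ * u₂) (by
      rw [map_mul, show g⁻¹ * (w.j u₁ * w.j u₂) * g = g⁻¹ * w.j u₁ * g * (g⁻¹ * w.j u₂ * g) by group]
      refine h.idx (m _) (m _) (fun c => hα (e1 ▸ fx _ c)) fun c => hα (mul_left_cancel₀ l0 ?_)
      have := fx _ c
      rw [e2, map_mul, l1] at this
      linear_combination this)
    rw [mul_a, e1, e2, map_add, map_mul, l1] at this
    exact hα (mul_left_cancel₀ l3 (by linear_combination this))
  obtain ⟨e, he, e1, eS⟩ : ∃ e ∈ w.E, e ≠ 1 ∧ g * e * g⁻¹ ∈ w.S := by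
    obtain ⟨e, he, e1⟩ := exists_e w
    obtain ⟨e', he', e2⟩ := Rw.ex_not_mem (A := zpowers e) (B := w.E) (by
      have := Rw.cz_le (w.E_sq e he)
      have := w.four_le
      rw [h.hq]; omega)
    by_cases c1 : g * e * g⁻¹ ∈ w.R
    · exact ⟨e, he, e1, w.mem_S_of_tt c1 (t1 e he)⟩
    by_cases c2 : g * e' * g⁻¹ ∈ w.R
    · exact ⟨e', he', fun c => e2 (c ▸ one_mem _), w.mem_S_of_tt c2 (t1 e' he')⟩
    refine ⟨e * e', mul_mem he he', fun c => e2 (by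
      rw [eq_inv_of_mul_eq_one_right c]; exact inv_mem (mem_zpowers e)), w.mem_S_of_tt ?_ (t1 _ (mul_mem he he'))⟩
    rw [show g * (e * e') * g⁻¹ = g * e * g⁻¹ * (g * e' * g⁻¹) by group]
    exact h.idx (conj_mem' hg (SP (w.ES he))) (conj_mem' hg (SP (w.ES he'))) c1 c2
  obtain ⟨k, hk, e', he', -, e2, -⟩ := w.fus eS ⟨e, he, e1, isConj_iff.2 ⟨g, rfl⟩⟩
  have mE := w.mem_NE (g := k⁻¹ * g) he e1 (by
    rw [show k⁻¹ * g * e * (k⁻¹ * g)⁻¹ = k⁻¹ * (g * e * g⁻¹) * k by group, ← e2]; simpa [mul_assoc] using he')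
  have mA : k⁻¹ * g ∈ normalizer (w.A : Set G) := cj_eq_self_iff.1 (by
    rw [Fr.A, cj_sup, cj_eq_self mE, cj_eq_self (mul_mem (inv_mem (w.NS_le_NV hk)) gV)])
  exact (mul_mem_cancel_left (inv_mem hk)).1 (w.MS mA)

theorem sylG : IsSylowIn 2 P ⊤ := by
  haveI := Nat.fact_prime_two
  exact IsSylowIn.of_normalizer le_top (h.syl.of_le (le_inf le_top le_normalizer) fun _ hg => h.NP_le hg.2)

theorem inS (hs : s ∈ w.S) (hv : w.VC s) : s ∈ w.V := by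
  obtain ⟨g, h1, h2⟩ := ext w h.sylG h.RP h.PN hv
  refine fin w (h.key2 (X := w.S ⊓ centralizer {s}) (fun α => ?_)
    fun r hr => h2 r (h.RP (S_le_R w hr.1)) (mem_c1.1 hr.2)) h1
  obtain ⟨t, ht, t1, t2, t3⟩ := lift_a w hs (or_iff_not_imp_right.2 fun e => by
    have := sq_zero w hs (VC_sq _ hv)
    rw [not_not.1 e, ce_one, h.hc, zero_add, zero_mul, zero_add] at this
    exact nm_zero this) α
  exact ⟨t, ht, t1, t2, ht, mem_c1.2 t3⟩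

theorem of_fill (hv : w.VC s) (hf : Fill w s) : s ∈ w.V := by
  obtain ⟨g, h1, h2⟩ := ext w h.sylG h.RP h.PN hv
  refine fin w (fun v hv => ?_) h1
  by_cases v1 : v = 1
  · simp [v1]
  refine h.inS ?_ ⟨v, hv, v1, isConj_iff.2 ⟨g, rfl⟩⟩
  obtain ⟨x, hx, rfl⟩ := w.mem_V.1 hv
  obtain ⟨a, ha, b, hb, a1, b1, e⟩ := hf x hx
  rw [← e, conj_cm]
  exact h.commS (h2 a (h.RP (S_le_R w ha)) a1) (h2 b (h.RP (S_le_R w hb)) b1)

theorem cc_one (hb : b ∈ P) (ht : w.tt b = 1) : w.cc b = 1 := by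
  obtain ⟨k, hk⟩ := h.syl.pgroup ⟨b, hb⟩
  exact w.cc_eq_one (h.PN hb) ⟨k, congrArg Subtype.val hk⟩ ht

theorem cenV (hb : b ∈ P) (b2 : b * b = 1) (hv : v ∈ w.V) : b * v = v * b := by
  have o := w.ct_S (s := b * b) (b2 ▸ one_mem _)
  rcases w.tt_cases (h.PN hb) o.2 with t | t
  · obtain ⟨x, hx, rfl⟩ := w.mem_V.1 hv
    rw [← mul_inv_eq_iff_eq_mul, w.conj_vv (h.PN hb) hx, h.cc_one hb t, t]
    simp [nm]
  · exact (mem_cH.1 (w.nm_cc_of_sig (h.PN hb) t o.1).2 v hv).symm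

theorem exists_mu (hb : b ∈ P) (b1 : b ∉ w.R) (b2 : b * b = 1) :
    ∃ μ, μ ≠ 0 ∧ σ μ = μ ∧ ∀ e ∈ w.E, b * e * b⁻¹ ∈ w.P0 ∧ μ * w.xx (b * e * b⁻¹) = w.ce e := by
  obtain ⟨p, hp, p1⟩ := exists_p (w := w) (map_one σ)
  obtain ⟨mS, m1, m2⟩ := w.mem_A.1 ((h.swap hb b1).2.le (conj_mem_cj b hp))
  have key : ∀ e ∈ w.E, b * e * b⁻¹ ∈ w.P0 ∧ w.ce (w.ee (b * p * b⁻¹)) * w.xx (b * e * b⁻¹) = w.ce e := fun e he => by
    have m := (h.swap hb b1).1.le (conj_mem_cj b (E_le_A he))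
    refine ⟨m, ?_⟩
    have c1 := w.cm e (w.ES he) p hp.1
    have c2 := w.cm _ m.1 _ mS
    have k1 := cm_K w (w.ES he) hp.1
    have k2 := cm_K w m.1 mS
    rw [← conj_cm, c1, h.cenV hb b2 (vv_mem w k1), mul_inv_cancel_right] at c2
    have := w.vv_inj k1 k2 c2
    rw [(w.on_E e he).1, (w.on_E e he).2.1, hp.2.2, p1, m1, m2] at this
    simpa [bl] using this.symm
  obtain ⟨e, he, e1⟩ := exists_e w
  exact ⟨_, fun c => e1 (w.ce_inj e he (by rw [← (key e he).2, c, zero_mul])), w.ceK _ (w.eeE _ mS), key⟩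

theorem conj_sw (hb : b ∈ P) (b2 : b * b = 1) {μ : F} (μ0 : μ ≠ 0) (μK : σ μ = μ)
    (hμ : ∀ e ∈ w.E, b * e * b⁻¹ ∈ w.P0 ∧ μ * w.xx (b * e * b⁻¹) = w.ce e) (hv : v ∈ w.V) :
    ∃ t ∈ w.S, w.aa t = 0 ∧ μ * w.xx t = w.ce (w.ee t) ∧ t * b * t⁻¹ = b * v := by
  obtain ⟨x, hx, rfl⟩ := w.mem_V.1 hv
  obtain ⟨y, hy, y2⟩ := exists_sqrt (σ := σ) (x := μ * x) (by rw [map_mul, μK, hx])
  obtain ⟨e, he, rfl⟩ := w.ce_surj h.hq hy
  obtain ⟨m, e1⟩ := hμ e he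
  have eS := w.ES he
  obtain ⟨o1, o2, o3⟩ := w.on_E e he
  have c1 : w.ee (e * (b * e * b⁻¹)) = e := by rw [w.ee_mul e eS _ m.1, o1, m.2.1, mul_one]
  have c2 : w.xx (e * (b * e * b⁻¹)) = w.xx (b * e * b⁻¹) := by rw [w.xx_mul e eS _ m.1, o2, zero_add]
  have c3 : w.aa (e * (b * e * b⁻¹)) = 0 := by rw [w.aa_mul e eS _ m.1, o3, m.2.2, zero_add]
  refine ⟨_, mul_mem eS m.1, c3, by rw [c1, c2, e1], ?_⟩
  have sq := w.sq _ (mul_mem eS m.1)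
  rw [c1, c2, c3, h.hc, show (w.ce e + 0) * w.xx (b * e * b⁻¹) + nm σ 0 = x from
    mul_left_cancel₀ μ0 (by simp only [nm, mul_zero]; linear_combination w.ce e * e1 + y2)] at sq
  have bi : b⁻¹ = b := inv_eq_of_mul_eq_one_left b2
  have ei : e⁻¹ = e := inv_eq_of_mul_eq_one_left (w.E_sq e he)
  rw [← inv_eq_of_mul_eq_one_left (w.V_sq hv), ← sq]
  simp only [mul_inv_rev, bi, ei]
  calc _ = e * b * e * (b * b) * b * e * b * e := by group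
    _ = b * b * (e * b * e * b * e * b * e) := by rw [b2]; group
    _ = _ := by group

theorem conj_all (hb : b ∈ P) (b1 : b ∉ w.S) (b2 : b * b = 1) (hv : v ∈ w.V) : ∃ t, t * b * t⁻¹ = b * v := by
  rcases w.tt_cases (h.PN hb) (w.ct_S (s := b * b) (b2 ▸ one_mem _)).2 with t | t
  · obtain ⟨μ, μ0, μK, hμ⟩ := h.exists_mu hb (fun e => b1 (w.mem_S_of_tt e t)) b2
    obtain ⟨t, -, -, -, e⟩ := h.conj_sw hb b2 μ0 μK hμ hv
    exact ⟨t, e⟩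
  · obtain ⟨u, hu⟩ := w.sig_conj (h.PN hb) t (b2 ▸ one_mem _) hv
    exact ⟨_, hu⟩

theorem star (hv : w.VC s) (hz : z ∈ w.S) (z1 : z ∉ w.V) (z2 : z * z = 1) (c : z * s = s * z) (hsz : w.VC (z * s)) :
    False := by
  obtain ⟨g, h1, h2⟩ := ext w h.sylG h.RP h.PN hv
  have m := VC_cj _ hsz g
  rw [show g * (z * s) * g⁻¹ = g * z * g⁻¹ * (g * s * g⁻¹) by group] at m
  refine z1 (h.inS hz (VC_of (g := g) _ ?_))
  by_cases zS : g * z * g⁻¹ ∈ w.S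
  · refine ⟨_, (mul_mem_cancel_right h1).1 (h.inS (mul_mem zS (w.V_le h1)) m), fun e => z1 ?_, IsConj.refl _⟩
    rw [show z = 1 by simpa [mul_inv_eq_one] using e]; exact one_mem _
  · obtain ⟨t, ht⟩ := h.conj_all (h2 z (h.RP (S_le_R w hz)) c) zS (by
      rw [show g * z * g⁻¹ * (g * z * g⁻¹) = g * (z * z) * g⁻¹ by group, z2]; group) h1
    exact VC_of (g := t) _ (ht ▸ m)

theorem fill_sw (hs : s ∈ P) (s1 : s ∉ w.R) (s2 : s * s = 1) (ht : w.tt s = 1) : Fill w s := fun x hx => by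
  obtain ⟨μ, μ0, μK, hμ⟩ := h.exists_mu hs s1 s2
  have key : ∀ α, ∃ t ∈ w.S, w.aa t = α ∧ μ * w.xx t = w.ce (w.ee t) ∧ t * s = s * t := fun α => by
    obtain ⟨u, rfl⟩ := exists_a (σ := σ) α
    have mV : s * w.j u * s⁻¹ * (w.j u)⁻¹ ∈ w.V := by
      rw [w.conj_j (h.PN hs), ← map_inv, ← map_mul, w.j_mem_V, mul_a, w.aut_a, h.cc_one hs ht, ht]
      simp
    obtain ⟨t, tS, t1, t2, t3⟩ := h.conj_sw hs s2 μ0 μK hμ mV
    obtain ⟨o1, o2, o3⟩ := w.on_j u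
    exact ⟨_, mul_mem (w.jS u) tS, by rw [w.aa_mul _ (w.jS u) t tS, o3, t1, add_zero],
      by rw [w.xx_mul _ (w.jS u) t tS, w.ee_mul _ (w.jS u) t tS, o1, o2, zero_add, one_mul, t2],
      correct w (fun v hv => h.cenV hs s2 hv) (w.jS u) mV t3⟩
  obtain ⟨β, rfl⟩ := exists_bl (σ := σ) (one_ne_zero (α := F)) hx
  obtain ⟨a, ha, a1, a2, a3⟩ := key 1
  obtain ⟨b, hb, b1, b2, b3⟩ := key β
  refine ⟨a, ha, b, hb, a3, b3, ?_⟩
  rw [w.cm a ha b hb, ← a2, ← b2, a1, b1]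
  congr 1
  linear_combination μ * w.xx a * w.xx b * two σ

theorem not_sig_sw (hs : s ∈ P) (s1 : s ∉ w.R) (hv : w.VC s) (ht : w.tt s = sigAut σ) : False := by
  have s2 := VC_sq _ hv
  obtain ⟨μ, μ0, μK, hμ⟩ := h.exists_mu hs s1 s2
  obtain ⟨a₀, a0, f1, f2⟩ := exists_fix (w.nm_cc_of_sig (h.PN hs) ht (w.ct_S (s := s * s) (s2 ▸ one_mem _)).1).1
  obtain ⟨β, hβ⟩ := f2 a₀ ((f1 a₀).2 ⟨1, map_one σ, (one_mul _).symm⟩)
  obtain ⟨y, hy, y2⟩ := exists_sqrt (σ := σ) (x := μ * nm σ a₀) (by rw [map_mul, μK, nm_K])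
  obtain ⟨e, he, rfl⟩ := w.ce_surj h.hq hy
  obtain ⟨u, rfl⟩ := exists_a (σ := σ) β
  obtain ⟨m, e1⟩ := hμ e he
  have eS := w.ES he
  obtain ⟨o1, o2, o3⟩ := w.on_E e he
  obtain ⟨p1, p2, p3⟩ := w.on_j u
  obtain ⟨r1, r2, r3⟩ := w.on_j (w.aut s u)
  have rS := mul_mem eS (w.jS u)
  have e0 : s * (e * w.j u) * s⁻¹ = s * e * s⁻¹ * w.j (w.aut s u) := by rw [← w.conj_j (h.PN hs)]; group
  have mS : s * (e * w.j u) * s⁻¹ ∈ w.S := conj_mem' (h.syl.le hs) rS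
  obtain ⟨c1, c2, c3⟩ := quot_c w mS rS
  rw [e0, w.ee_mul _ m.1 _ (w.jS _), w.ee_mul _ eS _ (w.jS _), m.2.1, r1, o1, p1, one_mul, one_mul, mul_one, ← e0] at c1
  rw [e0, w.xx_mul _ m.1 _ (w.jS _), w.xx_mul _ eS _ (w.jS _), r2, o2, p2, add_zero, add_zero, add_zero, ← e0] at c2
  rw [e0, w.aa_mul _ m.1 _ (w.jS _), w.aa_mul _ eS _ (w.jS _), m.2.2, r3, o3, p3, zero_add, zero_add, w.aut_a, ht,
    sigAut_apply, add_comm, hβ, ← e0] at c3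
  have zS := mul_mem mS (inv_mem rS)
  have z2 := w.sq _ zS
  rw [c1, c2, c3, h.hc, show (w.ce e + 0) * w.xx (s * e * s⁻¹) + nm σ a₀ = 0 from
    mul_left_cancel₀ μ0 (by linear_combination w.ce e * e1 + y2 + μ * nm σ a₀ * two σ), w.vv_zero] at z2
  have si : s⁻¹ = s := inv_eq_of_mul_eq_one_left s2
  set r := e * w.j u
  have e2 : s * r * s⁻¹ * r⁻¹ * s = s * (s * r * s⁻¹ * r⁻¹) := by
    calc _ = (s * r * s⁻¹ * r⁻¹)⁻¹ * s := by rw [inv_eq_of_mul_eq_one_left z2]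
      _ = r * s * r⁻¹ := by group
      _ = s * s * r * s * r⁻¹ := by rw [s2, one_mul]
      _ = _ := by rw [si]; group
  refine h.star hv zS (fun c => a0 (c3 ▸ ((w.kerV _ zS).1 c).2.2)) z2 e2 ?_
  rw [e2, ← mul_assoc, ← mul_assoc, ← mul_assoc, s2, one_mul, si]
  exact VC_cj _ hv r

end Sw

end X4

open X4 in
theorem Two.con_swap (w : Two σ G) (hc : w.c = 0) (hq : Nat.card w.E = w.q)
    (hX : ∀ g ∈ normalizer (w.S : Set G),
      (cj g w.A = w.A ∧ cj g w.P0 = w.P0) ∨ (cj g w.A = w.P0 ∧ cj g w.P0 = w.A))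
    (hs : ∃ g ∈ normalizer (w.S : Set G), cj g w.A ≠ w.A) : w.Con := by
  obtain ⟨P, hP, RP⟩ := exists_isSylowIn_ge w.R_syl.pgroup (R_le_NS w)
  have h : Sw w P := ⟨hc, hq, hX, hP, RP⟩
  refine w.con_of_sc h.sylG (w.V_le.trans ((S_le_R w).trans RP)) (V_ne w) (fun _ h => w.V_sq h) fun v hv k hk => ?_
  by_cases v1 : v = 1
  · simp [v1]
  have vc : w.VC (k * v * k⁻¹) := ⟨v, hv, v1, isConj_iff.2 ⟨k, rfl⟩⟩
  have s2 := VC_sq _ vc
  by_cases hR : k * v * k⁻¹ ∈ w.R <;>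
    rcases w.tt_cases (h.PN hk) (by rw [s2]; exact (w.ct_S (one_mem _)).2) with t | t
  · exact h.inS (w.mem_S_of_tt hR t) vc
  · exact h.of_fill vc (fill_sig w hR t s2)
  · exact h.of_fill vc (h.fill_sw hk hR s2 t)
  · exact (h.not_sig_sw hk hR vc t).elim

end Cfsg.Agent.WA.Lk
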