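import Cfsg.Agent.WA.LkEx1
import Cfsg.Agent.H8.SylowIn

/-! Central quotients of `SU₃(2ⁿ)` inside a finite group. -/

set_option autoImplicit false
set_option linter.unusedSectionVars false

namespace Cfsg.Agent.WA.LkX

open Subgroup Cfsg.Agent.H1.U3 Cfsg.Agent.BS.Rec Cfsg.Agent.H7.Mu Cfsg.Agent.H8

variable {F : Type*} [Field F] [Finite F] {σ : F →+* F} [Ctx σ] {q : ℕ} (hq : ∀ x, σ x = x ^ q)
  {G : Type*} [Group G] [Finite G] (φ : SU 3 F q →* G)

/-- the Sylow subgroup -/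
abbrev jj : US σ →* G := φ.comp (toSU hq)

/-- its normalizer -/
abbrev NQ : Subgroup G := normalizer ((jj hq φ).range : Set G)

theorem j_nq (u : US σ) : φ (toSU hq u) ∈ NQ hq φ := le_normalizer (H := (jj hq φ).range) ⟨u, rfl⟩

theorem d_j (μ : Fˣ) (u : US σ) : φ (δ hq μ) * jj hq φ u * (φ (δ hq μ))⁻¹ = jj hq φ (ac3 μ u) := by
  simp only [MonoidHom.comp_apply, ← δ_conj, map_mul, map_inv]

theorem d_nq (μ : Fˣ) : φ (δ hq μ) ∈ NQ hq φ := mem_normalizer_of_cj_le (by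
  rintro _ ⟨_, ⟨u, rfl⟩, rfl⟩
  exact ⟨ac3 μ u, (d_j hq φ μ u).symm⟩)

theorem wd_nq (μ : Fˣ) : (φ (wSU hq))⁻¹ * φ (δ hq μ) * φ (wSU hq) ∈ NQ hq φ := by
  have h : (wSU hq)⁻¹ = wSU hq := inv_eq_of_mul_eq_one_left (w_sq hq)
  have := w_δ hq μ
  rw [← map_inv, ← map_mul, ← map_mul, h]
  rw [h] at this
  rw [this]; exact d_nq hq φ _

theorem nq_conj {x : G} (hx : x ∈ NQ hq φ) (u : US σ) : ∃ v, x * jj hq φ u * x⁻¹ = jj hq φ v :=
  (((mem_normalizer_iff.1 hx) _).1 ⟨u, rfl⟩).imp fun _ h => h.symm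

theorem sylQ : IsSylowIn 2 (jj hq φ).range φ.range := by
  have h : IsSylowIn 2 (toSU hq).range ⊤ :=
    ⟨le_top, (isPGroup (σ := σ)).of_surjective _ (toSU hq).rangeRestrict_surjective,
      fun P _ hP hle => le_antisymm (le_range_toSU hq hP hle) hle⟩
  haveI : Finite (SU 3 F q) := inferInstance
  have := h.map φ
  rwa [← MonoidHom.range_comp, ← MonoidHom.range_eq_map] at this

theorem frat {x : G} (hx : x ∈ normalizer (φ.range : Set G)) : ∃ A, (φ A)⁻¹ * x ∈ NQ hq φ := by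
  obtain ⟨_, ⟨A, rfl⟩, h⟩ := (sylQ hq φ).frattini hx
  exact ⟨A⁻¹, by rwa [map_inv, inv_inv]⟩

variable {φ} (hk : ∀ s, φ s = 1 → s ∈ center (SU 3 F q))
include hk

theorem j_inj : Function.Injective (jj hq φ) :=
  (injective_iff_map_eq_one _).2 fun u h => eq_one_of_toSU_mem_center hq (hk _ h)

include hq in
theorem eq_of_four {X Y : SU 3 F q} (hX : X ^ 4 = 1) (hY : Y ^ 4 = 1) (h : φ X = φ Y) : X = Y := by
  have h1 := hk (Y⁻¹ * X) (by rw [map_mul, map_inv, h, inv_mul_cancel])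
  have h2 := cube_of_cen hq h1
  have h3 : Commute Y (Y⁻¹ * X) := mem_center_iff.1 h1 Y
  have h4 := h3.mul_pow 4
  rw [mul_inv_cancel_left, hX, hY, one_mul, pow_succ, h2, one_mul] at h4
  exact (inv_mul_eq_one.1 h4.symm).symm

theorem lift_conj {A : SU 3 F q} {u v : US σ} (h : φ A * jj hq φ u * (φ A)⁻¹ = jj hq φ v) :
    A * toSU hq u * A⁻¹ = toSU hq v :=
  eq_of_four hq hk (by rw [conj_pow, ← map_pow, pow_four, map_one, mul_one, mul_inv_cancel])
    (by rw [← map_pow, pow_four, map_one]) (by rw [map_mul, map_mul, map_inv]; exact h)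

omit hk in
theorem ex_ne : ∃ u : US σ, u ≠ 1 :=
  ⟨lift σ 1, fun h => by simpa [lift_a, one_a] using congrArg US.a h⟩

theorem of_nq {A : SU 3 F q} (h : φ A ∈ NQ hq φ) : ∃ μ s, A = δ hq μ * toSU hq s := by
  obtain ⟨u, hu⟩ := ex_ne (σ := σ)
  obtain ⟨v, e⟩ := nq_conj hq φ h u
  exact ti hq hu (lift_conj hq hk e)

theorem opp' {u : US σ} (h : (φ (wSU hq))⁻¹ * φ (toSU hq u) * φ (wSU hq) ∈ NQ hq φ) : u = 1 := by
  obtain ⟨v, hv⟩ := ex_ne (σ := σ)
  rw [← map_inv, ← map_mul, ← map_mul] at h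
  obtain ⟨s, e⟩ := nq_conj hq φ h v
  exact opp hq hv (lift_conj hq hk e)

theorem ti' {x : G} (hx : x ∈ normalizer (φ.range : Set G)) {u u' : US σ} (hu : u ≠ 1)
    (e : x * jj hq φ u * x⁻¹ = jj hq φ u') : x ∈ NQ hq φ := by
  obtain ⟨A, hA⟩ := frat hq φ hx
  obtain ⟨v, hv⟩ := nq_conj hq φ hA u
  have hv1 : v ≠ 1 := fun h => hu (j_inj hq hk (by
    rw [h, map_one, conj_eq_one_iff] at hv; rw [hv, map_one]))
  obtain ⟨μ, s, rfl⟩ := ti hq hv1 (lift_conj hq hk (A := A) (v := u') (by rw [← hv, ← e]; group))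
  have := mul_mem (mul_mem (d_nq hq φ μ) (j_nq hq φ s)) hA
  rwa [← map_mul, mul_inv_cancel_left] at this

theorem both {B : SU 3 F q} (h1 : φ B ∈ NQ hq φ) (h2 : (φ (wSU hq))⁻¹ * φ B * φ (wSU hq) ∈ NQ hq φ) :
    ∃ μ, B = δ hq μ := by
  obtain ⟨μ, s, rfl⟩ := of_nq hq hk h1
  have := opp' hq hk (u := s) (by
    have := mul_mem (inv_mem (wd_nq hq φ μ)) h2
    rw [map_mul] at this
    convert this using 1; group)
  exact ⟨μ, by rw [this, map_one, mul_one]⟩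

theorem core {K : SU 3 F q} (h : ∀ A, (φ A)⁻¹ * φ K * φ A ∈ NQ hq φ) : K ∈ center (SU 3 F q) := by
  obtain ⟨μ, rfl⟩ := both hq hk (by simpa using h 1) (h _)
  have := opp' hq hk (u := (lift σ 1)⁻¹ * ac3 μ (lift σ 1)) (by
    have := mul_mem (h (toSU hq (lift σ 1) * wSU hq)) (inv_mem (wd_nq hq φ μ))
    rw [map_mul, map_mul, map_inv, ← δ_conj]
    simp only [map_mul, map_inv] at this ⊢
    convert this using 1; group)
  rw [inv_mul_eq_one] at this
  have h3 := congrArg US.a this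
  simp only [ac3, lift_a, mul_one] at h3
  exact mem_center_iff.2 fun B => (δ_cen hq h3.symm B).symm

theorem opp_conj {x : G} (hx : x ∈ normalizer (φ.range : Set G)) (h : x ∈ NQ hq φ) :
    ∃ v, (φ (wSU hq))⁻¹ * ((jj hq φ v)⁻¹ * x) * φ (wSU hq) ∈ NQ hq φ := by
  obtain ⟨A, hA⟩ := frat hq φ (mul_mem hx (le_normalizer (H := φ.range) ⟨wSU hq, rfl⟩))
  rcases bruhat hq A with ⟨μ, u, rfl⟩ | ⟨v, μ, u, rfl⟩
  · have := mul_mem (inv_mem h) (mul_mem (mul_mem (d_nq hq φ μ) (j_nq hq φ u)) hA)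
    rw [← map_mul, mul_inv_cancel_left, inv_mul_cancel_left] at this
    obtain ⟨ν, s, e⟩ := of_nq hq hk this
    exact absurd e (w_ne hq)
  · refine ⟨v, ?_⟩
    have := mul_mem (mul_mem (d_nq hq φ μ) (j_nq hq φ u)) hA
    simp only [map_mul, MonoidHom.comp_apply] at this ⊢
    convert this using 1; group

theorem cent_Q {μ₀ : Fˣ} (h0 : σ μ₀ * μ₀ = 1) (h1 : σ μ₀ ^ 2 / μ₀ ≠ 1) {x : G}
    (hx : x ∈ normalizer (φ.range : Set G)) (hw : (φ (wSU hq))⁻¹ * x * φ (wSU hq) ∈ NQ hq φ)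
    (ha : ∀ u, ∃ u', x * jj hq φ u * x⁻¹ = jj hq φ u' ∧ u'.a = u.a) (u : US σ) :
    x * jj hq φ u * x⁻¹ = jj hq φ u := by
  have inj := j_inj hq hk
  choose g hg ga using ha
  have hN : x ∈ NQ hq φ := mem_normalizer_of_cj_le (by
    rintro _ ⟨_, ⟨u, rfl⟩, rfl⟩
    exact ⟨g u, (hg u).symm⟩)
  let g1 : US σ →* US σ := MonoidHom.mk' g fun u v => inj (by
    rw [map_mul, ← hg, ← hg, ← hg, map_mul]; group)
  have ginj : Function.Injective g1 := fun u v e => inj (by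
    have := hg u
    rw [show g u = g v from e, ← hg] at this
    simpa using this)
  let α : MulAut (US σ) := MulEquiv.ofBijective g1 (Finite.injective_iff_bijective.1 ginj)
  obtain ⟨f, hf⟩ := exists_cenAut (α := α) ga
  have gb : ∀ u, (g u).b = u.b + f u.a := fun u => by rw [← cenAut_b, hf]; rfl
  obtain ⟨B, hB⟩ := (mem_normalizer_iff.1 hx _).1 (⟨δ hq μ₀, rfl⟩ : φ (δ hq μ₀) ∈ φ.range)
  obtain ⟨μ, rfl⟩ := both hq hk (B := B) (hB ▸ mul_mem (mul_mem hN (d_nq hq φ _)) (inv_mem hN)) (by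
    have := mul_mem (mul_mem hw (wd_nq hq φ μ₀)) (inv_mem hw)
    rw [hB]; convert this using 1; group)
  have key : ∀ u, ac3 μ (g u) = g (ac3 μ₀ u) := fun u => inj (by
    rw [← d_j, ← hg, ← hg, ← d_j, hB]; group)
  have n1 : σ μ * μ = 1 := by
    have := congrArg US.b (key (zz 1 (map_one σ)))
    rw [gb] at this
    simpa [ac3, gb, zz_a, zz_b, h0] using this
  have f0 : ∀ a, f a = 0 := fun a => by
    have := congrArg US.b (key (lift σ (a / (σ μ₀ ^ 2 / μ₀ - 1))))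
    rw [gb] at this
    simp only [ac3, gb, lift_a, h0, n1, one_mul, add_right_inj, SetLike.coe_eq_coe] at this
    rw [← sub_eq_zero, ← map_sub] at this
    rw [← neg_eq_zero, ← map_neg, ← this]
    congr 1
    have := sub_ne_zero.2 h1
    generalize σ μ₀ ^ 2 / μ₀ = c at *
    field_simp; ring
  rw [hg]; congr 1
  exact US.ext (ga u) (by rw [gb, f0]; simp)

theorem cent_all {x : G} (hx : x ∈ normalizer (φ.range : Set G))
    (hw : (φ (wSU hq))⁻¹ * x * φ (wSU hq) ∈ NQ hq φ)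
    (hc : ∀ u, x * jj hq φ u * x⁻¹ = jj hq φ u) (A : SU 3 F q) : φ A * x = x * φ A := by
  have hN : x ∈ NQ hq φ := mem_normalizer_of_cj_le (by
    rintro _ ⟨_, ⟨u, rfl⟩, rfl⟩
    exact ⟨u, (hc u).symm⟩)
  have all : ∀ A, (φ A)⁻¹ * x * φ A ∈ NQ hq φ := fun A => by
    rcases bruhat hq A with ⟨μ, u, rfl⟩ | ⟨v, μ, u, rfl⟩
    · have := mul_mem (d_nq hq φ μ) (j_nq hq φ u)
      rw [← map_mul] at this
      exact mul_mem (mul_mem (inv_mem this) hN) this
    · have h1 := mul_mem (d_nq hq φ μ) (j_nq hq φ u)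
      have := mul_mem (mul_mem (inv_mem h1) hw) h1
      have h2 : (φ (toSU hq v))⁻¹ * x * φ (toSU hq v) = x := by
        rw [mul_assoc, inv_mul_eq_iff_eq_mul, ← mul_inv_eq_iff_eq_mul]; exact hc v
      rw [← h2] at this
      simp only [map_mul]
      convert this using 1; group
  obtain ⟨B, hB⟩ := (mem_normalizer_iff.1 hx _).1 (⟨wSU hq, rfl⟩ : φ (wSU hq) ∈ φ.range)
  have hK := core hq hk (K := B * (wSU hq)⁻¹) fun A => by
    have := mul_mem (all A) (inv_mem (all ((wSU hq)⁻¹ * A)))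
    simp only [map_mul, map_inv, hB] at this ⊢
    convert this using 1; group
  have hBw : x * φ (wSU hq) = φ (wSU hq) * x := by
    have h3 := congrArg φ (cube_of_cen hq hK)
    have h2 := congrArg φ ((show Commute (wSU hq) _ from mem_center_iff.1 hK (wSU hq)).symm.mul_pow 2)
    rw [inv_mul_cancel_right, pow_two (wSU hq), w_sq, mul_one, map_pow, map_pow, hB, conj_pow, ← map_pow, pow_two (wSU hq),
      w_sq, map_one, mul_one, mul_inv_cancel] at h2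
    rw [map_pow, map_one, pow_succ, ← h2, one_mul, map_mul, map_inv, mul_inv_eq_one, hB] at h3
    exact mul_inv_eq_iff_eq_mul.1 h3
  have : closure (insert (wSU hq) (Set.range (toSU hq))) ≤ (centralizer {x}).comap φ := by
    rw [closure_le]
    rintro _ (rfl | ⟨u, rfl⟩)
    · exact mem_centralizer_singleton_iff.2 hBw.symm
    · exact mem_centralizer_singleton_iff.2 (mul_inv_eq_iff_eq_mul.1 (hc u)).symm
  exact mem_centralizer_singleton_iff.1 (this (mem_clU hq A))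

omit hk in
include hq in
theorem ex_mu0 {n : ℕ} (hn : 2 ≤ n) (hqn : q = 2 ^ n) (hF : Nat.card F = 4 ^ n) :
    ∃ μ₀ : Fˣ, σ μ₀ * μ₀ = 1 ∧ σ μ₀ ^ 2 / μ₀ ≠ 1 := by
  obtain ⟨g, hg⟩ := IsCyclic.exists_generator (α := Fˣ)
  have ho := orderOf_eq_card_of_forall_mem_zpowers hg
  rw [Nat.card_units, hF] at ho
  have h0 := σ_ne (σ := σ) g
  refine ⟨g / Units.map (σ : F →* F) g, ?_, fun h => ?_⟩
  · simp only [Units.val_div_eq_div_val, Units.coe_map, MonoidHom.coe_coe, map_div₀, invol]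
    field_simp
  · simp only [Units.val_div_eq_div_val, Units.coe_map, MonoidHom.coe_coe, map_div₀, invol] at h
    have h4 : 4 ≤ q := hqn ▸ Nat.pow_le_pow_right (by norm_num : 0 < 2) hn
    obtain ⟨r, hr⟩ : ∃ r, q = r + 1 := ⟨q - 1, by omega⟩
    have h3 : g ^ (3 * r) = 1 := Units.ext (by
      field_simp at h
      rw [hq, hr, ← pow_mul] at h
      push_cast
      refine mul_left_cancel₀ (pow_ne_zero 3 g.ne_zero) ?_
      rw [mul_one, ← pow_add]; rw [← h]; congr 1; ring)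
    have h5 := Nat.le_of_dvd (by omega) (orderOf_dvd_of_pow_eq_one h3)
    rw [ho, show 4 ^ n = q ^ 2 by rw [hqn, ← pow_mul, mul_comm, pow_mul]; rfl, hr] at h5
    have : (r + 1) ^ 2 = r * r + 2 * r + 1 := by ring
    have : 3 * r ≤ r * r := Nat.mul_le_mul_right r (by omega)
    omega

theorem ker' {n : ℕ} (hn : 2 ≤ n) (hqn : q = 2 ^ n) (hF : Nat.card F = 4 ^ n) {x : G}
    (hx : x ∈ normalizer (φ.range : Set G))
    (ha : ∀ u, ∃ u', x * jj hq φ u * x⁻¹ = jj hq φ u' ∧ u'.a = u.a) :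
    ∃ v, (jj hq φ v)⁻¹ * x ∈ centralizer (φ.range : Set G) := by
  obtain ⟨μ₀, h0, h1⟩ := ex_mu0 hq hn hqn hF
  obtain ⟨v, hv⟩ := opp_conj hq hk hx (mem_normalizer_of_cj_le (by
    rintro _ ⟨_, ⟨u, rfl⟩, rfl⟩
    exact (ha u).elim fun u' h => ⟨u', h.1.symm⟩))
  have hx' := mul_mem (inv_mem (le_normalizer (H := φ.range) ⟨toSU hq v, rfl⟩)) hx
  refine ⟨v, ?_⟩
  rintro _ ⟨A, rfl⟩
  refine cent_all hq hk hx' hv (cent_Q hq hk h0 h1 hx' hv fun u => ?_) A
  obtain ⟨u', e, h⟩ := ha u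
  refine ⟨v⁻¹ * u' * v, ?_, by simp [mul_a, inv_a, h]⟩
  rw [map_mul, map_mul, map_inv, ← e]; simp only [MonoidHom.comp_apply]; group

end Cfsg.Agent.WA.LkX
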