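import Cfsg.Agent.WA.Lk0b
import Cfsg.Agent.WA.LkEx2
import Cfsg.Agent.H7.Component
import Cfsg.Agent.L0.Char5
import Cfsg.Prelude.Def_Local
import Cfsg.Prelude.Def_Classical

/-! Existence of the frame. -/

set_option autoImplicit false

namespace Cfsg.Agent.WA.LkX

open Subgroup Cfsg.Agent.H1.U3 Cfsg.Agent.H7.Mu Cfsg.Agent.H8 Cfsg.Agent.H7

theorem two_le {F : Type*} [Field F] [Fintype F] {L : Type*} [Group L] (hq : IsQuasisimple L) {n : ℕ}
    (hF : Fintype.card F = 4 ^ n) (e : (L ⧸ center L) ≃* PSU 3 F (2 ^ n)) : 2 ≤ n := by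
  by_contra h
  obtain rfl | rfl : n = 0 ∨ n = 1 := by omega
  · exact absurd hF (Fintype.one_lt_card).ne'
  · obtain ⟨σ, hσ, hs⟩ := exists_ctx le_rfl hF
    have h1 := card_SU hs
    rw [card_US hF, Nat.card_units, Nat.card_eq_fintype_card (α := F), hF] at h1
    have h2 : Group.IsSolvable (SU 3 F (2 ^ 1)) :=
      L0.isSolvable_of_card_eq_pow_mul_pow Nat.prime_two Nat.prime_three (a := 3) (b := 3) (by rw [h1]; norm_num)
    have h3 : Group.IsSolvable (L ⧸ center L) :=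
      Group.isSolvable_of_isSolvable_injective (f := e.toMonoidHom) e.injective
    have := hq.1
    have := hq.2
    exact Group.IsPerfect.not_isSolvable _ h3

theorem exists_phi {F : Type*} [Field F] [Fintype F] {σ : F →+* F} [Ctx σ] {n : ℕ} (hs : ∀ x, σ x = x ^ 2 ^ n)
    {L : Type*} [Group L] [Finite L] (hq : IsQuasisimple L) (hn : 2 ≤ n)
    (hF : Fintype.card F = 4 ^ n) (e : (L ⧸ center L) ≃* PSU 3 F (2 ^ n)) :
    ∃ f : SU 3 F (2 ^ n) →* L, Function.Surjective f ∧ ∀ s, f s ∈ center L → s ∈ center (SU 3 F (2 ^ n)) := by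
  have h : CX (e.toMonoidHom.comp (QuotientGroup.mk' (center L))) :=
    ⟨e.surjective.comp (QuotientGroup.mk'_surjective _), fun z hz y =>
      (mem_center_iff.1 ((QuotientGroup.eq_one_iff z).1 (e.injective (hz.trans (map_one e).symm))) y).symm⟩
  have hL : commutator L = ⊤ := hq.1.commutator_eq_top
  obtain ⟨f, h1, h2⟩ := exists_cover (π := QuotientGroup.mk' (center (SU 3 F (2 ^ n)))) ⟨QuotientGroup.mk'_surjective _,
    fun z hz y => (Subgroup.mem_center_iff.mp ((QuotientGroup.eq_one_iff z).mp hz) y).symm⟩ h (perfect_SU hs (by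
      rw [commutator_def, ← MonoidHom.range_eq_top.mpr h.surj, ← map_commutator_eq, hL, MonoidHom.range_eq_map])) hL
    fun Y f c hp => su_inj c hp hn rfl hF
  refine ⟨f, h1, fun s hs => (QuotientGroup.eq_one_iff s).mp ((h2 s).symm.trans ?_)⟩
  rw [MonoidHom.comp_apply, QuotientGroup.mk'_apply, (QuotientGroup.eq_one_iff _).2 hs, map_one]

end Cfsg.Agent.WA.LkX

namespace Cfsg.Agent.WA.Lk

open Subgroup Cfsg.Agent.H1.U3 Cfsg.Agent.H8

variable {F : Type*} [Field F] [Finite F] {σ : F →+* F} [Ctx σ] {G : Type*} [Group G] [Finite G]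

theorem exists_fr' {F : Type*} [Field F] [Fintype F] {G : Type*} [Group G] [Finite G] (t : G)
    (ht : orderOf t = 2) (E U U₀ : Subgroup G)
    (hEU : IsInternalDirectProduct E U (centralizer ({t} : Set G)))
    (hE : IsElementaryAbelian 2 E) (hE1 : E ≠ ⊥)
    (hU₀ : U₀ ≤ U) (hU₀n : (U₀.subgroupOf U).Normal) (hq : IsQuasisimple ↥U₀)
    (n : ℕ) (hF : Fintype.card F = 4 ^ n)
    (hUX : Nonempty ((↥U₀ ⧸ center ↥U₀) ≃* PSU 3 F (2 ^ n)))
    (hCU : ∀ z ∈ U ⊓ centralizer (U₀ : Set G), Odd (orderOf z))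
    (hC : ∀ e ∈ E, orderOf e = 2 → centralizer ({e} : Set G) = centralizer ({t} : Set G)) :
    ∃ (σ : F →+* F) (_ : Ctx σ) (hs : ∀ x, σ x = x ^ 2 ^ n) (φ : SU 3 F (2 ^ n) →* G) (f : Fr σ G),
      f.E = E ∧ f.U = U ∧ f.n = n ∧ f.Z = U ⊓ centralizer (U₀ : Set G) ∧ φ.range = U₀ ∧
      (∀ s, φ s = 1 → s ∈ center _) ∧ f.j = LkX.jj hs φ ∧ f.d = φ.comp (H7.Mu.δ hs) := by
  obtain ⟨i⟩ := hUX
  have hn := LkX.two_le hq hF i
  obtain ⟨σ, hσ, hs⟩ := exists_ctx (by omega) hF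
  obtain ⟨f, f1, f2⟩ := LkX.exists_phi hs hq hn hF i
  obtain ⟨-, hU, com, dis, sup⟩ := hEU
  let φ := U₀.subtype.comp f
  have hk : ∀ s, φ s = 1 → s ∈ center _ := fun s h => f2 s (by
    rw [show f s = 1 from Subtype.ext h]; exact one_mem _)
  have hr : φ.range = U₀ := by
    rw [MonoidHom.range_comp, MonoidHom.range_eq_top.2 f1, ← MonoidHom.range_eq_map, range_subtype]
  have hφ : ∀ s, φ s ∈ U₀ := fun s => (f s).2
  have sq : ∀ e ∈ E, e * e = 1 := fun e he => by rw [← pow_two]; exact hE.2 e he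
  have c1 : ∀ e ∈ E, e ≠ 1 → centralizer {e} = centralizer ({t} : Set G) := fun e he h1 =>
    hC e he (orderOf_eq_prime (hE.2 e he) h1)
  have c2 : centralizer ({t} : Set G) = centralizer (E : Set G) := by
    obtain ⟨⟨e, he⟩, h1⟩ := ne_bot_iff_exists_ne_one.1 hE1
    refine le_antisymm (fun x hx g hg => ?_) (by
      rw [← c1 e he fun h => h1 (Subtype.ext h)]; exact centralizer_le (Set.singleton_subset_iff.2 he))
    by_cases h : g = 1
    · simp [h]
    · rw [← c1 g hg h] at hx; exact (mem_centralizer_singleton_iff.1 hx).symm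
  rw [c2] at hU sup
  have dec : ∀ x ∈ centralizer (E : Set G), ∃ e ∈ E, ∃ u ∈ U, x = e * u := fun x hx => by
    rw [← sup, ← SetLike.mem_coe, coe_mul_of_right_le_normalizer_left E U
      (hU.trans (centralizer_le_normalizer _))] at hx
    obtain ⟨e, he, u, hu, rfl⟩ := hx
    exact ⟨e, he, u, hu, rfl⟩
  have eC : ∀ e ∈ E, e ∈ centralizer (U₀ : Set G) := fun e he g hg => (com e he g (hU₀ hg)).symm
  have CN : centralizer (E : Set G) ≤ normalizer (U₀ : Set G) := fun x hx => by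
    obtain ⟨e, he, u, hu, rfl⟩ := dec x hx
    exact mul_mem (centralizer_le_normalizer _ (eC e he)) ((normal_subgroupOf_iff_le_normalizer hU₀).1 hU₀n hu)
  set Z := U ⊓ centralizer (U₀ : Set G) with hZ
  have Zc : ∀ z ∈ Z, ∀ y ∈ U₀, z * y = y * z := fun z hz y hy => (hz.2 y hy).symm
  have CC : ∀ x ∈ centralizer (E : Set G), x ∈ centralizer (U₀ : Set G) → ∃ e ∈ E, ∃ z ∈ Z, x = e * z := fun x hx h => by
    obtain ⟨e, he, u, hu, rfl⟩ := dec x hx
    exact ⟨e, he, u, ⟨hu, (mul_mem_cancel_left (eC e he)).1 h⟩, rfl⟩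
  have NN : normalizer (E : Set G) ≤ normalizer (U₀ : Set G) := fun x hx => by
    have h0 : cj x (centralizer (E : Set G)) = centralizer (E : Set G) := by rw [cj_centralizer, cj_eq_self hx]
    have h1 : cj x U₀ ≤ centralizer (E : Set G) := h0 ▸ cj_mono x (hU₀.trans hU)
    have h2 : U₀ ≤ normalizer ((cj x U₀ : Subgroup G) : Set G) :=
      (hU₀.trans hU).trans (by rw [← cj_normalizer, ← h0]; exact cj_mono x CN)
    rcases H7.QS.commutator_eq_or hq (h1.trans CN) with h | h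
    · have h3 := le_normalizer_iff_commutator_le_right.1 h2
      rw [h] at h3
      exact inv_mem_iff.1 (mem_normalizer_of_cj_le (cj_le_iff.2 (by rwa [inv_inv])))
    · rw [commutator_comm, commutator_eq_bot_iff_le_centralizer] at h
      exfalso
      have ha : x * LkX.jj hs φ (lift σ 1) * x⁻¹ ∈ cj x U₀ := ⟨_, hφ _, rfl⟩
      obtain ⟨e, he, z, hz, e1⟩ := CC _ (h1 ha) (h ha)
      have c : Commute e z := com e he z hz.1
      have h4 : (LkX.jj hs φ (lift σ 1)) ^ 2 ^ 2 = 1 := by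
        rw [← map_pow, show lift σ 1 ^ 2 ^ 2 = 1 from pow_four _, map_one]
      have h5 : z = 1 := eq_one_of_odd_two (hCU z hz) (k := 2) (by
        have := c.mul_pow (2 ^ 2)
        rwa [← e1, conj_pow, h4, mul_one, mul_inv_cancel, show e ^ 2 ^ 2 = 1 by
          rw [show 2 ^ 2 = 2 * 2 from rfl, pow_mul, pow_two e, sq e he, one_pow], one_mul, eq_comm] at this)
      have h6 := sq e he
      rw [h5, mul_one] at e1
      rw [← e1, conj_mul, ← map_mul, mul_inv_eq_one, mul_eq_left, ← map_one (LkX.jj hs φ)] at h6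
      have := sq_b (lift σ 1)
      rw [LkX.j_inj hs hk h6] at this
      simp at this
  have hS := LkX.sylQ hs φ
  rw [hr] at hS
  obtain ⟨T, hT, hQT⟩ := exists_isSylowIn_ge hS.pgroup (hS.le.trans (hU₀.trans hU))
  refine ⟨σ, hσ, hs, φ, ⟨n, hn, by rw [Nat.card_eq_fintype_card, hF], LkX.jj hs φ, LkX.j_inj hs hk, φ.comp (H7.Mu.δ hs),
    LkX.d_j hs φ, E, U, Z, T, hE1, sq, fun e he h => (c1 e he h).trans c2, hU, dec,
    fun e he hu => mem_bot.1 (dis ▸ ⟨he, hu⟩), fun u => hU₀ (hφ _), fun u => hU₀ (hφ _), inf_le_left, hCU,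
    fun z hz u => Zc z hz _ (hφ _), fun z hz u => Zc z hz _ (hφ _),
    fun x hx u u' hu e => LkX.ti' hs hk (hr ▸ NN hx) hu e, fun x hx ha => ?_, hT, ?_, fun u => hQT ⟨u, rfl⟩⟩,
    rfl, rfl, rfl, rfl, hr, hk, rfl, rfl⟩
  · obtain ⟨v, hv⟩ := LkX.ker' hs hk hn rfl (by rw [Nat.card_eq_fintype_card, hF]) (hr ▸ CN hx) ha
    rw [hr] at hv
    obtain ⟨e, he, z, hz, h⟩ := CC _ (mul_mem (inv_mem (hU (hU₀ (hφ _)))) hx) hv
    refine ⟨e, he, v, z, hz, ?_⟩
    rw [MonoidHom.comp_apply, com e he _ (hU₀ (hφ _)), mul_assoc, ← h, mul_inv_cancel_left]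
  · rw [← hS.max (T ⊓ U₀) inf_le_right (hT.pgroup.to_inf_left) (le_inf hQT hS.le)]
    exact H7.le_normalizer_inf le_normalizer (hT.le.trans CN)

theorem odd_center {F : Type*} [Field F] [Fintype F] {L : Type*} [Group L] [Finite L]
    (hq : IsQuasisimple L) {n : ℕ} (hF : Fintype.card F = 4 ^ n)
    (hUX : Nonempty ((L ⧸ center L) ≃* PSU 3 F (2 ^ n))) {z : L} (hz : z ∈ center L) : Odd (orderOf z) := by
  obtain ⟨i⟩ := hUX
  have hn := LkX.two_le hq hF i
  obtain ⟨σ, hσ, hs⟩ := exists_ctx (by omega) hF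
  obtain ⟨f, f1, f2⟩ := LkX.exists_phi hs hq hn hF i
  obtain ⟨s, rfl⟩ := f1 z
  refine (by decide : Odd 3).of_dvd_nat (orderOf_dvd_of_pow_eq_one ?_)
  rw [← map_pow, H7.Mu.cube_of_cen hs (f2 s hz), map_one]

/-- module LkEx -/
theorem exists_fr {F : Type*} [Field F] [Fintype F] {G : Type*} [Group G] [Finite G] (t : G)
    (ht : orderOf t = 2) (E U U₀ : Subgroup G)
    (hEU : IsInternalDirectProduct E U (centralizer ({t} : Set G)))
    (hE : IsElementaryAbelian 2 E) (hE1 : E ≠ ⊥)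
    (hU₀ : U₀ ≤ U) (hU₀n : (U₀.subgroupOf U).Normal) (hq : IsQuasisimple ↥U₀)
    (n : ℕ) (hF : Fintype.card F = 4 ^ n)
    (hUX : Nonempty ((↥U₀ ⧸ center ↥U₀) ≃* PSU 3 F (2 ^ n)))
    (hCU : U ⊓ centralizer (U₀ : Set G) = (center ↥U₀).map U₀.subtype)
    (hC : ∀ e ∈ E, orderOf e = 2 → centralizer ({e} : Set G) = centralizer ({t} : Set G)) :
    ∃ (σ : F →+* F) (_ : Ctx σ) (f : Fr σ G), f.E = E := by
  obtain ⟨σ, i, -, -, f, h, -⟩ := exists_fr' t ht E U U₀ hEU hE hE1 hU₀ hU₀n hq n hF hUX (by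
    rw [hCU]
    rintro _ ⟨z, hz, rfl⟩
    rw [orderOf_injective _ U₀.subtype_injective]
    exact odd_center hq hF hUX hz) hC
  exact ⟨σ, i, f, h⟩

end Cfsg.Agent.WA.Lk
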