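import Cfsg.Agent.WA.ILk1
import Cfsg.Prelude.Def_Local
import Cfsg.Prelude.Def_Classical
import Cfsg.Agent.WA.LkEx
import Cfsg.Agent.WA.Lk1a
import Cfsg.Agent.WA.Lk2b
import Cfsg.Agent.WA.Lk2a
import Cfsg.Agent.WA.Lk3a
import Cfsg.Agent.WA.Lk3b
import Cfsg.Agent.WA.Lk4a
import Cfsg.Agent.WA.Lk4b
import Cfsg.Agent.WA.Lk4c

/- LINKED interface; the statements, proved in the imported files:

variable {F : Type*} [Field F] [Finite F] {σ : F →+* F} [Ctx σ] {G : Type*} [Group G] [Finite G]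
-- module LkEx 
theorem exists_fr {F : Type*} [Field F] [Fintype F] {G : Type*} [Group G] [Finite G] (t : G)
    (ht : orderOf t = 2) (E U U₀ : Subgroup G)
    (hEU : IsInternalDirectProduct E U (centralizer ({t} : Set G)))
    (hE : IsElementaryAbelian 2 E) (hE1 : E ≠ ⊥)
    (hU₀ : U₀ ≤ U) (hU₀n : (U₀.subgroupOf U).Normal) (hq : IsQuasisimple ↥U₀)
    (n : ℕ) (hF : Fintype.card F = 4 ^ n)
    (hUX : Nonempty ((↥U₀ ⧸ center ↥U₀) ≃* PSU 3 F (2 ^ n)))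
    (hCU : U ⊓ centralizer (U₀ : Set G) = (center ↥U₀).map U₀.subtype)
    (hC : ∀ e ∈ E, orderOf e = 2 → centralizer ({e} : Set G) = centralizer ({t} : Set G)) :
    ∃ (σ : F →+* F) (_ : Ctx σ) (f : Fr σ G), f.E = E
-- module Lk1a: Case I 
theorem Fr.con_one (f : Fr σ G) (h : ∀ s ∈ f.A, f.TC s → s ∈ f.E) : f.Con
-- module Lk1a: Case II 
theorem Fr.exists_two (f : Fr σ G) {s : G} (hs : s ∈ f.A) (h : f.TC s) (hE : s ∉ f.E) :
    ∃ w : Two σ G, w.toFr = f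
-- module Lk2b 
theorem Fr.Top.con {f : Fr σ G} {t : G} {P : Subgroup G} {y ξ : G → F} {κ : F}
    (h : f.Top t P y ξ κ) : f.Con
-- module Lk2a: the tower; uses `Fr.Top.con` 
theorem Two.con_tower (w : Two σ G) (h2 : Nat.card w.E = 2)
    (h : w.c = 0 → ∀ g ∈ normalizer (w.S : Set G), cj g w.A = w.A) : w.Con
-- module Lk3a 
theorem Two.exists_six (w : Two σ G) (hc : w.c = 0) {g : G} (hg : g ∈ normalizer (w.S : Set G))
    (hP : g ∈ normalizer (w.P0 : Set G)) (hA : cj g w.A ≠ w.A) :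
    ∃ t Y W a₁ a₂, w.Six t Y W a₁ a₂
-- module Lk3b 
theorem Fr.Six.con {f : Fr σ G} {t : G} {Y W : Subgroup G} {a₁ a₂ : G → F}
    (h : f.Six t Y W a₁ a₂) : f.Con
-- module Lk4a 
theorem Two.con_syl (w : Two σ G) (h4 : 4 ≤ Nat.card w.E) (hR : IsSylowIn 2 w.R ⊤) : w.Con
-- module Lk4b 
theorem Two.pair (w : Two σ G) (hc : w.c = 0) (hq : Nat.card w.E = w.q)
    (hP : ∀ g ∈ normalizer (w.S : Set G), g ∈ normalizer (w.P0 : Set G) → cj g w.A = w.A)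
    {g : G} (hg : g ∈ normalizer (w.S : Set G)) :
    (cj g w.A = w.A ∧ cj g w.P0 = w.P0) ∨ (cj g w.A = w.P0 ∧ cj g w.P0 = w.A)
-- module Lk4c 
theorem Two.con_swap (w : Two σ G) (hc : w.c = 0) (hq : Nat.card w.E = w.q)
    (hX : ∀ g ∈ normalizer (w.S : Set G),
      (cj g w.A = w.A ∧ cj g w.P0 = w.P0) ∨ (cj g w.A = w.P0 ∧ cj g w.P0 = w.A))
    (hs : ∃ g ∈ normalizer (w.S : Set G), cj g w.A ≠ w.A) : w.Con
-/
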