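import Cfsg.Agent.WA.Lk0b

/-! Basic facts on the frame, part c: order bounds in `C(s)`. -/

set_option autoImplicit false
set_option linter.unusedSectionVars false

namespace Cfsg.Agent.WA.Lk

open Subgroup Cfsg.Agent.H1.U3 Cfsg.Agent.H8

variable {F : Type*} [Field F] [Finite F] {σ : F →+* F} [Ctx σ] {G : Type*} [Group G] [Finite G]

theorem Fr.into_T (f : Fr σ G) {s : G} (hs : f.TC s) {X : Subgroup G} (hX : IsPGroup 2 X)
    (hc : X ≤ centralizer {s}) :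
    ∃ g, ∃ e ∈ f.E, e ≠ 1 ∧ g * e * g⁻¹ = s ∧ cj g⁻¹ X ≤ f.T := by
  have : Fact (Nat.Prime 2) := ⟨Nat.prime_two⟩
  obtain ⟨e, he, h1, h⟩ := hs
  obtain ⟨g, rfl⟩ := isConj_iff.1 h
  obtain ⟨k, h2, h3⟩ := H9.exists_extremal_conj' (p := 2) (T := f.T) (z := e) (b := g * e * g⁻¹)
    (g := g) (by rw [f.cen e he h1]; exact f.T_syl.not_dvd_relIndex) (by group) hX
    fun r hr => mem_centralizer_singleton_iff.1 (hc hr)
  refine ⟨k, e, he, h1, by nth_rewrite 1 [← h2]; group, ?_⟩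
  rintro _ ⟨x, hx, rfl⟩
  simpa using h3 x hx

theorem Fr.card_le_T (f : Fr σ G) {s : G} (hs : f.TC s) {X : Subgroup G} (hX : IsPGroup 2 X)
    (hc : X ≤ centralizer {s}) : Nat.card X ≤ Nat.card f.T := by
  obtain ⟨g, -, -, -, -, h⟩ := f.into_T hs hX hc
  rw [← card_cj g⁻¹]
  exact card_le_of_le h

open Classical in
/-- the coordinate of `T₁ / A = F` -/
noncomputable def Fr.ta (f : Fr σ G) (x : G) : F :=
  if h : ∃ u, ∃ e ∈ f.E, x = e * f.j u then h.choose.a else 0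

theorem Fr.ta_eq (f : Fr σ G) {e : G} (he : e ∈ f.E) (u : US σ) : f.ta (e * f.j u) = u.a := by
  have h : ∃ r, ∃ e' ∈ f.E, e * f.j u = e' * f.j r := ⟨u, e, he, rfl⟩
  rw [Fr.ta, dif_pos h]
  obtain ⟨e', he', h1⟩ := h.choose_spec
  generalize h.choose = r at h1
  have h2 : e'⁻¹ * e = 1 := f.disj _ (f.E.mul_mem (f.E.inv_mem he') he) (by
    rw [show e'⁻¹ * e = f.j r * (f.j u)⁻¹ by rw [inv_mul_eq_iff_eq_mul, ← mul_assoc, ← h1]; group]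
    exact f.U.mul_mem (f.jU r) (f.U.inv_mem (f.jU u)))
  obtain rfl : e' = e := inv_mul_eq_one.1 h2
  rw [f.j_inj (mul_left_cancel h1)]

theorem Fr.ta_mul (f : Fr σ G) {x y : G} (hx : x ∈ f.T1) (hy : y ∈ f.T1) :
    f.ta (x * y) = f.ta x + f.ta y := by
  obtain ⟨e, he, u, rfl⟩ := f.mem_T1.1 hx
  obtain ⟨e', he', r, rfl⟩ := f.mem_T1.1 hy
  rw [show e * f.j u * (e' * f.j r) = e * e' * f.j (u * r) by
    rw [map_mul, mul_assoc e, ← mul_assoc (f.j u), ← f.Q_le_C ⟨u, rfl⟩ e' he']; group,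
    f.ta_eq (f.E.mul_mem he he'), f.ta_eq he, f.ta_eq he', mul_a]

theorem Fr.ta_eq_zero (f : Fr σ G) {x : G} (hx : x ∈ f.T1) : f.ta x = 0 ↔ x ∈ f.A := by
  obtain ⟨e, he, u, rfl⟩ := f.mem_T1.1 hx
  rw [f.ta_eq he, ← f.j_mem_V]
  refine ⟨fun h => mul_mem_sup he h, fun h => ?_⟩
  have := f.A_sq h
  rw [f.sq_mul he (f.Q_le_C ⟨u, rfl⟩), f.j_sq, ← f.vv_zero] at this
  exact f.j_mem_V.2 (nm_eq_zero.1 (f.vv_inj (nm_fixed _) (map_zero σ) this))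

theorem Fr.ta_conj (f : Fr σ G) {g x : G} (hg : g ∈ f.D) (hx : x ∈ f.T1) :
    g * x * g⁻¹ ∈ f.T1 ∧ f.ta (g * x * g⁻¹) = f.cc g * f.tt g (f.ta x) := by
  obtain ⟨e, he, u, rfl⟩ := f.mem_T1.1 hx
  rw [show g * (e * f.j u) * g⁻¹ = e * f.j (f.aut g u) by
    rw [← f.conj_j hg.2, ← mul_assoc, ← hg.1 e he]; group, f.ta_eq he, f.ta_eq he, f.aut_a]
  exact ⟨f.mem_T1.2 ⟨e, he, _, rfl⟩, rfl⟩

theorem Fr.ta_cm (f : Fr σ G) {x y : G} (hx : x ∈ f.T1) (hy : y ∈ f.T1) :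
    x * y * x⁻¹ * y⁻¹ = f.vv (bl σ (f.ta x) (f.ta y)) := by
  obtain ⟨e, he, u, rfl⟩ := f.mem_T1.1 hx
  obtain ⟨e', he', r, rfl⟩ := f.mem_T1.1 hy
  rw [f.ta_eq he, f.ta_eq he', ← f.j_cm]
  have h1 := f.T1_le_C hy e he
  have h2 := f.Q_le_C (f.Q.mul_mem (f.Q.mul_mem ⟨u, rfl⟩ ⟨r, rfl⟩) (f.Q.inv_mem ⟨u, rfl⟩))
  calc _ = e * (f.j u * e' * f.j r * (f.j u)⁻¹) * e⁻¹ * (e' * f.j r)⁻¹ := by group
    _ = e * (e' * (f.j u * f.j r * (f.j u)⁻¹)) * e⁻¹ * (e' * f.j r)⁻¹ := by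
      rw [← f.Q_le_C ⟨u, rfl⟩ e' he']; group
    _ = e' * (f.j u * f.j r * (f.j u)⁻¹) * (e' * f.j r)⁻¹ := by
      rw [f.C.mul_mem (f.E_le_C he') h2 e he]; group
    _ = _ := by
      rw [h2 e' he', mul_inv_rev, ← f.C.inv_mem (f.Q_le_C ⟨r, rfl⟩) _ (f.E.inv_mem he')]; group

theorem Fr.card_le_ta (f : Fr σ G) {X : Subgroup G} (hX : X ≤ f.T1) {L : Set F}
    (h : ∀ x ∈ X, f.ta x ∈ L) : Nat.card X ≤ Nat.card ↥(f.A ⊓ X) * L.ncard := by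
  let φ : X →* Multiplicative F :=
    MonoidHom.mk' (fun x => Multiplicative.ofAdd (f.ta x)) fun a b => by
      rw [← ofAdd_add, ← f.ta_mul (hX a.2) (hX b.2)]; rfl
  rw [← H9.card_inf_mul_relIndex f.A X]
  refine Nat.mul_le_mul_left _ ?_
  have : f.A.relIndex X = Nat.card φ.range := by
    rw [← index_ker, relIndex]
    congr 1
    ext x
    exact (f.ta_eq_zero (hX x.2)).symm
  rw [this]
  refine Set.ncard_le_ncard (s := (φ.range : Set (Multiplicative F))) (t := L) ?_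
  rintro _ ⟨x, rfl⟩
  exact h x x.2

theorem Fr.ncard_line (f : Fr σ G) (a : F) : {x | ∃ l, σ l = l ∧ x = l * a}.ncard ≤ f.q := by
  rw [← f.card_K]
  refine le_trans (le_of_eq ?_) (Set.ncard_image_le (f := (· * a)) (s := (KK σ : Set F)))
  congr 1
  ext x
  exact ⟨fun ⟨l, h, e⟩ => ⟨l, h, e.symm⟩, fun ⟨l, h, e⟩ => ⟨l, h, e.symm⟩⟩

theorem Fr.relIndex_le_two (f : Fr σ G) {X : Subgroup G} (hX : X ≤ f.T)
    (h : ∀ x ∈ X, f.tt x = 1 ∨ f.tt x = sigAut σ) : f.T1.relIndex X ≤ 2 := by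
  rw [f.relIndex_T1 hX]
  refine le_trans (Set.ncard_le_ncard (s := ((f.ttH hX).range : Set (RingAut F)))
    (t := {1, sigAut σ}) ?_) ((Set.ncard_insert_le _ _).trans (by simp))
  rintro _ ⟨x, rfl⟩
  exact h x x.2

theorem Fr.rank_le (f : Fr σ G) {s : G} (hs : f.TC s) {X : Subgroup G}
    (hX : ∀ x ∈ X, x * x = 1) (hc : X ≤ centralizer {s}) :
    Nat.card X ≤ 2 * (Nat.card f.E * f.q) := by
  obtain ⟨g, -, -, -, -, h⟩ := f.into_T hs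
    (H9.isPGroup_of_pow_eq_one fun x hx => by rw [pow_two, hX x hx]) hc
  have h2 : ∀ x ∈ cj g⁻¹ X, x * x = 1 := by
    rintro _ ⟨x, hx, rfl⟩
    rw [← map_mul, hX x hx, map_one]
  rw [← card_cj g⁻¹, ← H9.card_inf_mul_relIndex f.T1, mul_comm, ← f.card_A]
  exact Nat.mul_le_mul (f.relIndex_le_two h fun x hx =>
    f.tt_cases (f.T_N (h hx)) (by rw [h2 x hx, f.ct_one.2]))
    (card_le_of_le fun x hx => f.mem_A_of_sq hx.1 (h2 x hx.2))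

theorem Fr.exists_sig (f : Fr σ G) {x : G} (hx : x ∈ f.T) (h : f.tt x ≠ 1) :
    ∃ k : ℕ, f.tt (x ^ k) = sigAut σ := by
  obtain ⟨j, hj⟩ := H9.exists_pow_eq_one_of_mem f.T_syl.pgroup hx
  induction j generalizing x with
  | zero => exact absurd (by rw [show x = 1 by simpa using hj, f.ct_one.2]) h
  | succ j ih =>
    by_cases h2 : f.tt (x * x) = 1
    · exact ⟨1, by rw [pow_one]; exact (f.tt_cases (f.T_N hx) h2).resolve_left h⟩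
    · obtain ⟨k, hk⟩ := ih (f.T.mul_mem hx hx) h2 (by rw [← pow_two, ← pow_mul, ← pow_succ', hj])
      exact ⟨2 * k, by rw [pow_mul, pow_two, hk]⟩

theorem Fr.sig_sq_mem (f : Fr σ G) {y : G} (hy : y ∈ f.T) (h : f.tt y = sigAut σ) :
    y * y ∈ f.T1 := (f.mem_T1_iff (f.T.mul_mem hy hy)).2 (by
  rw [f.tt_mul (f.T_N hy) (f.T_N hy), h]
  exact RingEquiv.ext fun a => invol a)

theorem Fr.sig_comm (f : Fr σ G) {y x : G} (hy : y ∈ f.T) (h : f.tt y = sigAut σ) (hx : x ∈ f.T1)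
    (hc : y * x = x * y) : f.ta x ∈ ({0, f.ta (y * y)} : Set F) := by
  have h1 := f.sig_sq_mem hy h
  have h2 := (f.ta_conj (f.T_le_D hy) h1).2
  have h3 := (f.ta_conj (f.T_le_D hy) hx).2
  rw [show y * (y * y) * y⁻¹ = y * y by group, h, sigAut_apply] at h2
  rw [hc, mul_inv_cancel_right, h, sigAut_apply] at h3
  obtain ⟨-, -, -, h4⟩ := exists_fix (f.nm_cc_of_sig (f.T_N hy) h (f.ct_T1 h1).1).1
  obtain ⟨b, hb⟩ := h4 _ h3.symm
  obtain ⟨e', he', w, hw⟩ := f.mem_T1.1 h1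
  obtain ⟨e, he, u, rfl⟩ := f.mem_T1.1 hx
  rw [hw, f.ta_eq he'] at h2 ⊢
  rw [f.ta_eq he] at hb ⊢
  have h5 := f.sig_gen (f.T_N hy) h (w := w) (by
    rw [hw, f.Q_le_C ⟨w, rfl⟩ e' he', inv_mul_cancel_left]; exact f.E_cen_Q he') hb
  rw [← mul_assoc, ← f.T_syl.le hy e he, mul_assoc, mul_assoc, mul_left_cancel_iff] at hc
  rw [hc, mul_inv_cancel_right, f.j_sq] at h5
  have h6 := f.vv_inj (nm_fixed _) (bl_fixed _ _) h5
  have h7 : (σ u.a - σ w.a) * u.a = 0 := by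
    simp only [nm, bl] at h6
    linear_combination h6 + σ w.a * hb + σ b * h2
  rcases mul_eq_zero.1 h7 with h8 | h8
  · exact Or.inr (σ.injective (sub_eq_zero.1 h8))
  · exact Or.inl h8

theorem ncard_pair_le (a b : F) : ({a, b} : Set F).ncard ≤ 2 :=
  (Set.ncard_insert_le _ _).trans (by simp)

theorem Fr.ab_lt (f : Fr σ G) (h2 : Nat.card f.E = 2) {s : G} (hs : f.TC s) {X : Subgroup G}
    (hX : IsPGroup 2 X) (hab : ∀ x ∈ X, ∀ y ∈ X, x * y = y * x) (hc : X ≤ centralizer {s}) :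
    Nat.card X < f.q ^ 3 := by
  obtain ⟨g, -, -, -, -, h⟩ := f.into_T hs hX hc
  have hab' : ∀ x ∈ cj g⁻¹ X, ∀ y ∈ cj g⁻¹ X, x * y = y * x := by
    rintro _ ⟨x, hx, rfl⟩ _ ⟨y, hy, rfl⟩
    rw [← map_mul, hab x hx y hy, map_mul]
  rw [← card_cj g⁻¹]
  generalize cj g⁻¹ X = Y at h hab'
  have q4 := f.four_le
  have cA := f.card_A
  rw [h2] at cA
  have hA : ∀ W : Subgroup G, Nat.card ↥(f.A ⊓ W) ≤ 2 * f.q := fun W => cA ▸ card_le_of_le inf_le_left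
  by_cases h1 : ∀ x ∈ Y, f.tt x = 1
  · have hY : Y ≤ f.T1 := fun x hx => (f.mem_T1_iff (h hx)).2 (h1 x hx)
    obtain ⟨a, ha⟩ : ∃ a, ∀ x ∈ Y, f.ta x ∈ {x | ∃ l, σ l = l ∧ x = l * a} := by
      by_cases h3 : ∀ x ∈ Y, f.ta x = 0
      · exact ⟨0, fun x hx => ⟨0, map_zero σ, by rw [h3 x hx, mul_zero]⟩⟩
      push Not at h3
      obtain ⟨y, hy, h3⟩ := h3
      refine ⟨f.ta y, fun x hx => ⟨f.ta x / f.ta y, ?_, (div_mul_cancel₀ _ h3).symm⟩⟩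
      have e := f.ta_cm (hY hx) (hY hy)
      rw [hab' x hx y hy, mul_inv_cancel_right, mul_inv_cancel, ← f.vv_zero] at e
      have e' := f.vv_inj (map_zero σ) (bl_fixed _ _) e
      rw [map_div₀, div_eq_div_iff ((map_ne_zero σ).2 h3) h3]
      rw [bl] at e'
      linear_combination -e' - σ (f.ta y) * f.ta x * two σ
    have := (f.card_le_ta hY ha).trans (Nat.mul_le_mul (hA Y) (f.ncard_line a))
    nlinarith
  push Not at h1
  obtain ⟨y, hy, h1⟩ := h1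
  obtain ⟨k, hk⟩ := f.exists_sig (h hy) h1
  have h3 := (f.card_le_ta (X := f.T1 ⊓ Y) inf_le_left fun x hx =>
    f.sig_comm (h (Y.pow_mem hy k)) hk hx.1 (hab' _ (Y.pow_mem hy k) x hx.2)).trans
    (Nat.mul_le_mul_left _ (ncard_pair_le _ _))
  rw [← H9.card_inf_mul_relIndex f.T1]
  by_cases h4 : ∀ x ∈ Y, f.tt x = 1 ∨ f.tt x = sigAut σ
  · have := Nat.mul_le_mul (h3.trans (Nat.mul_le_mul_right _ (hA _))) (f.relIndex_le_two h h4)
    have h16 : 16 ≤ f.q ^ 2 := by nlinarith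
    nlinarith
  push Not at h4
  obtain ⟨z, hz, h4⟩ := h4
  have h5 : Nat.card ↥(f.A ⊓ (f.T1 ⊓ Y)) ≤ f.q := by
    have e := H9.card_inf_mul_relIndex (f.T1 ⊓ Y) f.A
    have e1 : (f.T1 ⊓ Y).relIndex f.A ≠ 1 := fun e1 => by
      rcases (f.tt_of_cen_V (f.T_N (h hz)) fun v hv =>
        hab' v (relIndex_eq_one.1 e1 (mem_sup_right hv)).2 z hz).2 with h6 | h6
      · exact h4.1 h6
      · exact h4.2 h6
    have e2 : (f.T1 ⊓ Y).relIndex f.A ≠ 0 := index_ne_zero_of_finite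
    rw [inf_comm, cA] at e
    obtain ⟨r, hr⟩ : ∃ r, (f.T1 ⊓ Y).relIndex f.A = r + 2 :=
      ⟨(f.T1 ⊓ Y).relIndex f.A - 2, by omega⟩
    rw [hr] at e
    nlinarith
  have h6 := f.relIndex_lt h
  have := Nat.mul_le_mul_right (f.T1.relIndex Y) (h3.trans (Nat.mul_le_mul_right _ h5))
  nlinarith

theorem Fr.lemL (f : Fr σ G) {s : G} (hs : f.TC s) {X : Subgroup G} (hX : IsPGroup 2 X)
    (hc : X ≤ centralizer {s}) (hcV : X ≤ centralizer (f.V : Set G))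
    (hcard : Nat.card f.T1 ≤ Nat.card X)
    (hcm : ∀ x ∈ X, ∀ y ∈ X, x * y * x⁻¹ * y⁻¹ ∈ f.V) :
    ∃ g, ∃ e ∈ f.E, e ≠ 1 ∧ g * e * g⁻¹ = s ∧ cj g f.T1 = X ∧ cj g f.V = f.V := by
  obtain ⟨g, e, he, e1, hg, h⟩ := f.into_T hs hX hc
  have k1 : ∀ x ∈ cj g⁻¹ X, ∀ y ∈ cj g⁻¹ X, x * y * x⁻¹ * y⁻¹ ∈ cj g⁻¹ f.V := by
    rintro _ ⟨x, hx, rfl⟩ _ ⟨y, hy, rfl⟩
    exact ⟨_, hcm x hx y hy, by simp only [map_mul, map_inv]⟩
  have k2 : ∀ v ∈ cj g⁻¹ f.V, v * v = 1 ∧ ∀ x ∈ cj g⁻¹ X, v * x = x * v := by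
    rintro _ ⟨v, hv, rfl⟩
    refine ⟨by rw [← map_mul, f.V_sq hv, map_one], ?_⟩
    rintro _ ⟨x, hx, rfl⟩
    rw [← map_mul, hcV hx v hv, map_mul]
  rw [← card_cj g⁻¹ X] at hcard
  have k3 : cj g⁻¹ X = f.T1 := by
    refine eq_of_le_of_card_ge (fun y hy => (f.mem_T1_iff (h hy)).2 ?_) hcard
    by_contra h1
    generalize cj g⁻¹ X = Y at *
    have q4 := f.four_le
    have hA : Nat.card ↥(f.A ⊓ (f.T1 ⊓ Y)) ≤ Nat.card f.E * f.q :=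
      f.card_A ▸ card_le_of_le inf_le_left
    have E0 : 0 < Nat.card f.E * f.q := Nat.mul_pos Nat.card_pos (by omega)
    rw [← H9.card_inf_mul_relIndex f.T1 Y, f.card_T1, show Nat.card f.E * f.q ^ 3 =
      Nat.card f.E * f.q * f.q ^ 2 by ring] at hcard
    by_cases h4 : ∀ x ∈ Y, f.tt x = 1 ∨ f.tt x = sigAut σ
    · have h5 := (h4 y hy).resolve_left h1
      obtain ⟨a, -, h6, -⟩ := exists_fix
        (f.nm_cc_of_sig (f.T_N (h hy)) h5 (f.ct_T1 (f.sig_sq_mem (h hy) h5)).1).1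
      have h7 := (f.card_le_ta (X := f.T1 ⊓ Y) inf_le_left (L := {x | ∃ l, σ l = l ∧ x = l * a})
        fun x hx => (h6 _).1 (by
          obtain ⟨m1, m2⟩ := f.ta_conj (f.T_le_D (h hy)) hx.1
          have m3 := f.T1.mul_mem m1 (f.T1.inv_mem hx.1)
          have m4 := f.ta_mul m3 hx.1
          rw [(f.ta_eq_zero m3).2 (f.mem_A_of_sq m3 (k2 _ (k1 y hy x hx.2)).1),
            inv_mul_cancel_right, m2, h5, zero_add] at m4
          exact m4)).trans (Nat.mul_le_mul hA (f.ncard_line a))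
      have := hcard.trans (Nat.mul_le_mul h7 (f.relIndex_le_two h h4))
      rw [mul_assoc _ f.q 2] at this
      have := Nat.le_of_mul_le_mul_left this E0
      nlinarith
    push Not at h4
    obtain ⟨z, hz, h4⟩ := h4
    obtain ⟨k, hk⟩ := f.exists_sig (h (Y.mul_mem hz hz)) fun e =>
      (f.tt_cases (f.T_N (h hz)) e).elim h4.1 h4.2
    have h7 := (f.card_le_ta (X := f.T1 ⊓ Y) inf_le_left fun x hx =>
      f.sig_comm (h (Y.pow_mem (Y.mul_mem hz hz) k)) hk hx.1 (Commute.pow_left (by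
        obtain ⟨m1, m2⟩ := k2 _ (k1 z hz x hx.2)
        change z * z * x = x * (z * z)
        calc _ = z * (z * x * z⁻¹ * x⁻¹) * x * z := by group
          _ = (z * x * z⁻¹ * x⁻¹) * (z * x * z⁻¹ * x⁻¹) * x * z * z := by rw [← m2 z hz]; group
          _ = _ := by rw [m1]; group) k)).trans (Nat.mul_le_mul hA (ncard_pair_le _ _))
    have := hcard.trans (Nat.mul_le_mul_right _ h7)
    rw [mul_assoc _ 2] at this
    exact absurd (Nat.le_of_mul_le_mul_left this E0) (not_le.2 (f.relIndex_lt h))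
  refine ⟨g, e, he, e1, hg, by rw [← k3, cj_cj_inv], cj_eq_self (mem_normalizer_of_cj_le ?_)⟩
  rw [cj_le_iff]
  intro v hv
  obtain ⟨x, hx, rfl⟩ := f.mem_V.1 hv
  obtain ⟨b, rfl⟩ := exists_bl (σ := σ) one_ne_zero hx
  rw [← lift_a (σ := σ) b, ← lift_a (σ := σ) 1, ← f.j_cm]
  exact k1 _ (k3 ▸ mem_sup_right ⟨_, rfl⟩) _ (k3 ▸ mem_sup_right ⟨_, rfl⟩)

theorem Fr.sq_mem_V (f : Fr σ G) {x : G} (hx : x ∈ f.T1) : x * x ∈ f.V := by
  obtain ⟨e, he, u, rfl⟩ := f.mem_T1.1 hx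
  rw [f.sq_mul he (f.Q_le_C ⟨u, rfl⟩), f.j_sq]
  exact f.vv_mem _

theorem Fr.exists_sq (f : Fr σ G) {v : G} (hv : v ∈ f.V) : ∃ u, f.j u * f.j u = v := by
  obtain ⟨x, hx, rfl⟩ := f.mem_V.1 hv
  obtain ⟨a, rfl⟩ := exists_nm hx
  exact ⟨lift σ a, by rw [f.j_sq, lift_a]⟩

theorem Fr.d_cen_V (f : Fr σ G) {μ : Fˣ} (h : nm σ (μ : F) = 1) :
    f.d μ ∈ centralizer (f.V : Set G) := fun v hv => by
  obtain ⟨x, hx, rfl⟩ := f.mem_V.1 hv
  have := f.conj_vv (f.d_mem_D μ).2 hx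
  rw [(f.ct_d μ).2.2, h, (f.ct_d μ).2.1, one_mul] at this
  exact (mul_inv_eq_iff_eq_mul.1 this).symm

theorem Fr.mem_NQ (f : Fr σ G) {g : G} (hQ : f.Q ≤ cj g f.T1)
    (hd : ∀ μ : Fˣ, nm σ (μ : F) = 1 → f.d μ ∈ centralizer ((cj g f.E : Subgroup G) : Set G)) :
    g ∈ normalizer (f.Q : Set G) := by
  have hV : ∀ v ∈ f.V, g⁻¹ * v * g ∈ f.V := fun v hv => by
    obtain ⟨u, rfl⟩ := f.exists_sq hv
    have := f.sq_mem_V (mem_cj.1 (hQ ⟨u, rfl⟩))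
    convert this using 1; group
  have hV' : g⁻¹ ∈ normalizer (f.V : Set G) :=
    H9.mem_normalizer_of_conj_mem (by simpa using hV)
  obtain ⟨μ, h1, h2, -, -⟩ := f.exists_h0
  have hC : g⁻¹ * f.d μ * g ∈ f.C := by
    have := hd μ h1
    rwa [← cj_centralizer, mem_cj] at this
  obtain ⟨v, hv, v1⟩ := (f.V.bot_or_exists_ne_one).resolve_left fun e => by
    have h3 := f.card_V
    have := f.four_le
    rw [e, card_bot] at h3
    omega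
  have hD : g⁻¹ * f.d μ * g ∈ f.D := f.mem_D_of_comm hC hv v1 (H9.conj_mem_of_mem_normalizer
    (mul_mem (mul_mem hV' (f.NQ_le_NV (f.d_mem_D μ).2)) (by simpa using inv_mem hV')) hv)
  rw [← inv_mem_iff]
  refine H9.mem_normalizer_of_conj_mem ?_
  rintro _ ⟨u, rfl⟩
  have c1 : f.cc (f.d μ) - 1 ≠ 0 := sub_ne_zero.2 h2
  obtain ⟨r, hr⟩ := exists_a (σ := σ) (u.a / (f.cc (f.d μ) - 1))
  obtain ⟨e, he, r', e1⟩ := f.mem_T1.1 (mem_cj.1 (hQ ⟨r, rfl⟩))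
  have m1 : f.j ((f.aut (f.d μ) r * r⁻¹)⁻¹ * u) ∈ f.V := f.j_mem_V.2 (by
    simp only [mul_a, inv_a, f.aut_a, (f.ct_d μ).2.1, hr]
    change -(f.cc (f.d μ) * (u.a / (f.cc (f.d μ) - 1)) + -(u.a / (f.cc (f.d μ) - 1))) + u.a = 0
    field_simp
    ring)
  have m2 : g⁻¹ * f.j (f.aut (f.d μ) r * r⁻¹) * g ∈ f.Q := by
    have m3 := f.Q.mul_mem (H9.conj_mem_of_mem_normalizer hD.2 (⟨r', rfl⟩ : _ ∈ f.Q))
      (f.Q.inv_mem ⟨r', rfl⟩)
    convert m3 using 1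
    rw [map_mul, map_inv, ← f.conj_j (f.d_mem_D μ).2]
    calc _ = g⁻¹ * f.d μ * g * (g⁻¹ * f.j r * g) * (g⁻¹ * f.d μ * g)⁻¹ * (g⁻¹ * f.j r * g)⁻¹ := by
          group
      _ = e * (g⁻¹ * f.d μ * g * f.j r' * (g⁻¹ * f.d μ * g)⁻¹ * (f.j r')⁻¹) * e⁻¹ := by
          rw [e1, ← mul_assoc _ e, ← hC e he]; group
      _ = _ := by rw [f.Q_le_C m3 e he]; group
  have := f.Q.mul_mem m2 (f.V_le_Q (hV _ m1))
  convert this using 1
  rw [map_mul _ _ u, map_inv]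
  group

end Cfsg.Agent.WA.Lk
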