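import Cfsg.Agent.WA.LkDef
import Cfsg.Agent.WA.Lk0c

/- LINKED interface; the statements, proved in the imported files:

variable {F : Type*} [Field F] [Finite F] {σ : F →+* F} [Ctx σ] {G : Type*} [Group G] [Finite G]
-- polarization 
theorem pol {W : AddSubgroup F} (hW : ∀ l, σ l = l → ∀ x ∈ W, l * x ∈ W) {g : F → F → F}
    (h1 : ∀ x ∈ W, ∀ x' ∈ W, ∀ y ∈ W, g (x + x') y = g x y + g x' y)
    (h2 : ∀ x ∈ W, ∀ y ∈ W, ∀ y' ∈ W, g x (y + y') = g x y + g x y')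
    (h3 : ∀ l, σ l = l → ∀ x ∈ W, ∀ y ∈ W, g (l * x) (l * y) = l ^ 2 * g x y)
    {l x y : F} (hl : σ l = l) (hx : x ∈ W) (hy : y ∈ W) :
    g (l * x) y = l * g x y ∧ g x (l * y) = l * g x y
theorem exists_sqrt {x : F} (hx : σ x = x) : ∃ y, σ y = y ∧ y ^ 2 = x
theorem exists_nm {x : F} (hx : σ x = x) : ∃ a, nm σ a = x
theorem exists_bl {a x : F} (ha : a ≠ 0) (hx : σ x = x) : ∃ b, bl σ a b = x
-- Hilbert 90 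
theorem exists_fix {c : F} (hc : nm σ c = 1) : ∃ a₀, a₀ ≠ 0 ∧ (∀ a, c * σ a = a ↔ ∃ l, σ l = l ∧ a = l * a₀) ∧
    ∀ a, c * σ a = a → ∃ b, b + c * σ b = a
theorem Fr.exists_K (f : Fr σ G) (x y : F) : ∃ l : F, σ l = l ∧ l ≠ 0 ∧ l ≠ x ∧ l ≠ y
-- the element `h₀ = d μ` 
theorem Fr.exists_h0 (f : Fr σ G) : ∃ μ : Fˣ, nm σ (μ : F) = 1 ∧ f.cc (f.d μ) ≠ 1 ∧
    σ (f.cc (f.d μ)) ≠ f.cc (f.d μ) ∧ nm σ (f.cc (f.d μ)) = 1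
theorem Fr.four_le (f : Fr σ G) : 4 ≤ f.q
theorem Fr.card_K (f : Fr σ G) : Nat.card (KK σ) = f.q
theorem Fr.card_F (f : Fr σ G) : Nat.card F = f.q ^ 2
theorem Fr.vv_add (f : Fr σ G) {x y : F} (hx : σ x = x) (hy : σ y = y) :
    f.vv (x + y) = f.vv x * f.vv y
theorem Fr.vv_zero (f : Fr σ G) : f.vv 0 = 1
theorem Fr.vv_inj (f : Fr σ G) {x y : F} (hx : σ x = x) (hy : σ y = y) (h : f.vv x = f.vv y) :
    x = y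
theorem Fr.mem_V (f : Fr σ G) {v : G} : v ∈ f.V ↔ ∃ x, σ x = x ∧ f.vv x = v
theorem Fr.j_mem_V (f : Fr σ G) {u : US σ} : f.j u ∈ f.V ↔ u.a = 0
theorem Fr.V_le_Q (f : Fr σ G) : f.V ≤ f.Q
theorem Fr.V_sq (f : Fr σ G) {v : G} (hv : v ∈ f.V) : v * v = 1
theorem Fr.V_comm (f : Fr σ G) {v : G} (hv : v ∈ f.V) (u : US σ) : v * f.j u = f.j u * v
theorem Fr.j_sq (f : Fr σ G) (u : US σ) : f.j u * f.j u = f.vv (nm σ u.a)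
theorem Fr.j_cm (f : Fr σ G) (u r : US σ) :
    f.j u * f.j r * (f.j u)⁻¹ * (f.j r)⁻¹ = f.vv (bl σ u.a r.a)
theorem Fr.card_V (f : Fr σ G) : Nat.card f.V = f.q
theorem Fr.card_Q (f : Fr σ G) : Nat.card f.Q = f.q ^ 3
theorem Fr.E_le_C (f : Fr σ G) : f.E ≤ f.C
theorem Fr.mem_C (f : Fr σ G) {e x : G} (he : e ∈ f.E) (h1 : e ≠ 1) : x ∈ f.C ↔ x * e = e * x
theorem Fr.mem_A (f : Fr σ G) {x : G} : x ∈ f.A ↔ ∃ e ∈ f.E, ∃ v ∈ f.V, x = e * v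
theorem Fr.mem_T1 (f : Fr σ G) {x : G} : x ∈ f.T1 ↔ ∃ e ∈ f.E, ∃ u, x = e * f.j u
theorem Fr.card_A (f : Fr σ G) : Nat.card f.A = Nat.card f.E * f.q
theorem Fr.card_T1 (f : Fr σ G) : Nat.card f.T1 = Nat.card f.E * f.q ^ 3
theorem Fr.mem_A_of_sq (f : Fr σ G) {x : G} (hx : x ∈ f.T1) (h : x * x = 1) : x ∈ f.A
theorem Fr.T1_le_T (f : Fr σ G) : f.T1 ≤ f.T
theorem Fr.T_le_D (f : Fr σ G) : f.T ≤ f.D
theorem Fr.d_mem_D (f : Fr σ G) (μ : Fˣ) : f.d μ ∈ f.D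
theorem Fr.T_dec (f : Fr σ G) {x : G} (hx : x ∈ f.T) : ∃ e ∈ f.E, ∃ u ∈ f.T ⊓ f.U, x = e * u
theorem Fr.conj_U (f : Fr σ G) {x u : G} (hx : x ∈ f.C) (hu : u ∈ f.U) : x * u * x⁻¹ ∈ f.U
theorem Fr.odd_mem_U (f : Fr σ G) {x : G} (hx : x ∈ f.C) (ho : Odd (orderOf x)) : x ∈ f.U
theorem Fr.conj_j (f : Fr σ G) {g : G} (hg : g ∈ normalizer (f.Q : Set G)) (u : US σ) :
    g * f.j u * g⁻¹ = f.j (f.aut g u)
theorem Fr.aut_a (f : Fr σ G) (g : G) (u : US σ) : (f.aut g u).a = f.cc g * f.tt g u.a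
theorem Fr.cc_ne (f : Fr σ G) (g : G) : f.cc g ≠ 0
theorem Fr.conj_vv (f : Fr σ G) {g : G} (hg : g ∈ normalizer (f.Q : Set G)) {x : F} (hx : σ x = x) :
    g * f.vv x * g⁻¹ = f.vv (nm σ (f.cc g) * f.tt g x)
theorem Fr.NQ_le_NV (f : Fr σ G) : normalizer (f.Q : Set G) ≤ normalizer (f.V : Set G)
theorem Fr.tt_mul (f : Fr σ G) {g h : G} (hg : g ∈ normalizer (f.Q : Set G))
    (hh : h ∈ normalizer (f.Q : Set G)) : f.tt (g * h) = f.tt g * f.tt h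
theorem Fr.cc_mul (f : Fr σ G) {g h : G} (hg : g ∈ normalizer (f.Q : Set G))
    (hh : h ∈ normalizer (f.Q : Set G)) : f.cc (g * h) = f.cc g * f.tt g (f.cc h)
theorem Fr.ct_unique (f : Fr σ G) {g : G} {c : F} {τ : RingAut F}
    (h : ∀ u : US σ, (f.aut g u).a = c * τ u.a) : f.cc g = c ∧ f.tt g = τ
theorem Fr.ct_j (f : Fr σ G) (u : US σ) : f.cc (f.j u) = 1 ∧ f.tt (f.j u) = 1
theorem Fr.ct_cen (f : Fr σ G) {g : G} (hg : g ∈ centralizer (f.Q : Set G)) :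
    f.cc g = 1 ∧ f.tt g = 1
theorem Fr.ct_d (f : Fr σ G) (μ : Fˣ) :
    f.cc (f.d μ) = σ μ ^ 2 / μ ∧ f.tt (f.d μ) = 1 ∧ nm σ (f.cc (f.d μ)) = nm σ (μ : F)
theorem Fr.cc_d_K (f : Fr σ G) {μ : Fˣ} (h : σ μ = μ) : f.cc (f.d μ) = μ
theorem Fr.exists_d_cube (f : Fr σ G) {x : F} (hx : x ≠ 0) : ∃ μ : Fˣ, f.cc (f.d μ) = x ^ 3
theorem Fr.cc_eq_one (f : Fr σ G) {g : G} (hg : g ∈ normalizer (f.Q : Set G))
    (h2 : ∃ k, g ^ 2 ^ k = 1) (h : f.tt g = 1) : f.cc g = 1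
theorem Fr.ker' (f : Fr σ G) {g : G} (hg : g ∈ f.D) (h1 : f.cc g = 1) (h2 : f.tt g = 1) :
    ∃ y ∈ f.T1, ∃ z ∈ f.Z, g = y * z
theorem Fr.mem_T1_of_two (f : Fr σ G) {g : G} (hg : g ∈ f.D) (h2 : ∃ k, g ^ 2 ^ k = 1)
    (h : f.tt g = 1) : g ∈ f.T1
theorem Fr.cen_Q (f : Fr σ G) {g : G} (hg : g ∈ f.C) (hQ : g ∈ centralizer (f.Q : Set G)) :
    ∃ y ∈ f.A, ∃ z ∈ f.Z, g = y * z
theorem Fr.conj_Z (f : Fr σ G) {g z : G} (hg : g ∈ f.D) (hz : z ∈ f.Z) : g * z * g⁻¹ ∈ f.Z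
-- `m = |T : T₁|` divides `2 n` 
theorem Fr.card_T (f : Fr σ G) : ∃ m, m ∣ 2 * f.n ∧ 2 * m < f.q ^ 2 ∧ f.T1.relIndex f.T = m ∧
    Nat.card f.T = Nat.card f.E * f.q ^ 3 * m
-- `T / T₁` is cyclic, generated by an element of `U` 
theorem Fr.exists_gen (f : Fr σ G) : ∃ φ ∈ f.T ⊓ f.U, ∀ x ∈ f.T, ∃ i : ℕ, (φ ^ i)⁻¹ * x ∈ f.T1
theorem Fr.tt_cases (f : Fr σ G) {g : G} (hg : g ∈ normalizer (f.Q : Set G))
    (h : f.tt (g * g) = 1) : f.tt g = 1 ∨ f.tt g = sigAut σ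
theorem Fr.tt_of_cen_V (f : Fr σ G) {g : G} (hg : g ∈ normalizer (f.Q : Set G))
    (h : g ∈ centralizer (f.V : Set G)) :
    nm σ (f.cc g) = 1 ∧ (f.tt g = 1 ∨ f.tt g = sigAut σ)
theorem Fr.nm_cc_of_sig (f : Fr σ G) {g : G} (hg : g ∈ normalizer (f.Q : Set G))
    (h : f.tt g = sigAut σ) (h2 : f.cc (g * g) = 1) :
    nm σ (f.cc g) = 1 ∧ g ∈ centralizer (f.V : Set G)
-- an element inducing an involution of type `σ` on `Q` inverts `Q_Fix` 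
theorem Fr.sig_inv (f : Fr σ G) {g : G} (hg : g ∈ normalizer (f.Q : Set G))
    (h : f.tt g = sigAut σ) (h2 : g * g ∈ centralizer (f.Q : Set G)) {u : US σ}
    (hu : f.cc g * σ u.a = u.a) : g * f.j u * g⁻¹ = (f.j u)⁻¹
theorem Fr.sig_conj (f : Fr σ G) {g : G} (hg : g ∈ normalizer (f.Q : Set G))
    (h : f.tt g = sigAut σ) (h2 : g * g ∈ centralizer (f.Q : Set G)) {v : G} (hv : v ∈ f.V) :
    ∃ u, f.j u * g * (f.j u)⁻¹ = g * v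
theorem Fr.sig_sq (f : Fr σ G) {g : G} (hg : g ∈ f.D) (h : f.tt g = sigAut σ)
    (h2 : g * g ∈ f.V) : g * g = 1
theorem Fr.nonsq (f : Fr σ G) {s : G} (hs : f.TC s) (x : G) : x * x ≠ s
theorem Fr.not_VC (f : Fr σ G) {s : G} (hs : f.TC s) : ¬ f.VC s
theorem Fr.VC_conj (f : Fr σ G) {s v : G} (hs : f.VC s) (hv : v ∈ f.V) (h1 : v ≠ 1) :
    IsConj v s
theorem Fr.mem_NE (f : Fr σ G) {e g : G} (he : e ∈ f.E) (h1 : e ≠ 1) (h : g * e * g⁻¹ ∈ f.E) :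
    g ∈ normalizer (f.E : Set G)
theorem Fr.mem_C_of_two (f : Fr σ G) {g : G} (hg : g ∈ normalizer (f.E : Set G))
    (h2 : ∃ k, g ^ 2 ^ k = 1) : g ∈ f.C
theorem Fr.mem_D_of_comm (f : Fr σ G) {g v : G} (hg : g ∈ f.C) (hv : v ∈ f.V) (h1 : v ≠ 1)
    (h : g * v * g⁻¹ ∈ f.V) : g ∈ f.D
theorem Fr.card_le_T (f : Fr σ G) {s : G} (hs : f.TC s) {X : Subgroup G} (hX : IsPGroup 2 X)
    (hc : X ≤ centralizer {s}) : Nat.card X ≤ Nat.card f.T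
-- (Lrk) 
theorem Fr.rank_le (f : Fr σ G) {s : G} (hs : f.TC s) {X : Subgroup G}
    (hX : ∀ x ∈ X, x * x = 1) (hc : X ≤ centralizer {s}) :
    Nat.card X ≤ 2 * (Nat.card f.E * f.q)
-- (Lab) 
theorem Fr.ab_lt (f : Fr σ G) (h2 : Nat.card f.E = 2) {s : G} (hs : f.TC s) {X : Subgroup G}
    (hX : IsPGroup 2 X) (hab : ∀ x ∈ X, ∀ y ∈ X, x * y = y * x) (hc : X ≤ centralizer {s}) :
    Nat.card X < f.q ^ 3
-- (L) 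
theorem Fr.lemL (f : Fr σ G) {s : G} (hs : f.TC s) {X : Subgroup G} (hX : IsPGroup 2 X)
    (hc : X ≤ centralizer {s}) (hcV : X ≤ centralizer (f.V : Set G))
    (hcard : Nat.card f.T1 ≤ Nat.card X)
    (hcm : ∀ x ∈ X, ∀ y ∈ X, x * y * x⁻¹ * y⁻¹ ∈ f.V) :
    ∃ g, ∃ e ∈ f.E, e ≠ 1 ∧ g * e * g⁻¹ = s ∧ cj g f.T1 = X ∧ cj g f.V = f.V
-- if `g T₁ g⁻¹ = g E g⁻¹ · Q` and `g E g⁻¹` commutes with all `d μ`, `N μ = 1`, then `g ∈ N(Q)` 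
theorem Fr.mem_NQ (f : Fr σ G) {g : G} (hQ : f.Q ≤ cj g f.T1)
    (hd : ∀ μ : Fˣ, nm σ (μ : F) = 1 → f.d μ ∈ centralizer ((cj g f.E : Subgroup G) : Set G)) :
    g ∈ normalizer (f.Q : Set G)
theorem Fr.inv_iff (f : Fr σ G) : Nat.card f.E = 2 ↔ ∃ t, f.Inv t
theorem Fr.card_E_cases (f : Fr σ G) : Nat.card f.E = 2 ∨ 4 ≤ Nat.card f.E
-- Thompson transfer, extremal form 
theorem Fr.con_of_transfer (f : Fr σ G) {t : G} (ht : f.Inv t) {R R₀ : Subgroup G}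
    (hR : IsSylowIn 2 R ⊤) (hle : R₀ ≤ R) (hi : R₀.relIndex R = 2)
    (h : ∀ g, g * t * g⁻¹ ∈ R₀ → cj g f.T ≤ R → False) : f.Con
theorem Fr.con_of_sc (f : Fr σ G) {R X : Subgroup G} (hR : IsSylowIn 2 R ⊤) (hle : X ≤ R)
    (h1 : X ≠ ⊥) (h2 : ∀ x ∈ X, x * x = 1)
    (h : ∀ x ∈ X, ∀ g, g * x * g⁻¹ ∈ R → g * x * g⁻¹ ∈ X) : f.Con
-/
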