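import Cfsg.Agent.WA.ILk0

/-! Fusion in the first storey (module Lk1b, see PLAN_LK.md). -/

set_option autoImplicit false
set_option linter.unusedSectionVars false

namespace Cfsg.Agent.WA.Lk

open Subgroup Cfsg.Agent.H1.U3 Cfsg.Agent.H8

namespace X1

section count

variable {G : Type*} [Group G] [Finite G] {X N : Subgroup G} {Y : Type*} [Group Y] [Finite Y] {K : Subgroup Y}
  {ψ : G → Y}

/-- a map that is multiplicative on `X` -/
def hom (mul : ∀ a ∈ X, ∀ b ∈ X, ψ (a * b) = ψ a * ψ b) : X →* Y :=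
  MonoidHom.mk' (fun a => ψ a) fun a b => mul a a.2 b b.2

theorem card_ker (mul : ∀ a ∈ X, ∀ b ∈ X, ψ (a * b) = ψ a * ψ b) :
    Nat.card X = Nat.card ((hom mul).ker.map X.subtype) * Nat.card (hom mul).range := by
  rw [card_map_of_injective X.subtype_injective, ← (hom mul).ker.card_mul_index, index_ker]

theorem card_le (mul : ∀ a ∈ X, ∀ b ∈ X, ψ (a * b) = ψ a * ψ b) (mem : ∀ a ∈ X, ψ a ∈ K)
    (ker : ∀ a ∈ X, ψ a = 1 → a ∈ N) : Nat.card X ≤ Nat.card N * Nat.card K := by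
  rw [card_ker mul]
  refine Nat.mul_le_mul (card_le_of_le ?_) (card_le_of_le ?_)
  · rintro _ ⟨a, ha, rfl⟩; exact ker a a.2 ha
  · rintro _ ⟨a, rfl⟩; exact mem a a.2

theorem card_ge (mul : ∀ a ∈ X, ∀ b ∈ X, ψ (a * b) = ψ a * ψ b) (surj : ∀ k ∈ K, ∃ a ∈ X, ψ a = k)
    (ker : ∀ a ∈ N, a ∈ X ∧ ψ a = 1) : Nat.card N * Nat.card K ≤ Nat.card X := by
  rw [card_ker mul]
  refine Nat.mul_le_mul (card_le_of_le fun a ha => ⟨⟨a, (ker a ha).1⟩, (ker a ha).2, rfl⟩)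
    (card_le_of_le fun k hk => ?_)
  obtain ⟨a, ha, e⟩ := surj k hk
  exact ⟨⟨a, ha⟩, e⟩

omit [Finite G] in
theorem comm_sq (h2 : ∀ x ∈ X, x * x = 1) {a b : G} (ha : a ∈ X) (hb : b ∈ X) : a * b = b * a :=
  calc a * b = (a * b)⁻¹ := (inv_eq_of_mul_eq_one_right (h2 _ (mul_mem ha hb))).symm
    _ = b * a := by
      rw [mul_inv_rev, inv_eq_of_mul_eq_one_right (h2 a ha), inv_eq_of_mul_eq_one_right (h2 b hb)]

omit [Finite G] in
theorem cj_sq (h2 : ∀ x ∈ X, x * x = 1) (g : G) : ∀ x ∈ cj g X, x * x = 1 := fun x hx =>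
  calc x * x = g * (g⁻¹ * x * g * (g⁻¹ * x * g)) * g⁻¹ := by group
    _ = 1 := by rw [h2 _ (mem_cj.1 hx)]; group

end count

section add

variable {G : Type*} [Group G] [Finite G] {X N : Subgroup G} {Y : Type*} [AddGroup Y] [Finite Y]
  {K : AddSubgroup Y} {ψ : G → Y}

theorem card_le' (mul : ∀ a ∈ X, ∀ b ∈ X, ψ (a * b) = ψ a + ψ b) (mem : ∀ a ∈ X, ψ a ∈ K)
    (ker : ∀ a ∈ X, ψ a = 0 → a ∈ N) : Nat.card X ≤ Nat.card N * Nat.card K :=
  card_le (Y := Multiplicative Y) (K := K.toSubgroup) mul mem ker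

theorem card_ge' (mul : ∀ a ∈ X, ∀ b ∈ X, ψ (a * b) = ψ a + ψ b) (surj : ∀ k ∈ K, ∃ a ∈ X, ψ a = k)
    (ker : ∀ a ∈ N, a ∈ X ∧ ψ a = 0) : Nat.card N * Nat.card K ≤ Nat.card X :=
  card_ge (Y := Multiplicative Y) (K := K.toSubgroup) mul surj ker

end add

variable {F : Type*} [Field F] {σ : F →+* F} [Ctx σ]

theorem nmK (a : F) : σ (nm σ a) = nm σ a := norm_fixed a

theorem blK (a b : F) : σ (bl σ a b) = bl σ a b := by
  simp only [bl, map_add, map_mul, invol]; ring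

theorem nm0 {a : F} : nm σ a = 0 ↔ a = 0 := by simp [nm]

theorem nm_zero : nm σ 0 = 0 := nm0.2 rfl

theorem bl_zero (a : F) : bl σ a 0 = 0 := by simp [bl]

theorem zero_bl (a : F) : bl σ 0 a = 0 := by simp [bl]

theorem nm_add (a b : F) : nm σ (a + b) = nm σ a + nm σ b + bl σ a b := by
  simp only [nm, bl, map_add]; ring

theorem nm_mul (a b : F) : nm σ (a * b) = nm σ a * nm σ b := by
  simp only [nm, map_mul]; ring

theorem nm_K {l : F} (hl : σ l = l) : nm σ l = l ^ 2 := by rw [nm, hl, pow_two]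

theorem bl_add (a b c : F) : bl σ (a + b) c = bl σ a c + bl σ b c := by
  simp only [bl, map_add]; ring

theorem add0 (σ : F →+* F) [Ctx σ] {a b : F} : a + b = 0 ↔ a = b := by
  haveI := charP_two σ
  exact CharTwo.add_eq_zero

theorem mem_KK {x : F} : x ∈ KK σ ↔ σ x = x := Iff.rfl

end X1

open X1

variable {F : Type*} [Field F] [Finite F] {σ : F →+* F} [Ctx σ] {G : Type*} [Group G] [Finite G]

namespace Two

variable (w : Two σ G) {s r g : G}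

/-- the quadratic form on `S / V` -/
def qf (s : G) : F := (w.ce (w.ee s) + w.c) * w.xx s + nm σ (w.aa s)

/-- its polar form -/
def bf (s r : G) : F := w.ce (w.ee s) * w.xx r + w.ce (w.ee r) * w.xx s + bl σ (w.aa s) (w.aa r)

theorem ce_one : w.ce 1 = 0 := by
  have := w.ce_mul 1 w.E.one_mem 1 w.E.one_mem
  rw [mul_one] at this
  exact left_eq_add.1 this

theorem ceK' (hs : s ∈ w.S) : σ (w.ce (w.ee s)) = w.ce (w.ee s) := w.ceK _ (w.eeE s hs)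

theorem qfK (hs : s ∈ w.S) : σ (w.qf s) = w.qf s := by
  simp only [qf, map_add, map_mul, w.ceK' hs, w.cK, w.xxK s hs, nmK]

theorem bfK (hs : s ∈ w.S) (hr : r ∈ w.S) : σ (w.bf s r) = w.bf s r := by
  simp only [bf, map_add, map_mul, w.ceK' hs, w.ceK' hr, w.xxK s hs, w.xxK r hr, blK]

theorem vv_eq_one {x : F} (hx : σ x = x) : w.vv x = 1 ↔ x = 0 :=
  ⟨fun h => w.vv_inj hx (map_zero σ) (h.trans w.vv_zero.symm), fun h => h ▸ w.vv_zero⟩

theorem vv_mem {x : F} (hx : σ x = x) : w.vv x ∈ w.V := w.mem_V.2 ⟨x, hx, rfl⟩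

theorem sq_iff (hs : s ∈ w.S) : s * s = 1 ↔ w.qf s = 0 := by
  rw [w.sq s hs]; exact w.vv_eq_one (w.qfK hs)

theorem comm_iff (hs : s ∈ w.S) (hr : r ∈ w.S) : s * r = r * s ↔ w.bf s r = 0 := by
  rw [← w.vv_eq_one (w.bfK hs hr), bf, ← w.cm s hs r hr, mul_inv_eq_one, mul_inv_eq_iff_eq_mul]

theorem cm_mem (hs : s ∈ w.S) (hr : r ∈ w.S) : s * r * s⁻¹ * r⁻¹ ∈ w.V := by
  rw [w.cm s hs r hr]; exact w.vv_mem (w.bfK hs hr)

theorem sq_mem (hs : s ∈ w.S) : s * s ∈ w.V := by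
  rw [w.sq s hs]; exact w.vv_mem (w.qfK hs)

end Two

theorem Two.V_le (w : Two σ G) : w.V ≤ w.S := fun _ hv => by
  obtain ⟨u, rfl⟩ := w.V_le_Q hv
  exact w.jS u

namespace Two

variable (w : Two σ G) {s r g : G}

theorem on_V (hs : s ∈ w.V) : w.ee s = 1 ∧ w.xx s = 0 ∧ w.aa s = 0 := (w.kerV s (w.V_le hs)).1 hs

theorem co_inv (hs : s ∈ w.S) : w.ee s⁻¹ = w.ee s ∧ w.xx s⁻¹ = w.xx s ∧ w.aa s⁻¹ = w.aa s := by
  have hi := w.S.inv_mem hs
  obtain ⟨h1, h2, h3⟩ := w.on_V (mul_inv_cancel s ▸ w.V.one_mem : s * s⁻¹ ∈ w.V)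
  rw [w.ee_mul s hs _ hi] at h1
  rw [w.xx_mul s hs _ hi, add0 σ] at h2
  rw [w.aa_mul s hs _ hi, add0 σ] at h3
  exact ⟨mul_left_cancel (h1.trans (w.E_sq _ (w.eeE s hs)).symm), h2.symm, h3.symm⟩

/-- elements with the same coordinates differ by an element of `V` -/
theorem div_mem (hs : s ∈ w.S) (hr : r ∈ w.S) (h1 : w.ee s = w.ee r) (h2 : w.xx s = w.xx r)
    (h3 : w.aa s = w.aa r) : s⁻¹ * r ∈ w.V := by
  have hi := w.S.inv_mem hs
  obtain ⟨a, b, c⟩ := w.co_inv hs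
  refine (w.kerV _ (mul_mem hi hr)).2 ⟨?_, ?_, ?_⟩
  · rw [w.ee_mul _ hi _ hr, a, h1, w.E_sq _ (w.eeE r hr)]
  · rw [w.xx_mul _ hi _ hr, b, h2, add0 σ]
  · rw [w.aa_mul _ hi _ hr, c, h3, add0 σ]

theorem co_V_mul (hv : r ∈ w.V) (hs : s ∈ w.S) :
    w.ee (r * s) = w.ee s ∧ w.xx (r * s) = w.xx s ∧ w.aa (r * s) = w.aa s := by
  obtain ⟨a, b, c⟩ := w.on_V hv
  have hr := w.V_le hv
  rw [w.ee_mul _ hr _ hs, w.xx_mul _ hr _ hs, w.aa_mul _ hr _ hs, a, b, c]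
  simp

theorem q_pos : 0 < w.q := lt_of_lt_of_le (by norm_num) w.four_le

theorem ex_e : ∃ e ∈ w.E, e ≠ 1 := by
  obtain ⟨⟨e, he⟩, h⟩ := ne_bot_iff_exists_ne_one.1 w.E_ne
  exact ⟨e, he, fun a => h (Subtype.ext a)⟩

theorem ce_ne {e : G} (he : e ∈ w.E) (h : e ≠ 1) : w.ce e ≠ 0 := fun a => h (w.ce_inj e he a)

theorem ce_eq {e e' : G} (he : e ∈ w.E) (he' : e' ∈ w.E) (h : w.ce e = w.ce e') : e = e' := by
  have := w.ce_inj _ (mul_mem he he') (by rw [w.ce_mul e he e' he', add0 σ, h])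
  exact mul_right_cancel (this.trans (w.E_sq e' he').symm)

end Two

theorem Two.card_S (w : Two σ G) : Nat.card w.S = Nat.card w.E * w.q ^ 4 := by
  let ψ : G → G × Multiplicative F × Multiplicative F := fun s => (w.ee s, w.xx s, w.aa s)
  have mul : ∀ a ∈ w.S, ∀ b ∈ w.S, ψ (a * b) = ψ a * ψ b := fun a ha b hb =>
    Prod.ext (w.ee_mul a ha b hb) (Prod.ext (w.xx_mul a ha b hb) (w.aa_mul a ha b hb))
  have hc : Nat.card (w.E.prod ((KK σ).toSubgroup.prod (⊤ : Subgroup (Multiplicative F)))) =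
      Nat.card w.E * (w.q * w.q ^ 2) := by
    rw [Nat.card_congr (prodEquiv _ _).toEquiv, Nat.card_prod, Nat.card_congr (prodEquiv _ _).toEquiv,
      Nat.card_prod, card_top, ← w.card_F, ← w.card_K]
    rfl
  have e : Nat.card w.V * (Nat.card w.E * (w.q * w.q ^ 2)) = Nat.card w.E * w.q ^ 4 := by
    rw [w.card_V]; ring
  rw [← e, ← hc]
  refine le_antisymm (card_le mul (fun a ha => ⟨w.eeE a ha, w.xxK a ha, trivial⟩) fun a ha e =>
    (w.kerV a ha).2 ⟨congrArg Prod.fst e, congrArg (·.2.1) e, congrArg (·.2.2) e⟩)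
    (card_ge mul (fun k hk => ?_) fun a ha => ⟨w.V_le ha, ?_⟩)
  · obtain ⟨s, hs, a, b, c⟩ := w.surj k.1 hk.1 k.2.1 k.2.2 hk.2.1
    exact ⟨s, hs, Prod.ext a (Prod.ext b c)⟩
  · obtain ⟨a, b, c⟩ := w.on_V ha
    exact Prod.ext a (Prod.ext b c)

theorem Two.V_le_P0 (w : Two σ G) : w.V ≤ w.P0 := fun _ h => ⟨w.V_le h, (w.on_V h).1, (w.on_V h).2.2⟩

theorem Two.V_le_pt (w : Two σ G) (α : F) : w.V ≤ w.pt α := fun _ h => by
  obtain ⟨a, b, c⟩ := w.on_V h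
  exact ⟨w.V_le h, by rw [a, b, w.ce_one, zero_mul], by rw [a, c, w.ce_one, zero_mul]⟩

theorem Two.card_P0 (w : Two σ G) : Nat.card w.P0 = w.q ^ 2 := by
  have mul : ∀ a ∈ w.P0, ∀ b ∈ w.P0, w.xx (a * b) = w.xx a + w.xx b := fun a ha b hb =>
    w.xx_mul a ha.1 b hb.1
  rw [pow_two]
  nth_rewrite 1 [← w.card_V]
  rw [← w.card_K]
  refine le_antisymm (card_le' mul (fun a ha => w.xxK a ha.1) fun a ha e => (w.kerV a ha.1).2 ⟨ha.2.1, e, ha.2.2⟩)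
    (card_ge' mul (fun k hk => ?_) fun a ha => ⟨w.V_le_P0 ha, (w.on_V ha).2.1⟩)
  obtain ⟨s, hs, a, b, c⟩ := w.surj 1 w.E.one_mem k 0 hk
  exact ⟨s, ⟨hs, a, c⟩, b⟩

theorem Two.card_pt (w : Two σ G) (α : F) : Nat.card (w.pt α) = Nat.card w.E * w.q := by
  have mul : ∀ a ∈ w.pt α, ∀ b ∈ w.pt α, w.ee (a * b) = w.ee a * w.ee b := fun a ha b hb =>
    w.ee_mul a ha.1 b hb.1
  rw [mul_comm, ← w.card_V]
  refine le_antisymm (card_le mul (fun a ha => w.eeE a ha.1) fun a ha e => (w.kerV a ha.1).2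
    ⟨e, by rw [ha.2.1, e, w.ce_one, zero_mul], by rw [ha.2.2, e, w.ce_one, zero_mul]⟩)
    (card_ge mul (fun k hk => ?_) fun a ha => ⟨w.V_le_pt α ha, (w.on_V ha).1⟩)
  obtain ⟨s, hs, a, b, c⟩ := w.surj k hk (w.ce k * nm σ α) (w.ce k * α) (by rw [map_mul, w.ceK k hk, nmK])
  exact ⟨s, ⟨hs, by rw [a, b], by rw [a, c]⟩, a⟩

theorem Two.ce_injective (w : Two σ G) :
    Function.Injective fun e : w.E => (⟨w.ce e, w.ceK e e.2⟩ : KK σ) := fun a b h =>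
  Subtype.ext (w.ce_eq a.2 b.2 (congrArg Subtype.val h))

theorem Two.card_E_le (w : Two σ G) : Nat.card w.E ≤ w.q :=
  w.card_K ▸ Nat.card_le_card_of_injective _ w.ce_injective

theorem Two.ce_surj (w : Two σ G) (h : Nat.card w.E = w.q) {x : F} (hx : σ x = x) :
    ∃ e ∈ w.E, w.ce e = x := by
  obtain ⟨e, he⟩ := (w.ce_injective.bijective_of_nat_card_le (by rw [h, w.card_K])).2 ⟨x, hx⟩
  exact ⟨e, e.2, congrArg Subtype.val he⟩

theorem Two.S_le_CV (w : Two σ G) : w.S ≤ centralizer (w.V : Set G) := fun s hs =>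
  mem_centralizer_iff.2 fun v hv => (w.comm_iff (w.V_le hv) hs).2 (by
    obtain ⟨a, b, c⟩ := w.on_V hv
    rw [Two.bf, a, b, c, w.ce_one, zero_bl]; ring)

theorem Two.mem_Q (w : Two σ G) {s : G} : s ∈ w.Q ↔ s ∈ w.S ∧ w.ee s = 1 ∧ w.xx s = 0 := by
  refine ⟨fun ⟨u, e⟩ => e ▸ ⟨w.jS u, (w.on_j u).1, (w.on_j u).2.1⟩, fun ⟨hs, a, b⟩ => ?_⟩
  obtain ⟨a', b', c'⟩ := w.on_j (lift σ (w.aa s))
  have := w.V_le_Q (w.div_mem (w.jS _) hs (a'.trans a.symm) (b'.trans b.symm) (c'.trans (lift_a _)))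
  exact (mul_mem_cancel_left (w.Q.inv_mem ⟨_, rfl⟩)).1 this

theorem Two.e_mul (w : Two σ G) {e s : G} (he : e ∈ w.E) (hs : s ∈ w.S) :
    w.ee (e * s) = e * w.ee s ∧ w.xx (e * s) = w.xx s ∧ w.aa (e * s) = w.aa s := by
  obtain ⟨a, b, c⟩ := w.on_E e he
  have hr := w.ES he
  rw [w.ee_mul _ hr _ hs, w.xx_mul _ hr _ hs, w.aa_mul _ hr _ hs, a, b, c]
  simp

theorem Two.mem_A (w : Two σ G) {s : G} : s ∈ w.A ↔ s ∈ w.S ∧ w.xx s = 0 ∧ w.aa s = 0 := by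
  rw [w.toFr.mem_A]
  constructor
  · rintro ⟨e, he, v, hv, rfl⟩
    obtain ⟨-, b, c⟩ := w.e_mul he (w.V_le hv)
    exact ⟨mul_mem (w.ES he) (w.V_le hv), b.trans (w.on_V hv).2.1, c.trans (w.on_V hv).2.2⟩
  · rintro ⟨hs, b, c⟩
    have he := w.eeE s hs
    obtain ⟨a', b', c'⟩ := w.on_E _ he
    exact ⟨_, he, _, w.div_mem (w.ES he) hs a' (b'.trans b.symm) (c'.trans c.symm), by group⟩

theorem Two.mem_T1 (w : Two σ G) {s : G} : s ∈ w.T1 ↔ s ∈ w.S ∧ w.xx s = 0 := by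
  rw [w.toFr.mem_T1]
  constructor
  · rintro ⟨e, he, u, rfl⟩
    exact ⟨mul_mem (w.ES he) (w.jS u), (w.e_mul he (w.jS u)).2.1.trans (w.on_j u).2.1⟩
  · rintro ⟨hs, b⟩
    have he := w.eeE s hs
    obtain ⟨a', b', -⟩ := w.e_mul he hs
    obtain ⟨u, hu⟩ := w.mem_Q.2 ⟨mul_mem (w.ES he) hs, a'.trans (w.E_sq _ he), b'.trans b⟩
    exact ⟨_, he, u, by rw [hu, ← mul_assoc, w.E_sq _ he, one_mul]⟩

theorem Two.pt_zero (w : Two σ G) : w.pt 0 = w.A := by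
  ext s
  rw [w.mem_A]
  change (_ ∧ _ ∧ _) ↔ _
  rw [nm_zero, mul_zero]

theorem Two.coord_conj (w : Two σ G) {g s : G} (hg : g ∈ w.S) (hs : s ∈ w.S) :
    w.ee (g * s * g⁻¹) = w.ee s ∧ w.xx (g * s * g⁻¹) = w.xx s ∧ w.aa (g * s * g⁻¹) = w.aa s := by
  have := w.co_V_mul (w.cm_mem hg hs) hs
  rwa [inv_mul_cancel_right] at this

theorem Two.A_le (w : Two σ G) : w.A ≤ w.S := fun _ h => (w.mem_A.1 h).1

theorem Two.T1_le (w : Two σ G) : w.T1 ≤ w.S := fun _ h => (w.mem_T1.1 h).1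

theorem Two.V_le_A (w : Two σ G) : w.V ≤ w.A := le_sup_right

theorem Two.A_le_T1 (w : Two σ G) : w.A ≤ w.T1 := fun _ h => w.mem_T1.2 ⟨w.A_le h, (w.mem_A.1 h).2.1⟩

theorem Two.A_sq (w : Two σ G) {s : G} (hs : s ∈ w.A) : s * s = 1 := by
  obtain ⟨h, b, c⟩ := w.mem_A.1 hs
  rw [w.sq_iff h, Two.qf, b, c, nm_zero]; ring

theorem Two.S_le_M (w : Two σ G) : w.S ≤ normalizer (w.A : Set G) := fun g hg =>
  H5.mem_normalizer_of_conj_mem fun s hs => by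
    obtain ⟨h, b, c⟩ := w.mem_A.1 hs
    obtain ⟨-, b', c'⟩ := w.coord_conj hg h
    exact w.mem_A.2 ⟨mul_mem (mul_mem hg h) (inv_mem hg), b'.trans b, c'.trans c⟩

theorem Two.D_le_M (w : Two σ G) : w.D ≤ normalizer (w.A : Set G) := fun g hg => by
  rw [← cj_eq_self_iff, Fr.A, cj_sup, cj_eq_self_of_mem_centralizer hg.1, cj_eq_self (w.NQ_le_NV hg.2)]

theorem Two.M_le_NP (w : Two σ G) : normalizer (w.A : Set G) ≤ normalizer (w.P0 : Set G) := fun g hg =>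
  H5.mem_normalizer_of_conj_mem fun s hs =>
    ⟨(mem_normalizer_iff.1 (w.MS hg) s).1 hs.1, w.MP g hg s hs.1 hs.2.1 hs.2.2⟩

theorem Two.NS_le_NV (w : Two σ G) : normalizer (w.S : Set G) ≤ normalizer (w.V : Set G) := fun g hg =>
  H5.mem_normalizer_of_conj_mem fun v hv => by
    obtain ⟨x, hx, rfl⟩ := w.mem_V.1 hv
    obtain ⟨b, rfl⟩ := exists_bl (σ := σ) one_ne_zero hx
    have := w.j_cm (lift σ 1) (lift σ b)
    rw [lift_a, lift_a] at this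
    have c := w.cm_mem ((mem_normalizer_iff.1 hg _).1 (w.jS (lift σ 1)))
      ((mem_normalizer_iff.1 hg _).1 (w.jS (lift σ b)))
    rw [← this]
    convert c using 1
    group

/-- an element of `N(Q)` acting trivially on `Q / V` -/
theorem Two.ct_of (w : Two σ G) {g : G} (hg : g ∈ normalizer (w.Q : Set G))
    (h : ∀ u, w.aa (g * w.j u * g⁻¹) = u.a) : w.cc g = 1 ∧ w.tt g = 1 :=
  w.ct_unique fun u => by
    have := h u
    rw [w.conj_j hg, (w.on_j _).2.2] at this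
    rw [this, one_mul]; rfl

theorem Two.ct_S (w : Two σ G) {s : G} (hs : s ∈ w.S) : w.cc s = 1 ∧ w.tt s = 1 :=
  w.ct_of (w.MQ (w.S_le_M hs)) fun u => (w.coord_conj hs (w.jS u)).2.2.trans (w.on_j u).2.2

theorem Two.TC_A (w : Two σ G) {s : G} (hs : s ∈ w.A) (hV : s ∉ w.V) : w.TC s := by
  obtain ⟨e, he, v, hv, rfl⟩ := w.toFr.mem_A.1 hs
  have e1 : e ≠ 1 := fun a => hV (by rwa [a, one_mul])
  obtain ⟨x, hx, rfl⟩ := w.mem_V.1 hv
  obtain ⟨p, hp, a, b, c⟩ := w.surj 1 w.E.one_mem (x / w.ce e) 0 (by rw [map_div₀, hx, w.ceK e he])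
  refine ⟨e, he, e1, isConj_iff.2 ⟨p, ?_⟩⟩
  have := w.cm p hp e (w.ES he)
  rw [a, b, c, (w.on_E e he).1, w.ce_one, zero_bl, zero_mul, zero_add, add_zero,
    mul_div_cancel₀ _ (w.ce_ne he e1), mul_inv_eq_iff_eq_mul] at this
  rw [this]
  exact mem_centralizer_iff.1 (w.S_le_CV (w.ES he)) _ hv

/-- the kernel `W₁ = S × Z` -/
theorem Two.mem_W (w : Two σ G) {g : G} (hg : g ∈ normalizer (w.A : Set G))
    (hE : ∀ e ∈ w.E, g * e * g⁻¹ * e ∈ w.V) (h1 : w.cc g = 1) (h2 : w.tt g = 1) :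
    ∃ s ∈ w.S, ∃ z ∈ w.Z, g = s * z := by
  obtain ⟨s, hs, hn⟩ := w.M_dec g hg
  have hi := w.S.inv_mem hs
  have nQ := w.MQ (w.S_le_M hi)
  have nC : s⁻¹ * g ∈ w.C := mem_centralizer_iff.2 fun e he => by
    have a := (w.on_E _ ((mem_normalizer_iff.1 hn e).1 he)).1
    have b := (w.coord_conj hi ((mem_normalizer_iff.1 (w.MS hg) e).1 (w.ES he))).1
    have c := (w.co_V_mul (hE e he) (w.ES he)).1
    rw [mul_assoc, w.E_sq e he, mul_one, (w.on_E e he).1] at c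
    rw [c, show s⁻¹ * (g * e * g⁻¹) * s⁻¹⁻¹ = s⁻¹ * g * e * (s⁻¹ * g)⁻¹ by group, a] at b
    exact (mul_inv_eq_iff_eq_mul.1 b).symm
  obtain ⟨y, hy, z, hz, e⟩ := w.ker' ⟨nC, mul_mem nQ (w.MQ hg)⟩
    (by rw [w.cc_mul nQ (w.MQ hg), h1, (w.ct_S hi).1, map_one, mul_one])
    (by rw [w.tt_mul nQ (w.MQ hg), h2, (w.ct_S hi).2, mul_one])
  exact ⟨s * y, mul_mem hs (w.T1_le hy), z, hz, by rw [mul_assoc, ← e]; group⟩

theorem Two.T_le_M (w : Two σ G) : w.T ≤ normalizer (w.A : Set G) := w.T_le_D.trans w.D_le_M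

theorem Two.R_le_M (w : Two σ G) : w.R ≤ normalizer (w.A : Set G) := sup_le w.S_le_M w.T_le_M

theorem Two.mem_R (w : Two σ G) {r : G} : r ∈ w.R ↔ ∃ s ∈ w.S, ∃ y ∈ w.T, r = s * y := by
  simp only [Two.R, ← SetLike.mem_coe, coe_mul_of_right_le_normalizer_left _ _ (w.T_le_M.trans w.MS),
    Set.mem_mul, eq_comm]

theorem Two.R_pg (w : Two σ G) : IsPGroup 2 w.R :=
  w.pg.to_sup_of_normal_left' w.T_syl.pgroup (w.T_le_M.trans w.MS)

theorem Two.R_syl (w : Two σ G) : IsSylowIn 2 w.R (normalizer (w.A : Set G)) := by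
  refine ⟨w.R_le_M, w.R_pg, fun X h1 h2 h3 => le_antisymm (fun x hx => ?_) h3⟩
  obtain ⟨s, hs, hn⟩ := w.M_dec x (h1 hx)
  have nX : s⁻¹ * x ∈ X := mul_mem (inv_mem (h3 (mem_sup_left hs))) hx
  obtain ⟨k, hk⟩ := h2 ⟨_, nX⟩
  have e := w.T_syl.max (X ⊓ w.C) inf_le_right h2.to_inf_left
    (le_inf (le_sup_right.trans h3) w.T_syl.le)
  exact w.mem_R.2 ⟨s, hs, s⁻¹ * x, e ▸ ⟨nX, w.mem_C_of_two hn ⟨k, congrArg Subtype.val hk⟩⟩, by group⟩

/-- `C_S(a) = T₁` for `a ∈ A - V` -/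
theorem Two.cen_A (w : Two σ G) {a r : G} (ha : a ∈ w.A) (hV : a ∉ w.V) (hr : r ∈ w.S) :
    a * r = r * a ↔ r ∈ w.T1 := by
  obtain ⟨h, b, c⟩ := w.mem_A.1 ha
  have := w.ce_ne (w.eeE a h) fun e => hV ((w.kerV a h).2 ⟨e, b, c⟩)
  rw [w.comm_iff h hr, w.mem_T1, Two.bf, b, c, zero_bl]
  simp [this, hr]

theorem Two.E_not_V (w : Two σ G) {e : G} (he : e ∈ w.E) (h : e ≠ 1) : e ∉ w.V := fun a =>
  h ((w.on_E e he).1.symm.trans (w.on_V a).1)

theorem Two.card_R (w : Two σ G) : Nat.card w.R = w.q * Nat.card w.T := by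
  have h := L0.card_sup_mul_card_inf_of_le_normalizer (w.T_le_M.trans w.MS)
  have e : w.T ⊓ w.S = w.T1 := le_antisymm (fun y hy => by
    obtain ⟨e, he, e1⟩ := w.ex_e
    exact (w.cen_A (mem_sup_left he) (w.E_not_V he e1) hy.2).1 (mem_centralizer_iff.1 (w.T_syl.le hy.1) e he))
    (le_inf w.T1_le_T w.T1_le)
  rw [e, sup_comm, w.card_T1, w.card_S] at h
  refine Nat.eq_of_mul_eq_mul_right (Nat.mul_pos Nat.card_pos (pow_pos w.q_pos 3)) (h.trans ?_)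
  ring

theorem Two.ct_R (w : Two σ G) {s y : G} (hs : s ∈ w.S) (hy : y ∈ w.T) :
    w.cc (s * y) = w.cc y ∧ w.tt (s * y) = w.tt y := by
  have nQ := w.MQ (w.S_le_M hs)
  rw [w.cc_mul nQ (w.T_N hy), w.tt_mul nQ (w.T_N hy), (w.ct_S hs).1, (w.ct_S hs).2, one_mul, one_mul]
  exact ⟨rfl, rfl⟩

theorem Two.mem_S_of_tt (w : Two σ G) {r : G} (hr : r ∈ w.R) (h : w.tt r = 1) : r ∈ w.S := by
  obtain ⟨s, hs, y, hy, rfl⟩ := w.mem_R.1 hr
  obtain ⟨k, hk⟩ := w.T_syl.pgroup ⟨y, hy⟩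
  exact mul_mem hs (w.T1_le (w.mem_T1_of_two (w.T_le_D hy) ⟨k, congrArg Subtype.val hk⟩
    ((w.ct_R hs hy).2.symm.trans h)))

theorem Two.R_act (w : Two σ G) {g s : G} (hg : g ∈ w.R) (hs : s ∈ w.S) :
    w.ee (g * s * g⁻¹) = w.ee s ∧ w.xx (g * s * g⁻¹) = nm σ (w.cc g) * w.tt g (w.xx s) ∧
      w.aa (g * s * g⁻¹) = w.cc g * w.tt g (w.aa s) := by
  obtain ⟨r, hr, y, hy, rfl⟩ := w.mem_R.1 hg
  obtain ⟨a, b, c⟩ := w.coord_conj hr ((mem_normalizer_iff.1 (w.MS (w.T_le_M hy)) s).1 hs)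
  rw [show r * y * s * (r * y)⁻¹ = r * (y * s * y⁻¹) * r⁻¹ by group, a, b, c, (w.ct_R hr hy).1, (w.ct_R hr hy).2]
  exact w.D_act y (w.T_le_D hy) s hs

theorem Two.bf_mul (w : Two σ G) {a b : G} (ha : a ∈ w.S) (hb : b ∈ w.S) (s : G) :
    w.bf (a * b) s = w.bf a s + w.bf b s := by
  simp only [Two.bf, w.ee_mul a ha b hb, w.xx_mul a ha b hb, w.aa_mul a ha b hb,
    w.ce_mul _ (w.eeE a ha) _ (w.eeE b hb), bl_add]
  ring

theorem Two.card_cen (w : Two σ G) {s : G} (hs : s ∈ w.S) :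
    Nat.card w.E * w.q ^ 3 ≤ Nat.card ↥(w.S ⊓ centralizer {s}) := by
  have := card_le' (N := w.S ⊓ centralizer {s}) (K := KK σ) (fun a ha b hb => w.bf_mul ha hb s)
    (fun a ha => w.bfK ha hs) fun a ha e => ⟨ha, mem_centralizer_singleton_iff.2 ((w.comm_iff ha hs).2 e)⟩
  rw [w.card_S, w.card_K, pow_succ, ← mul_assoc] at this
  exact Nat.le_of_mul_le_mul_right this w.q_pos

/-- conjugates of `E#` in `S` are conjugate under `N(S)` -/
theorem Two.fus (w : Two σ G) {s : G} (hs : s ∈ w.S) (h : w.TC s) :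
    ∃ g ∈ normalizer (w.S : Set G), ∃ e ∈ w.E, e ≠ 1 ∧ g * e * g⁻¹ = s ∧
      cj g w.T1 = w.S ⊓ centralizer {s} := by
  obtain ⟨g, e, he, e1, hg, hT, hV⟩ := w.lemL h (X := w.S ⊓ centralizer {s}) w.pg.to_inf_left inf_le_right
    (inf_le_left.trans w.S_le_CV) (w.card_T1 ▸ w.card_cen hs)
    fun x hx y hy => w.cm_mem hx.1 hy.1
  refine ⟨g, inv_mem_iff.1 (H5.mem_normalizer_of_conj_mem fun r hr => ?_), e, he, e1, hg, hT⟩
  rw [inv_inv]
  have key : ∀ y ∈ w.T1, g⁻¹ * r * g * y * (g⁻¹ * r * g)⁻¹ * y⁻¹ ∈ w.V := fun y hy => by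
    have := w.cm_mem hr (hT ▸ conj_mem_cj g hy : g * y * g⁻¹ ∈ w.S ⊓ centralizer {s}).1
    rw [← hV, mem_cj] at this
    convert this using 1
    group
  have r4 : (g⁻¹ * r * g) ^ 4 = 1 := by
    rw [show (g⁻¹ * r * g) ^ 4 = g⁻¹ * (r * r * (r * r)) * g by
      simp only [pow_succ, pow_zero]; group, w.V_sq (w.sq_mem hr)]; group
  generalize g⁻¹ * r * g = n at key r4
  have nA : n ∈ normalizer (w.A : Set G) := H5.mem_normalizer_of_conj_mem fun y hy =>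
    (mul_mem_cancel_right (inv_mem hy)).1 (w.V_le_A (key y (w.A_le_T1 hy)))
  obtain ⟨c1, c2⟩ := w.ct_of (w.MQ nA) fun u => by
    have := (w.co_V_mul (key _ (mem_sup_right ⟨u, rfl⟩)) (w.jS u)).2.2
    rwa [inv_mul_cancel_right, (w.on_j u).2.2] at this
  obtain ⟨s', hs', z, hz, rfl⟩ := w.mem_W nA (fun e he => by
    have := key e (mem_sup_left he)
    rwa [inv_eq_of_mul_eq_one_right (w.E_sq e he)] at this) c1 c2
  have c : Commute s' z := (w.Zc' z hz s' hs').symm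
  rw [c.mul_pow, show s' ^ 4 = s' * s' * (s' * s') by simp only [pow_succ, pow_zero, one_mul, mul_assoc],
    w.V_sq (w.sq_mem hs'), one_mul] at r4
  rw [w.Z_two hz (k := 2) r4, mul_one]
  exact hs'

/-- totally singular subgroups -/
theorem Two.ts (w : Two σ G) (hc : w.c = 0) {X : Subgroup G} (hX : X ≤ w.S)
    (h2 : ∀ x ∈ X, x * x = 1) : X ≤ w.P0 ∨ ∃ α, X ≤ w.pt α := by
  have hq : ∀ r ∈ X, w.ce (w.ee r) * w.xx r = nm σ (w.aa r) := fun r hr => by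
    have := (w.sq_iff (hX hr)).1 (h2 r hr)
    rwa [Two.qf, hc, add_zero, add0 σ] at this
  refine or_iff_not_imp_left.2 fun hn => ?_
  obtain ⟨s, hs, sP⟩ := SetLike.not_le_iff_exists.1 hn
  have c0 : w.ce (w.ee s) ≠ 0 := fun e => sP ⟨hX hs, w.ce_inj _ (w.eeE s (hX hs)) e,
    nm0.1 (by rw [← hq s hs, e, zero_mul])⟩
  refine ⟨w.aa s / w.ce (w.ee s), fun r hr => ?_⟩
  have hb := (w.comm_iff (hX hs) (hX hr)).1 (comm_sq h2 hs hr)
  have q1 := hq s hs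
  have q2 := hq r hr
  have k1 := w.ceK' (hX hs)
  have k2 := w.ceK' (hX hr)
  have t := two σ
  change _ ∧ _ ∧ _
  unfold Two.bf at hb
  generalize w.ce (w.ee s) = c, w.ce (w.ee r) = c', w.xx s = x, w.xx r = x', w.aa s = a, w.aa r = a' at *
  have e : c * a' = c' * a := by
    rw [← add0 σ, ← nm0 (σ := σ)]
    simp only [nm, bl, map_add, map_mul, k1, k2] at *
    linear_combination c * c' * hb - c ^ 2 * q2 - c' ^ 2 * q1
  have e2 : a' = c' * (a / c) := by field_simp; linear_combination e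
  refine ⟨hX hr, ?_, e2⟩
  have e1 : a = c * (a / c) := (mul_div_cancel₀ _ c0).symm
  generalize a / c = β at *
  subst e1 e2
  simp only [nm, bl, map_mul, k1, k2] at *
  refine mul_left_cancel₀ (pow_ne_zero 2 c0) ?_
  linear_combination c * hb - c' * q1 - 2 * c ^ 2 * c' * σ β * β * t

/-- `A^g / V` consists of the singular vectors orthogonal to any `s ∈ A^g - V` -/
theorem Two.mem_cj_A (w : Two σ G) {g s r : G} (hg : g ∈ normalizer (w.S : Set G)) (hs : s ∈ cj g w.A)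
    (hV : s ∉ w.V) (hr : r ∈ w.S) (h1 : w.bf s r = 0) (h2 : w.qf r = 0) : r ∈ cj g w.A := by
  have hr' : g⁻¹ * r * g ∈ w.S := by simpa using (mem_normalizer_iff.1 (inv_mem hg) r).1 hr
  rw [← w.comm_iff (cj_le_of_mem_normalizer hg w.A_le hs) hr] at h1
  rw [← w.sq_iff hr] at h2
  rw [mem_cj] at hs ⊢
  refine w.mem_A_of_sq ((w.cen_A hs (fun a => hV ?_) hr').1 ?_) ?_
  · simpa [mul_assoc] using (mem_normalizer_iff.1 (w.NS_le_NV hg) _).1 a
  · calc _ = g⁻¹ * (s * r) * g := by group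
      _ = _ := by rw [h1]; group
  · calc _ = g⁻¹ * (r * r) * g := by group
      _ = _ := by rw [h2]; group

/-- the conjugates of `A` under `N(S)` -/
theorem Two.cls (w : Two σ G) {g : G} (hg : g ∈ normalizer (w.S : Set G)) :
    cj g w.A = w.A ∨
    (∃ t, w.Inv t ∧ w.c = w.ce t ∧ ∃ p ∈ w.P0, p ∉ w.V ∧ t * p ∈ cj g w.A) ∨
    (w.c = 0 ∧ ∃ α, α ≠ 0 ∧ cj g w.A = w.pt α) ∨
    (w.c = 0 ∧ Nat.card w.E = w.q ∧ cj g w.A = w.P0) := by
  have XS : cj g w.A ≤ w.S := cj_le_of_mem_normalizer hg w.A_le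
  have sq := cj_sq (fun _ => w.A_sq) g
  have cX : Nat.card (cj g w.A) = Nat.card w.E * w.q := by rw [card_cj, w.card_A]
  have VX : w.V ≤ cj g w.A := by
    rw [← cj_eq_self (w.NS_le_NV hg)]; exact cj_mono g w.V_le_A
  have P := fun s r => w.mem_cj_A hg (s := s) (r := r)
  generalize cj g w.A = X at *
  have qf0 : ∀ s ∈ X, w.qf s = 0 := fun s hs => (w.sq_iff (XS hs)).1 (sq s hs)
  refine or_iff_not_imp_left.2 fun hn => ?_
  obtain ⟨s, hs, sA⟩ := SetLike.not_le_iff_exists.1 fun a : X ≤ w.A =>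
    hn (eq_of_le_of_card_ge a (by rw [cX, w.card_A]))
  have sV : s ∉ w.V := fun a => sA (w.V_le_A a)
  have t := two σ
  by_cases hc : w.c = 0
  · rcases w.ts hc XS sq with a | ⟨α, a⟩
    swap
    · refine Or.inr (Or.inl ⟨hc, α, ?_, eq_of_le_of_card_ge a (by rw [cX, w.card_pt])⟩)
      rintro rfl
      exact sA (w.pt_zero ▸ a hs)
    · have : X = w.P0 := le_antisymm a fun r hr => P s r hs sV hr.1 (by
        rw [Two.bf, (a hs).2.1, hr.2.1, hr.2.2, w.ce_one, bl_zero]; ring) (by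
        rw [Two.qf, hr.2.1, hr.2.2, hc, w.ce_one, nm_zero]; ring)
      refine Or.inr (Or.inr ⟨hc, ?_, this⟩)
      rw [this, w.card_P0, pow_two] at cX
      exact (Nat.eq_of_mul_eq_mul_right w.q_pos cX).symm
  obtain ⟨μ, -, c1, -, c2⟩ := w.exists_h0
  generalize w.cc (w.d μ) = c₀ at c1 c2
  have c3 : 1 + c₀ ≠ 0 := fun e => c1 ((add0 σ).1 e).symm
  have no : ∀ s ∈ X, w.ee s = 1 → w.aa s = 0 := fun s hs e1 => by_contra fun a0 => by
    have sS := XS hs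
    have sV : s ∉ w.V := fun a => a0 (w.on_V a).2.2
    have q := qf0 s hs
    have xK := w.xxK s sS
    rw [Two.qf, e1, w.ce_one, zero_add] at q
    have line : ∀ l, σ l = l → ∃ r ∈ X, w.ee r = 1 ∧ w.xx r = l ^ 2 * w.xx s ∧ w.aa r = l * w.aa s := fun l hl => by
      obtain ⟨r, hr, a, b, c⟩ := w.surj 1 w.E.one_mem (l ^ 2 * w.xx s) (l * w.aa s) (by rw [map_mul, map_pow, hl, xK])
      refine ⟨r, P s r hs sV hr ?_ ?_, a, b, c⟩
      · simp only [Two.bf, e1, a, c, w.ce_one, bl, map_mul, hl]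
        linear_combination l * σ (w.aa s) * w.aa s * t
      · rw [Two.qf, a, b, c, w.ce_one, nm_mul, nm_K hl]
        linear_combination l ^ 2 * q
    have := card_ge' (X := X) (N := w.V) (K := KK σ) (ψ := fun r => w.aa r / w.aa s)
      (fun a ha b hb => by rw [w.aa_mul a (XS ha) b (XS hb), add_div])
      (fun l hl => by
        obtain ⟨r, hr, -, -, c⟩ := line l hl
        exact ⟨r, hr, by rw [c, mul_div_cancel_right₀ _ a0]⟩)
      fun v hv => ⟨VX hv, by rw [(w.on_V hv).2.2, zero_div]⟩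
    rw [cX, w.card_V, w.card_K] at this
    obtain ⟨l, hl, l0, lc, l1⟩ := w.exists_K w.c 1
    obtain ⟨e, he, el⟩ := w.ce_surj (le_antisymm w.card_E_le (Nat.le_of_mul_le_mul_right this w.q_pos)) hl
    obtain ⟨b, hb⟩ := exists_bl a0 (x := l * w.xx s) (by rw [map_mul, hl, xK])
    have lc' : l + w.c ≠ 0 := fun e => lc ((add0 σ).1 e)
    obtain ⟨r, hr, a1, a2, a3⟩ := w.surj e he (nm σ b / (l + w.c)) b (by rw [map_div₀, map_add, hl, w.cK, nmK])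
    have rX : r ∈ X := P s r hs sV hr (by
      rw [Two.bf, e1, a1, a3, hb, el, w.ce_one]; linear_combination l * w.xx s * t) (by
      rw [Two.qf, a1, a2, a3, el, mul_div_cancel₀ _ lc']; linear_combination nm σ b * t)
    obtain ⟨s', hs', b1, b2, b3⟩ := line l hl
    have z := (w.comm_iff (XS hs') hr).1 (comm_sq sq hs' rX)
    rw [Two.bf, b1, b2, b3, a1, a3, el, w.ce_one] at z
    have x0 : w.xx s ≠ 0 := fun e => a0 (nm0.1 (by rwa [e, mul_zero, zero_add] at q))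
    simp only [bl, map_mul, hl] at z hb
    refine mul_ne_zero (mul_ne_zero (pow_ne_zero 2 l0) (fun e => l1 ((add0 σ).1 e) : l + 1 ≠ 0)) x0 ?_
    linear_combination z - l * hb
  have sS := XS hs
  have he := w.eeE s sS
  have eK := w.ceK' sS
  have xK := w.xxK s sS
  have q := qf0 s hs
  have a0 : w.aa s = 0 := by_contra fun a0 => by
    have e0 := w.ce_ne he fun e => a0 (no s hs e)
    obtain ⟨r, hr, a1, a2, a3⟩ := w.surj 1 w.E.one_mem (bl σ (w.aa s) (w.c / w.ce (w.ee s) * (1 + c₀) * w.aa s) /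
      w.ce (w.ee s)) (w.c / w.ce (w.ee s) * (1 + c₀) * w.aa s) (by rw [map_div₀, blK, eK])
    have := no r (P s r hs sV hr (by
      rw [Two.bf, a1, a2, a3, w.ce_one, mul_div_cancel₀ _ e0, zero_mul, add_zero, add0 σ]) (by
      simp only [Two.qf, a1, a2, a3, w.ce_one, nm, bl, map_mul, map_add, map_one, map_div₀, eK, w.cK] at c2 ⊢
      field_simp
      linear_combination w.c ^ 2 * σ (w.aa s) * w.aa s * c2 +
        w.c ^ 2 * σ (w.aa s) * w.aa s * (2 + c₀ + σ c₀) * t)) a1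
    rw [a3] at this
    exact mul_ne_zero (mul_ne_zero (div_ne_zero hc e0) c3) a0 this
  have x0 : w.xx s ≠ 0 := fun e => sA (w.mem_A.2 ⟨sS, e, a0⟩)
  rw [Two.qf, a0, nm_zero, add_zero, mul_eq_zero_iff_right x0, add0 σ] at q
  have e1 : w.ee s ≠ 1 := fun e => hc (by rw [← q, e, w.ce_one])
  obtain ⟨m1, m2, m3⟩ := w.e_mul he sS
  refine Or.inl ⟨w.ee s, ⟨he, e1, fun e' he' => by_contra fun h => ?_⟩, q.symm, w.ee s * s,
    ⟨mul_mem (w.ES he) sS, m1.trans (w.E_sq _ he), m3.trans a0⟩, fun a => x0 (m2.symm.trans (w.on_V a).2.1),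
    by rwa [← mul_assoc, w.E_sq _ he, one_mul]⟩
  rw [not_or] at h
  have k := w.ceK e' he'
  have xk : σ (w.ce e' * w.xx s / w.c) = w.ce e' * w.xx s / w.c := by rw [map_div₀, map_mul, k, xK, w.cK]
  obtain ⟨b, hb⟩ := exists_nm (σ := σ) (x := (w.ce e' + w.c) * (w.ce e' * w.xx s / w.c))
    (by rw [map_mul, xk, map_add, k, w.cK])
  have mem : ∀ a, nm σ a = nm σ b → ∃ r ∈ X, w.ee r = e' ∧ w.aa r = a := fun a ha => by
    obtain ⟨r, hr, a1, a2, a3⟩ := w.surj e' he' _ a xk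
    exact ⟨r, P s r hs sV hr (by rw [Two.bf, a0, a1, a2, q, zero_bl, mul_div_cancel₀ _ hc, add_zero, add0 σ])
      (by rw [Two.qf, a1, a2, a3, ha, hb, add0 σ]), a1, a3⟩
  obtain ⟨r, hr, a1, a2⟩ := mem b rfl
  obtain ⟨r', hr', b1, b2⟩ := mem (c₀ * b) (by rw [nm_mul, c2, one_mul])
  have := no _ (mul_mem hr hr') (by rw [w.ee_mul _ (XS hr) _ (XS hr'), a1, b1, w.E_sq e' he'])
  rw [w.aa_mul _ (XS hr) _ (XS hr'), a2, b2, ← one_add_mul, mul_eq_zero_iff_left c3] at this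
  rw [this, nm_zero] at hb
  exact mul_ne_zero (fun e => h.2 (w.ce_eq he' he (((add0 σ).1 e).trans q.symm)))
    (div_ne_zero (mul_ne_zero (w.ce_ne he' h.1) x0) hc) hb.symm

theorem Two.P0_sq (w : Two σ G) (hc : w.c = 0) {s : G} (hs : s ∈ w.P0) : s * s = 1 := by
  rw [w.sq_iff hs.1, Two.qf, hs.2.1, hs.2.2, hc, w.ce_one, nm_zero]; ring

theorem Two.char_P0 (w : Two σ G) (hc : w.c = 0) (h : Nat.card w.E ≠ w.q) :
    normalizer (w.S : Set G) ≤ normalizer (w.P0 : Set G) := fun g hg => by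
  rcases w.ts hc (X := cj g w.P0) (cj_le_of_mem_normalizer hg fun _ a => a.1) (cj_sq (fun _ => w.P0_sq hc) g) with a | ⟨α, a⟩
  · exact H5.mem_normalizer_of_conj_mem fun s hs => a (conj_mem_cj g hs)
  · have := card_le_of_le a
    rw [card_cj, w.card_P0, w.card_pt, pow_two] at this
    exact absurd (le_antisymm w.card_E_le (Nat.le_of_mul_le_mul_right this w.q_pos)) h

theorem Two.norm_el (w : Two σ G) {N : Subgroup G} (hN : N ≤ w.R)
    (hn : w.R ≤ normalizer (N : Set G)) (h2 : ∀ x ∈ N, x * x = 1) : N ≤ w.S := fun r hr => by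
  have rQ := w.MQ (w.R_le_M (hN hr))
  refine w.mem_S_of_tt (hN hr) ((w.tt_cases rQ (by
    rw [h2 r hr]; exact (w.ct_S w.S.one_mem).2)).resolve_right fun ht => ?_)
  have key : ∀ a : F, a = w.cc r * σ a := fun a => by
    have m : w.j (lift σ a) * r * (w.j (lift σ a))⁻¹ * r⁻¹ ∈ N :=
      mul_mem ((mem_normalizer_iff.1 (hn (mem_sup_left (w.jS _))) r).1 hr) (inv_mem hr)
    rw [show w.j (lift σ a) * r * (w.j (lift σ a))⁻¹ * r⁻¹ = w.j (lift σ a) * (r * w.j (lift σ a) * r⁻¹)⁻¹ by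
      group, w.conj_j rQ, ← map_inv, ← map_mul] at m
    have := h2 _ m
    rw [w.j_sq, w.vv_eq_one (nmK _), nm0, mul_a, inv_a, w.aut_a, ht, lift_a, sigAut_apply] at this
    exact add_neg_eq_zero.1 this
  obtain ⟨ω, hω⟩ := Ctx.ex (σ := σ)
  have h1 := key 1
  have h3 := key ω
  rw [map_one, mul_one] at h1
  rw [← h1, one_mul] at h3
  rw [← h3] at hω
  exact one_ne_zero (by linear_combination -hω + ω * two σ : (1 : F) = 0)

theorem Two.NR_le_NS (w : Two σ G) : normalizer (w.R : Set G) ≤ normalizer (w.S : Set G) := fun g hg => by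
  have sq : ∀ x ∈ cj g w.A, x * x = 1 := cj_sq (fun _ => w.A_sq) g
  have AS : cj g w.A ≤ w.S := w.norm_el (cj_le_of_mem_normalizer hg (w.A_le.trans le_sup_left))
    (by rw [← cj_normalizer, ← cj_eq_self hg]; exact cj_mono g w.R_le_M) sq
  obtain ⟨e, he, e1⟩ := w.ex_e
  have eA : e ∈ w.A := mem_sup_left he
  obtain ⟨k, hk, -, -, -, -, hT⟩ := w.fus (AS (conj_mem_cj g eA)) ⟨e, he, e1, isConj_iff.2 ⟨g, rfl⟩⟩
  have : k⁻¹ * g ∈ normalizer (w.A : Set G) := H5.mem_normalizer_of_conj_mem fun a ha => by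
    have m : g * a * g⁻¹ ∈ cj k w.T1 := hT ▸ ⟨AS (conj_mem_cj g ha), mem_centralizer_singleton_iff.2 (by
      rw [conj_mul, conj_mul, (w.cen_A eA (w.E_not_V he e1) (w.A_le ha)).2 (w.A_le_T1 ha)])⟩
    rw [mem_cj] at m
    rw [show k⁻¹ * g * a * (k⁻¹ * g)⁻¹ = k⁻¹ * (g * a * g⁻¹) * k by group]
    refine w.mem_A_of_sq m ?_
    calc _ = k⁻¹ * g * (a * a) * g⁻¹ * k := by group
      _ = 1 := by rw [w.A_sq ha]; group
  simpa using mul_mem hk (w.MS this)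

theorem Two.syl_of (w : Two σ G) (h : ∀ g ∈ normalizer (w.S : Set G), cj g w.A = w.A) :
    IsSylowIn 2 w.R ⊤ :=
  haveI : Fact (Nat.Prime 2) := ⟨Nat.prime_two⟩
  .of_normalizer le_top (w.R_syl.of_le (le_inf le_top le_normalizer) fun g hg =>
    cj_eq_self_iff.1 (h g (w.NR_le_NS hg.2)))

end Cfsg.Agent.WA.Lk
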