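import Cfsg.Agent.WA.ILk0
import Cfsg.Agent.WA.Lk1b

/- LINKED interface; the statements, proved in the imported files:

variable {F : Type*} [Field F] [Finite F] {σ : F →+* F} [Ctx σ] {G : Type*} [Group G] [Finite G]
theorem Two.card_S (w : Two σ G) : Nat.card w.S = Nat.card w.E * w.q ^ 4
theorem Two.card_P0 (w : Two σ G) : Nat.card w.P0 = w.q ^ 2
theorem Two.card_pt (w : Two σ G) (α : F) : Nat.card (w.pt α) = Nat.card w.E * w.q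
theorem Two.card_E_le (w : Two σ G) : Nat.card w.E ≤ w.q
theorem Two.ce_surj (w : Two σ G) (h : Nat.card w.E = w.q) {x : F} (hx : σ x = x) :
    ∃ e ∈ w.E, w.ce e = x
theorem Two.V_le (w : Two σ G) : w.V ≤ w.S
theorem Two.S_le_CV (w : Two σ G) : w.S ≤ centralizer (w.V : Set G)
theorem Two.mem_A (w : Two σ G) {s : G} : s ∈ w.A ↔ s ∈ w.S ∧ w.xx s = 0 ∧ w.aa s = 0
theorem Two.mem_T1 (w : Two σ G) {s : G} : s ∈ w.T1 ↔ s ∈ w.S ∧ w.xx s = 0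
theorem Two.mem_Q (w : Two σ G) {s : G} : s ∈ w.Q ↔ s ∈ w.S ∧ w.ee s = 1 ∧ w.xx s = 0
theorem Two.pt_zero (w : Two σ G) : w.pt 0 = w.A
theorem Two.coord_conj (w : Two σ G) {g s : G} (hg : g ∈ w.S) (hs : s ∈ w.S) :
    w.ee (g * s * g⁻¹) = w.ee s ∧ w.xx (g * s * g⁻¹) = w.xx s ∧ w.aa (g * s * g⁻¹) = w.aa s
theorem Two.S_le_M (w : Two σ G) : w.S ≤ normalizer (w.A : Set G)
theorem Two.D_le_M (w : Two σ G) : w.D ≤ normalizer (w.A : Set G)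
theorem Two.M_le_NP (w : Two σ G) : normalizer (w.A : Set G) ≤ normalizer (w.P0 : Set G)
theorem Two.NS_le_NV (w : Two σ G) : normalizer (w.S : Set G) ≤ normalizer (w.V : Set G)
theorem Two.ct_S (w : Two σ G) {s : G} (hs : s ∈ w.S) : w.cc s = 1 ∧ w.tt s = 1
theorem Two.TC_A (w : Two σ G) {s : G} (hs : s ∈ w.A) (hV : s ∉ w.V) : w.TC s
-- the kernel `W₁ = S × Z` 
theorem Two.mem_W (w : Two σ G) {g : G} (hg : g ∈ normalizer (w.A : Set G))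
    (hE : ∀ e ∈ w.E, g * e * g⁻¹ * e ∈ w.V) (h1 : w.cc g = 1) (h2 : w.tt g = 1) :
    ∃ s ∈ w.S, ∃ z ∈ w.Z, g = s * z
theorem Two.mem_R (w : Two σ G) {r : G} : r ∈ w.R ↔ ∃ s ∈ w.S, ∃ y ∈ w.T, r = s * y
theorem Two.R_syl (w : Two σ G) : IsSylowIn 2 w.R (normalizer (w.A : Set G))
theorem Two.card_R (w : Two σ G) : Nat.card w.R = w.q * Nat.card w.T
theorem Two.mem_S_of_tt (w : Two σ G) {r : G} (hr : r ∈ w.R) (h : w.tt r = 1) : r ∈ w.S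
theorem Two.R_act (w : Two σ G) {g s : G} (hg : g ∈ w.R) (hs : s ∈ w.S) :
    w.ee (g * s * g⁻¹) = w.ee s ∧ w.xx (g * s * g⁻¹) = nm σ (w.cc g) * w.tt g (w.xx s) ∧
      w.aa (g * s * g⁻¹) = w.cc g * w.tt g (w.aa s)
theorem Two.card_cen (w : Two σ G) {s : G} (hs : s ∈ w.S) :
    Nat.card w.E * w.q ^ 3 ≤ Nat.card ↥(w.S ⊓ centralizer {s})
-- conjugates of `E#` in `S` are conjugate under `N(S)` 
theorem Two.fus (w : Two σ G) {s : G} (hs : s ∈ w.S) (h : w.TC s) :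
    ∃ g ∈ normalizer (w.S : Set G), ∃ e ∈ w.E, e ≠ 1 ∧ g * e * g⁻¹ = s ∧
      cj g w.T1 = w.S ⊓ centralizer {s}
-- the conjugates of `A` under `N(S)` 
theorem Two.cls (w : Two σ G) {g : G} (hg : g ∈ normalizer (w.S : Set G)) :
    cj g w.A = w.A ∨
    (∃ t, w.Inv t ∧ w.c = w.ce t ∧ ∃ p ∈ w.P0, p ∉ w.V ∧ t * p ∈ cj g w.A) ∨
    (w.c = 0 ∧ ∃ α, α ≠ 0 ∧ cj g w.A = w.pt α) ∨
    (w.c = 0 ∧ Nat.card w.E = w.q ∧ cj g w.A = w.P0)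
-- totally singular subgroups 
theorem Two.ts (w : Two σ G) (hc : w.c = 0) {X : Subgroup G} (hX : X ≤ w.S)
    (h2 : ∀ x ∈ X, x * x = 1) : X ≤ w.P0 ∨ ∃ α, X ≤ w.pt α
theorem Two.char_P0 (w : Two σ G) (hc : w.c = 0) (h : Nat.card w.E ≠ w.q) :
    normalizer (w.S : Set G) ≤ normalizer (w.P0 : Set G)
theorem Two.norm_el (w : Two σ G) {N : Subgroup G} (hN : N ≤ w.R)
    (hn : w.R ≤ normalizer (N : Set G)) (h2 : ∀ x ∈ N, x * x = 1) : N ≤ w.S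
theorem Two.NR_le_NS (w : Two σ G) : normalizer (w.R : Set G) ≤ normalizer (w.S : Set G)
theorem Two.syl_of (w : Two σ G) (h : ∀ g ∈ normalizer (w.S : Set G), cj g w.A = w.A) :
    IsSylowIn 2 w.R ⊤
-/
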