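/-
Lyons' theorem.
-/
import Cfsg.Agent.WA.LyR3

set_option autoImplicit false

open Subgroup

namespace Cfsg.Agent.WA

open Cfsg.Agent.BS.Hig Cfsg.Agent.L0

namespace LyR

theorem fix_of_odd {P : Type*} [Group P] {ψ : MulAut P} {m : ℕ} (hm : Odd m) {u : P} (h : (ψ ^ m) u = u)
    (h2 : ψ (ψ u) = u) : ψ u = u := by
  obtain ⟨k, rfl⟩ := hm
  have : ∀ k : ℕ, ((ψ ^ 2) ^ k) u = u := fun k => by
    induction k with
    | zero => rfl
    | succ k ih => rw [pow_succ, MulAut.mul_apply, pow_two, MulAut.mul_apply, h2, ← pow_two, ih]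
  rwa [pow_succ', MulAut.mul_apply, pow_mul, this] at h

section four

variable {P : Type*} [Group P] {ψ : MulAut P}
  (tri : ∀ x y z : P, x * x = 1 → y * y = 1 → z * z = 1 → x ≠ 1 → y ≠ 1 → x ≠ y → z ≠ 1 → z ≠ x → z ≠ y → z = x * y)
  (odd : ∀ u, u * u = 1 → ψ (ψ u) = u → ψ u = u)
include tri odd

theorem four_fix {t : P} (ht : t * t = 1) (ht1 : t ≠ 1) (h : ψ t = t) {u : P} (hu : u * u = 1) : ψ u = u := by
  by_contra hne
  have h1 : u ≠ 1 := by rintro rfl; exact hne (map_one _)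
  have h2 : t ≠ u := by rintro rfl; exact hne h
  have h3 := tri t u (ψ u) ht hu (by rw [← map_mul, hu, map_one]) ht1 h1 h2 (by simpa using h1)
    (fun e => h2 (ψ.injective (h.trans e.symm))) hne
  exact hne (odd u hu (by rw [h3, map_mul, h, h3, ← mul_assoc, ht, one_mul]))

theorem four_cyc {t : P} (ht : t * t = 1) (h : ψ t ≠ t) {u : P} (hu : u * u = 1) :
    ψ (ψ (ψ u)) = u ∧ (u ≠ 1 → ψ u ≠ u ∧ ψ (ψ u) ≠ u ∧
      ∀ v, v * v = 1 → v ≠ 1 → v = u ∨ v = ψ u ∨ v = ψ (ψ u)) := by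
  by_cases h1 : u = 1
  · simp [h1]
  have sq : ∀ {x : P}, x * x = 1 → ψ x * ψ x = 1 := fun hx => by rw [← map_mul, hx, map_one]
  have h2 : ψ u ≠ u := fun e => h (four_fix tri odd hu h1 e ht)
  have h3 : ψ (ψ u) ≠ u := fun e => h2 (odd u hu e)
  have h4 := tri u (ψ u) (ψ (ψ u)) hu (sq hu) (sq (sq hu)) h1 (by simpa using h1) h2.symm (by simpa using h1) h3
    fun e => h2 (ψ.injective e)
  have h5 := tri (ψ u) u (ψ (ψ u)) (sq hu) hu (sq (sq hu)) (by simpa using h1) h1 h2 (by simpa using h1)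
    (fun e => h2 (ψ.injective e)) h3
  refine ⟨by rw [h4, map_mul, h5, ← mul_assoc, sq hu, one_mul], fun _ => ⟨h2, h3, fun v hv hv1 => ?_⟩⟩
  by_contra! h6
  exact h6.2.2 ((tri u (ψ u) v hu (sq hu) hv h1 (by simpa using h1) h2.symm hv1 h6.1 h6.2.1).trans h4.symm)

end four

end LyR

open LyR

/-- Lyons: nonabelian Sylow 2-subgroup of order 64 with three central involutions -/
theorem lyons {G : Type*} [Group G] [Finite G] [IsSimpleGroup G] (hG : ¬ IsMulCommutative G) (S : Sylow 2 G)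
    (hcard : Nat.card (S : Subgroup G) = 64) (hn : ¬ IsMulCommutative (S : Subgroup G))
    (hΩ : ∀ t ∈ (S : Subgroup G), t * t = 1 → ∀ s ∈ (S : Subgroup G), s * t = t * s) (h2 : PRankLE 2 2 G) :
    ∃ M : Subgroup G, IsStronglyEmbedded M := by
  classical
  have hn0 := hn
  clear hn
  let N := normalizer ((S : Subgroup G) : Set G)
  let c : N →* MulAut (S : Subgroup G) := (S : Subgroup G).normalizerMonoidHom
  have hc : ∀ (n : N) (x : (S : Subgroup G)), (c n x : G) = n * x * (n : G)⁻¹ := fun _ _ => rfl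
  have p2 := S.isPGroup'
  have cZ : ∀ u : (S : Subgroup G), u * u = 1 → ∀ s, s * u = u * s := fun u hu s =>
    Subtype.ext (hΩ u u.2 (congrArg Subtype.val hu) s s.2)
  have hodd : Odd ((S : Subgroup G).subgroupOf N).index :=
    Nat.not_even_iff_odd.1 fun e => (S.subtype le_normalizer).not_dvd_index e.two_dvd
  have hm : ∀ (n : N) (x : (S : Subgroup G)), (∀ s, s * x = x * s) →
      (c n ^ ((S : Subgroup G).subgroupOf N).index) x = x := fun n x hx => Subtype.ext (by
    rw [← map_pow, hc, mul_inv_eq_iff_eq_mul]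
    exact congrArg Subtype.val (hx ⟨_, pow_index_mem ((S : Subgroup G).subgroupOf N) n⟩))
  have odd : ∀ (n : N) (u : (S : Subgroup G)), u * u = 1 → c n (c n u) = u → c n u = u := fun n u hu =>
    fix_of_odd hodd (hm n u (cZ u hu))
  obtain ⟨t, -, ht1, ht⟩ := H9.exists_involution_of_ne_bot (H := (⊤ : Subgroup (S : Subgroup G)))
    (p2.to_subgroup _) fun e => by
      have h1 : (S : Subgroup G) = ⊥ := eq_bot_iff.2 fun x hx =>
        mem_bot.2 (congrArg Subtype.val (mem_bot.1 (e.le (mem_top (⟨x, hx⟩ : (S : Subgroup G))))))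
      have h3 := S.not_dvd_index
      rw [h1, index_bot] at h3
      exact hG ⟨⟨IsSimpleGroup.comm_iff_isSolvable.2
        (FT.odd_solvable (Nat.not_even_iff_odd.1 fun e => h3 e.two_dvd))⟩⟩
  obtain ⟨n, hn⟩ : ∃ n : N, c n t ≠ t := by
    by_contra! h
    refine (H7.Isolated.of_sylow S (t := (t : G)) (congrArg Subtype.val ht) fun g hg => ?_).eq_one_or_comm.elim
      (fun e => ht1 (Subtype.ext e)) hG
    obtain ⟨n, hn, e⟩ := H6.burnside_fusion S (x := t) (g := g) (hΩ t t.2 (congrArg Subtype.val ht))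
      (hΩ _ hg (by rw [conj_mul, show (t : G) * t = 1 from congrArg Subtype.val ht]; group))
    exact e.symm.trans (congrArg Subtype.val (h ⟨n, hn⟩))
  let Z : Subgroup (S : Subgroup G) :=
    { carrier := {u | u * u = 1}
      one_mem' := one_mul 1
      inv_mem' := fun {u} hu => by rwa [inv_eq_of_mul_eq_one_right hu]
      mul_mem' := fun {u v} hu hv => by
        change u * v * (u * v) = 1
        rw [mul_assoc, ← mul_assoc v, cZ u hu v, mul_assoc, hv, mul_one, hu] }
  have h4 : Nat.card Z = 4 := by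
    have h1 := h2 (Z.map (S : Subgroup G).subtype) ⟨⟨by
      rintro ⟨_, a, -, rfl⟩ ⟨_, b, hb, rfl⟩
      exact Subtype.ext (hΩ b b.2 (congrArg Subtype.val (show b * b = 1 from hb)) a a.2)⟩⟩ (by
      rintro _ ⟨a, ha, rfl⟩
      rw [pow_two]; exact congrArg Subtype.val (show a * a = 1 from ha))
    rw [card_map_of_injective (subtype_injective _)] at h1
    have := Fintype.ofFinite Z
    have h3 : 2 < Nat.card Z := by
      rw [Nat.card_eq_fintype_card, Fintype.two_lt_card_iff]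
      exact ⟨1, ⟨t, ht⟩, ⟨c n t, show _ = _ by rw [← map_mul, ht, map_one]⟩,
        fun e => ht1 (congrArg Subtype.val e).symm, fun e => ht1 (by simpa using (congrArg Subtype.val e).symm),
        fun e => hn (congrArg Subtype.val e).symm⟩
    obtain ⟨k, hk⟩ := IsPGroup.iff_card.1 (p2.to_subgroup Z)
    rw [hk] at h1 h3 ⊢
    have : k ≤ 2 := (Nat.pow_le_pow_iff_right one_lt_two).1 h1
    interval_cases k <;> omega
  have := klein_of_sq h4 fun x => Subtype.ext x.2
  have tri : ∀ x y z : (S : Subgroup G), x * x = 1 → y * y = 1 → z * z = 1 → x ≠ 1 → y ≠ 1 → x ≠ y → z ≠ 1 →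
      z ≠ x → z ≠ y → z = x * y := fun x y z hx hy hz a b d e f g =>
    congrArg Subtype.val (IsKleinFour.eq_mul_of_ne_all (G := Z) (x := ⟨x, hx⟩) (y := ⟨y, hy⟩) (z := ⟨z, hz⟩)
      (fun h => a (congrArg Subtype.val h)) (fun h => b (congrArg Subtype.val h))
      (fun h => d (congrArg Subtype.val h)) (fun h => e (congrArg Subtype.val h))
      (fun h => f (congrArg Subtype.val h)) (fun h => g (congrArg Subtype.val h)))
  have it : ∀ (ψ : MulAut (S : Subgroup G)) (j : ℕ) x, ψ.toMonoidHom^[j] x = (ψ ^ j) x := fun ψ j => by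
    induction j with
    | zero => exact fun _ => rfl
    | succ j ih => intro x; rw [Function.iterate_succ_apply, ih, pow_succ]; rfl
  obtain ⟨n, hn, h3⟩ : ∃ n : N, c n t ≠ t ∧ ∀ x, c n (c n (c n x)) = x := by
    obtain ⟨k, r, hr, e⟩ := Nat.exists_eq_pow_mul_and_not_dvd (orderOf_pos (c n)).ne' 3 (by decide)
    obtain ⟨h5, h6⟩ := four_cyc tri (odd n) ht hn ht
    have h7 : c (n ^ r) t ≠ t := by
      rw [map_pow, ← Nat.mod_add_div r 3, pow_add, MulAut.mul_apply, ← it (c n) (3 * _), Function.iterate_mul,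
        Function.iterate_fixed (f := (c n).toMonoidHom^[3]) h5]
      rcases (by omega : r % 3 = 1 ∨ r % 3 = 2) with h | h <;> rw [h]
      exacts [hn, (h6 ht1).2.1]
    exact ⟨n ^ r, h7, no9 p2 cZ h4 (c (n ^ r)).toMonoidHom (fun x hx => (four_cyc tri (odd _) ht h7 hx).1) (k := k)
      fun x => by rw [it, map_pow, ← pow_mul, mul_comm, ← e, pow_orderOf_eq_one]; rfl⟩
  obtain ⟨k, hk, z, l, h⟩ := exists_hyp (ρ := (c n).toMonoidHom) (q := 4) p2 (c n).injective h4 (by decide) h3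
    fun u v hu hv hu1 hv1 => by
      rcases ((four_cyc tri (odd n) ht hn hu).2 hu1).2.2 v hv hv1 with rfl | rfl | rfl
      exacts [⟨0, rfl⟩, ⟨1, rfl⟩, ⟨2, rfl⟩]
  obtain rfl : k = 2 := (Nat.pow_right_injective le_rfl (hk.symm : 2 ^ k = 2 ^ 2))
  have hF := GaloisField.card 2 2 two_ne_zero
  have hn' : ¬ Ab (⊤ : Subgroup (S : Subgroup G)) := fun e => hn0 ⟨⟨fun a b => e a trivial b trivial⟩⟩
  have hZ : (Z.map (S : Subgroup G).subtype).subgroupOf S = Z :=
    comap_map_eq_self_of_injective (subtype_injective _) _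
  refine ⟨_, se_of_emb hG (W := Z.map (S : Subgroup G).subtype) (map_subtype_le _) (ρ := c n) ?_ (n := n)
    fun x => rfl⟩
  rw [hZ]
  exact ⟨⟨hcard, h4, fun _ => Iff.rfl, cZ, fun s => h.mem_Z.1 (h.sq_Z hn' s), h3,
    fun B hB x hx => h.fpf hB (i := 1) (by rw [hF]; decide) hx,
    fun u hu hu1 v hv hv1 => ((four_cyc tri (odd n) ht hn hu).2 hu1).2.2 v hv hv1,
    fun e => hn0 ⟨⟨e⟩⟩⟩, subtype_injective _, by simpa only [range_subtype] using H8.isSylowIn_top S⟩

end Cfsg.Agent.WA
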