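import Cfsg.Agent.WA.LyChar
import Cfsg.Agent.WA.Char3
import Cfsg.Agent.BS.HigS
import Cfsg.Agent.H8.Dich3
import Cfsg.Agent.WA.LyR4

/- LINKED interface; the statements, proved in the imported files:

-- Lyons: nonabelian Sylow 2-subgroup of order 64 with three central involutions 
theorem lyons {G : Type*} [Group G] [Finite G] [IsSimpleGroup G] (hG : ¬ IsMulCommutative G) (S : Sylow 2 G)
    (hcard : Nat.card (S : Subgroup G) = 64) (hn : ¬ IsMulCommutative (S : Subgroup G))
    (hΩ : ∀ t ∈ (S : Subgroup G), t * t = 1 → ∀ s ∈ (S : Subgroup G), s * t = t * s) (h2 : PRankLE 2 2 G) :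
    ∃ M : Subgroup G, IsStronglyEmbedded M
-/
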