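import Cfsg.Agent.WA.RwDef
import Cfsg.Agent.WA.Rw0a
import Cfsg.Agent.WA.Rw0b

/- LINKED interface; the statements, proved in the imported files:

variable {G : Type u} [Group G] [Finite G] {T W D Z T' W' D' Z' U X Y K : Subgroup G} {z z' s t x w v d c : G}
-- ### inclusions, normality 
theorem Fr.two (h : Fr T W D Z z) : IsPGroup 2 T
theorem Fr.zZ (h : Fr T W D Z z) : z ∈ Z
theorem Fr.ZD (h : Fr T W D Z z) : Z ≤ D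
theorem Fr.DW (h : Fr T W D Z z) : D ≤ W
theorem Fr.WT (h : Fr T W D Z z) : W ≤ T
theorem Fr.WC (h : Fr T W D Z z) : W ≤ 𝐂(D)
theorem Fr.nW (h : Fr T W D Z z) : T ≤ 𝐍(W)
theorem Fr.nD (h : Fr T W D Z z) : T ≤ 𝐍(D)
theorem Fr.nZ (h : Fr T W D Z z) : T ≤ 𝐍(Z)
theorem Fr.cz (h : Fr T W D Z z) (ht : t ∈ T) : t * z = z * t
theorem Fr.wd (h : Fr T W D Z z) (hw : w ∈ W) (hd : d ∈ D) : w * d = d * w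
theorem Fr.memW (h : Fr T W D Z z) (ht : t ∈ T) (hc : ∀ d ∈ D, t * d = d * t) : t ∈ W
theorem Fr.cen (h : Fr T W D Z z) (hc : c ∈ T) (hcc : ∀ t ∈ T, t * c = c * t) : c = 1 ∨ c = z
theorem Fr.commZ (h : Fr T W D Z z) (ht : t ∈ T) (hc : c ∈ Z) : ⁅t, c⁆ = 1 ∨ ⁅t, c⁆ = z
theorem Fr.commD (h : Fr T W D Z z) (ht : t ∈ T) (hd : d ∈ D) : ⁅t, d⁆ ∈ Z
theorem Fr.memZ (h : Fr T W D Z z) (hc : c ∈ T) (hcc : ∀ t ∈ T, ⁅t, c⁆ = 1 ∨ ⁅t, c⁆ = z) : c ∈ Z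
theorem Fr.memD (h : Fr T W D Z z) (hd : d ∈ T) (hcc : ∀ t ∈ T, ⁅t, d⁆ ∈ Z) : d ∈ D
-- normal subgroups of `T` 
theorem Fr.z_mem (h : Fr T W D Z z) (hU : U ≤ T) (hn : T ≤ 𝐍(U)) (hc : U ≠ ⊥) : z ∈ U
theorem Fr.Z_le (h : Fr T W D Z z) (hU : U ≤ T) (hn : T ≤ 𝐍(U)) (hc : 2 < #|U|) : Z ≤ U
theorem Fr.D_le (h : Fr T W D Z z) (hU : U ≤ T) (hn : T ≤ 𝐍(U)) (hc : 4 < #|U|) : D ≤ U
theorem Fr.uniq (h : Fr T W D Z z) (h' : Fr T W' D' Z' z') : W = W' ∧ D = D' ∧ Z = Z' ∧ z = z'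
theorem Fr.exists_cj (h : Fr T W D Z z) (h' : Fr T' W' D' Z' z') :
    ∃ g : G, H8.cj g T = T' ∧ H8.cj g W = W' ∧ H8.cj g D = D' ∧ H8.cj g Z = Z' ∧ g * z * g⁻¹ = z'
-- ### `W` 
theorem Fr.commW (h : Fr T W D Z z) (hw : w ∈ W) (hv : v ∈ W) : ⁅w, v⁆ ∈ D
theorem Fr.dd (h : Fr T W D Z z) (hU : U ≤ W) (hc : 2 ^ 8 ≤ #|U|) (hY : ∀ u ∈ U, u * u ∈ Y) : D ≤ Y
theorem Fr.der (h : Fr T W D Z z) : ⁅W, W⁆ = D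
theorem Fr.sqD (h : Fr T W D Z z) (hd : d ∈ D) : d * d = 1
theorem Fr.NW_le (h : Fr T W D Z z) : 𝐍(W) ≤ 𝐍(D)
-- the quadratic map `w ↦ w²` has the commutator as polar form 
theorem Fr.sq_mul (h : Fr T W D Z z) (hw : w ∈ W) (hv : v ∈ W) : w * v * (w * v) = w * w * (v * v) * ⁅w, v⁆
theorem Fr.comm_mul (h : Fr T W D Z z) (hw : w ∈ W) (hv : v ∈ W) (hx : x ∈ W) : ⁅w, v * x⁆ = ⁅w, v⁆ * ⁅w, x⁆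
theorem Fr.comm_symm (h : Fr T W D Z z) (hw : w ∈ W) (hv : v ∈ W) : ⁅w, v⁆ = ⁅v, w⁆
theorem Fr.card_cent (h : Fr T W D Z z) (hw : w ∈ W) : 2 ^ 8 ≤ #|(W ⊓ 𝐂[w] : Subgroup G)|
-- singular vectors: three dimensions on which squares and commutators take two values modulo `Y` 
theorem Fr.singular (h : Fr T W D Z z) {P : Subgroup G} (hD : D ≤ P) (hP : P ≤ U) (hU : U ≤ W) (hc : 8 * #|P| ≤ #|U|)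
    (hY : Y ≤ D) (hd : d ∈ D) (hs : ∀ u ∈ U, u * u ∈ Y ∨ u * u * d ∈ Y) : ∃ u ∈ U, u ∉ P ∧ u * u ∈ Y
-- ### `W / D` is the regular module of `T / W` 
theorem Fr.cv1 (h : Fr T W D Z z) (ht : t ∈ T) (hn : t ∉ W) (h2 : t * t ∈ W) :
    #|(W ⊓ cmod D {t} : Subgroup G)| = 2 ^ 7
theorem Fr.cv1_mem (h : Fr T W D Z z) (ht : t ∈ T) (h2 : t * t ∈ W) (hw : w ∈ W) : ⁅t, w⁆ ∈ W ⊓ cmod D {t}
theorem Fr.cv1_ex (h : Fr T W D Z z) (ht : t ∈ T) (hn : t ∉ W) (h2 : t * t ∈ W) (hw : w ∈ W) (hc : ⁅t, w⁆ ∈ D) :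
    ∃ v ∈ W, ∃ d ∈ D, w = ⁅t, v⁆ * d
theorem Fr.cv2 (h : Fr T W D Z z) (h1 : W ≤ X) (h2 : X ≤ T) (hc : #|X| = 2 ^ 13) :
    #|(W ⊓ cmod D X : Subgroup G)| = 2 ^ 5
theorem Fr.cv3 (h : Fr T W D Z z) : #|(W ⊓ cmod D T : Subgroup G)| = 2 ^ 4
-- ### `T / W` is dihedral of order `8`; `T₁ = T ⊓ cmod ⟨z⟩ D`, `T₂ = T ⊓ C(Z)` give its four-groups 
theorem Fr.cT1 (h : Fr T W D Z z) : #|(T ⊓ cmod (zpowers z) D : Subgroup G)| = 2 ^ 13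
theorem Fr.cT2 (h : Fr T W D Z z) : #|(T ⊓ 𝐂(Z) : Subgroup G)| = 2 ^ 13
theorem Fr.cT12 (h : Fr T W D Z z) : #|(T ⊓ cmod (zpowers z) D ⊓ 𝐂(Z) : Subgroup G)| = 2 ^ 12
theorem Fr.WT1 (h : Fr T W D Z z) : W ≤ T ⊓ cmod (zpowers z) D
theorem Fr.WT2 (h : Fr T W D Z z) : W ≤ T ⊓ 𝐂(Z)
theorem Fr.sqT1 (h : Fr T W D Z z) (ht : t ∈ T ⊓ cmod (zpowers z) D) : t * t ∈ W
theorem Fr.sqT2 (h : Fr T W D Z z) (ht : t ∈ T ⊓ 𝐂(Z)) : t * t ∈ W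
theorem Fr.of_sq (h : Fr T W D Z z) (ht : t ∈ T) (h2 : t * t ∈ W) : t ∈ cmod (zpowers z) D ∨ t ∈ 𝐂(Z)
-- every subgroup of index `2` containing `W` misses an element with square in `D` 
theorem Fr.exists_sq (h : Fr T W D Z z) (h1 : W ≤ K) (h2 : ¬ T ≤ K) : ∃ x ∈ T, x ∉ K ∧ x * x ∈ D
-- ### `2`-subgroups of `C(D)` and `N(D)` 
theorem Fr.sylC (h : Fr T W D Z z) : IsSylowIn 2 W 𝐂(D)
theorem Fr.sylN (h : Fr T W D Z z) : IsSylowIn 2 T 𝐍(D)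
-- a `2`-subgroup of `C(D)` lies in the `W` of a frame with the same `D`, `Z`, `z` 
theorem Fr.exC (h : Fr T W D Z z) (hY : IsPGroup 2 Y) (hc : Y ≤ 𝐂(D)) : ∃ T₀ W₀, Fr T₀ W₀ D Z z ∧ Y ≤ W₀
-- a `2`-subgroup of `N(D)` lies in the `T` of a frame with the same `D` 
theorem Fr.exN (h : Fr T W D Z z) (hY : IsPGroup 2 Y) (hc : Y ≤ 𝐍(D)) :
    ∃ T₀ W₀ Z₀ z₀, Fr T₀ W₀ D Z₀ z₀ ∧ Y ≤ T₀
theorem Fr.idx8 (h : Fr T W D Z z) (hY : IsPGroup 2 Y) (hc : Y ≤ 𝐍(D)) :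
    #|Y| ≤ 8 * #|(Y ⊓ 𝐂(D) : Subgroup G)|
theorem Fr.f2 (h : Fr T W D Z z) (h' : Fr T' W' D' Z' z') (hY : IsPGroup 2 Y) (h1 : Y ≤ 𝐂(D)) (h2 : Y ≤ 𝐂(D'))
    (hc : 2 ^ 8 ≤ #|Y|) : D = D'
-- `N(W)` controls fusion in `D` 
theorem Fr.fus (h : Fr T W D Z z) (hd : d ∈ D) {g : G} (hg : g * d * g⁻¹ ∈ D) :
    ∃ n ∈ 𝐍(W), n * d * n⁻¹ = g * d * g⁻¹
-- Lemma A 
theorem Fr.lemA (h : Fr T W D Z z) (h' : Fr T' W' D' Z' z') (h1 : D' ≤ 𝐂(D)) (hc : 4 ≤ #|(D ⊓ D' : Subgroup G)|) :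
    D = D'
-- a large subgroup of `W` normalizes no other conjugate of `D` 
theorem Fr.big (h : Fr T W D Z z) (h' : Fr T' W' D' Z' z') (hU : U ≤ W) (hn : U ≤ 𝐍(D')) (hc : 2 ^ 10 ≤ #|U|) :
    D = D'
-/
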