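import Cfsg.Agent.WA.IRw0
import Cfsg.Agent.WA.GMain
import Cfsg.Agent.WA.Rw2

/- LINKED interface; the statements, proved in the imported files:

variable {G : Type u} [Group G] [Finite G] {T W D Z : Subgroup G} {z : G}
theorem Fr.p2 (h : Fr T W D Z z) : (𝐍(W)).subgroupOf 𝐍(D) ⊔ Cfsg.oddCore ↥𝐍(D) = ⊤
-/
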