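import Cfsg.Agent.WA.IRw0
import Cfsg.Agent.WA.Rw3

/- LINKED interface; the statements, proved in the imported files:

variable {G : Type u} [Group G] [Finite G] {T W D Z K : Subgroup G} {z : G}
theorem Fr.p3 (h : Fr T W D Z z) (h2 : ∀ H : Subgroup G, H.index ≠ 2) (hn : 𝐍(D) ≤ 𝐍(K)) (hC : 𝐂(D) ≤ K)
    (hi : #|(T ⊓ K : Subgroup G)| = 2 ^ 13) : ∃ g x : G, x ∈ H8.cj g D ∧ x ∈ T ∧ x ∉ K
-/
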