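import Cfsg.Agent.WA.ISkFa
import Cfsg.Agent.WA.Sk0a

/- LINKED interface; the statements, proved in the imported files:

variable {F : Type*} [Field F] [Finite F] {θ : RingAut F} {G : Type*} [Group G] [Finite G]
-- ### Sk0a 
theorem Fr.mem_E (f : Fr θ G) {g : G} : g ∈ f.E ↔ ∃ y, g = f.j 0 y ∨ g = f.t * f.j 0 y
theorem Fr.mem_T (f : Fr θ G) {g : G} : g ∈ f.T ↔ ∃ x y, g = f.j x y ∨ g = f.t * f.j x y
theorem Fr.t_j (f : Fr θ G) (x y : F) : f.t * f.j x y = f.j x y * f.t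
theorem Fr.t_κ (f : Fr θ G) (k : Fˣ) : f.t * f.κ k = f.κ k * f.t
theorem Fr.j_sq (f : Fr θ G) (x y : F) : f.j x y * f.j x y = f.j 0 (ss θ x)
theorem Fr.j_cm (f : Fr θ G) (x y x' y' : F) :
    f.j x y * f.j x' y' * (f.j x y)⁻¹ * (f.j x' y')⁻¹ = f.j 0 (bb θ x x')
theorem Fr.z_add (f : Fr θ G) (y y' : F) : f.j 0 (y + y') = f.j 0 y * f.j 0 y'
theorem Fr.z_sq (f : Fr θ G) (y : F) : f.j 0 y * f.j 0 y = 1
theorem Fr.z_inv (f : Fr θ G) (y : F) : (f.j 0 y)⁻¹ = f.j 0 y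
theorem Fr.z_comm (f : Fr θ G) (y x' y' : F) : f.j 0 y * f.j x' y' = f.j x' y' * f.j 0 y
theorem Fr.z_inj (f : Fr θ G) {y y' : F} (h : f.j 0 y = f.j 0 y') : y = y'
theorem Fr.z_eq_one (f : Fr θ G) {y : F} : f.j 0 y = 1 ↔ y = 0
theorem Fr.j_mem_Z (f : Fr θ G) {x y : F} : f.j x y ∈ f.Z ↔ x = 0
theorem Fr.tj_ne (f : Fr θ G) (x y x' y' : F) : f.t * f.j x y ≠ f.j x' y'
theorem Fr.Z_le_U (f : Fr θ G) : f.Z ≤ f.U
theorem Fr.Z_le_E (f : Fr θ G) : f.Z ≤ f.E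
theorem Fr.U_le_T (f : Fr θ G) : f.U ≤ f.T
theorem Fr.E_le_T (f : Fr θ G) : f.E ≤ f.T
theorem Fr.t_mem_E (f : Fr θ G) : f.t ∈ f.E
theorem Fr.T_comm (f : Fr θ G) {g e : G} (hg : g ∈ f.T) (he : e ∈ f.E) : g * e = e * g
theorem Fr.κ_one (f : Fr θ G) : f.κ 1 ∈ f.O
theorem Fr.κ_norm (f : Fr θ G) (k : Fˣ) : f.κ k ∈ normalizer (f.U : Set G) ∧ f.κ k ∈ normalizer (f.Z : Set G) ∧
    f.κ k ∈ normalizer (f.E : Set G) ∧ f.κ k ∈ normalizer (f.T : Set G)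
theorem Fr.O_comm (f : Fr θ G) {o g : G} (ho : o ∈ f.O) (hg : g ∈ f.T) : o * g = g * o
theorem Fr.card_Z (f : Fr θ G) : Nat.card f.Z = f.q
theorem Fr.card_U (f : Fr θ G) : Nat.card f.U = f.q ^ 2
theorem Fr.card_E (f : Fr θ G) : Nat.card f.E = 2 * f.q
theorem Fr.card_T (f : Fr θ G) : Nat.card f.T = 2 * f.q ^ 2
theorem Fr.q_pow (f : Fr θ G) : ∃ n, 3 ≤ n ∧ f.q = 2 ^ n
theorem Fr.pg_T (f : Fr θ G) : IsPGroup 2 f.T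
theorem Fr.T_four (f : Fr θ G) {g : G} (hg : g ∈ f.T) : g * g ∈ f.Z
theorem Fr.inv_T (f : Fr θ G) {g : G} (hg : g ∈ f.T) (h : g * g = 1) : g ∈ f.E
theorem Fr.NT (f : Fr θ G) : normalizer (f.T : Set G) ≤ normalizer (f.Z : Set G) ⊓ normalizer (f.E : Set G)
theorem Fr.NU (f : Fr θ G) : normalizer (f.U : Set G) ≤ normalizer (f.Z : Set G)
theorem Fr.ti' (f : Fr θ G) {g z : G} (hg : g * f.t = f.t * g) (hz : z ∈ f.Z) (h1 : z ≠ 1) (h : g * z * g⁻¹ ∈ f.U) :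
    g ∈ normalizer (f.U : Set G)
theorem Fr.mem_T_of_two (f : Fr θ G) {g : G} (hg : g * f.t = f.t * g) (hz : ∀ y, g * f.j 0 y = f.j 0 y * g)
    (h2 : ∃ k, g ^ 2 ^ k = 1) : g ∈ f.T
theorem Fr.mem_O_of_odd (f : Fr θ G) {g : G} (hg : g * f.t = f.t * g) (hz : ∀ y, g * f.j 0 y = f.j 0 y * g)
    (h2 : Odd (orderOf g)) : g ∈ f.O
-- `2`-elements of `N(T)` act trivially on `Z` and `T / E` 
theorem Fr.two_actT (f : Fr θ G) {g : G} (hg : g ∈ normalizer (f.T : Set G)) (h2 : ∃ k, g ^ 2 ^ k = 1) :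
    (∀ y, g * f.j 0 y = f.j 0 y * g) ∧
      ∀ x y, ∃ y', g * f.j x y * g⁻¹ = f.j x y' ∨ g * f.j x y * g⁻¹ = f.t * f.j x y'
-- `2`-elements of `N(U)` act trivially on `Z` and `U / Z` 
theorem Fr.two_actU (f : Fr θ G) {g : G} (hg : g ∈ normalizer (f.U : Set G)) (h2 : ∃ k, g ^ 2 ^ k = 1) :
    (∀ y, g * f.j 0 y = f.j 0 y * g) ∧ ∀ x y, ∃ y', g * f.j x y * g⁻¹ = f.j x y'
theorem Fr.sylT (f : Fr θ G) : IsSylowIn 2 f.T (centralizer {f.t})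
theorem Fr.cen_t (f : Fr θ G) {X : Subgroup G} (hX : IsPGroup 2 X) (hT : f.T ≤ X) {g : G} (hg : g ∈ X)
    (h : g * f.t = f.t * g) : g ∈ f.T
theorem Fr.w_not (f : Fr θ G) : f.w ∉ normalizer (f.U : Set G)
theorem Fr.A_inf_T (f : Fr θ G) {g : G} (hA : g ∈ f.A) (hT : g ∈ f.T) : g ∈ f.U
theorem Fr.TC_conj (f : Fr θ G) {s : G} (hs : f.TC s) (g : G) : f.TC (g * s * g⁻¹)
theorem Fr.TC_iff (f : Fr θ G) {s : G} : f.TC s ↔ ∃ g, g * f.t * g⁻¹ = s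
theorem Fr.conj_T (f : Fr θ G) {d : G} (hd : f.TC d) {X : Subgroup G} (hX : IsPGroup 2 X)
    (hc : X ≤ centralizer {d}) : ∃ g, g * d * g⁻¹ = f.t ∧ cj g X ≤ f.T
theorem Fr.nonsq (f : Fr θ G) {s : G} (hs : f.TC s) (x : G) : x * x ≠ s
theorem Fr.not_TC (f : Fr θ G) {z : G} (hz : z ∈ f.Z) : ¬ f.TC z
theorem Fr.card_le (f : Fr θ G) {d : G} (hd : f.TC d) {X : Subgroup G} (hX : IsPGroup 2 X)
    (hc : X ≤ centralizer {d}) : Nat.card X ≤ 2 * f.q ^ 2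
theorem Fr.rank_le (f : Fr θ G) {d : G} (hd : f.TC d) {X : Subgroup G} (hX : ∀ x ∈ X, x * x = 1)
    (hc : X ≤ centralizer {d}) : Nat.card X ≤ 2 * f.q
theorem Fr.four_of_comm (f : Fr θ G) {d : G} (hd : f.TC d) {x : G} (h2 : ∃ k, x ^ 2 ^ k = 1) (hc : x * d = d * x) :
    x ^ 4 = 1
theorem Fr.syl_of (f : Fr θ G) {X : Subgroup G} (hX : IsPGroup 2 X) (hT : f.T ≤ X)
    (h : ∀ g ∈ normalizer (X : Set G), ∃ x ∈ X, g * f.t * g⁻¹ = x * f.t * x⁻¹) : IsSylowIn 2 X ⊤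
-/
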