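import Cfsg.Agent.WA.ISk0a
import Cfsg.Agent.WA.Sk0b

/- LINKED interface; the statements, proved in the imported files:

variable {F : Type*} [Field F] [Finite F] {θ : RingAut F} {G : Type*} [Group G] [Finite G]
-- ### Sk0b 
theorem Fr.O2_eq (f : Fr θ G) : pPrimeCore 2 G = ⊥
theorem Fr.TC_tz (f : Fr θ G) (y : F) : f.TC (f.t * f.j 0 y)
theorem Fr.NE_le (f : Fr θ G) : normalizer (f.E : Set G) ≤ normalizer (f.Z : Set G)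
theorem Fr.exists_g (f : Fr θ G) : ∃ g ∈ normalizer (f.T : Set G), g ∉ f.T ∧ g * g ∈ f.T
theorem Fr.eqZ (f : Fr θ G) {d a b : G} (hd : f.TC d) (ha : cj a f.Z ≤ centralizer {d})
    (hb : cj b f.Z ≤ centralizer {d}) (hc : ∀ x ∈ cj a f.Z, ∀ y ∈ cj b f.Z, x * y = y * x) :
    cj a f.Z = cj b f.Z
theorem Fr.cm_mem_L (f : Fr θ G) (g h : G) : g * h * g⁻¹ * h⁻¹ ∈ f.L
theorem Fr.sq_mem_L (f : Fr θ G) (g : G) : g * g ∈ f.L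
-- Thompson transfer 
theorem Fr.not_mem_L (f : Fr θ G) {R R₀ : Subgroup G} (hR : IsSylowIn 2 R ⊤) (hle : R₀ ≤ R)
    (hi : R₀.relIndex R = 2) (h : ∀ s ∈ R₀, ¬ f.TC s) : f.t ∉ f.L
theorem Fr.syl_L (f : Fr θ G) (ht : f.t ∉ f.L) {R P : Subgroup G} (hR : IsSylowIn 2 R ⊤) (hle : P ≤ R)
    (hi : P.relIndex R = 2) (hL : P ≤ f.L) : IsSylowIn 2 P f.L
theorem Fr.con_of_sc (f : Fr θ G) {X : Subgroup G} (h : GS.SC X f.L) (h0 : X ≠ ⊥) : f.Con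
theorem Fr.con_of_wc (f : Fr θ G) {S : Subgroup G} (hS : IsSylowIn 2 S ⊤) (hZ : f.Z ≤ S)
    (hc : ∀ s ∈ S, ∀ z ∈ f.Z, s * z = z * s) (hw : ∀ g, cj g f.Z ≤ S → cj g f.Z = f.Z) : f.Con
theorem Fr.con_of_AB (f : Fr θ G) (ht : f.t ∉ f.L) {P A B : Subgroup G} (hP : IsSylowIn 2 P f.L) (hA : A ≤ P)
    (hB : B ≤ P) (hA2 : ∀ a ∈ A, a * a = 1) (hB2 : ∀ b ∈ B, b * b = 1) (hAB : ∀ s ∈ P, ∃ a ∈ A, ∃ b ∈ B, s = a * b)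
    (hC : ∀ a ∈ A, a ∉ B → ∀ s ∈ P, s * a = a * s → s ∈ A) (hi : 2 < A.relIndex P) : f.Con
-/
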