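import Cfsg.Agent.WA.SkAd
import Cfsg.Agent.WA.Sk0c

/- LINKED interface; the statements, proved in the imported files:

variable {F : Type*} [Field F] [Finite F] {θ : RingAut F} {G : Type*} [Group G] [Finite G]
-- ### Sk0c (general lemmas) 
-- failure of weak closure of a central elementary abelian subgroup 
theorem wc {S P Z : Subgroup G} (hS : IsSylowIn 2 S ⊤) (hZ : Z ≤ P) (hP : P ≤ S) (h2 : ∀ z ∈ Z, z * z = 1)
    (hc : ∀ s ∈ S, ∀ z ∈ Z, s * z = z * s) (hN : normalizer (S : Set G) ≤ normalizer (Z : Set G))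
    (hcm : ∀ s ∈ S, ∀ p ∈ P, s * p * s⁻¹ * p⁻¹ ∈ Z) {g : G} (hg : cj g Z ≤ S) (hne : cj g Z ≠ Z) :
    ∃ g, cj g Z ≤ S ∧ cj g Z ≠ Z ∧ (P ≤ centralizer (cj g Z : Set G) ∨
      (Nat.card P * Nat.card (Z ⊓ cj g Z : Subgroup G) ≤
          Nat.card (P ⊓ centralizer (cj g Z : Set G) : Subgroup G) * Nat.card Z ∧
        ∀ r ∈ S, r ∈ centralizer (cj g Z : Set G) → r * r ∈ Z → r * r ∈ cj g Z))
-/
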