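import Cfsg.Agent.WA.ISkFa
import Cfsg.Agent.WA.SkFb

/- LINKED interface; the statements, proved in the imported files:

variable {F : Type*} [Field F] [Finite F] {θ : RingAut F}
-- ### SkFb 
theorem Fd.lemW (h : Fd θ) {g : F → F → F} (h1 : ∀ x x' y, g (x + x') y = g x y + g x' y)
    (h2 : ∀ x y y', g x (y + y') = g x y + g x y')
    (he : ∀ (k : Fˣ) x y, g (k * x) (ss θ k * y) = ss θ k * g x y) : ∃ a, ∀ x y, g x y = a * θ.symm (x * y)
theorem Fd.alt0 (h : Fd θ) {g : F → F → F} (h1 : ∀ x x' y, g (x + x') y = g x y + g x' y)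
    (h2 : ∀ x y y', g x (y + y') = g x y + g x y')
    (he : ∀ (k : Fˣ) x y, g (ss θ k * x) (ss θ k * y) = ss θ k * g x y) (h0 : ∀ x, g x x = 0) (x y : F) :
    g x y = 0
theorem Fd.form0 (h : Fd θ) {g : F → F → F} (h1 : ∀ x x' y, g (x + x') y = g x y + g x' y)
    (h2 : ∀ x y y', g x (y + y') = g x y + g x y') (he : ∀ (k : Fˣ) x y, g (k * x) (k * y) = g x y) (x y : F) :
    g x y = 0
theorem Fd.autB (h : Fd θ) (h8 : Nat.card F ≠ 8) {α β : F → F} (hα : ∀ x y, α (x + y) = α x + α y)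
    (hβ : ∀ x y, β (x + y) = β x + β y) (hs : ∀ x y, bb θ (α x) (α y) = β (bb θ x y)) (h2 : ∀ x, α (α x) = x)
    (x : F) : α x = x
-- for `a ≠ 0` the nonzero vectors `y` with `bf y ·` not onto form one torus orbit 
theorem Fd.rad (h : Fd θ) {a : F} (ha : a ≠ 0) : ∃ w₀ : F, ∀ e u w : F, e = 0 ∨ e = 1 →
    ((¬ ∀ z, ∃ e' u' w', (e' = 0 ∨ e' = 1) ∧ bf θ a e u w e' u' w' = z) ↔
      (e = 0 ∧ u = 0 ∧ w = 0) ∨ (e = 1 ∧ u ≠ 0 ∧ w = ss θ u * w₀))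
-/
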