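import Cfsg.Agent.WA.ISk0b
import Cfsg.Agent.WA.ISkFb
import Cfsg.Agent.WA.Sk1a

/- LINKED interface; the statements, proved in the imported files:

variable {F : Type*} [Field F] [Finite F] {θ : RingAut F} {G : Type*} [Group G] [Finite G]
-- ### Sk1 
theorem Fr.exists_one (f : Fr θ G) : ∃ w : One θ G, w.toFr = f
-/
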