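import Cfsg.Agent.WA.ISk0b
import Cfsg.Agent.WA.Sk2a

/- LINKED interface; the statements, proved in the imported files:

variable {F : Type*} [Field F] [Finite F] {θ : RingAut F} {G : Type*} [Group G] [Finite G]
-- ### Sk2a 
theorem One.T_le (w : One θ G) : w.T ≤ w.S
theorem One.mem_T_iff (w : One θ G) {s : G} : s ∈ w.T ↔ s ∈ w.S ∧ w.xx s = 0
theorem One.mem_U_iff (w : One θ G) {s : G} : s ∈ w.U ↔ s ∈ w.S ∧ w.ee s = 0 ∧ w.xx s = 0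
theorem One.mem_E_iff (w : One θ G) {s : G} : s ∈ w.E ↔ s ∈ w.S ∧ w.uu s = 0 ∧ w.xx s = 0
theorem One.mem_P1 (w : One θ G) {s : G} : s ∈ w.P1 ↔ s ∈ w.S ∧ w.ee s = 0
theorem One.mem_W1 (w : One θ G) {s : G} : s ∈ w.W1 ↔ s ∈ w.S ∧ w.ee s = 0 ∧ w.uu s = 0
theorem One.P1_le (w : One θ G) : w.P1 ≤ w.S
theorem One.W1_le (w : One θ G) : w.W1 ≤ w.P1
theorem One.Z_le_W1 (w : One θ G) : w.Z ≤ w.W1
theorem One.U_le_P1 (w : One θ G) : w.U ≤ w.P1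
theorem One.S_comm_Z (w : One θ G) {s : G} (hs : s ∈ w.S) (y : F) : s * w.j 0 y = w.j 0 y * s
theorem One.eq_of_co (w : One θ G) {s r : G} (hs : s ∈ w.S) (hr : r ∈ w.S) (h1 : w.ee s = w.ee r)
    (h2 : w.uu s = w.uu r) (h3 : w.xx s = w.xx r) : ∃ y, s = r * w.j 0 y
theorem One.co_mul_z (w : One θ G) {s : G} (hs : s ∈ w.S) (y : F) :
    w.ee (s * w.j 0 y) = w.ee s ∧ w.uu (s * w.j 0 y) = w.uu s ∧ w.xx (s * w.j 0 y) = w.xx s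
theorem One.co_conj (w : One θ G) {s r : G} (hs : s ∈ w.S) (hr : r ∈ w.S) :
    w.ee (s * r * s⁻¹) = w.ee r ∧ w.uu (s * r * s⁻¹) = w.uu r ∧ w.xx (s * r * s⁻¹) = w.xx r
theorem One.conj_eq (w : One θ G) {s r : G} (hs : s ∈ w.S) (hr : r ∈ w.S) :
    s * r * s⁻¹ = r * w.j 0 (bf θ w.a (w.ee s) (w.uu s) (w.xx s) (w.ee r) (w.uu r) (w.xx r))
theorem One.comm_iff (w : One θ G) {s r : G} (hs : s ∈ w.S) (hr : r ∈ w.S) :
    s * r = r * s ↔ bf θ w.a (w.ee s) (w.uu s) (w.xx s) (w.ee r) (w.uu r) (w.xx r) = 0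
theorem One.card_S (w : One θ G) : Nat.card w.S = 2 * w.q ^ 3
theorem One.card_P1 (w : One θ G) : Nat.card w.P1 = w.q ^ 3
theorem One.card_W1 (w : One θ G) : Nat.card w.W1 = w.q ^ 2
theorem One.cen_S (w : One θ G) {s : G} (hs : s ∈ w.S) (h : ∀ r ∈ w.S, s * r = r * s) : s ∈ w.Z
theorem One.NS_Z (w : One θ G) : normalizer (w.S : Set G) ≤ normalizer (w.Z : Set G)
theorem One.NS_O (w : One θ G) : normalizer (w.S : Set G) ≤ normalizer (w.O : Set G)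
theorem One.κ_S (w : One θ G) (k : Fˣ) : w.κ k ∈ normalizer (w.S : Set G) ∧ w.κ k ∈ normalizer (w.P1 : Set G) ∧
    w.κ k ∈ normalizer (w.W1 : Set G)
theorem One.tz_conj (w : One θ G) (y : F) : ∃ s ∈ w.W1, w.xx s = y ∧ s * w.t * s⁻¹ = w.t * w.j 0 y
theorem One.NE_dec (w : One θ G) {g : G} {y : F} (hg : g * w.t * g⁻¹ = w.t * w.j 0 y)
    (hz : ∀ y, g * w.j 0 y = w.j 0 y * g) : ∃ s ∈ w.S, ∃ o ∈ w.O, g = s * o
theorem One.mem_S_of (w : One θ G) {X : Subgroup G} (hX : IsPGroup 2 X) (hS : w.S ≤ X) {g : G} (hg : g ∈ X) {y : F}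
    (h : g * w.t * g⁻¹ = w.t * w.j 0 y) : g ∈ w.S
-- the action of `g ∈ N(S) ⊓ N(P₁) ⊓ N(W₁)` on `P₁ / W₁`, `W₁ / Z` and `Z` 
theorem One.exists_act (w : One θ G) {g : G} (h1 : g ∈ normalizer (w.P1 : Set G)) (h2 : g ∈ normalizer (w.W1 : Set G))
    (h3 : g ∈ normalizer (w.Z : Set G)) : ∃ α γ β : F → F, (∀ x y, α (x + y) = α x + α y) ∧
      (∀ x y, γ (x + y) = γ x + γ y) ∧ (∀ x y, β (x + y) = β x + β y) ∧
      (∀ p ∈ w.P1, w.uu (g * p * g⁻¹) = α (w.uu p)) ∧ (∀ p ∈ w.W1, w.xx (g * p * g⁻¹) = γ (w.xx p)) ∧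
      ∀ y, g * w.j 0 y * g⁻¹ = w.j 0 (β y)
-/
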