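import Cfsg.Agent.WA.ISk2a
import Cfsg.Agent.WA.ISk0c
import Cfsg.Agent.WA.ISkFb
import Cfsg.Agent.WA.Sk2b

/- LINKED interface; the statements, proved in the imported files:

variable {F : Type*} [Field F] [Finite F] {θ : RingAut F} {G : Type*} [Group G] [Finite G]
-- ### Sk2b 
theorem One.con_or_mv (w : One θ G) : w.Con ∨ ∃ g, w.Mv g ∧ (w.c = 0 ∨ w.c = 1)
theorem One.Mv.exists_x {w : One θ G} {g : G} (h : w.Mv g) :
    ∃ x ∈ normalizer (w.S : Set G), x ∉ w.S ∧ x * x ∈ w.S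
-/
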