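import Cfsg.Agent.WA.ISk2b
import Cfsg.Agent.WA.Sk4a

/- LINKED interface; the statements, proved in the imported files:

variable {F : Type*} [Field F] [Finite F] {θ : RingAut F} {G : Type*} [Group G] [Finite G]
-- ### Sk4a 
theorem One.Mv.exists_bq {w : One θ G} {g : G} (h : w.Mv g) (hc : w.c = 1) : ∃ R, w.Bq R
theorem One.F1_le (w : One θ G) : w.F1 ≤ normalizer (w.P1 : Set G) ⊓ normalizer (w.U : Set G)
theorem One.N_F1 (w : One θ G) :
    normalizer (w.P1 : Set G) ⊓ normalizer (w.Z : Set G) ≤ normalizer (w.F1 : Set G)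
-- `W₁ = Z(P₁)` 
theorem One.mem_W1_iff (w : One θ G) (ha : w.a = 0) {s : G} (hs : s ∈ w.S) :
    s ∈ w.W1 ↔ s ∈ centralizer (w.P1 : Set G)
theorem One.NP_W1 (w : One θ G) (ha : w.a = 0) : normalizer (w.P1 : Set G) ≤ normalizer (w.W1 : Set G)
-- for `c = 1` an element acting trivially on `P₁ / W₁` lies in `F₁` 
theorem One.mem_F1_of (w : One θ G) (ha : w.a = 0) (hc : w.c = 1) {g : G} (h1 : g ∈ normalizer (w.P1 : Set G))
    (h3 : g ∈ normalizer (w.Z : Set G)) (h : ∀ p ∈ w.P1, w.uu (g * p * g⁻¹) = w.uu p) : g ∈ w.F1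
theorem One.Bq.cen_Z {w : One θ G} {R : Subgroup G} (h : w.Bq R) {r : G} (hr : r ∈ R) (y : F) :
    r * w.j 0 y = w.j 0 y * r
theorem One.Bq.NR {w : One θ G} {R : Subgroup G} (h : w.Bq R) :
    normalizer (R : Set G) ≤ normalizer (w.P1 : Set G) ⊓ normalizer (w.Z : Set G)
theorem One.Bq.N_CC {w : One θ G} {R : Subgroup G} (h : w.Bq R) :
    normalizer (R : Set G) ≤ normalizer (w.CC R : Set G)
theorem One.Bq.W1_le {w : One θ G} {R : Subgroup G} (h : w.Bq R) : w.W1 ≤ w.CC R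
theorem One.Bq.cen_t {w : One θ G} {R : Subgroup G} (h : w.Bq R) {c : G} (hc : c ∈ w.CC R)
    (h1 : c * w.t = w.t * c) : c ∈ w.Z
theorem One.Bq.two {w : One θ G} {R : Subgroup G} (h : w.Bq R) {c : G} (hc : c ∈ w.CC R) (h1 : c * c = 1) :
    c ∈ w.Z
theorem One.Bq.four {w : One θ G} {R : Subgroup G} (h : w.Bq R) {c : G} (hc : c ∈ w.CC R) (h1 : c ^ 4 = 1) :
    c ∈ w.W1
theorem One.Bq.con {w : One θ G} {R : Subgroup G} (h : w.Bq R) (hR : IsSylowIn 2 R ⊤) : w.Con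
theorem One.Bq.eight {w : One θ G} {R : Subgroup G} (h : w.Bq R) {y : G} (hy : y ∈ normalizer (R : Set G))
    (h1 : y ∉ R) (h2 : y * y ∈ R) : Nat.card F = 8
-/
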