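import Cfsg.Agent.WA.ISkS
import Cfsg.Agent.WA.ISkFb
import Cfsg.Agent.WA.SkE1

/- LINKED interface; the statements, proved in the imported files:

variable {F : Type*} [Field F] [Finite F] {θ : RingAut F} {G : Type*} [Group G] [Finite G] {K : Type*} [Group K]
-- ### SkE1 
-- an element of `C(t)` acting on `K` like an element of `A` 
theorem Hy.exists_aut (h : Hy θ G K) {g : G} (hg : g * h.t = h.t * g) :
    ∃ φ : K ≃* K, ∀ a : h.A, ∀ b : h.A, (b : G) = g * a * g⁻¹ → φ (h.π a) = h.π b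
theorem Hy.cen_of (h : Hy θ G K) {g : G} (hg : g ∈ normalizer (h.A : Set G))
    (h1 : ∀ a : h.A, ∀ b : h.A, (b : G) = g * a * g⁻¹ → h.π a = h.π b) : g ∈ centralizer (h.A : Set G)
theorem Hy.not_isolated (h : Hy θ G K) {T : Subgroup G} (hT : IsSylowIn 2 T ⊤) (ht : h.t ∈ T) :
    ∃ g, g * h.t * g⁻¹ ∈ T ∧ g * h.t * g⁻¹ ≠ h.t
-- `T₀ = U₀ R` is a Sylow `2`-subgroup of `C(t)` 
theorem Hy.exists_syl (h : Hy θ G K) : ∃ U₀ R : Subgroup G, IsPGroup 2 U₀ ∧ U₀ ≤ h.A ∧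
    (∀ a : h.A, (a : G) ∈ U₀ ↔ (∃ k, a ^ 2 ^ k = 1) ∧ ∃ x y, h.π a = h.j x y) ∧
    (∀ x y, ∃ a : h.A, (a : G) ∈ U₀ ∧ h.π a = h.j x y) ∧
    IsSylowIn 2 R (centralizer {h.t} ⊓ centralizer (h.A : Set G)) ∧ h.t ∈ R ∧
    IsSylowIn 2 (U₀ ⊔ R) (centralizer {h.t})
theorem Hy.t_not_mem (h : Hy θ G K) : h.t ∉ h.A
-/
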