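import Cfsg.Agent.WA.SkAd
import Cfsg.Agent.WA.SkFa

/- LINKED interface; the statements, proved in the imported files:

variable {F : Type*} [Field F] [Finite F] {θ : RingAut F}
-- ### SkFa 
theorem ss_eq_zero {x : F} : ss θ x = 0 ↔ x = 0
theorem ss_mul (x y : F) : ss θ (x * y) = ss θ x * ss θ y
theorem ss_add (x y : F) : ss θ (x + y) = ss θ x + ss θ y + bb θ x y
theorem ss_one : ss θ (1 : F) = 1
theorem bb_comm (x y : F) : bb θ x y = bb θ y x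
theorem bb_add (x y z : F) : bb θ x (y + z) = bb θ x y + bb θ x z
theorem bb_zero (x : F) : bb θ x 0 = 0
theorem bb_smul (k x y : F) : bb θ (k * x) (k * y) = ss θ k * bb θ x y
theorem Fd.add_self (h : Fd θ) (x : F) : x + x = 0
theorem Fd.bb_self (h : Fd θ) (x : F) : bb θ x x = 0
theorem Fd.ss_inj (h : Fd θ) : Function.Injective (ss θ)
theorem Fd.ss_surj (h : Fd θ) : Function.Surjective (ss θ)
theorem Fd.bb_eq_zero (h : Fd θ) {x y : F} : bb θ x y = 0 ↔ x = 0 ∨ y = 0 ∨ x = y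
theorem Fd.bb_ne_ss (h : Fd θ) {x : F} (hx : x ≠ 0) (y : F) : bb θ x y ≠ ss θ x
theorem Fd.bb_or (h : Fd θ) {x : F} (hx : x ≠ 0) (z : F) : ∃ y, z = bb θ x y ∨ z = bb θ x y + ss θ x
theorem Fd.bb_span (h : Fd θ) {W : AddSubgroup F} (hW : ∀ x y, bb θ x y ∈ W) : W = ⊤
-- `bb x` takes at least three nonzero values 
theorem Fd.bb_big (h : Fd θ) {x : F} (hx : x ≠ 0) (a b : F) : ∃ y, bb θ x y ≠ 0 ∧ bb θ x y ≠ a ∧ bb θ x y ≠ b
theorem Fd.exists_ne (h : Fd θ) (a b : F) : ∃ k : Fˣ, (k : F) ≠ a ∧ (k : F) ≠ b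
theorem Fd.card_pow (h : Fd θ) : ∃ n, 3 ≤ n ∧ Nat.card F = 2 ^ n
theorem Fd.fix_eq (h : Fd θ) {x : F} (hx : θ x = x) : x = 0 ∨ x = 1
-- an additive subgroup invariant under all `ss k` 
theorem Fd.irr (h : Fd θ) {W : AddSubgroup F} (hW : ∀ (k : Fˣ), ∀ x ∈ W, ss θ k * x ∈ W) {y : F} (hy : y ∈ W)
    (h0 : y ≠ 0) : W = ⊤
theorem Fd.lemT (h : Fd θ) {α β : F → F} (hα : ∀ x y, α (x + y) = α x + α y) (hβ : ∀ x y, β (x + y) = β x + β y)
    (hs : ∀ x, ss θ (α x) = β (ss θ x)) (h2 : ∀ x, α (α x) = x) : (∀ x, α x = x) ∧ ∀ x, β x = x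
theorem Fd.kappa (h : Fd θ) {u c : F} (hu : u ≠ 0) (hi : Function.Injective fun v => ss θ v + c * bb θ u v) :
    c = 0 ∨ c = 1
theorem Fd.bb_rigid (h : Fd θ) {α : F → F} (hα : Function.Surjective α) (hb : ∀ x y, bb θ (α x) (α y) = bb θ x y)
    (x : F) : α x = x
-/
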