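import Cfsg.Agent.WA.ISkFa
import Cfsg.Agent.WA.SkS

/- LINKED interface; the statements, proved in the imported files:

variable {F : Type*} [Field F] [Finite F] {θ : RingAut F} {G : Type*} [Group G] [Finite G] {K : Type*} [Group K]
-- ### SkS 
theorem exists_szd {F : Type*} [Field F] [Fintype F] {m : ℕ} (hm : 1 ≤ m) (hF : Fintype.card F = 2 ^ (2 * m + 1)) :
    ∃ θ : RingAut F, Nonempty (SzD θ (Lie.Sz F (2 ^ (m + 1))))
theorem SzD.j0 (d : SzD θ K) : d.j 0 0 = 1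
-- `C(z) = U` and more: an element conjugating `z` into `U` lies in the Borel subgroup 
theorem SzD.ti (d : SzD θ K) {a : K} {x y x' y' : F} (h0 : ¬ (x = 0 ∧ y = 0)) (h : a * d.j x y * a⁻¹ = d.j x' y') :
    ∃ u v k, a = d.j u v * d.κ k
theorem SzD.cen (d : SzD θ K) {a : K} {y : F} (h0 : y ≠ 0) (h : a * d.j 0 y = d.j 0 y * a) : ∃ u v, a = d.j u v
theorem SzD.aut_U (d : SzD θ K) (φ : K ≃* K) {y x' y' : F} (h0 : y ≠ 0) (h : φ (d.j 0 y) = d.j x' y') (a b : F) :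
    ∃ a' b', φ (d.j a b) = d.j a' b'
-- an automorphism that centralizes `Z` is induced by an element of `U` 
theorem SzD.aut (d : SzD θ K) (φ : K ≃* K) (h : ∀ y, φ (d.j 0 y) = d.j 0 y) :
    ∃ x y, ∀ a, φ a = d.j x y * a * (d.j x y)⁻¹
-- an automorphism of `2`-power order that normalizes `U` centralizes `Z` 
theorem SzD.aut_two (d : SzD θ K) (φ : K ≃* K) (h : ∀ a b, ∃ a' b', φ (d.j a b) = d.j a' b') (h2 : ∃ k, ∀ a, φ^[2 ^ k] a = a)
    (y : F) : φ (d.j 0 y) = d.j 0 y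
-/
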