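import Cfsg.Agent.WA.TQDef
import Cfsg.Agent.H4.Scn3
import Cfsg.Agent.H7.ExtLayer

/-! Maximal `2`-locals with a TI quotient: basic lemmas. -/

set_option autoImplicit false
set_option linter.unusedSectionVars false

namespace Cfsg.Agent.WA.TQ

open Subgroup Cfsg.Agent.FT Cfsg.Agent.L0 Cfsg.Agent.H8
open Cfsg.Agent.H7 (op op_le op_isPGroup le_normalizer_op)
open scoped commutatorElement

universe u

variable {G : Type u} [Group G] [Finite G] {M M' S S' A V H X P P' E : Subgroup G} {g s t v x : G}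

theorem Clo.mono (h : Clo M) (hle : H ≤ M) : Clo H := fun P h1 h2 =>
  (le_inf (h P (h1.trans hle) h2) h1).trans (H7.op_inf_le hle)

theorem Clo.sup (h : Clo H) (h1 : P ≤ H) (h2 : P' ≤ H) (hP : IsPGroup 2 P) (hP' : IsPGroup 2 P') :
    IsPGroup 2 (P ⊔ P' : Subgroup G) := (op_isPGroup H).to_le (sup_le (h P h1 hP) (h P' h2 hP'))

theorem op_le_syl (hS : IsSylowIn 2 S M) : op 2 M ≤ S :=
  hS.le_of_le_normalizer (op_isPGroup M) (op_le M) (hS.le.trans (le_normalizer_op M))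

theorem Clo.eq_op (h : Clo H) (hS : IsSylowIn 2 S H) : S = op 2 H :=
  le_antisymm (h S hS.le hS.pgroup) (op_le_syl hS)

theorem Clo.conj (h : Clo H) (g : G) : Clo (cj g H) := fun P h1 h2 => by
  rw [← H7.cj_op, ← cj_cj_inv g P]
  exact cj_mono g (h _ (by rw [cj_le_iff, inv_inv]; exact h1) (pgroup_cj h2 _))

/-- two different Sylow subgroups generate no `2`-group -/
theorem not_pgroup_sup (hS : IsSylowIn 2 S H) (hS' : IsSylowIn 2 S' H) (hne : S ≠ S') :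
    ¬ IsPGroup 2 (S ⊔ S' : Subgroup G) := fun h =>
  hne ((hS.max _ (sup_le hS.le hS'.le) h le_sup_left).symm.trans (hS'.max _ (sup_le hS.le hS'.le) h le_sup_right))

theorem cj_vv (g : G) (M : Subgroup G) : cj g (vv M) = vv (cj g M) := by
  rw [vv, vv, cj, MonoidHom.map_closure, ← H7.cj_op]
  congr 1
  ext x
  constructor
  · rintro ⟨y, ⟨h1, h2⟩, rfl⟩
    exact ⟨conj_mem_cj g h1, GS.G0.sq_conj h2 g⟩
  · rintro ⟨h1, h2⟩
    refine ⟨g⁻¹ * x * g, ⟨mem_cj.1 h1, by simpa using GS.G0.sq_conj h2 g⁻¹⟩, ?_⟩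
    simp [mul_assoc]

theorem syl_cj (hS : IsSylowIn 2 S (cj g M)) : IsSylowIn 2 (cj g⁻¹ S) M := by
  simpa only [cj_inv_cj] using hS.cj g⁻¹

theorem Loc.conj (h : Loc M) (g : G) : Loc (cj g M) where
  max := H4.IsMaximalTwoLocal_cj h.max g
  ncl c := h.ncl (by simpa only [cj_inv_cj] using c.conj g⁻¹)
  cent := by rw [← H7.cj_op, ← cj_centralizer, ← cj_inf]; exact cj_mono g h.cent
  ti S S' h1 h2 hne := by
    rw [← H7.cj_op, ← cj_cj_inv g (S ⊓ S'), cj_inf g⁻¹]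
    exact cj_mono g (h.ti _ _ (syl_cj h1) (syl_cj h2) fun e => hne (cj_injective _ e))
  inv x hx h2 := by
    rw [← H7.cj_op] at hx
    obtain ⟨S, h1, h3⟩ := h.inv _ (mem_cj.1 hx) (by simpa using GS.G0.sq_conj h2 g⁻¹)
    refine ⟨cj g S, h1.cj g, ?_⟩
    have := cj_mono g h3
    rwa [cj_centralizer_singleton, show g * (g⁻¹ * x * g) * g⁻¹ = x by group] at this

theorem TA.conj (h : TA M) (g : G) : TA (cj g M) := fun S hS => by
  rw [← cj_vv, ← cj_centralizer, ← cj_cj_inv g S]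
  exact cj_mono g (h _ (syl_cj hS))

theorem Loc.comm_of (h : Loc M) (hx : x ∈ op 2 M) (h2 : x * x = 1) (hg : g ∈ op 2 M) : g * x = x * g := by
  obtain ⟨S, h1, h3⟩ := h.inv x hx h2
  exact mem_centralizer_singleton_iff.1 (h3 (op_le_syl h1 hg))

theorem Loc.mem_vv (h : Loc M) : x ∈ vv M ↔ x ∈ op 2 M ∧ x * x = 1 := by
  refine ⟨fun hx => ?_, fun hx => subset_closure hx⟩
  induction hx using closure_induction with
  | mem y hy => exact hy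
  | one => exact ⟨one_mem _, one_mul 1⟩
  | mul a b _ _ ha hb =>
    exact ⟨mul_mem ha.1 hb.1, by rw [mul_assoc, ← mul_assoc b, h.comm_of ha.1 ha.2 hb.1, mul_assoc, hb.2, mul_one, ha.2]⟩
  | inv a _ ha => exact ⟨inv_mem ha.1, by rw [← mul_inv_rev, ha.2, inv_one]⟩

theorem Loc.vv_le (h : Loc M) : vv M ≤ op 2 M := fun _ hx => (h.mem_vv.1 hx).1

theorem Loc.sq (h : Loc M) : ∀ v ∈ vv M, v * v = 1 := fun _ hx => (h.mem_vv.1 hx).2

theorem Loc.op_le_cent (h : Loc M) : op 2 M ≤ 𝐂(vv M) := fun _ hg =>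
  mem_centralizer_iff.2 fun v hv => (h.comm_of (h.vv_le hv) (h.sq v hv) hg).symm

theorem Loc.op_ne (h : Loc M) : op 2 M ≠ ⊥ := by
  obtain ⟨T, h1, h2, h3⟩ := h.max.1
  exact fun e => h2 (eq_bot_iff.2 (e ▸ le_map_pCore (h3 ▸ le_normalizer) h3.le h1))

theorem exists_invo (hP : IsPGroup 2 P) (h1 : P ≠ ⊥) : ∃ t ∈ P, t * t = 1 ∧ t ≠ 1 := by
  obtain ⟨k, hk⟩ := hP.exists_card_eq
  have : k ≠ 0 := fun e => h1 (by rw [e] at hk; exact card_eq_one.1 hk)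
  exact BS.exists_invo_of_even (by rw [hk]; exact (Nat.even_pow' this).2 even_two)

theorem Loc.vv_ne (h : Loc M) : vv M ≠ ⊥ := fun e => by
  obtain ⟨t, h1, h2, h3⟩ := exists_invo (op_isPGroup M) h.op_ne
  exact h3 (mem_bot.1 (e ▸ h.mem_vv.2 ⟨h1, h2⟩))

theorem Loc.eq_norm (h : Loc M) (hX : IsPGroup 2 X) (h1 : X ≠ ⊥) (hn : M ≤ 𝐍(X)) : 𝐍(X) = M :=
  h.max.2 _ ⟨X, hX, h1, rfl⟩ hn

theorem Loc.norm_op (h : Loc M) : 𝐍(op 2 M) = M := h.eq_norm (op_isPGroup M) h.op_ne (le_normalizer_op M)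

theorem Loc.norm_vv (h : Loc M) : 𝐍(vv M) = M :=
  h.eq_norm ((op_isPGroup M).to_le h.vv_le) h.vv_ne fun m hm =>
    cj_eq_self_iff.1 (by rw [cj_vv, cj_eq_self (le_normalizer hm)])

theorem Loc.conj_mem (h : Loc M) (hg : g ∈ M) (hv : v ∈ vv M) : g * v * g⁻¹ ∈ vv M :=
  (mem_normalizer_iff.1 (h.norm_vv.ge hg) v).1 hv

theorem conj_mem_op (hg : g ∈ M) (hx : x ∈ op 2 M) : g * x * g⁻¹ ∈ op 2 M :=
  (mem_normalizer_iff.1 (le_normalizer_op M hg) x).1 hx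

theorem Loc.cent' (h : Loc M) : 𝐂(op 2 M) ≤ op 2 M := fun _ hx =>
  h.cent ⟨h.norm_op.le (centralizer_le_normalizer _ hx), hx⟩

theorem Loc.not_le_op (h : Loc M) (hS : IsSylowIn 2 S M) : ¬ S ≤ op 2 M := fun e => h.ncl fun P h1 h2 =>
  (hS.le_of_le_normalizer' h2 h1 (by rw [le_antisymm e (op_le_syl hS)]; exact h1.trans (le_normalizer_op M))).trans e

theorem Loc.exists_ne (h : Loc M) (S : Subgroup G) : ∃ S', IsSylowIn 2 S' M ∧ S' ≠ S := by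
  by_contra hc
  push Not at hc
  obtain ⟨S₀, h0⟩ := exists_isSylowIn 2 M
  refine h.not_le_op h0 (le_map_pCore h0.le (fun m hm => cj_eq_self_iff.1 ?_) h0.pgroup)
  rw [hc _ (h0.cj_of_mem_normalizer (le_normalizer hm)), hc _ h0]

/-- the TI property in the useful form -/
theorem Loc.inf_le (h : Loc M) (h1 : P ≤ M) (h2 : P' ≤ M) (hP : IsPGroup 2 P) (hP' : IsPGroup 2 P')
    (hn : ¬ IsPGroup 2 (P ⊔ P' : Subgroup G)) : P ⊓ P' ≤ op 2 M := by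
  obtain ⟨S, hS, h3⟩ := exists_isSylowIn_ge hP h1
  obtain ⟨S', hS', h4⟩ := exists_isSylowIn_ge hP' h2
  exact (inf_le_inf h3 h4).trans (h.ti S S' hS hS' fun e => hn (hS'.pgroup.to_le (sup_le (e ▸ h3) h4)))

/-- a `2`-subgroup of `M` meeting `S` outside `Q` lies in `S` -/
theorem Loc.le_syl (h : Loc M) (hS : IsSylowIn 2 S M) (h1 : P ≤ M) (hP : IsPGroup 2 P) (ht : t ∈ S) (htP : t ∈ P)
    (hQ : t ∉ op 2 M) : P ≤ S := by
  obtain ⟨S', hS', h4⟩ := exists_isSylowIn_ge hP h1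
  by_contra hc
  exact hQ (h.ti S S' hS hS' (fun e => hc (e ▸ h4)) ⟨ht, h4 htP⟩)

theorem Loc.fix (h : Loc M) (hS : IsSylowIn 2 S M) (ht : t ∈ S) (hQ : t ∉ op 2 M) (hv : v ∈ vv M)
    (hc : t * v = v * t) : S ≤ 𝐂[v] := by
  obtain ⟨S₀, h0, h1⟩ := h.inv v (h.vv_le hv) (h.sq v hv)
  obtain ⟨P, hP, h2⟩ := exists_isSylowIn_ge (K := M ⊓ 𝐂[v]) (hS.pgroup.to_le (zpowers_le.2 ht))
    (zpowers_le.2 ⟨hS.le ht, mem_centralizer_singleton_iff.2 hc⟩)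
  have h3 := h.le_syl hS (hP.le.trans inf_le_left) hP.pgroup ht (h2 (mem_zpowers t)) hQ
  have h4 := (h0.of_le (le_inf h0.le h1) inf_le_left).card_eq_card hP
  rw [← eq_of_le_of_card_ge h3 ((hS.card_eq_card h0).trans h4).le]
  exact hP.le.trans inf_le_right

theorem Hyp.exists_loc (h : Hyp G) (hX : IsPGroup 2 X) (h1 : X ≠ ⊥) (hn : ¬ Clo 𝐍(X)) :
    ∃ M, Loc M ∧ 𝐍(X) ≤ M := by
  obtain ⟨M, h2, h3⟩ := H4.exists_maximalTwoLocal_ge ⟨X, hX, h1, rfl⟩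
  exact ⟨M, h M h2 fun c => hn (c.mono h3), h3⟩

theorem Hyp.exists_loc' (h : Hyp G) (ht : t * t = 1) (h1 : t ≠ 1) (hn : ¬ Clo 𝐂[t]) : ∃ M, Loc M ∧ 𝐂[t] ≤ M := by
  have h2 : 𝐂[t] ≤ 𝐍(zpowers t) := fun g hg => centralizer_le_normalizer _ (le_centralizer_singleton_iff.1
      (zpowers_le.2 (mem_centralizer_singleton_comm.1 hg)))
  obtain ⟨M, h3, h4⟩ := h.exists_loc (BS.Invo.pgroup_zpowers ⟨ht, h1⟩) (zpowers_ne_bot.2 h1) fun c => hn (c.mono h2)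
  exact ⟨M, h3, h2.trans h4⟩

theorem Loc.eq_of_le (h : Loc M) (h' : Loc M') (hS : IsSylowIn 2 S M) (hS' : IsSylowIn 2 S' M) (hne : S ≠ S')
    (h1 : IsSylowIn 2 S M') (h2 : S' ≤ M') : M = M' := by
  have h3 := h1.of_card_ge hS'.pgroup h2 (hS.card_eq_card hS').le
  rw [← h.norm_op, ← h'.norm_op, le_antisymm ((le_inf (op_le_syl hS) (op_le_syl hS')).trans (h'.ti S S' h1 h3 hne))
    ((le_inf (op_le_syl h1) (op_le_syl h3)).trans (h.ti S S' hS hS' hne))]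

/-- elements of order two modulo `Q` in different Sylow subgroups have a product of odd order modulo `Q` -/
theorem Loc.odd_mul (h : Loc M) (hS : IsSylowIn 2 S M) (hS' : IsSylowIn 2 S' M) (hne : S ≠ S') (hs : s ∈ S)
    (hsQ : s ∉ op 2 M) (hs2 : s * s ∈ op 2 M) (ht : t ∈ S') (htQ : t ∉ op 2 M) (ht2 : t * t ∈ op 2 M) :
    ∃ m, Odd m ∧ (s * t) ^ m ∈ op 2 M := by
  let f := QuotientGroup.mk' (pCore 2 M)
  have hf : ∀ y : M, f y = 1 ↔ (y : G) ∈ op 2 M := fun y => by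
    rw [QuotientGroup.mk'_apply, QuotientGroup.eq_one_iff]
    exact ⟨fun e => ⟨y, e, rfl⟩, fun ⟨z, e, e'⟩ => (Subtype.ext e' : z = y) ▸ e⟩
  let s' : M := ⟨s, hS.le hs⟩
  let t' : M := ⟨t, hS'.le ht⟩
  have h1 : f s' * f s' = 1 := by rw [← map_mul, hf]; exact hs2
  have h2 : f t' * f t' = 1 := by rw [← map_mul, hf]; exact ht2
  rcases Nat.even_or_odd (orderOf (f s' * f t')) with he | ho
  · exfalso
    obtain ⟨z, -, z2, c1, c2⟩ := H4.exists_central_involution_of_even_orderOf_mul h1 h2 (isOfFinOrder_of_finite _) he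
    obtain ⟨z, rfl⟩ := QuotientGroup.mk'_surjective _ z
    have key : ∀ {T : Subgroup G} (_ : IsSylowIn 2 T M) {r : M}, (r : G) ∈ T → (r : G) ∉ op 2 M → f r * f r = 1 →
        Commute (f z) (f r) → (z : G) ∈ T := fun {T} hT {r} hr hQ r2 c => by
      have h3 : IsPGroup 2 (zpowers (f z) ⊔ zpowers (f r) : Subgroup _) :=
        IsPGroup.to_sup_of_normal_right' (BS.pgroup_zpowers_of_orderOf z2) (GS.G0.pg_of_sq r2)
          (zpowers_le.2 (centralizer_le_normalizer _ (le_centralizer_singleton_iff.1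
            (zpowers_le.2 (mem_centralizer_singleton_iff.2 c.symm.eq)))))
      have h4 := (h3.comap_of_ker_isPGroup f (by rw [QuotientGroup.ker_mk']; exact pCore_isPGroup)).map M.subtype
      exact h.le_syl hT (map_subtype_le _) h4 hr ⟨r, mem_sup_right (mem_zpowers _), rfl⟩ hQ
        ⟨z, mem_sup_left (mem_zpowers _), rfl⟩
    exact H4.ne_one_of_orderOf_two z2 ((hf z).2 (h.ti S S' hS hS' hne ⟨key hS hs hsQ h1 c1, key hS' ht htQ h2 c2⟩))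
  · exact ⟨_, ho, (hf ((s' * t') ^ _)).1 (by rw [map_pow, map_mul, pow_orderOf_eq_one])⟩

theorem comm_of_odd {e y : G} (ho : Odd (orderOf e)) (hP : IsPGroup 2 P) (hm : ⁅y, e⁆ ∈ P)
    (hc : ⁅⁅y, e⁆, e⁆ = 1) : ⁅y, e⁆ = 1 := by
  have c : Commute ⁅y, e⁆ e := commutatorElement_eq_one_iff_commute.1 hc
  have h1 : y * e * y⁻¹ = ⁅y, e⁆ * e := by rw [commutatorElement_def]; group
  have h2 : ⁅y, e⁆ ^ orderOf e = 1 := by
    have := congrArg (· ^ orderOf e) h1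
    simp only [conj_pow, c.mul_pow, pow_orderOf_eq_one, mul_one, mul_inv_cancel] at this
    exact this.symm
  obtain ⟨k, hk⟩ := hP ⟨_, hm⟩
  exact H7.eq_one_of_odd_of_two (ho.of_dvd_nat (orderOf_dvd_of_pow_eq_one h2)) ⟨k, congrArg Subtype.val hk⟩

/-- the stabilizer of a chain -/
def chain (Q F V : Subgroup G) : Subgroup G where
  carrier := {m | m ∈ 𝐍(F) ⊓ 𝐂(V) ∧ (∀ y ∈ Q, ⁅y, m⁆ ∈ F) ∧ ∀ y ∈ F, ⁅y, m⁆ ∈ V}
  one_mem' := ⟨one_mem _, fun y _ => by simp, fun y _ => by simp⟩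
  mul_mem' {a b} ha hb := by
    have e : ∀ y : G, ⁅y, a * b⁆ = ⁅y, a⁆ * (a * ⁅y, b⁆ * a⁻¹) := fun y => by simp only [commutatorElement_def]; group
    exact ⟨mul_mem ha.1 hb.1, fun y hy => e y ▸ mul_mem (ha.2.1 y hy) ((mem_normalizer_iff.1 ha.1.1 _).1 (hb.2.1 y hy)),
      fun y hy => e y ▸ mul_mem (ha.2.2 y hy)
        ((mem_normalizer_iff.1 (centralizer_le_normalizer _ ha.1.2) _).1 (hb.2.2 y hy))⟩
  inv_mem' {a} ha := by
    have e : ∀ y : G, ⁅y, a⁻¹⁆ = a⁻¹ * ⁅y, a⁆⁻¹ * a⁻¹⁻¹ := fun y => by simp only [commutatorElement_def]; group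
    have h1 := inv_mem ha.1
    exact ⟨h1, fun y hy => e y ▸ (mem_normalizer_iff.1 h1.1 _).1 (inv_mem (ha.2.1 y hy)),
      fun y hy => e y ▸ (mem_normalizer_iff.1 (centralizer_le_normalizer _ h1.2) _).1 (inv_mem (ha.2.2 y hy))⟩

/-- two such elements do not both stabilize a chain `Q ≥ F ≥ V ≥ 1` -/
theorem Loc.not_chain (h : Loc M) (hS : IsSylowIn 2 S M) (hS' : IsSylowIn 2 S' M) (hne : S ≠ S') (hs : s ∈ S)
    (hsQ : s ∉ op 2 M) (ht : t ∈ S') (htQ : t ∉ op 2 M) {F : Subgroup G} (hF : F ≤ op 2 M) (hV : vv M ≤ F)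
    (h1 : ∀ y ∈ op 2 M, ⁅y, s⁆ ∈ F ∧ ⁅y, t⁆ ∈ F) (h2 : ∀ y ∈ F, ⁅y, s⁆ ∈ vv M ∧ ⁅y, t⁆ ∈ vv M)
    (h3 : ∀ y ∈ vv M, ⁅y, s⁆ = 1 ∧ ⁅y, t⁆ = 1) : False := by
  let K := chain (op 2 M) F (vv M)
  have mk : ∀ r, (∀ y ∈ op 2 M, ⁅y, r⁆ ∈ F) → (∀ y ∈ F, ⁅y, r⁆ ∈ vv M) → (∀ y ∈ vv M, ⁅y, r⁆ = 1) → r ∈ K :=
    fun r a b c => ⟨⟨mem_normalizer_of_cj_le (by
      rintro _ ⟨y, hy, rfl⟩
      have := mul_mem (inv_mem (hV (b y hy))) hy
      simpa [commutatorElement_def, mul_assoc] using this),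
      mem_centralizer_iff.2 fun y hy => commutatorElement_eq_one_iff_mul_comm.1 (c y hy)⟩, a, b⟩
  have hK : IsPGroup 2 K := fun ⟨r, hr⟩ => by
    obtain ⟨k, m, hm, e⟩ := Nat.exists_eq_two_pow_mul_odd (orderOf_pos r).ne'
    refine ⟨k, Subtype.ext ?_⟩
    have ho : Odd (orderOf (r ^ 2 ^ k)) :=
      hm.of_dvd_nat (orderOf_dvd_of_pow_eq_one (by rw [← pow_mul, ← e, pow_orderOf_eq_one]))
    have h4 : r ^ 2 ^ k ∈ K := pow_mem hr _
    generalize hx : r ^ 2 ^ k = x at ho h4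
    have h5 : ∀ y ∈ F, ⁅y, x⁆ = 1 := fun y hy => comm_of_odd ho (op_isPGroup M) (h.vv_le (h4.2.2 y hy))
      (commutatorElement_eq_one_iff_mul_comm.2 (mem_centralizer_iff.1 h4.1.2 _ (h4.2.2 y hy)))
    have h6 : x ∈ op 2 M := h.cent' (mem_centralizer_iff.2 fun y hy => commutatorElement_eq_one_iff_mul_comm.1
      (comm_of_odd ho (op_isPGroup M) (hF (h4.2.1 y hy)) (h5 _ (h4.2.1 y hy))))
    obtain ⟨j, hj⟩ := op_isPGroup M ⟨x, h6⟩
    exact hx.trans (H7.eq_one_of_odd_of_two ho ⟨j, congrArg Subtype.val hj⟩)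
  have hs' := mk s (fun y hy => (h1 y hy).1) (fun y hy => (h2 y hy).1) fun y hy => (h3 y hy).1
  have ht' := mk t (fun y hy => (h1 y hy).2) (fun y hy => (h2 y hy).2) fun y hy => (h3 y hy).2
  exact htQ (h.ti S S' hS hS' hne ⟨h.le_syl hS inf_le_right (hK.to_le (inf_le_left (b := M))) hs ⟨hs', hS.le hs⟩ hsQ
    ⟨ht', hS'.le ht⟩, ht⟩)

end Cfsg.Agent.WA.TQ
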