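import Cfsg.Agent.WA.TQB1

/-! Maximal `2`-locals with a TI quotient: type (b). -/

set_option autoImplicit false
set_option linter.unusedSectionVars false

namespace Cfsg.Agent.WA.TQ

open Subgroup Cfsg.Agent.FT Cfsg.Agent.L0 Cfsg.Agent.H8
open Cfsg.Agent.H7 (op op_le op_isPGroup le_normalizer_op)
open scoped commutatorElement

universe u

variable {G : Type u} [Group G] [Finite G] {M M' S S' A V H X P P' E : Subgroup G} {g s t v w x : G}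

theorem comm_of_sq' {x y : G} (hx : x * x = 1) (hy : y * y = 1) (h : x * y * (x * y) = 1) : x * y = y * x := by
  rw [← inv_eq_of_mul_eq_one_right h, mul_inv_rev, inv_eq_of_mul_eq_one_right hx, inv_eq_of_mul_eq_one_right hy]

theorem eq_one_of_odd_pow {g x z : G} {m : ℕ} (hm : Odd m) (h1 : g * x * g⁻¹ = z * x) (h2 : g * z = z * g)
    (h3 : z * z = 1) (h4 : g ^ m * x = x * g ^ m) : z = 1 := by
  have key : ∀ k : ℕ, g ^ k * x * (g ^ k)⁻¹ = z ^ k * x := fun k => by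
    induction k with
    | zero => simp
    | succ k ih =>
      have hc : g * z ^ k = z ^ k * g := (Commute.pow_right h2 k).eq
      calc g ^ (k + 1) * x * (g ^ (k + 1))⁻¹ = g * (g ^ k * x * (g ^ k)⁻¹) * g⁻¹ := by rw [pow_succ']; group
        _ = z ^ (k + 1) * x := by rw [ih, ← mul_assoc g, hc, pow_succ, mul_assoc (z ^ k) z, ← h1]; group
  have h5 := key m
  rw [h4, mul_inv_cancel_right] at h5
  obtain ⟨k, rfl⟩ := hm
  rw [pow_succ, pow_mul, pow_two, h3, one_pow, one_mul] at h5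
  exact mul_right_cancel (h5.symm.trans (one_mul x).symm)

theorem Loc.not_cent (h : Loc M) (hb : ¬ TA M) (hS : IsSylowIn 2 S M) : ¬ S ≤ 𝐂(vv M) := fun e => hb fun S' hS' => by
  obtain ⟨m, hm, rfl⟩ := hS.exists_cj_eq hS'
  rw [← cj_eq_self (h.norm_vv.ge hm), ← cj_centralizer]
  exact cj_mono m e

theorem Loc.vcomm (h : Loc M) (hv : v ∈ vv M) (hw : w ∈ vv M) : v * w = w * v := BS.comm_of_sq h.sq hv hw

theorem Loc.vinv (h : Loc M) (hv : v ∈ vv M) : v⁻¹ = v := inv_eq_of_mul_eq_one_right (h.sq v hv)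

theorem Loc.fix' (h : Loc M) (hS : IsSylowIn 2 S M) (ht : t ∈ S) (hQ : t ∉ op 2 M) (hv : v ∈ vv M)
    (hc : t * v = v * t) : v ∈ 𝐂(S) :=
  mem_centralizer_iff.2 fun _ hs => mem_centralizer_singleton_iff.1 (h.fix hS ht hQ hv hc hs)

theorem Loc.qconj (h : Loc M) (hg : g ∈ op 2 M) (hv : v ∈ vv M) : g * v * g⁻¹ = v := by
  rw [← mem_centralizer_iff.1 (h.op_le_cent hg) v hv, mul_inv_cancel_right]

theorem Loc.comm_mem0 (h : Loc M) (hS : IsSylowIn 2 S M) (hs : s ∈ S) (h2 : s * s ∈ op 2 M) (hv : v ∈ vv M) :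
    v * (s * v * s⁻¹) ∈ vv M ⊓ 𝐂(S) := by
  have h1 := h.conj_mem (hS.le hs) hv
  by_cases hQ : s ∈ op 2 M
  · rw [h.qconj hQ hv, h.sq v hv]; exact one_mem _
  refine ⟨mul_mem hv h1, h.fix' hS hs hQ (mul_mem hv h1) ?_⟩
  rw [← mul_inv_eq_iff_eq_mul]
  calc s * (v * (s * v * s⁻¹)) * s⁻¹ = s * v * s⁻¹ * (s * s * v * (s * s)⁻¹) := by group
    _ = _ := by rw [h.qconj h2 hv, h.vcomm h1 hv]

theorem Loc.sq_mem (h : Loc M) (hb : ¬ TA M) (hS : IsSylowIn 2 S M) (hs : s ∈ S) : s * s ∈ op 2 M := by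
  obtain ⟨k, hk⟩ := hS.pgroup ⟨s, hs⟩
  replace hk : s ^ 2 ^ k = 1 := congrArg Subtype.val hk
  induction k generalizing s with
  | zero => rw [pow_zero, pow_one] at hk; rw [hk, one_mul]; exact one_mem _
  | succ k ih =>
  have h4 := ih (mul_mem hs hs) (by rw [← pow_two, ← pow_mul, ← pow_succ', hk])
  by_contra hQ
  refine h.not_cent hb hS fun y hy => mem_centralizer_iff.2 fun v hv => ?_
  have h1 := h.conj_mem (hS.le hs) hv
  have hw := h.comm_mem0 hS (mul_mem hs hs) h4 hv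
  have hu := mul_mem hv h1
  have e1 : s * (v * (s * v * s⁻¹)) * s⁻¹ = v * (s * v * s⁻¹) * (v * (s * s * v * (s * s)⁻¹)) := by
    calc _ = s * v * s⁻¹ * (v * v) * (s * s * v * (s * s)⁻¹) := by rw [h.sq v hv]; group
      _ = _ := by rw [h.vcomm hv h1]; group
  generalize v * (s * v * s⁻¹) = u at hu e1
  have e2 := mem_centralizer_iff.1 hw.2 s hs
  have e3 := h.sq _ hw.1
  have e4 : v * (s * s * v * (s * s)⁻¹) = 1 := by
    generalize v * (s * s * v * (s * s)⁻¹) = w at e1 e2 e3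
    have e5 : s * s * u = u * (s * s) := by
      rw [← mul_inv_eq_iff_eq_mul]
      calc s * s * u * (s * s)⁻¹ = s * (s * u * s⁻¹) * s⁻¹ := by group
        _ = s * (u * w) * s⁻¹ := by rw [e1]
        _ = s * u * s⁻¹ * (s * w * s⁻¹) := by group
        _ = u := by rw [e1, e2, mul_inv_cancel_right, mul_assoc, e3, mul_one]
    rw [mem_centralizer_iff.1 (h.fix' hS (mul_mem hs hs) hQ hu e5) s hs, mul_inv_cancel_right] at e1
    exact (left_eq_mul.1 e1)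
  have e6 : s * s * v = v * (s * s) := by
    rw [← mul_inv_eq_iff_eq_mul, ← inv_eq_of_mul_eq_one_right e4, h.vinv hv]
  exact (mem_centralizer_iff.1 (h.fix' hS (mul_mem hs hs) hQ hv e6) y hy).symm

theorem Loc.comm_mem (h : Loc M) (hb : ¬ TA M) (hS : IsSylowIn 2 S M) (hs : s ∈ S) (hv : v ∈ vv M) :
    ⁅v, s⁆ ∈ vv M ⊓ 𝐂(S) := by
  have := h.comm_mem0 hS hs (h.sq_mem hb hS hs) hv
  rwa [commutatorElement_def, h.vinv hv, mul_assoc v, mul_assoc v]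

theorem Loc.exists_ne' (h : Loc M) (hb : ¬ TA M) (hS : IsSylowIn 2 S M) :
    ∃ S', IsSylowIn 2 S' M ∧ ¬ vv M ⊓ 𝐂(S') ≤ 𝐂(S) := by
  by_contra hc
  push Not at hc
  refine h.not_cent hb hS (le_centralizer_iff.1 fun v hv => ?_)
  obtain ⟨S', h1, h2⟩ := h.inv v (h.vv_le hv) (h.sq v hv)
  exact hc S' h1 ⟨hv, mem_centralizer_iff.2 fun y hy => mem_centralizer_singleton_iff.1 (h2 hy)⟩

theorem Loc.card_w (h : Loc M) (hS : IsSylowIn 2 S M) (hS' : IsSylowIn 2 S' M) :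
    #|(vv M ⊓ 𝐂(S') : Subgroup G)| = #|(vv M ⊓ 𝐂(S) : Subgroup G)| := by
  obtain ⟨m, hm, rfl⟩ := hS.exists_cj_eq hS'
  rw [← cj_centralizer, ← card_cj m (vv M ⊓ 𝐂(S)), cj_inf, cj_eq_self (h.norm_vv.ge hm)]

theorem Loc.q_le (h : Loc M) (hb : ¬ TA M) (hS : IsSylowIn 2 S M) (hS' : IsSylowIn 2 S' M)
    (hn : ¬ vv M ⊓ 𝐂(S') ≤ 𝐂(S)) : (op 2 M).relIndex S ≤ 𝐂(S').relIndex (vv M ⊓ 𝐂(S)) := by
  obtain ⟨v, hv, hvS⟩ := SetLike.not_le_iff_exists.1 hn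
  have hne : S ≠ S' := fun e => hvS (e ▸ hv.2)
  let ψ : S →* G := MonoidHom.mk' (fun s => ⁅v, (s : G)⁆) fun a b => by
    have := mem_centralizer_iff.1 (h.comm_mem hb hS b.2 hv.1).2 a a.2
    rw [coe_mul, ← mul_inv_cancel_right ⁅v, (b : G)⁆ a, ← this]
    simp only [commutatorElement_def]; group
  have hr : ψ.range ≤ vv M ⊓ 𝐂(S) := by rintro _ ⟨s, rfl⟩; exact h.comm_mem hb hS s.2 hv.1
  have hk : (𝐂(S')).comap ψ ≤ (op 2 M).subgroupOf S := fun s hs => by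
    by_contra hQ
    obtain ⟨t, ht, htQ⟩ := SetLike.not_le_iff_exists.1 (h.not_le_op hS')
    obtain ⟨m, hm, h1⟩ := h.odd_mul hS hS' hne s.2 hQ (h.sq_mem hb hS s.2) ht htQ (h.sq_mem hb hS' ht)
    have h2 := h.comm_mem hb hS s.2 hv.1
    have h3 : ⁅v, (s : G)⁆ = 1 := eq_one_of_odd_pow (g := s * t) (x := v) hm (by
      rw [mul_assoc (s : G), mem_centralizer_iff.1 hv.2 t ht, commutatorElement_def, h.vinv hv.1, mul_assoc v, mul_assoc v,
        h.vcomm hv.1 (h.conj_mem (hS.le s.2) hv.1), mul_assoc _ v v, h.sq v hv.1]; group)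
      (by rw [mul_assoc, mem_centralizer_iff.1 (show ⁅v, (s : G)⁆ ∈ 𝐂(S') from hs) t ht, ← mul_assoc, mem_centralizer_iff.1 h2.2 s s.2, mul_assoc])
      (h.sq _ h2.1) (mem_centralizer_iff.1 (h.op_le_cent h1) v hv.1).symm
    exact hvS (h.fix' hS s.2 hQ hv.1 (commutatorElement_eq_one_iff_mul_comm.1 h3).symm)
  refine (index_antitone hk).trans ?_
  rw [index_comap]
  exact relIndex_le_of_le_right hr FiniteIndex.index_ne_zero

/-- `q |W| ≤ |V|` -/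
theorem Loc.card_le (h : Loc M) (hb : ¬ TA M) (hS : IsSylowIn 2 S M) :
    (op 2 M).relIndex S * #|(vv M ⊓ 𝐂(S) : Subgroup G)| ≤ #|vv M| := by
  obtain ⟨S', hS', hn⟩ := h.exists_ne' hb hS
  rw [← h.card_w hS hS', ← H9.card_inf_mul_relIndex 𝐂(S') (vv M), inf_comm, mul_comm]
  exact Nat.mul_le_mul_left _ ((h.q_le hb hS hS' hn).trans (relIndex_le_of_le_right inf_le_left FiniteIndex.index_ne_zero))

theorem Loc.card_le' (h : Loc M) (hb : ¬ TA M) (hS : IsSylowIn 2 S M) :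
    #|vv M| ≤ #|(vv M ⊓ 𝐂(S) : Subgroup G)| * #|(vv M ⊓ 𝐂(S) : Subgroup G)| := by
  obtain ⟨t, ht, htQ⟩ := SetLike.not_le_iff_exists.1 (h.not_le_op hS)
  let ψ : vv M →* G := MonoidHom.mk' (fun v => ⁅(v : G), t⁆) fun a b => by
    calc ⁅((a * b : vv M) : G), t⁆ = a * ⁅(b : G), t⁆ * (a : G)⁻¹ * ⁅(a : G), t⁆ := by
          simp only [coe_mul, commutatorElement_def]; group
      _ = _ := by
        rw [h.vcomm a.2 (h.comm_mem hb hS ht b.2).1, mul_inv_cancel_right,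
          h.vcomm (h.comm_mem hb hS ht b.2).1 (h.comm_mem hb hS ht a.2).1]
  have hr : ψ.range ≤ vv M ⊓ 𝐂(S) := by rintro _ ⟨s, rfl⟩; exact h.comm_mem hb hS ht s.2
  have hk : ψ.ker ≤ (𝐂(S)).subgroupOf (vv M) := fun v hv =>
    h.fix' hS ht htQ v.2 (commutatorElement_eq_one_iff_mul_comm.1 hv).symm
  rw [← H9.card_inf_mul_relIndex 𝐂(S) (vv M), inf_comm]
  exact Nat.mul_le_mul_left _ ((index_antitone hk).trans (by rw [index_ker]; exact card_le_of_le hr))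

theorem Loc.inf_op_le (h : Loc M) (hS : IsSylowIn 2 S M) (hE : E ≤ S) (h2 : ∀ e ∈ E, e * e = 1) (hn : ¬ E ≤ op 2 M) :
    op 2 M ⊓ E ≤ vv M ⊓ 𝐂(S) := fun e he => by
  obtain ⟨t, ht, htQ⟩ := SetLike.not_le_iff_exists.1 hn
  have h1 := h.mem_vv.2 ⟨he.1, h2 e he.2⟩
  exact ⟨h1, h.fix' hS (hE ht) htQ h1 (BS.comm_of_sq h2 ht he.2)⟩

theorem Loc.card_elem (h : Loc M) (hb : ¬ TA M) (hS : IsSylowIn 2 S M) (hE : E ≤ S) (h2 : ∀ e ∈ E, e * e = 1) :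
    #|E| ≤ #|vv M| := by
  by_cases hn : E ≤ op 2 M
  · exact card_le_of_le fun e he => h.mem_vv.2 ⟨hn he, h2 e he⟩
  refine le_trans ?_ (h.card_le hb hS)
  rw [← H9.card_inf_mul_relIndex (op 2 M) E, mul_comm]
  exact Nat.mul_le_mul (relIndex_le_of_le_right hE FiniteIndex.index_ne_zero) (card_le_of_le (h.inf_op_le hS hE h2 hn))

/-- a second elementary abelian subgroup of maximal order -/
theorem Loc.big (h : Loc M) (hb : ¬ TA M) (hS : IsSylowIn 2 S M) (hE : E ≤ S) (h2 : ∀ e ∈ E, e * e = 1)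
    (hc : #|vv M| ≤ #|E|) (hne : E ≠ vv M) :
    E ⊓ op 2 M = vv M ⊓ 𝐂(S) ∧ E ⊔ op 2 M = S ∧ #|E| = #|vv M| := by
  have hn : ¬ E ≤ op 2 M := fun hn => hne (eq_of_le_of_card_ge (fun e he => h.mem_vv.2 ⟨hn he, h2 e he⟩) hc)
  have h1 := H9.card_inf_mul_relIndex (op 2 M) E
  have h3 := h.card_le hb hS
  have h4 : (op 2 M).relIndex E ≤ (op 2 M).relIndex S := relIndex_le_of_le_right hE FiniteIndex.index_ne_zero
  have h5 := card_le_of_le (h.inf_op_le hS hE h2 hn)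
  have h6 : 0 < (op 2 M).relIndex E := Nat.pos_of_ne_zero FiniteIndex.index_ne_zero
  have h7 : 0 < #|(op 2 M ⊓ E : Subgroup G)| := Nat.card_pos
  refine ⟨by rw [inf_comm]; exact eq_of_le_of_card_ge (h.inf_op_le hS hE h2 hn) (by nlinarith), ?_,
    le_antisymm (h.card_elem hb hS hE h2) hc⟩
  refine eq_of_le_of_card_ge (sup_le hE (op_le_syl hS)) ?_
  have h8 := card_sup_mul_card_inf ((hE.trans hS.le).trans (le_normalizer_op (p := 2) M))
  have h9 := H9.card_mul_relIndex (op_le_syl hS)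
  have h10 : (op 2 M).relIndex S ≤ (op 2 M).relIndex E := by nlinarith
  rw [sup_comm, ← h9]
  refine Nat.le_of_mul_le_mul_right ?_ h7
  rw [h8, ← h1, mul_assoc, mul_comm _ ((op 2 M).relIndex E)]
  exact Nat.mul_le_mul_left _ (Nat.mul_le_mul_right _ h10)

theorem Loc.pair (h : Loc M) (hb : ¬ TA M) (h' : Loc M') (hS : IsSylowIn 2 S M) (hS' : IsSylowIn 2 S M')
    (hne : M ≠ M') (hc : #|vv M| ≤ #|vv M'|) : op 2 M = vv M ∧ Pr S (vv M') (vv M) := by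
  have hn : vv M' ≠ vv M := fun e => hne (by rw [← h.norm_vv, ← e, h'.norm_vv])
  have hA := h'.vv_le.trans (op_le_syl hS')
  have hV := h.vv_le.trans (op_le_syl hS)
  obtain ⟨a1, a2, a3⟩ := h.big hb hS hA h'.sq hc hn
  have hb' : ¬ TA M' := fun e => h.not_cent hb hS
    (a2 ▸ sup_le (le_centralizer_iff.1 (hV.trans (e S hS'))) h.op_le_cent)
  obtain ⟨b1, b2, -⟩ := h'.big hb' hS' hV h.sq a3.le hn.symm
  have key : ∀ {M M' : Subgroup G}, Loc M → IsSylowIn 2 S M → IsSylowIn 2 S M' → vv M ⊔ op 2 M' = S → ∀ y ∈ op 2 M,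
      ∃ d ∈ op 2 M', y * y = d * d := fun {M M'} h hS hS' e y hy => by
    obtain ⟨v, hv, d, hd, rfl⟩ := (mem_sup_of_le_normalizer' (((h.vv_le.trans (op_le_syl hS)).trans hS'.le).trans
      (le_normalizer_op M'))).1 (e ▸ op_le_syl hS hy)
    have := mem_centralizer_iff.1 (h.op_le_cent ((mul_mem_cancel_left (h.vv_le hv)).1 hy)) v hv
    exact ⟨d, hd, by rw [mul_assoc, ← mul_assoc d, ← this, mul_assoc, ← mul_assoc v, h.sq v hv, one_mul]⟩
  let Y : Subgroup G → Subgroup G := fun M => closure {z | ∃ y ∈ op 2 M, z = y * y}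
  have e : Y M = Y M' := le_antisymm
    (closure_mono (by rintro _ ⟨y, hy, rfl⟩; exact key h hS hS' b2 y hy))
    (closure_mono (by rintro _ ⟨y, hy, rfl⟩; exact key h' hS' hS a2 y hy))
  have nY : ∀ M, M ≤ 𝐍(Y M) := fun M m hm => mem_normalizer_of_cj_le (by
    rw [cj, MonoidHom.map_closure]
    refine closure_mono ?_
    rintro _ ⟨_, ⟨y, hy, rfl⟩, rfl⟩
    exact ⟨_, conj_mem_op hm hy, by simp [mul_assoc]⟩)
  have pY : IsPGroup 2 (Y M) := (op_isPGroup M).to_le ((closure_le _).2 (by rintro _ ⟨y, hy, rfl⟩; exact mul_mem hy hy))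
  have h0 : Y M = ⊥ := by
    by_contra h1
    exact hne ((h.eq_norm pY h1 (nY M)).symm.trans (h'.eq_norm pY h1 (e ▸ nY M')))
  have q1 : op 2 M = vv M := le_antisymm (fun y hy => h.mem_vv.2 ⟨hy, mem_bot.1 (h0 ▸ subset_closure ⟨y, hy, rfl⟩)⟩) h.vv_le
  have q2 : op 2 M' = vv M' :=
    le_antisymm (fun y hy => h'.mem_vv.2 ⟨hy, mem_bot.1 (h0 ▸ e ▸ subset_closure ⟨y, hy, rfl⟩)⟩) h'.vv_le
  have hp : ∀ s ∈ S, ∃ a ∈ vv M', ∃ b ∈ vv M, s = a * b := fun s hs => by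
    obtain ⟨a, ha, b, hb, e⟩ := (mem_sup_of_le_normalizer' ((hA.trans hS.le).trans (le_normalizer_op M))).1 (a2 ▸ hs)
    exact ⟨a, ha, b, q1 ▸ hb, e.symm⟩
  refine ⟨q1, ⟨hS.pgroup, hA, hV, h'.sq, h.sq, fun s hs h2 => ?_, hp, fun e => hn (eq_of_le_of_card_ge e hc),
    fun e => hn (eq_of_le_of_card_ge e a3.le).symm⟩, by rwa [h'.norm_vv], by rwa [h.norm_vv], by rwa [h'.norm_vv],
    by rwa [h.norm_vv], by rwa [h'.norm_vv], by rwa [h.norm_vv], a3⟩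
  obtain ⟨a, ha, b, hb, rfl⟩ := hp s hs
  by_cases hQ : a ∈ op 2 M
  · exact Or.inr (mul_mem (q1 ▸ hQ) hb)
  · have : b ∈ vv M' ⊓ op 2 M := a1 ▸ ⟨hb, h.fix' hS (hA ha) hQ hb (comm_of_sq' (h'.sq a ha) (h.sq b hb) h2)⟩
    exact Or.inl (mul_mem ha this.1)

theorem exists_norm (hn : ¬ IsSylowIn 2 S ⊤) {T : Subgroup G} (hT : IsSylowIn 2 T ⊤) (hle : S ≤ T) :
    ∃ x ∈ T, x ∈ 𝐍(S) ∧ x ∉ S := by
  obtain ⟨x, h1, h2⟩ := SetLike.exists_of_lt (lt_inf_normalizer_of_pgroup hT.pgroup (hle.lt_of_ne fun e => hn (e ▸ hT)))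
  exact ⟨x, h1.1, h1.2, h2⟩

theorem Loc.pair_of_not_sylow (h : Loc M) (hb : ¬ TA M) (hS : IsSylowIn 2 S M) (hn : ¬ IsSylowIn 2 S ⊤) :
    op 2 M = vv M ∧ ∃ A, Pr S A (vv M) := by
  obtain ⟨T, hT, hle⟩ := exists_isSylowIn_ge hS.pgroup le_top
  obtain ⟨x, h1, h2, h3⟩ := exists_norm hn hT hle
  have := h.pair hb (h.conj x) hS (by simpa only [cj_eq_self h2] using hS.cj x) (fun e => h3
    (hS.le_of_le_normalizer' (hT.pgroup.to_le (zpowers_le.2 h1)) (zpowers_le.2 (h.norm_op.le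
      (H7.normalizer_le_normalizer_op M (cj_eq_self_iff.1 e.symm)))) (zpowers_le.2 h2) (mem_zpowers x)))
    (by rw [← cj_vv, card_cj])
  exact ⟨this.1, _, this.2⟩

theorem Pr.symm (h : Pr S A V) : Pr S V A :=
  ⟨h.toSyl.symm, h.locV, h.locA, h.opV, h.opA, h.sylV, h.sylA, h.card.symm⟩

theorem Pr.conj (h : Pr S A V) (g : G) : Pr (cj g S) (cj g A) (cj g V) := by
  refine ⟨h.toSyl.conj g, ?_, ?_, ?_, ?_, ?_, ?_, by rw [card_cj, card_cj, h.card]⟩ <;> rw [← cj_normalizer]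
  exacts [h.locA.conj g, h.locV.conj g, by rw [← H7.cj_op, h.opA], by rw [← H7.cj_op, h.opV], h.sylA.cj g, h.sylV.cj g]

theorem Pr.vvV (h : Pr S A V) : vv 𝐍(V) = V :=
  le_antisymm (h.locV.vv_le.trans h.opV.le) fun v hv => h.locV.mem_vv.2 ⟨h.opV.ge hv, h.sqB v hv⟩

theorem Pr.centV (h : Pr S A V) : 𝐂(V) ≤ V := by simpa only [h.opV] using h.locV.cent'

theorem Pr.not_ta (h : Pr S A V) : ¬ TA 𝐍(V) := fun e =>
  h.nAB (h.leA.trans ((e S h.sylV).trans (by rw [h.vvV]; exact h.centV)))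

theorem Pr.inf_cent (h : Pr S A V) : V ⊓ 𝐂(S) = A ⊓ V :=
  le_antisymm (le_inf (inf_le_right.trans ((centralizer_le h.leA).trans h.symm.centV)) inf_le_left) fun _ hz =>
    ⟨hz.2, mem_centralizer_iff.2 fun _ hs => (h.toSyl.centZ hz.1 hz.2 hs).symm⟩

/-- every involution of `V` is conjugate into `W` -/
theorem Pr.exists_conj (h : Pr S A V) (hv : v ∈ V) : ∃ m ∈ 𝐍(V), m * v * m⁻¹ ∈ A ⊓ V := by
  obtain ⟨S', h1, h2⟩ := h.locV.inv v (h.opV.ge hv) (h.sqB v hv)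
  obtain ⟨m, hm, e⟩ := h1.exists_cj_eq h.sylV
  refine ⟨m, hm, h.inf_cent ▸ ⟨(mem_normalizer_iff.1 hm v).1 hv, ?_⟩⟩
  rw [← e, ← cj_centralizer]
  exact conj_mem_cj m (le_centralizer_singleton_iff.1 h2)

theorem Pr.card_eq (h : Pr S A V) : #|(A ⊓ V : Subgroup G)| * V.relIndex S = #|V| := by
  rw [h.symm.toSyl.relIndex_eq, inf_comm, H9.card_inf_mul_relIndex, h.card]

/-- the subgroup `W ∩ W'` for another Sylow subgroup `S'` of `N(V)` -/
theorem Pr.exists_other (h : Pr S A V) : ∃ S', IsSylowIn 2 S' 𝐍(V) ∧ S' ≠ S ∧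
    #|(A ⊓ V : Subgroup G)| ≤ V.relIndex S * #|(A ⊓ V ⊓ 𝐂(S') : Subgroup G)| ∧
    V.relIndex S ≤ #|(A ⊓ V : Subgroup G)| := by
  obtain ⟨S', hS', hn⟩ := h.locV.exists_ne' h.not_ta h.sylV
  have h1 := h.locV.q_le h.not_ta h.sylV hS' hn
  have h2 := h.locV.card_w h.sylV hS'
  rw [h.vvV, h.inf_cent] at h1 h2
  rw [h.opV] at h1
  have h3 := H9.card_inf_mul_relIndex 𝐂(S') (A ⊓ V)
  have h4 := H9.card_inf_mul_relIndex 𝐂(S') V
  have h5 : 𝐂(S').relIndex (A ⊓ V) ≤ 𝐂(S').relIndex V := relIndex_le_of_le_right inf_le_right FiniteIndex.index_ne_zero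
  have h6 := h.card_eq
  rw [inf_comm] at h3 h4
  have h7 : 0 < #|(A ⊓ V : Subgroup G)| := Nat.card_pos
  have h8 : 0 < #|(A ⊓ V ⊓ 𝐂(S') : Subgroup G)| := Nat.card_pos
  have h9 : 𝐂(S').relIndex V = V.relIndex S := Nat.eq_of_mul_eq_mul_left h7 (by rw [h6, ← h2, h4])
  exact ⟨S', hS', fun e => hn (e ▸ inf_le_right), by nlinarith, by nlinarith⟩

end Cfsg.Agent.WA.TQ
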