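import Cfsg.Agent.WA.TQDef
import Cfsg.Agent.WA.TQB1
import Cfsg.Agent.WA.TQB2

/- LINKED interface; the statements, proved in the imported files:

variable {G : Type u} [Group G] [Finite G] {M M' S S' A V H X P P' E : Subgroup G} {g s t v x : G}
theorem Clo.mono (h : Clo M) (hle : H ≤ M) : Clo H
theorem Clo.sup (h : Clo H) (h1 : P ≤ H) (h2 : P' ≤ H) (hP : IsPGroup 2 P) (hP' : IsPGroup 2 P') :
    IsPGroup 2 (P ⊔ P' : Subgroup G)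
theorem Clo.eq_op (h : Clo H) (hS : IsSylowIn 2 S H) : S = op 2 H
theorem Clo.conj (h : Clo H) (g : G) : Clo (cj g H)
-- two different Sylow subgroups generate no `2`-group 
theorem not_pgroup_sup (hS : IsSylowIn 2 S H) (hS' : IsSylowIn 2 S' H) (hne : S ≠ S') :
    ¬ IsPGroup 2 (S ⊔ S' : Subgroup G)
theorem cj_vv (g : G) (M : Subgroup G) : cj g (vv M) = vv (cj g M)
theorem Loc.conj (h : Loc M) (g : G) : Loc (cj g M)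
theorem TA.conj (h : TA M) (g : G) : TA (cj g M)
theorem op_le_syl (hS : IsSylowIn 2 S M) : op 2 M ≤ S
theorem Loc.mem_vv (h : Loc M) : x ∈ vv M ↔ x ∈ op 2 M ∧ x * x = 1
theorem Loc.vv_le (h : Loc M) : vv M ≤ op 2 M
theorem Loc.sq (h : Loc M) : ∀ v ∈ vv M, v * v = 1
theorem Loc.op_le_cent (h : Loc M) : op 2 M ≤ 𝐂(vv M)
theorem Loc.vv_ne (h : Loc M) : vv M ≠ ⊥
theorem Loc.eq_norm (h : Loc M) (hX : IsPGroup 2 X) (h1 : X ≠ ⊥) (hn : M ≤ 𝐍(X)) : 𝐍(X) = M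
theorem Loc.norm_op (h : Loc M) : 𝐍(op 2 M) = M
theorem Loc.norm_vv (h : Loc M) : 𝐍(vv M) = M
theorem Loc.cent' (h : Loc M) : 𝐂(op 2 M) ≤ op 2 M
theorem Loc.exists_ne (h : Loc M) (S : Subgroup G) : ∃ S', IsSylowIn 2 S' M ∧ S' ≠ S
theorem Loc.not_le_op (h : Loc M) (hS : IsSylowIn 2 S M) : ¬ S ≤ op 2 M
-- the TI property in the useful form 
theorem Loc.inf_le (h : Loc M) (h1 : P ≤ M) (h2 : P' ≤ M) (hP : IsPGroup 2 P) (hP' : IsPGroup 2 P')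
    (hn : ¬ IsPGroup 2 (P ⊔ P' : Subgroup G)) : P ⊓ P' ≤ op 2 M
-- a `2`-subgroup of `M` meeting `S` outside `Q` lies in `S` 
theorem Loc.le_syl (h : Loc M) (hS : IsSylowIn 2 S M) (h1 : P ≤ M) (hP : IsPGroup 2 P) (ht : t ∈ S) (htP : t ∈ P)
    (hQ : t ∉ op 2 M) : P ≤ S
theorem Loc.fix (h : Loc M) (hS : IsSylowIn 2 S M) (ht : t ∈ S) (hQ : t ∉ op 2 M) (hv : v ∈ vv M)
    (hc : t * v = v * t) : S ≤ 𝐂[v]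
theorem Hyp.exists_loc (h : Hyp G) (hX : IsPGroup 2 X) (h1 : X ≠ ⊥) (hn : ¬ Clo 𝐍(X)) :
    ∃ M, Loc M ∧ 𝐍(X) ≤ M
theorem Hyp.exists_loc' (h : Hyp G) (ht : t * t = 1) (h1 : t ≠ 1) (hn : ¬ Clo 𝐂[t]) : ∃ M, Loc M ∧ 𝐂[t] ≤ M
theorem Loc.eq_of_le (h : Loc M) (h' : Loc M') (hS : IsSylowIn 2 S M) (hS' : IsSylowIn 2 S' M) (hne : S ≠ S')
    (h1 : IsSylowIn 2 S M') (h2 : S' ≤ M') : M = M'
-- elements of order two modulo `Q` in different Sylow subgroups have a product of odd order modulo `Q` 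
theorem Loc.odd_mul (h : Loc M) (hS : IsSylowIn 2 S M) (hS' : IsSylowIn 2 S' M) (hne : S ≠ S') (hs : s ∈ S)
    (hsQ : s ∉ op 2 M) (hs2 : s * s ∈ op 2 M) (ht : t ∈ S') (htQ : t ∉ op 2 M) (ht2 : t * t ∈ op 2 M) :
    ∃ m, Odd m ∧ (s * t) ^ m ∈ op 2 M
-- two such elements do not both stabilize a chain `Q ≥ F ≥ V ≥ 1` 
theorem Loc.not_chain (h : Loc M) (hS : IsSylowIn 2 S M) (hS' : IsSylowIn 2 S' M) (hne : S ≠ S') (hs : s ∈ S)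
    (hsQ : s ∉ op 2 M) (ht : t ∈ S') (htQ : t ∉ op 2 M) {F : Subgroup G} (hF : F ≤ op 2 M) (hV : vv M ≤ F)
    (h1 : ∀ y ∈ op 2 M, ⁅y, s⁆ ∈ F ∧ ⁅y, t⁆ ∈ F) (h2 : ∀ y ∈ F, ⁅y, s⁆ ∈ vv M ∧ ⁅y, t⁆ ∈ vv M)
    (h3 : ∀ y ∈ vv M, ⁅y, s⁆ = 1 ∧ ⁅y, t⁆ = 1) : False
-- type (b) 
theorem Loc.not_cent (h : Loc M) (hb : ¬ TA M) (hS : IsSylowIn 2 S M) : ¬ S ≤ 𝐂(vv M)
theorem Loc.sq_mem (h : Loc M) (hb : ¬ TA M) (hS : IsSylowIn 2 S M) (hs : s ∈ S) : s * s ∈ op 2 M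
theorem Loc.comm_mem (h : Loc M) (hb : ¬ TA M) (hS : IsSylowIn 2 S M) (hs : s ∈ S) (hv : v ∈ vv M) :
    ⁅v, s⁆ ∈ vv M ⊓ 𝐂(S)
theorem Loc.exists_ne' (h : Loc M) (hb : ¬ TA M) (hS : IsSylowIn 2 S M) :
    ∃ S', IsSylowIn 2 S' M ∧ ¬ vv M ⊓ 𝐂(S') ≤ 𝐂(S)
-- `q |W| ≤ |V|` 
theorem Loc.card_le (h : Loc M) (hb : ¬ TA M) (hS : IsSylowIn 2 S M) :
    (op 2 M).relIndex S * #|(vv M ⊓ 𝐂(S) : Subgroup G)| ≤ #|vv M|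
-- `|V| ≤ |W| |W : W ∩ W'|` 
theorem Loc.card_le' (h : Loc M) (hb : ¬ TA M) (hS : IsSylowIn 2 S M) :
    #|vv M| ≤ #|(vv M ⊓ 𝐂(S) : Subgroup G)| * #|(vv M ⊓ 𝐂(S) : Subgroup G)|
theorem Loc.card_elem (h : Loc M) (hb : ¬ TA M) (hS : IsSylowIn 2 S M) (hE : E ≤ S) (h2 : ∀ e ∈ E, e * e = 1) :
    #|E| ≤ #|vv M|
-- a second elementary abelian subgroup of maximal order 
theorem Loc.big (h : Loc M) (hb : ¬ TA M) (hS : IsSylowIn 2 S M) (hE : E ≤ S) (h2 : ∀ e ∈ E, e * e = 1)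
    (hc : #|vv M| ≤ #|E|) (hne : E ≠ vv M) :
    E ⊓ op 2 M = vv M ⊓ 𝐂(S) ∧ E ⊔ op 2 M = S ∧ #|E| = #|vv M|
theorem Loc.pair (h : Loc M) (hb : ¬ TA M) (h' : Loc M') (hS : IsSylowIn 2 S M) (hS' : IsSylowIn 2 S M')
    (hne : M ≠ M') (hc : #|vv M| ≤ #|vv M'|) : op 2 M = vv M ∧ Pr S (vv M') (vv M)
theorem Loc.pair_of_not_sylow (h : Loc M) (hb : ¬ TA M) (hS : IsSylowIn 2 S M) (hn : ¬ IsSylowIn 2 S ⊤) :
    op 2 M = vv M ∧ ∃ A, Pr S A (vv M)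
theorem Pr.symm (h : Pr S A V) : Pr S V A
theorem Pr.conj (h : Pr S A V) (g : G) : Pr (cj g S) (cj g A) (cj g V)
theorem Pr.vvV (h : Pr S A V) : vv 𝐍(V) = V
theorem Pr.not_ta (h : Pr S A V) : ¬ TA 𝐍(V)
theorem Pr.inf_cent (h : Pr S A V) : V ⊓ 𝐂(S) = A ⊓ V
theorem Pr.centV (h : Pr S A V) : 𝐂(V) ≤ V
-- every involution of `V` is conjugate into `W` 
theorem Pr.exists_conj (h : Pr S A V) (hv : v ∈ V) : ∃ m ∈ 𝐍(V), m * v * m⁻¹ ∈ A ⊓ V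
-- the subgroup `W ∩ W'` for another Sylow subgroup `S'` of `N(V)` 
theorem Pr.exists_other (h : Pr S A V) : ∃ S', IsSylowIn 2 S' 𝐍(V) ∧ S' ≠ S ∧
    #|(A ⊓ V : Subgroup G)| ≤ V.relIndex S * #|(A ⊓ V ⊓ 𝐂(S') : Subgroup G)| ∧
    V.relIndex S ≤ #|(A ⊓ V : Subgroup G)|
-/
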