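import Cfsg.Agent.WA.ITeP
import Cfsg.Agent.WA.TeB1
import Cfsg.Agent.WA.TeB2

/- LINKED interface; the statements, proved in the imported files:

variable {G Ω : Type u} [Group G] [Finite G] [MulAction G Ω] {D : Set G} {a b c : Ω} {d e s t w x g : G}
  {L P A : Subgroup G}
theorem TE.eq_of_fix (h : TE Ω D) (hd : d ∈ D) (ha : d • a = a) (hb : d • b = b) : a = b
-- the centralizer of `d` fixes the fixed point of `d` 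
theorem TE.fix_of_comm (h : TE Ω D) (hd : d ∈ D) (ha : d • a = a) (hc : g * d = d * g) : g • a = a
theorem TE.odd_mul (h : TE Ω D) (hd : d ∈ D) (he : e ∈ D) (ha : d • a = a) (hb : e • b = b) (hab : a ≠ b) :
    Odd (orderOf (d * e))
-- an involution of `⟨d, e⟩` centralizing `d` and `e` lies in `D` 
theorem TE.mem_of_pow (h : TE Ω D) (hd : d ∈ D) (he : e ∈ D) {n : ℕ} (hn : Invo ((d * e) ^ n)) : (d * e) ^ n ∈ D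
theorem TE.exists_swap (h : TE Ω D) (hd : d ∈ D) (he : e ∈ D) (ha : d • a = a) (hb : e • b = b) (hab : a ≠ b) :
    ∃ w ∈ D, w ∈ closure ({d, e} : Set G) ∧ w * d * w = e ∧ w • a = b ∧ w • b = a
theorem TE.swap_unique (h : TE Ω D) (hd : d ∈ D) (ha : d • a = a) {w' : G} (hw : w ∈ D) (hw' : w' ∈ D) (h1 : w • a ≠ a)
    (e : w * d * w = w' * d * w') : w = w'
-- two covered points of `L` are interchanged by an element of `D ∩ L` 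
theorem TE.exists_swap_in (h : TE Ω D) (ha : a ∈ Cov Ω (D ∩ L)) (hb : b ∈ Cov Ω (D ∩ L)) (hab : a ≠ b) :
    ∃ w ∈ D, w ∈ L ∧ w • a = b ∧ w • b = a
-- `D ∩ L` is one class of `L` if two points are covered 
theorem TE.conj_in (h : TE Ω D) (ha : a ∈ Cov Ω (D ∩ L)) (hb : b ∈ Cov Ω (D ∩ L)) (hab : a ≠ b) (hd : d ∈ D)
    (hdL : d ∈ L) (he : e ∈ D) (heL : e ∈ L) : ∃ g ∈ closure (D ∩ L), g * d * g⁻¹ = e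
theorem TE.cov_smul (h : TE Ω D) (hg : g ∈ L) (ha : a ∈ Cov Ω (D ∩ L)) : g • a ∈ Cov Ω (D ∩ L)
theorem TE.mul_not_mem (h : TE Ω D) (ht : Invo t) (ht' : t ∉ D) (hd : d ∈ D) (hc : t * d = d * t) :
    Invo (t * d) ∧ t * d ∉ D
-- two elements of `D` in a `2`-group commute 
theorem TE.comm_of_two (h : TE Ω D) (hP : IsPGroup 2 P) (hd : d ∈ D) (he : e ∈ D) (hdP : d ∈ P) (heP : e ∈ P) :
    d * e = e * d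
theorem TE.exists_fr (h : TE Ω D) (hP : IsPGroup 2 P) (ha : ∀ x ∈ P, x • a = a) : ∃ A, Fr D ⊤ a A ∧ P ≤ 𝐍(A)
-- a `2`-group fixing a covered point centralizes an element of `D` 
theorem TE.exists_cent (h : TE Ω D) (hc : a ∈ Cov Ω D) (hP : IsPGroup 2 P) (ha : ∀ x ∈ P, x • a = a) :
    ∃ d ∈ D, d • a = a ∧ ∀ x ∈ P, x * d = d * x
theorem TE.cov_cent (h : TE Ω D) (hc : ∀ a : Ω, a ∈ Cov Ω D) (ht : Invo t) : Cov Ω (D ∩ 𝐂[t]) = fixedBy Ω t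
theorem Fr.sq (h : TE Ω D) (hA : Fr D L a A) (hx : x ∈ A) : x * x = 1
theorem Fr.two (h : TE Ω D) (hA : Fr D L a A) : IsPGroup 2 A
theorem Fr.conj (h : TE Ω D) (hA : Fr D L a A) (g : G) : Fr D (cj g L) (g • a) (cj g A)
theorem Fr.mono (hA : Fr D L a A) {L' : Subgroup G} (h1 : A ≤ L') (h2 : L' ≤ L) : Fr D L' a A :=
  ⟨h1, hA.mem, hA.fix, fun d hd h3 h4 => hA.cov d hd (h2 h3) h4⟩
theorem Fr.mem_of_two (h : TE Ω D) (hA : Fr D L a A) (hP : IsPGroup 2 P) (hAP : A ≤ P) (hd : d ∈ D) (hdP : d ∈ P)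
    (hdL : d ∈ L) (hda : d • a = a) : d ∈ A
theorem Fr.card_eq (h : TE Ω D) {A' : Subgroup G} (hA : Fr D L a A) (hA' : Fr D L a A') : #|A| = #|A'|
theorem Fr.inf_cent (h : TE Ω D) (hA : Fr D ⊤ a A) (ht : Invo t) (ha : t • a = a) (hn : t ∈ 𝐍(A)) :
    Fr D 𝐂[t] a (A ⊓ 𝐂[t])
-- ### `CL` 
variable {𝒜 : Ω → Subgroup G} {q : ℕ} {F : Set Ω}
theorem CL.te (h : CL 𝒜 q) : TE Ω (DD 𝒜)
theorem CL.comm (h : CL 𝒜 q) {y : G} (hx : x ∈ 𝒜 a) (hy : y ∈ 𝒜 a) : x * y = y * x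
theorem CL.two (h : CL 𝒜 q) (a : Ω) : IsPGroup 2 (𝒜 a)
theorem CL.mem_DD (hx : x ∈ 𝒜 a) (h1 : x ≠ 1) : x ∈ DD 𝒜 := ⟨h1, a, hx⟩
theorem CL.mem_of_fix (h : CL 𝒜 q) (hd : d ∈ DD 𝒜) (ha : d • a = a) : d ∈ 𝒜 a
theorem CL.conj_mem (h : CL 𝒜 q) (hx : x ∈ 𝒜 a) (g : G) : g * x * g⁻¹ ∈ 𝒜 (g • a)
theorem CL.norm (h : CL 𝒜 q) (hg : g • a = a) : g ∈ 𝐍(𝒜 a)
theorem CL.fix_of_comm (h : CL 𝒜 q) (hx : x ∈ 𝒜 a) (h1 : x ≠ 1) (hc : g * x = x * g) : g • a = a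
theorem CL.fix_of_cent (h : CL 𝒜 q) (hg : g ∈ 𝐂(𝒜 a)) : g • a = a
theorem CL.fix_of_norm (h : CL 𝒜 q) (hg : g ∈ 𝐍(𝒜 a)) : g • a = a
theorem CL.exists_ne (h : CL 𝒜 q) (a : Ω) (y z : G) : ∃ x ∈ 𝒜 a, x ≠ 1 ∧ x ≠ y ∧ x ≠ z
theorem CL.exists_pow (h : CL 𝒜 q) (a : Ω) : ∃ n, 2 ≤ n ∧ q = 2 ^ n
theorem CL.DP_conj (h : CL 𝒜 q) (ht : DP 𝒜 t) (g : G) : DP 𝒜 (g * t * g⁻¹)
theorem CL.DP_of_two (h : CL 𝒜 q) (ht : Invo t) (ha : t • a = a) (hb : t • b = b) (hab : a ≠ b) : DP 𝒜 t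
theorem CL.DP_of_not_mem (h : CL 𝒜 q) (ht : Invo t) (ha : t • a = a) (hn : t ∉ 𝒜 a) : DP 𝒜 t
theorem CL.Sw_symm (h : CL 𝒜 q) (hw : w ∈ Sw 𝒜 a b) : w ∈ Sw 𝒜 b a
theorem CL.Sw_conj (h : CL 𝒜 q) (hw : w ∈ Sw 𝒜 a b) (g : G) : g * w * g⁻¹ ∈ Sw 𝒜 (g • a) (g • b)
theorem CL.exists_Sw (h : CL 𝒜 q) (hab : a ≠ b) : ∃ w, w ∈ Sw 𝒜 a b
theorem CL.Sw_mem (h : CL 𝒜 q) (hab : a ≠ b) (hw : w ∈ Sw 𝒜 a b) : w ∈ 𝒜 a ⊔ 𝒜 b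
theorem CL.KK_comm (h : CL 𝒜 q) (a b : Ω) : KK 𝒜 a b = KK 𝒜 b a
theorem CL.KK_le (h : CL 𝒜 q) (a b : Ω) : KK 𝒜 a b ≤ st2 G a b
theorem CL.cj_KK (h : CL 𝒜 q) (g : G) (a b : Ω) : cj g (KK 𝒜 a b) = KK 𝒜 (g • a) (g • b)
theorem CL.norm_KK (h : CL 𝒜 q) (a b : Ω) : st2 G a b ≤ 𝐍(KK 𝒜 a b)
theorem le_YY (hc : c ∈ F) : 𝒜 c ≤ YY 𝒜 F := le_iSup₂_of_le c hc le_rfl
theorem YY_le (h : ∀ c ∈ F, 𝒜 c ≤ L) : YY 𝒜 F ≤ L := iSup₂_le h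
theorem CL.cj_YY (h : CL 𝒜 q) (g : G) (F : Set Ω) : cj g (YY 𝒜 F) = YY 𝒜 (g • F)
theorem CL.cj_RR (h : CL 𝒜 q) (g : G) (F : Set Ω) (a : Ω) : cj g (RR 𝒜 F a) = RR 𝒜 (g • F) (g • a)
theorem CL.norm_YY (h : CL 𝒜 q) (F : Set Ω) : NF G F ≤ 𝐍(YY 𝒜 F)
theorem CL.norm_RR (h : CL 𝒜 q) (hg : g ∈ NF G F) (ha : g • a = a) : g ∈ 𝐍(RR 𝒜 F a)
theorem CL.norm_le_NF (h : CL 𝒜 q) (L : Subgroup G) : 𝐍(L) ≤ NF G (FL 𝒜 L)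
theorem Ln.YY_le (h : Ln 𝒜 F) : YY 𝒜 F ≤ NF G F
theorem mem_NF_of_comm (hc : g * t = t * g) : g ∈ NF G (fixedBy Ω t)
theorem CL.ln (h : CL 𝒜 q) {n : ℕ} (ih : IHn.{u} n) (hL : #|L| < n) : Ln 𝒜 (FL 𝒜 L)
theorem CL.ln_univ (h : CL 𝒜 q) {n : ℕ} (ih : IHn.{u} n) (hL : Nat.card G < n) : Ln 𝒜 Set.univ
theorem Ln.smul (h : CL 𝒜 q) (hF : Ln 𝒜 F) (g : G) : Ln 𝒜 (g • F)
-- closure lemma: `F = {a} ∪ (A a) b` 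
theorem CL.closure_le (h : CL 𝒜 q) (ha : a ∈ F) (hb : b ∈ F) (hab : a ≠ b)
    (hinv : ∀ c ∈ F, ∀ x ∈ 𝒜 c, ∀ e ∈ F, x • e ∈ F) (htr : ∀ c ∈ F, c ≠ a → ∃ x ∈ 𝒜 a, x • b = c)
    {J : Subgroup G} (hJ : J ≤ st2 G a b) (hK : KK 𝒜 a b ≤ J) (hw : w ∈ Sw 𝒜 a b) (hn : w ∈ 𝐍(J)) :
    YY 𝒜 F ⊓ st2 G a b ≤ J
-/
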