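import Cfsg.Agent.WA.TeC0
import Cfsg.Agent.WA.TeC1a

/- LINKED interface; the statements, proved in the imported files:

variable {G Ω : Type u} [Group G] [Finite G] [MulAction G Ω] {D : Set G} {a b c : Ω} {L A R : Subgroup G} {q r k : ℕ}
  {d e t z : G} [IsSimpleGroup G]
theorem Pre.two_fix (h : Pre Ω D) (ht : Invo t) (ht' : t ∉ D) : 2 ≤ (fixedBy Ω t).ncard
theorem Pre.count (h : Pre Ω D) (ht : Invo t) (ht' : t ∉ D) (hz : z ∈ D) (hc : t * z = z * t) (ha : z • a = a) :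
    (Nat.card Ω - (fixedBy Ω t).ncard) * {d | d ∈ D ∧ d • a = a}.ncard =
      (fixedBy Ω t).ncard * {d | d ∈ D ∧ d ∈ 𝐂[t] ∧ d • a = a}.ncard *
        (((fixedBy Ω (t * z)).ncard - 1) * {d | d ∈ D ∧ d ∈ 𝐂[t * z] ∧ d • a = a}.ncard)
-/
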