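import Cfsg.Agent.WA.ITeC1
import Cfsg.Agent.WA.TeC2

/- LINKED interface; the statements, proved in the imported files:

variable {G Ω : Type u} [Group G] [Finite G] [MulAction G Ω] {D : Set G} {a b c : Ω} {L A R : Subgroup G} {q r k : ℕ}
  {d e t z : G} [IsSimpleGroup G]
theorem Pre.four_le (h : Pre Ω D) (hA : Fr D ⊤ a A) : 4 ≤ #|A|
theorem Pre.odd_card (h : Pre Ω D) : Odd (Nat.card Ω)
theorem Pre.two_le (h : Pre Ω D) (ht : Invo t) (hA : Fr D ⊤ a A) (hn : t ∈ 𝐍(A)) : 2 ≤ #|(A ⊓ 𝐂[t] : Subgroup G)|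
theorem Pre.formula (h : Pre Ω D) (ht : Invo t) (ht' : t ∉ D) (hA : Fr D ⊤ a A) (hn : t ∈ 𝐍(A))
    (hf : (fixedBy Ω t).ncard = r + 1) (hq : #|(A ⊓ 𝐂[t] : Subgroup G)| = q + 1) (hk : #|A| = k + 1) :
    Nat.card Ω * k = (r + 1) * k + (r + 1) * r * q ^ 2
theorem Pre.dich (h : Pre Ω D) (ht : Invo t) (ht' : t ∉ D) (hA : Fr D ⊤ a A) (hn : t ∈ 𝐍(A)) : A ≤ 𝐂[t] ∨
    (#|A| = #|(A ⊓ 𝐂[t] : Subgroup G)| ^ 2 ∧ ∀ y ∈ A ⊓ 𝐂[t], ∃ x ∈ A, x * (t * x * t) = y)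
-/
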