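import Cfsg.Agent.WA.ITeK
import Cfsg.Agent.WA.TeFz
import Cfsg.Agent.WA.TeFy
import Cfsg.Agent.WA.TeFa

/- LINKED interface; the statements, proved in the imported files:

variable {G Ω : Type u} [Group G] [Finite G] [MulAction G Ω] {A : Ω → Subgroup G} {q r : ℕ} {F : Set Ω} {a b c : Ω}
  {g k s t w x y z η : G} {L P Q U : Subgroup G}
variable [IsSimpleGroup G]
theorem Fn.finite (h : Fn A q r) : Finite Ω
theorem Fn.faith (h : Fn A q r) (hg : ∀ c : Ω, g • c = c) : g = 1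
theorem Fn.YY_univ (h : Fn A q r) : YY A Set.univ = ⊤
theorem Fn.cent_ne_top (h : Fn A q r) (h1 : η ≠ 1) : 𝐂[η] ≠ ⊤
theorem Fn.index_ne_two (h : Fn A q r) (K : Subgroup G) : K.index ≠ 2
theorem Fn.odd_index (h : Fn A q r) (a : Ω) : Odd (stabilizer G a).index
theorem Fn.ln (h : Fn A q r) (hL : L ≠ ⊤) : Ln A (FL A L)
theorem Fn.FL_cent (h : Fn A q r) (ht : DP A t) : FL A 𝐂[t] = fixedBy Ω t
theorem Fn.pk (h : Fn A q r) (ht : DP A t) (ha : t • a = a) (hb : t • b = b) (hab : a ≠ b) :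
    Pk A q (fixedBy Ω t) a b
theorem Fn.exists_fix (h : Fn A q r) (ht : DP A t) (a : Ω) : ∃ b, b ≠ a ∧ t • b = b
theorem Fn.exists_DP (h : Fn A q r) (hab : a ≠ b) : ∃ t, DP A t ∧ t • a = a ∧ t • b = b
theorem Fn.YY_le_cent (h : Fn A q r) (ht : DP A t) : YY A (fixedBy Ω t) ≤ 𝐂[t]
theorem Fn.card_R (h : Fn A q r) (ht : DP A t) (ha : t • a = a) : #|RR A (fixedBy Ω t) a| = r
theorem Fn.r_cases (h : Fn A q r) : r = q ∨ r = q ^ 2 ∨ r = q ^ 3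
theorem Fn.exists_pair (h : Fn A q r) {c d : Ω} (hab : a ≠ b) (hcd : c ≠ d) : ∃ g : G, g • a = c ∧ g • b = d
theorem Fn.relIndex_st2 (h : Fn A q r) (hab : a ≠ b) : (st2 G a b).relIndex (stabilizer G a) + 1 = Nat.card Ω
-- (big) 
theorem Fn.big (h : Fn A q r) (ht : DP A t) (h1 : η ≠ 1) (hn : t ∈ 𝐍(𝐂[η])) (hF : fixedBy Ω t ⊆ FL A 𝐂[η]) :
    FL A 𝐂[η] ⊆ fixedBy Ω t
-- a point outside `Fix t` is fixed by `t u` for exactly one `u ∈ D ∩ C(t)` 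
theorem Fn.exists_u (h : Fn A q r) (ht : DP A t) (hc : t • c ≠ c) :
    ∃! u, u ∈ DD A ∧ u * t = t * u ∧ (t * u) • c = c
-- (K2) 
theorem Fn.K_fix (h : Fn A q r) (hab : a ≠ b) (hk : k ∈ KK A a b) (h1 : k ≠ 1) (e : k • c = c) : c = a ∨ c = b
theorem Fn.DP_mul (h : Fn A q r) (ht : DP A t) (ha : t • a = a) (hz : z ∈ A a) : DP A (t * z)
theorem Fn.CE_mul (h : Fn A q r) (hz : z ∈ A a) : CE A a (t * z) = CE A a t
theorem Fn.mem_Bt (h : Fn A q r) (ht : DP A t) (ha : t • a = a) : t ∈ Bt A a t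
theorem Fn.R_le_CE (h : Fn A q r) (ht : DP A t) (ha : t • a = a) : RR A (fixedBy Ω t) a ≤ CE A a t
theorem Fn.CE_le_NF (h : Fn A q r) : CE A a t ≤ NF G (fixedBy Ω t)
theorem Fn.CE_norm_R (h : Fn A q r) (ht : DP A t) (ha : t • a = a) : CE A a t ≤ 𝐍(RR A (fixedBy Ω t) a)
theorem Fn.Bt_sq (h : Fn A q r) (ht : DP A t) (ha : t • a = a) (hx : x ∈ Bt A a t) : x * x = 1
theorem Fn.Bt_inf (h : Fn A q r) (ht : DP A t) (ha : t • a = a) (hz : z ∈ A a) (h1 : z ≠ 1) :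
    Bt A a t ⊓ Bt A a (t * z) = ⊥
theorem Fn.A_inf_Bt (h : Fn A q r) (ht : DP A t) (ha : t • a = a) : A a ⊓ Bt A a t = ⊥
theorem Fn.Bt_cent_Y (h : Fn A q r) (ht : DP A t) (ha : t • a = a) : Bt A a t ≤ 𝐂(YY A (fixedBy Ω t))
theorem Fn.mem_ES (h : Fn A q r) : x ∈ ES A a t ↔ ∃ z ∈ A a, ∃ y ∈ Bt A a t, x = z * y
theorem Fn.ES_sq (h : Fn A q r) (ht : DP A t) (ha : t • a = a) (hx : x ∈ ES A a t) : x * x = 1
theorem Fn.ES_le_CE (h : Fn A q r) (ht : DP A t) (ha : t • a = a) : ES A a t ≤ CE A a t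
theorem Fn.CE_cent (h : Fn A q r) (ht : DP A t) (ha : t • a = a) : CE A a t ≤ 𝐂(ES A a t)
theorem Fn.card_ES (h : Fn A q r) (ht : DP A t) (ha : t • a = a) : #|ES A a t| = q * #|Bt A a t|
theorem Fn.card_Bt_le (h : Fn A q r) (ht : DP A t) (ha : t • a = a) : #|Bt A a t| ≤ q
theorem Fn.of_mem_Bt (h : Fn A q r) (ht : DP A t) (ha : t • a = a) (hy : y ∈ Bt A a t) (h1 : y ≠ 1) :
    DP A y ∧ fixedBy Ω y = fixedBy Ω t ∧ Bt A a y = Bt A a t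
theorem Fn.of_mem_ES (h : Fn A q r) (ht : DP A t) (ha : t • a = a) (hy : y ∈ ES A a t) (h1 : y ∉ A a) :
    DP A y ∧ y • a = a ∧ CE A a y = CE A a t ∧ ES A a y = ES A a t ∧ XX A a y = XX A a t ∧
      ∃ z ∈ A a, y ∈ Bt A a (t * z)
theorem Fn.cj_CE (h : Fn A q r) (g : G) : cj g (CE A a t) = CE A (g • a) (g * t * g⁻¹)
theorem Fn.cj_Bt (h : Fn A q r) (g : G) : cj g (Bt A a t) = Bt A (g • a) (g * t * g⁻¹)
theorem Fn.cj_ES (h : Fn A q r) (g : G) : cj g (ES A a t) = ES A (g • a) (g * t * g⁻¹)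
theorem Fn.cj_XX (h : Fn A q r) (g : G) : cj g (XX A a t) = XX A (g • a) (g * t * g⁻¹)
theorem Fn.CE_le_XX (h : Fn A q r) : CE A a t ≤ XX A a t
theorem Fn.XX_norm_CE (h : Fn A q r) : XX A a t ≤ 𝐍(CE A a t)
theorem Fn.XX_norm_ES (h : Fn A q r) (ht : DP A t) (ha : t • a = a) : XX A a t ≤ 𝐍(ES A a t)
-- `X` centralizes `E* / A` 
theorem Fn.XX_cent (h : Fn A q r) (ht : DP A t) (ha : t • a = a) (hg : g ∈ XX A a t) (hy : y ∈ ES A a t) :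
    y⁻¹ * (g * y * g⁻¹) ∈ A a
theorem Fn.sq_mem_CE (h : Fn A q r) (hg : g ∈ XX A a t) : g * g ∈ CE A a t
theorem Fn.K_cent (h : Fn A q r) (ht : DP A t) (ha : t • a = a) (hb : t • b = b) (hab : a ≠ b) :
    KK A a b ≤ 𝐂(Bt A a t)
theorem Fn.K_norm (h : Fn A q r) (ht : DP A t) (ha : t • a = a) (hb : t • b = b) (hab : a ≠ b) :
    KK A a b ≤ 𝐍(CE A a t) ∧ KK A a b ≤ 𝐍(ES A a t) ∧ KK A a b ≤ 𝐍(XX A a t)
-- the map `g ↦ t⁻¹ t^g` on `X` is trivial or onto `A` 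
theorem Fn.XX_cases (h : Fn A q r) (ht : DP A t) (ha : t • a = a) : XX A a t = CE A a t ∨
    (#|XX A a t| = q * #|CE A a t| ∧ ∀ z ∈ A a, ∃ g ∈ XX A a t, g * t * g⁻¹ = t * z)
-- counting the involutions outside `D` that fix `a` 
theorem Fn.count (h : Fn A q r) (hab : a ≠ b) : {s | DP A s ∧ s • a = a}.ncard * r =
    (Nat.card Ω - 1) * {s | s ∈ st2 G a b ∧ Invo s}.ncard
-- (EXT) 
theorem Fn.ext (h : Fn A q r) (hr : r ≠ q) (hP : IsPGroup 2 P) (hle : P ≤ 𝐂(A a)) :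
    ∃ s, DP A s ∧ s • a = a ∧ P ≤ XX A a s
-- the cases `r = q`, `r = q ^ 2` 
theorem Fn.CE_inf (h : Fn A q r) (hr : r ≠ q ^ 3) (ht : DP A t) (ha : t • a = a) (hb : t • b = b) (hab : a ≠ b) :
    CE A a t ⊓ stabilizer G b = Bt A a t
theorem Fn.mem_CE (h : Fn A q r) (hr : r ≠ q ^ 3) (ht : DP A t) (ha : t • a = a) :
    x ∈ CE A a t ↔ ∃ z ∈ RR A (fixedBy Ω t) a, ∃ y ∈ Bt A a t, x = z * y
theorem Fn.card_CE (h : Fn A q r) (hr : r ≠ q ^ 3) (ht : DP A t) (ha : t • a = a) : #|CE A a t| = r * #|Bt A a t|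
theorem Fn.mem_ES_of_sq (h : Fn A q r) (hr : r ≠ q ^ 3) (ht : DP A t) (ha : t • a = a) (hx : x ∈ CE A a t)
    (h2 : x * x = 1) : x ∈ ES A a t
theorem Fn.XX_two (h : Fn A q r) (hr : r ≠ q ^ 3) (ht : DP A t) (ha : t • a = a) : IsPGroup 2 (XX A a t)
theorem Fn.Bt_sylow (h : Fn A q r) (hr : r ≠ q ^ 3) (ht : DP A t) (ha : t • a = a) (hb : t • b = b) (hab : a ≠ b) :
    IsSylowIn 2 (Bt A a t) (𝐂(A a) ⊓ stabilizer G b)
theorem Fn.conj_Bt (h : Fn A q r) (hr : r ≠ q ^ 3) (ht : DP A t) (ha : t • a = a) (hs : DP A s) (hsa : s • a = a) :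
    ∃ g : G, g • a = a ∧ g * s * g⁻¹ ∈ Bt A a t
-- an involution `y` of `X(t)` outside `E*(t)` 
theorem Fn.ES_le_XX (h : Fn A q r) (ht : DP A t) (ha : t • a = a) (hy : y ∈ XX A a t) (hy' : DP A y) :
    ES A a y ≤ XX A a t
-/
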