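import Cfsg.Agent.WA.ITeK0
import Cfsg.Agent.WA.TeKa
import Cfsg.Agent.WA.TeKb

/- LINKED interface; the statements, proved in the imported files:

variable {G Ω : Type u} [Group G] [Finite G] [MulAction G Ω] {A : Ω → Subgroup G} {q r : ℕ} {F : Set Ω} {a b c : Ω}
  {g k s t w x y z η : G} {L P Q U : Subgroup G}
theorem mem_CH : g ∈ CH A F a b ↔ g ∈ NF G F ∧ g • a = a ∧ g • b = b ∧ g ∈ 𝐂(A a) :=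
  ⟨fun h => ⟨h.1.1, h.1.2.1, h.1.2.2, h.2⟩, fun h => ⟨⟨h.1, h.2.1, h.2.2.1⟩, h.2.2.2⟩⟩
-- (A) 
theorem Pk.cent_K (h : Pk A q F a b) (ha : g ∈ 𝐂(A a)) (hb : g • b = b) (hk : k ∈ KK A a b) : g * k = k * g
-- (A0) an element of `G_{ab}` centralizing `K` acts on `A a` like an element of `K` 
theorem Pk.exists_K (h : Pk A q F a b) (hg : g ∈ st2 G a b) (hc : ∀ k ∈ KK A a b, g * k = k * g) :
    ∃ k ∈ KK A a b, g * k⁻¹ ∈ 𝐂(A a)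
-- (A') 
theorem Pk.cent_Sw (h : Pk A q F a b) (hg : g ∈ CH A F a b) (hw : w ∈ Sw A a b) : g * w = w * g
theorem Pk.cent_b (h : Pk A q F a b) (hg : g ∈ CH A F a b) : g ∈ 𝐂(A b)
-- an element centralizing `R` and fixing `b` fixes the line pointwise 
theorem Pk.fix_of_cent (h : Pk A q F a b) (hg : g ∈ 𝐂(RR A F a)) (hb : g • b = b) (hc : c ∈ F) : g • c = c
-- an element normalizing `R` and fixing the line pointwise centralizes `R` 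
theorem Pk.cent_of_fix (h : Pk A q F a b) (hg : ∀ c ∈ F, g • c = c) : g ∈ 𝐂(RR A F a)
-- `K` is fixed point free on `R / A` 
theorem Pk.K_fpf_quo (h : Pk A q F a b) (hk : k ∈ KK A a b) (hx : x ∈ RR A F a) (e : x⁻¹ * (k * x * k⁻¹) ∈ A a) :
    k = 1 ∨ x ∈ A a
theorem Pk.comm_mem (h : Pk A q F a b) (hx : x ∈ RR A F a) (hy : y ∈ RR A F a) : x⁻¹ * (y * x * y⁻¹) ∈ A a
-- (A1) 
theorem Pk.a1 (h : Pk A q F a b) (h1 : A a ≤ Q) (h2 : Q ≤ RR A F a) (hQ : #|Q| = q ^ 2) (hK : KK A a b ≤ 𝐍(Q))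
    (hg : g ∈ 𝐍(Q)) (hc : g ∈ 𝐂(A a)) (hx : x ∈ Q) : x⁻¹ * (g * x * g⁻¹) ∈ A a
-- squaring is onto 
theorem Pk.exists_sq (h : Pk A q F a b) (h1 : A a < Q) (h2 : Q ≤ RR A F a) (hK : KK A a b ≤ 𝐍(Q)) (hz : z ∈ A a) :
    ∃ x ∈ Q, x * x = z
-- (A2) 
theorem Pk.a2 (h : Pk A q F a b) (h1 : A a ≤ Q) (h2 : Q ≤ RR A F a) (hK : KK A a b ≤ 𝐍(Q)) :
    #|Q| = q ∨ #|Q| = q ^ 2 ∨ #|Q| = q ^ 3
-- (A3) 
theorem Pk.a3 (h : Pk A q F a b) (hR : #|RR A F a| = q ^ 2) (hg : g ∈ CH A F a b) : g ∈ 𝐂(RR A F a)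
-- (U1) 
theorem Pk.u1 (h : Pk A q F a b) (hR : #|RR A F a| = q ^ 3) (hw : w ∈ CH A F a b) (ho : Odd (orderOf w))
    (hn : w ∉ 𝐂(RR A F a)) :
    (∀ x ∈ RR A F a, x⁻¹ * (w * x * w⁻¹) ∈ A a → x ∈ A a) ∧
    (∀ x ∈ RR A F a, ∃ y ∈ RR A F a, ∃ z ∈ A a, x = y⁻¹ * (w * y * w⁻¹) * z) ∧
    ∀ Q : Subgroup G, A a ≤ Q → Q ≤ RR A F a → KK A a b ≤ 𝐍(Q) → w ∈ 𝐍(Q) → Q = A a ∨ Q = RR A F a
-- (U2) 
theorem Pk.u2 (h : Pk A q F a b) (hR : #|RR A F a| = q ^ 3) (hg : g ∈ CH A F a b)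
    (hc : ∀ x ∈ RR A F a, x⁻¹ * (g * x * g⁻¹) ∈ A a) : g ∈ 𝐂(RR A F a)
-- (U3) 
theorem Pk.u3 (h : Pk A q F a b) (hR : #|RR A F a| = q ^ 3) (hg : g ∈ CH A F a b) (h2 : g * g ∈ 𝐂(RR A F a))
    (hn : g ∉ 𝐂(RR A F a)) : (∀ x ∈ RR A F a, g * x = x * g → x ∈ A a) ∧
    ∃ Q : Subgroup G, A a ≤ Q ∧ Q ≤ RR A F a ∧ #|Q| = q ^ 2 ∧ KK A a b ≤ 𝐍(Q) ∧
      (∀ x ∈ Q, g * x * g⁻¹ = x⁻¹) ∧ (∀ x ∈ RR A F a, x⁻¹ * (g * x * g⁻¹) ∈ Q) ∧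
      ∀ x ∈ RR A F a, x⁻¹ * (g * x * g⁻¹) ∈ A a → x ∈ Q
-- (U5) 
theorem Pk.u5 (h : Pk A q F a b) (hR : #|RR A F a| = q ^ 3) (hP : IsPGroup 2 P) (hle : P ≤ CH A F a b) (hx : x ∈ P)
    (hy : y ∈ P) (hx' : x ∉ 𝐂(RR A F a)) (hy' : y ∉ 𝐂(RR A F a)) : x * y ∈ 𝐂(RR A F a)
-- (P4) 
theorem Pk.p4 (h : Pk A q F a b) (ht : t ∈ CH A F a b) (h2 : t * t = 1) :
    F ⊆ fixedBy Ω t ∨ (#|RR A F a| = q ^ 3 ∧ (F ∩ fixedBy Ω t).ncard = q + 1)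
-- (P3) 
theorem Pk.p3 (h : Pk A q F a b) (hU : U ≤ NF G F) (ha : ∀ x ∈ U, x • a = a) (ho : Odd #|U|) (hn : RR A F a ≤ 𝐍(U))
    (hx : x ∈ U) (hc : c ∈ F) : x • c = c
-- `Z(R) = A` unless `R = A` 
theorem Pk.center (h : Pk A q F a b) (hx : x ∈ RR A F a) (hc : x ∈ 𝐂(RR A F a)) : x ∈ A a
-- an element of `R` whose action on `R` commutes with `K` lies in `A` 
theorem Pk.mem_of_K (h : Pk A q F a b) (hx : x ∈ RR A F a)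
    (hc : ∀ k ∈ KK A a b, x⁻¹ * (k * x * k⁻¹) ∈ 𝐂(RR A F a)) : x ∈ A a
-/
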