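import Cfsg.Agent.WA.ITeB
import Cfsg.Agent.WA.TeK0

/- LINKED interface; the statements, proved in the imported files:

variable {G Ω : Type u} [Group G] [Finite G] [MulAction G Ω] {A : Ω → Subgroup G} {q r : ℕ} {F : Set Ω} {a b c : Ω}
  {g k s t w x y z η : G} {L P Q U : Subgroup G}
theorem Pk.symm (h : Pk A q F a b) : Pk A q F b a := ⟨h.cl, h.ln, h.hb, h.ha, h.ne.symm⟩
theorem Pk.of_mem (h : Pk A q F a b) {e : Ω} (hc : c ∈ F) (he : e ∈ F) (hne : c ≠ e) : Pk A q F c e :=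
  ⟨h.cl, h.ln, hc, he, hne⟩
theorem Pk.R_le_Y (h : Pk A q F a b) : RR A F a ≤ YY A F := (B07.Op_le _).trans inf_le_left
theorem Pk.R_two (h : Pk A q F a b) : IsPGroup 2 (RR A F a) := B07.pgroup_Op _
theorem Pk.R_fix (h : Pk A q F a b) (hx : x ∈ RR A F a) : x • a = a := ((B07.Op_le _).trans inf_le_right) hx
theorem Pk.A_le (h : Pk A q F a b) : A a ≤ RR A F a
theorem Pk.R_cent (h : Pk A q F a b) : RR A F a ≤ 𝐂(A a)
theorem Pk.mem_A (h : Pk A q F a b) (hx : x ∈ RR A F a) (h2 : x * x = 1) : x ∈ A a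
theorem Pk.sq_mem (h : Pk A q F a b) (hx : x ∈ RR A F a) : x * x ∈ A a
theorem Pk.R_trans (h : Pk A q F a b) (hc : c ∈ F) (hca : c ≠ a) : ∃ x ∈ RR A F a, x • b = c
-- `R` is semiregular on all points `≠ a` 
theorem Pk.R_free (h : Pk A q F a b) (hx : x ∈ RR A F a) (hca : c ≠ a) (e : x • c = c) : x = 1
theorem Pk.ncard_F (h : Pk A q F a b) : F.ncard = #|RR A F a| + 1
theorem Pk.odd_Y (h : Pk A q F a b) : Odd #|(YY A F ⊓ st2 G a b : Subgroup G)|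
-- every `2`-element of `Y_a` lies in `R` 
theorem Pk.mem_R (h : Pk A q F a b) (hx : x ∈ YY A F) (ha : x • a = a) (h2 : ∃ n, x ^ 2 ^ n = 1) : x ∈ RR A F a
theorem Pk.Sw_mem_Y (h : Pk A q F a b) (hw : w ∈ Sw A a b) : w ∈ YY A F
theorem Pk.K_le (h : Pk A q F a b) : KK A a b ≤ YY A F ⊓ st2 G a b
theorem Pk.K_odd (h : Pk A q F a b) : Odd #|KK A a b|
theorem Pk.K_mul (h : Pk A q F a b) (hk : k ∈ KK A a b) (hw : w ∈ Sw A a b) : k * w ∈ Sw A a b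
theorem Pk.K_inv (h : Pk A q F a b) (hk : k ∈ KK A a b) (hw : w ∈ Sw A a b) : w * k * w = k⁻¹
theorem Pk.K_cyclic (h : Pk A q F a b) : IsCyclic (KK A a b)
theorem Pk.K_comm (h : Pk A q F a b) {l : G} (hk : k ∈ KK A a b) (hl : l ∈ KK A a b) : k * l = l * k
theorem Pk.K_trans (h : Pk A q F a b) (hy : y ∈ A a) (hy1 : y ≠ 1) (hz : z ∈ A a) (hz1 : z ≠ 1) :
    ∃ k ∈ KK A a b, k * y * k⁻¹ = z
theorem Pk.K_fpf (h : Pk A q F a b) (hk : k ∈ KK A a b) (hx : x ∈ RR A F a) (e : k * x = x * k) : k = 1 ∨ x = 1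
theorem Pk.card_K (h : Pk A q F a b) : #|KK A a b| + 1 = q
theorem Pk.K_norm_R (h : Pk A q F a b) : KK A a b ≤ 𝐍(RR A F a)
theorem Pk.K_fix (h : Pk A q F a b) (hk : k ∈ KK A a b) (h1 : k ≠ 1) (hc : c ∈ F) (e : k • c = c) : c = a ∨ c = b
theorem Pk.ab (h : Pk A q F a b) (hc : ∀ x ∈ RR A F a, ∀ y ∈ RR A F a, x * y = y * x) : RR A F a = A a
theorem Pk.cases (h : Pk A q F a b) : RR A F a = A a ∨ (#|RR A F a| = q ^ 2 ∧ ∃ m, 1 ≤ m ∧ q = 2 ^ (2 * m + 1)) ∨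
    (#|RR A F a| = q ^ 3 ∧ ∃ w ∈ YY A F, w ∈ CH A F a b ∧ Odd (orderOf w) ∧ w ∉ 𝐂(RR A F a))
-- for `R = A`, `Y_{ab} = K` 
theorem Pk.Y_inf_eq (h : Pk A q F a b) (hR : RR A F a = A a) : YY A F ⊓ st2 G a b = KK A a b
-/
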