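import Cfsg.Agent.WA.ITeK
import Cfsg.Agent.WA.TeL1
import Cfsg.Agent.WA.TeL2

/- LINKED interface; the statements, proved in the imported files:

variable {G Ω : Type u} [Group G] [Finite G] [MulAction G Ω] {D : Set G} {a b c : Ω} {L A : Subgroup G} {q r : ℕ}
theorem TE.loc (h : TE Ω D) {n : ℕ} (ih : IHn.{u} n) (hL : #|L| < n) (hA : Fr D L a A) (h4 : 4 ≤ #|A|)
    (hb : b ∈ Cov Ω (D ∩ L)) (hab : b ≠ a) : ∃ R, Loc D L a A R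
-- if the elements of `D` fixing a point commute we are in the situation `CL` 
theorem TE.exists_cl (h : TE Ω D) (hc : ∀ a : Ω, a ∈ Cov Ω D) (hr : ∃ d ∈ D, ∃ e ∈ D, d ≠ e ∧ d * e = e * d)
    (hm : ∀ d ∈ D, ∀ e ∈ D, ∀ a : Ω, d • a = a → e • a = a → d * e = e * d) :
    ∃ (𝒜 : Ω → Subgroup G) (q : ℕ), CL 𝒜 q ∧ DD 𝒜 = D
-- passing to a quotient that still acts 
theorem TE.map {G' : Type u} [Group G'] [Finite G'] [MulAction G' Ω] (h : TE Ω D) (f : G →* G')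
    (hf : Function.Surjective f) (hs : ∀ (g : G) (c : Ω), f g • c = g • c) (h2 : ∃ a b : Ω, a ≠ b) :
    TE Ω (f '' D)
variable [IsSimpleGroup G]
theorem Pre.nc (h : Pre Ω D) : ¬ IsMulCommutative G
theorem Pre.trans (h : Pre Ω D) (a b : Ω) : ∃ g : G, g • a = b
theorem Pre.finite (h : Pre Ω D) : Finite Ω
theorem Pre.faith (h : Pre Ω D) {g : G} (hg : ∀ c : Ω, g • c = c) : g = 1
theorem Pre.norm_ne_top (h : Pre Ω D) (h1 : L ≠ ⊥) (h2 : ∀ x ∈ L, x • a = a) : 𝐍(L) ≠ ⊤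
theorem Pre.cent_ne_top (h : Pre Ω D) {η : G} (h1 : η ≠ 1) : 𝐂[η] ≠ ⊤
theorem Pre.loc (h : Pre Ω D) (hL : L ≠ ⊤) (hA : Fr D L a A) (h4 : 4 ≤ #|A|) (hb : b ∈ Cov Ω (D ∩ L)) (hab : b ≠ a) :
    ∃ R, Loc D L a A R
-/
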