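import Cfsg.Agent.WA.ITeF
import Cfsg.Agent.WA.TeQ2b

/- LINKED interface; the statements, proved in the imported files:

variable {G Ω : Type u} [Group G] [Finite G] [MulAction G Ω] {A : Ω → Subgroup G} {q r : ℕ} {F : Set Ω} {a b c : Ω}
  {g k s t w x y z η : G} {L P Q U : Subgroup G}
variable [IsSimpleGroup G]
theorem Fn.XX_sylow (h : Fn A q (q ^ 2)) (ht : DP A t) (ha : t • a = a) : IsSylowIn 2 (XX A a t) 𝐂(A a)
theorem Fn.q2 (h : Fn A q (q ^ 2)) (ht : DP A t) (ha : t • a = a) : ∃ y ∈ XX A a t, y * y = 1 ∧ y ∉ ES A a t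
-/
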