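import Cfsg.Agent.WA.IZdB
import Cfsg.Agent.WA.Zd1

/- LINKED interface; the statements, proved in the imported files:

variable {G Ω : Type u} [Group G] [Finite G] [MulAction G Ω] {𝒮 D : Set G} {a b c : Ω} {d e g k s t u w x y z : G}
  {L P T : Subgroup G} {A R : Ω → Subgroup G} {q r m lam : ℕ}
  [IsSimpleGroup G]
theorem Pz.type1 (h : Pz Ω 𝒮 D) : ∃ t, Invo t ∧ t ∉ D ∧ ∃ d ∈ D, ∃ e ∈ D, d ≠ e ∧ d * e = e * d ∧ t * d = d * t ∧
    t * e = e * t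
-/
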