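import Cfsg.Agent.WA.ZdDef
import Cfsg.Agent.WA.ZdB1
import Cfsg.Agent.WA.ZdB2

/- LINKED interface; the statements, proved in the imported files:

variable {G Ω : Type u} [Group G] [Finite G] [MulAction G Ω] {𝒮 D : Set G} {a b c : Ω} {d e g k s t u w x y z : G}
  {L P T : Subgroup G} {A R : Ω → Subgroup G} {q r m lam : ℕ}
theorem TD.eq_of_fix (h : TD Ω D) (hd : d ∈ D) (ha : d • a = a) (hb : d • b = b) : a = b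
theorem TD.fix_of_comm (h : TD Ω D) (hd : d ∈ D) (ha : d • a = a) (hc : g * d = d * g) : g • a = a
theorem TD.mem_of_pow (h : TD Ω D) (hd : d ∈ D) (he : e ∈ D) {n : ℕ} (hn : Invo ((d * e) ^ n)) : (d * e) ^ n ∈ D
theorem TD.odd_mul (h : TD Ω D) (hd : d ∈ D) (he : e ∈ D) (ha : d • a = a) (hb : e • b = b) (hab : a ≠ b) :
    Odd (orderOf (d * e))
theorem TD.exists_swap (h : TD Ω D) (hd : d ∈ D) (he : e ∈ D) (ha : d • a = a) (hb : e • b = b) (hab : a ≠ b) :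
    ∃ w ∈ D, w ∈ closure ({d, e} : Set G) ∧ w * d * w = e ∧ w • a = b ∧ w • b = a
theorem TD.swap_unique (h : TD Ω D) (hd : d ∈ D) (ha : d • a = a) {w' : G} (hw : w ∈ D) (hw' : w' ∈ D) (h1 : w • a ≠ a)
    (e : w * d * w = w' * d * w') : w = w'
theorem TD.exists_swap_in (h : TD Ω D) (ha : a ∈ Cov Ω (D ∩ L)) (hb : b ∈ Cov Ω (D ∩ L)) (hab : a ≠ b) :
    ∃ w ∈ D, w ∈ L ∧ w • a = b ∧ w • b = a
theorem TD.conj_in (h : TD Ω D) (ha : a ∈ Cov Ω (D ∩ L)) (hb : b ∈ Cov Ω (D ∩ L)) (hab : a ≠ b) (hd : d ∈ D)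
    (hdL : d ∈ L) (he : e ∈ D) (heL : e ∈ L) : ∃ g ∈ closure (D ∩ L), g * d * g⁻¹ = e
theorem TD.cov_smul (h : TD Ω D) (hg : g ∈ L) (ha : a ∈ Cov Ω (D ∩ L)) : g • a ∈ Cov Ω (D ∩ L)
theorem TD.mul_not_mem (h : TD Ω D) (ht : Invo t) (ht' : t ∉ D) (hd : d ∈ D) (hc : t * d = d * t) :
    Invo (t * d) ∧ t * d ∉ D
-- `d y ∈ D` if `d` inverts the element `y` of odd order 
theorem TD.mul_mem_of_inv (h : TD Ω D) (hd : d ∈ D) (ho : Odd (orderOf y)) (hi : d * y * d = y⁻¹) : d * y ∈ D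
theorem TD.trans (h : TD Ω D) (hc : ∀ a : Ω, a ∈ Cov Ω D) (a b : Ω) : ∃ g ∈ closure D, g • a = b
theorem TD.norm_closure (h : TD Ω D) (L : Subgroup G) : L ≤ 𝐍(closure (D ∩ L))
theorem TD.sub (h : TD Ω D) (L : Subgroup G) : TD Ω {x : L | (x : G) ∈ D}
theorem TD.subAct (h : TD Ω D) (S : SubMulAction G Ω) (hS : ∀ c ∈ Cov Ω D, c ∈ S) : TD S D
theorem TD.se (h : TD Ω D) (co : Co Ω D) (hc : ∀ a : Ω, a ∈ Cov Ω D) (h2 : ∃ a b : Ω, a ≠ b) : SE (closure D) Ω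
theorem TD.comm_ker (h : TD Ω D) (co : Co Ω D) (hc : ∀ a : Ω, a ∈ Cov Ω D) (h2 : ∃ a b : Ω, a ≠ b)
    (hr : ∃ d ∈ D, ∃ e ∈ D, d ≠ e ∧ d * e = e * d) (hd : d ∈ D) (he : e ∈ D) (ha : d • a = a) (hb : e • a = a)
    (c : Ω) : ⁅d, e⁆ • c = c
theorem TD.te (h : TD Ω D) (hm : ∀ d ∈ D, ∀ e ∈ D, ∀ a : Ω, d • a = a → e • a = a → d * e = e * d) : TE Ω D
-- two elements of `D` whose product is a `2`-element fix the same point 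
theorem TD.same_pt (h : TD Ω D) (hd : d ∈ D) (he : e ∈ D) (ha : d • a = a) (h2 : ∃ n, (d * e) ^ 2 ^ n = 1) :
    e • a = a
theorem TD.odd_of_fix (h : TD Ω D) (hd : d ∈ D) (he : e ∈ D) (hab : a ≠ b) (ha : (d * e) • a = a)
    (hb : (d * e) • b = b) : Odd (orderOf (d * e))
-- (L1) 
theorem TD.l1 (h : TD Ω D) (hz : z ∈ D) (ha : z • a = a) (ho : Odd (orderOf y)) (h1 : y ≠ 1) (hi : z * y * z = y⁻¹)
    (hu : u ∈ D) (hc : u * y = y * u) : u • a = a ∧ 𝐂[y] ≤ stabilizer G a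
-- a product of two elements interchanging `a` and `b` centralizes no element of `D` fixing `a` 
theorem TD.sw_comm (h : TD Ω D) (hab : a ≠ b) {w' : G} (hw : w ∈ D) (hw' : w' ∈ D) (h1 : w • a = b) (h2 : w' • a = b)
    (hd : d ∈ D) (ha : d • a = a) (hc : w * w' * d = d * (w * w')) : w = w'
theorem TD.exists_st2_conj (h : TD Ω D) (hab : a ≠ b) (hb : b ∈ Cov Ω D) (hd : d ∈ D) (he : e ∈ D) (ha : d • a = a)
    (ha' : e • a = a) : ∃ k ∈ st2 G a b, k * d * k⁻¹ = e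
-- two elements interchanging `a` and `b` are conjugate by a power of their product 
theorem TD.sw_conj (h : TD Ω D) (hab : a ≠ b) {w' : G} (hw : w ∈ D) (hw' : w' ∈ D) (h1 : w • a = b) (h2 : w' • a = b) :
    ∃ k ∈ zpowers (w' * w), k * w * k⁻¹ = w'
theorem TD.ncard_sw (h : TD Ω D) (hab : a ≠ b) (ha : a ∈ Cov Ω D) (hb : b ∈ Cov Ω D) :
    {w | w ∈ D ∧ w • a = b}.ncard = {d | d ∈ D ∧ d • a = a}.ncard
theorem TD.card_st2_smul (h : TD Ω D) (hc : ∀ a : Ω, a ∈ Cov Ω D) (hab : a ≠ b) (hz : z ∈ D) (ha : z • a = a) :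
    #|st2 G a b| = #|st2 G b (z • b)|
theorem TD.c1_exists (h : TD Ω D) (ht : Invo t) (ht' : t ∉ D) (he : e ∈ D) (hc : e • c = c) (hn : t • c ≠ c) :
    ∃ w ∈ D, t * w = w * t ∧ t * w * e = e * (t * w)
theorem TD.c1_unique (h : TD Ω D) (ht : Invo t) (ht' : t ∉ D) (he : e ∈ D) (hc : e • c = c) (hn : t • c ≠ c) (hw : w ∈ D)
    (h1 : t * w = w * t) (h2 : t * w * e = e * (t * w)) {w' : G} (hw' : w' ∈ D)
    (h1' : t * w' = w' * t) (h2' : t * w' * e = e * (t * w')) : w = w'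
theorem TD.c1_transport (h : TD Ω D) (g s : G) (a : Ω) :
    {d | d ∈ D ∧ d ∈ 𝐂[g * s * g⁻¹] ∧ d • (g • a) = g • a}.ncard = {d | d ∈ D ∧ d ∈ 𝐂[s] ∧ d • a = a}.ncard
-- ### `ZD` 
theorem ZD.mem (h : ZD Ω 𝒮 D) (hd : d ∈ D) : d ∈ 𝒮
theorem ZD.pow_mem (h : ZD Ω 𝒮 D) (hs : s ∈ 𝒮) (n : ℕ) : s ^ n ∈ 𝒮
theorem ZD.inv_mem (h : ZD Ω 𝒮 D) (hs : s ∈ 𝒮) : s⁻¹ ∈ 𝒮
theorem ZD.exists_S (h : ZD Ω 𝒮 D) (hP : IsPGroup 2 P) :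
    ∃ S : Subgroup G, (∀ x, x ∈ S ↔ x ∈ 𝒮 ∧ x ∈ P) ∧ S ≤ P ∧ 𝐍(P) ≤ 𝐍(S)
theorem ZD.eq_one (h : ZD Ω 𝒮 D) (hs : s ∈ 𝒮) (hab : a ≠ b) (ha : s • a = a) (hb : s • b = b) : s = 1
-- a `2`-group meeting `𝒮` nontrivially has a central element in `D` 
theorem ZD.exists_center (h : ZD Ω 𝒮 D) (hP : IsPGroup 2 P) (hs : s ∈ 𝒮) (hsP : s ∈ P) (h1 : s ≠ 1) :
    ∃ z ∈ D, z ∈ P ∧ ∀ x ∈ P, x * z = z * x
theorem ZD.fix_of_two (h : ZD Ω 𝒮 D) (hP : IsPGroup 2 P) (hd : d ∈ D) (hdP : d ∈ P) (ha : d • a = a) (hx : x ∈ P) :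
    x • a = a
theorem ZD.exists_cent (h : ZD Ω 𝒮 D) (hc : a ∈ Cov Ω D) (hP : IsPGroup 2 P) (ha : ∀ x ∈ P, x • a = a) :
    ∃ d ∈ D, d • a = a ∧ ∀ x ∈ P, x * d = d * x
theorem ZD.cov_cent (h : ZD Ω 𝒮 D) (hc : ∀ a : Ω, a ∈ Cov Ω D) (ht : Invo t) : Cov Ω (D ∩ 𝐂[t]) = fixedBy Ω t
-- ### `Pz` 
variable [IsSimpleGroup G]
theorem Pz.td (h : Pz Ω 𝒮 D) : TD Ω D
theorem Pz.trans (h : Pz Ω 𝒮 D) (a b : Ω) : ∃ g : G, g • a = b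
theorem Pz.ncomm (h : Pz Ω 𝒮 D) : ¬ IsMulCommutative G
theorem Pz.finite (h : Pz Ω 𝒮 D) : Finite Ω
theorem Pz.faith (h : Pz Ω 𝒮 D) (hg : ∀ c : Ω, g • c = c) : g = 1
theorem Pz.norm_ne_top (h : Pz Ω 𝒮 D) (h1 : L ≠ ⊥) (h2 : ∀ x ∈ L, x • a = a) : 𝐍(L) ≠ ⊤
theorem Pz.cent_ne_top (h : Pz Ω 𝒮 D) (h1 : x ≠ 1) : 𝐂[x] ≠ ⊤
theorem Pz.isConj (h : Pz Ω 𝒮 D) (hd : d ∈ D) (he : e ∈ D) : ∃ g : G, g * d * g⁻¹ = e
theorem Pz.nc_at (h : Pz Ω 𝒮 D) (a : Ω) :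
    ∃ d ∈ D, ∃ e ∈ D, d • a = a ∧ e • a = a ∧ d * e ≠ e * d ∧ ∃ n, (d * e) ^ 2 ^ n = 1
theorem Pz.nc_sylow (h : Pz Ω 𝒮 D) (hT : IsSylowIn 2 T ⊤) : ∃ d ∈ D, ∃ e ∈ D, d ∈ T ∧ e ∈ T ∧ d * e ≠ e * d
-- no element of `D` commutes with all elements of `D` that fix the same point 
theorem Pz.not_central (h : Pz Ω 𝒮 D) (hz : z ∈ D) (ha : z • a = a) : ∃ e ∈ D, e • a = a ∧ z * e ≠ e * z
theorem Pz.two_fix (h : Pz Ω 𝒮 D) (ht : Invo t) (ht' : t ∉ D) (a : Ω) : ∃ b, b ≠ a ∧ t • b = b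
-- Thompson transfer 
theorem Pz.thompson (h : Pz Ω 𝒮 D) (hT : IsSylowIn 2 T ⊤) (hP : P ≤ T) (h2 : #|T| ≤ 2 * #|P|) (ht : Invo t) :
    ∃ g : G, g * t * g⁻¹ ∈ P
-- ### `Lt` 
omit [IsSimpleGroup G]
theorem Lt.four (h : Lt D t A R q r) : 4 ≤ q
theorem Lt.memD (h : Lt D t A R q r) (hx : x ∈ A c) (h1 : x ≠ 1) : x ∈ D
theorem Lt.comm_t (h : Lt D t A R q r) (hx : x ∈ A c) : t * x = x * t
theorem Lt.fixA (h : Lt D t A R q r) (hx : x ∈ A c) : x • c = c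
theorem Lt.sqA (h : Lt D t A R q r) (hd : TD Ω D) (hx : x ∈ A c) : x * x = 1
theorem Lt.comm (h : Lt D t A R q r) (hd : TD Ω D) (hx : x ∈ A c) (hy : y ∈ A c) : x * y = y * x
theorem Lt.twoA (h : Lt D t A R q r) (hd : TD Ω D) (c : Ω) : IsPGroup 2 (A c)
theorem Lt.exists_ne (h : Lt D t A R q r) (hc : t • c = c) (y z : G) : ∃ x ∈ A c, x ≠ 1 ∧ x ≠ y ∧ x ≠ z
theorem Lt.X_le (h : Lt D t A R q r) (hx : x ∈ closure (D ∩ 𝐂[t])) : t * x = x * t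
theorem Lt.conjA (h : Lt D t A R q r) (hd : TD Ω D) (hg : g * t = t * g) (hx : x ∈ A c) : g * x * g⁻¹ ∈ A (g • c)
theorem Lt.normA (h : Lt D t A R q r) (hd : TD Ω D) (hg : g * t = t * g) (hc : g • c = c) : g ∈ 𝐍(A c)
theorem Lt.fix_of_norm (h : Lt D t A R q r) (hz : ZD Ω 𝒮 D) (hc : t • c = c) (hg : g ∈ 𝐍(A c)) : g • c = c
-- `R c` is semiregular on all the other points 
theorem Lt.free (h : Lt D t A R q r) (hd : TD Ω D) (hc : t • c = c) (hx : x ∈ R c) (hb : b ≠ c) (e : x • b = b) :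
    x = 1
theorem Lt.R_eq (h : Lt D t A R q r) (hr : r = q) (hc : t • c = c) : R c = A c
-- the fibres of the squaring map 
theorem Lt.fibre (h : Lt D t A R q r) (hd : TD Ω D) (hc : t • c = c) (hz : z ∈ A c) (h1 : z ≠ 1) :
    {x | x ∈ R c ∧ x * x = z}.ncard * (q - 1) = r - q
-/
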