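import Cfsg.Agent.WA.IZdB
import Cfsg.Agent.WA.ZdC

/- LINKED interface; the statements, proved in the imported files:

variable {G Ω : Type u} [Group G] [Finite G] [MulAction G Ω] {𝒮 D : Set G} {a b c : Ω} {d e g k s t u w x y z : G}
  {L P T : Subgroup G} {A R : Ω → Subgroup G} {q r m lam : ℕ}
  [IsSimpleGroup G]
theorem Pz.ct (h : Pz Ω 𝒮 D) (hl : Lt D t A R q r) : ∃ m lam, Ct 𝒮 D t A R q r m lam
-- `C_D(t z)` and `C_D(t)` agree at the point `a` 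
theorem Ct.mem_tz (h : Ct 𝒮 D t A R q r m lam) (ha : t • a = a) (hz : z ∈ A a) (hd : d ∈ D) (hda : d • a = a)
    (hc : t * z * d = d * (t * z)) : d ∈ A a
theorem Ct.odd_J (h : Ct 𝒮 D t A R q r m lam) (hc : t • c ≠ c) : Odd #|JJ D t c|
theorem Ct.J_le (h : Ct 𝒮 D t A R q r m lam) (hx : x ∈ JJ D t c) :
    x ∈ closure (D ∩ 𝐂[t]) ∧ x • c = c ∧ x • t • c = t • c
-- an element normalizing `Sg` normalizes `JJ` 
theorem Ct.norm_J (h : Ct 𝒮 D t A R q r m lam) (hg : ∀ e ∈ Sg D t c, g * e * g⁻¹ ∈ Sg D t c) : g ∈ 𝐍(JJ D t c)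
theorem Ct.Sg_conj (h : Ct 𝒮 D t A R q r m lam) (hg : g * t = t * g) (he : e ∈ Sg D t c) :
    g * e * g⁻¹ ∈ Sg D t (g • c)
theorem Ct.Sg_norm (h : Ct 𝒮 D t A R q r m lam) (he : e ∈ Sg D t c) : e ∈ 𝐍(JJ D t c)
-- the elements of `Sg` fix different points 
theorem Ct.Sg_inj (h : Ct 𝒮 D t A R q r m lam) (hc : t • c ≠ c) (hd : d ∈ Sg D t c) (he : e ∈ Sg D t c) (ha : d • a = a)
    (hb : e • a = a) : d = e
theorem Ct.prime (h : Ct 𝒮 D t A R q r m lam) {p : ℕ} (hp : p.Prime) (hm : p ∣ m) :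
    p ≠ 2 ∧ ∃ d ∈ D, ∃ e ∈ D, t * d = d * t ∧ t * e = e * t ∧ p ∣ orderOf (d * e)
-- (C6) 
theorem Ct.cz (h : Ct 𝒮 D t A R q r m lam) (hm : m ≤ q + 1) (ha : t • a = a) (he : e ∈ D) (hc : e ∈ 𝐂(A a)) :
    e ∈ A a
-/
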