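import Cfsg.Agent.WA.IZdU
import Cfsg.Agent.WA.ZdLa
import Cfsg.Agent.WA.ZdL

/- LINKED interface; the statements, proved in the imported files:

variable {G Ω : Type u} [Group G] [Finite G] [MulAction G Ω] {𝒮 D : Set G} {a b c : Ω} {d e g k s t u w x y z : G}
  {L P T : Subgroup G} {A R : Ω → Subgroup G} {q r m lam : ℕ}
  [IsSimpleGroup G]
theorem Pz.lt (h : Pz Ω 𝒮 D) (ht : Invo t) (ht' : t ∉ D) (hd : d ∈ D) (he : e ∈ D) (hne : d ≠ e) (hc : d * e = e * d)
    (h1 : t * d = d * t) (h2 : t * e = e * t) : ∃ (A R : Ω → Subgroup G) (q r : ℕ), Lt D t A R q r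
-/
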