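import Cfsg.Agent.WA.IZdO
import Cfsg.Agent.WA.ZdQ3

/- LINKED interface; the statements, proved in the imported files:

variable {G Ω : Type u} [Group G] [Finite G] [MulAction G Ω] {𝒮 D : Set G} {a b c : Ω} {d e g k s t u w x y z : G}
  {L P T : Subgroup G} {A R : Ω → Subgroup G} {q r m lam : ℕ}
  [IsSimpleGroup G]
theorem Ct.q3 (h : Ct 𝒮 D t A R q r m lam) (hr : r = q ^ 3) : False
-/
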