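import Cfsg.Agent.WA.IZdB
import Cfsg.Agent.WA.ZdU1
import Cfsg.Agent.WA.ZdU2

/- LINKED interface; the statements, proved in the imported files:

variable {G Ω : Type u} [Group G] [Finite G] [MulAction G Ω] {𝒮 D : Set G} {a b c : Ω} {d e g k s t u w x y z : G}
  {L P T : Subgroup G} {A R : Ω → Subgroup G} {q r m lam : ℕ}
  [IsSimpleGroup G]
theorem Pz.comm (h : Pz Ω 𝒮 D) (hL : L ≠ ⊤) (ha : a ∈ Cov Ω (D ∩ L)) (hb : b ∈ Cov Ω (D ∩ L)) (hab : a ≠ b)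
    (hr : ∃ d ∈ D ∩ L, ∃ e ∈ D ∩ L, d ≠ e ∧ d * e = e * d) (hd : d ∈ D) (hdL : d ∈ L) (he : e ∈ D) (heL : e ∈ L)
    (hdc : d • c = c) (hec : e • c = c) : d * e = e * d
-/
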