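import Cfsg.Agent.WA.LkDef

/-! Basic facts on the frame, part a: field lemmas, coordinates, action on `Q`. -/

set_option autoImplicit false
set_option linter.unusedSectionVars false

namespace Cfsg.Agent.WA.Lk

open Subgroup Cfsg.Agent.H1.U3 Cfsg.Agent.H8

variable {F : Type*} [Field F] [Finite F] {σ : F →+* F} [Ctx σ] {G : Type*} [Group G] [Finite G]

theorem nm_fixed (a : F) : σ (nm σ a) = nm σ a := norm_fixed a

theorem bl_fixed (a b : F) : σ (bl σ a b) = bl σ a b := by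
  simp only [bl, map_add, map_mul, invol]; ring

theorem nm_eq_zero {a : F} : nm σ a = 0 ↔ a = 0 := by
  simp [nm]

theorem exists_sqrt {x : F} (hx : σ x = x) : ∃ y, σ y = y ∧ y ^ 2 = x := by
  have : CharP F 2 := charP_two σ
  have : Fact (Nat.Prime 2) := ⟨Nat.prime_two⟩
  have hinj := frobenius_inj F 2
  obtain ⟨y, hy⟩ := (Finite.injective_iff_surjective.1 hinj) x
  refine ⟨y, hinj ?_, hy⟩
  change (σ y) ^ 2 = y ^ 2
  rw [← map_pow, show y ^ 2 = x from hy, hx]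

theorem pol {W : AddSubgroup F} (hW : ∀ l, σ l = l → ∀ x ∈ W, l * x ∈ W) {g : F → F → F}
    (h1 : ∀ x ∈ W, ∀ x' ∈ W, ∀ y ∈ W, g (x + x') y = g x y + g x' y)
    (h2 : ∀ x ∈ W, ∀ y ∈ W, ∀ y' ∈ W, g x (y + y') = g x y + g x y')
    (h3 : ∀ l, σ l = l → ∀ x ∈ W, ∀ y ∈ W, g (l * x) (l * y) = l ^ 2 * g x y)
    {l x y : F} (hl : σ l = l) (hx : x ∈ W) (hy : y ∈ W) :
    g (l * x) y = l * g x y ∧ g x (l * y) = l * g x y := by
  have k : ∀ l, σ l = l → ∀ x ∈ W, ∀ y ∈ W, g (l * x) y = g x (l * y) := by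
    intro l hl x hx y hy
    have e := h3 (l + 1) (by rw [map_add, hl, map_one]) x hx y hy
    rw [add_mul, add_mul, one_mul, one_mul, h1 _ (hW l hl x hx) _ hx _ (W.add_mem (hW l hl y hy) hy),
      h2 _ (hW l hl x hx) _ (hW l hl y hy) _ hy, h2 _ hx _ (hW l hl y hy) _ hy, h3 l hl x hx y hy] at e
    linear_combination e + (l * g x y - g x (l * y)) * two σ
  obtain ⟨m, hm, rfl⟩ := exists_sqrt hl
  have e1 : g (m ^ 2 * x) y = m ^ 2 * g x y := by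
    rw [pow_two, mul_assoc, k m hm _ (hW m hm x hx) y hy, h3 m hm x hx y hy, pow_two]
  exact ⟨e1, by rw [← k _ hl x hx y hy, e1]⟩

theorem exists_nm {x : F} (hx : σ x = x) : ∃ a, nm σ a = x := by
  obtain ⟨y, hy, rfl⟩ := exists_sqrt hx
  exact ⟨y, by rw [nm, hy, pow_two]⟩

theorem exists_bl {a x : F} (ha : a ≠ 0) (hx : σ x = x) : ∃ b, bl σ a b = x := by
  obtain ⟨z, hz⟩ := exists_trace hx
  have : σ a ≠ 0 := (map_ne_zero σ).2 ha
  refine ⟨z / σ a, ?_⟩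
  rw [bl, map_div₀, invol, ← hz]
  field_simp

theorem exists_fix {c : F} (hc : nm σ c = 1) : ∃ a₀, a₀ ≠ 0 ∧ (∀ a, c * σ a = a ↔ ∃ l, σ l = l ∧ a = l * a₀) ∧
    ∀ a, c * σ a = a → ∃ b, b + c * σ b = a := by
  obtain ⟨ω, hω⟩ := Ctx.ex (σ := σ)
  rw [nm] at hc
  obtain ⟨a₀, h0, h1⟩ : ∃ a₀, a₀ ≠ 0 ∧ c * σ a₀ = a₀ := by
    by_cases h : c = 1
    · exact ⟨1, one_ne_zero, by rw [h, map_one, mul_one]⟩
    · refine ⟨1 + c, fun e => h (by linear_combination e - two σ), ?_⟩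
      rw [map_add, map_one]
      linear_combination hc
  refine ⟨a₀, h0, fun a => ⟨fun h => ⟨a / a₀, ?_, by field_simp⟩, ?_⟩, fun a h => ⟨ω * a, ?_⟩⟩
  · have : σ a₀ ≠ 0 := (map_ne_zero σ).2 h0
    rw [map_div₀, div_eq_div_iff this h0]
    linear_combination σ a₀ * h - σ a * h1
  · rintro ⟨l, hl, rfl⟩
    rw [map_mul, hl]
    linear_combination l * h1
  · rw [map_mul]
    linear_combination σ ω * h + a * hω

theorem Fr.four_le (f : Fr σ G) : 4 ≤ f.q :=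
  Nat.pow_le_pow_right (n := 2) (by norm_num) f.hn

theorem Fr.card_F (f : Fr σ G) : Nat.card F = f.q ^ 2 := by
  rw [f.hF, Fr.q, ← pow_mul, mul_comm, pow_mul]; norm_num

theorem Fr.card_K (f : Fr σ G) : Nat.card (KK σ) = f.q := by
  have := Fintype.ofFinite F
  exact card_KK (by rw [← Nat.card_eq_fintype_card, f.hF])

theorem Fr.exists_K (f : Fr σ G) (x y : F) : ∃ l : F, σ l = l ∧ l ≠ 0 ∧ l ≠ x ∧ l ≠ y := by
  by_contra h
  push Not at h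
  have h1 : ((KK σ : AddSubgroup F) : Set F) ⊆ {0, x, y} := fun l hl => by
    by_cases h0 : l = 0
    · simp [h0]
    by_cases h2 : l = x
    · simp [h2]
    · simp [h l hl h0 h2]
  have h2 := Set.ncard_le_ncard h1
  have h3 : ({0, x, y} : Set F).ncard ≤ 3 :=
    (Set.ncard_insert_le _ _).trans (Nat.succ_le_succ ((Set.ncard_insert_le _ _).trans (by simp)))
  have h4 : ((KK σ : AddSubgroup F) : Set F).ncard = f.q := f.card_K
  have := f.four_le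
  omega

theorem Fr.vv_of (f : Fr σ G) {x : F} (hx : σ x = x) : f.vv x = f.j (zz x hx) := dif_pos hx

theorem Fr.vv_add (f : Fr σ G) {x y : F} (hx : σ x = x) (hy : σ y = y) :
    f.vv (x + y) = f.vv x * f.vv y := by
  rw [f.vv_of hx, f.vv_of hy, f.vv_of (by rw [map_add, hx, hy]), ← map_mul]
  congr 1
  ext <;> simp

theorem Fr.vv_zero (f : Fr σ G) : f.vv 0 = 1 := by
  rw [f.vv_of (map_zero σ), ← map_one f.j]
  congr 1

theorem Fr.vv_inj (f : Fr σ G) {x y : F} (hx : σ x = x) (hy : σ y = y) (h : f.vv x = f.vv y) :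
    x = y := by
  rw [f.vv_of hx, f.vv_of hy] at h
  exact congrArg US.b (f.j_inj h)

theorem Fr.j_eq_vv (f : Fr σ G) {u : US σ} (h : u.a = 0) : f.j u = f.vv u.b := by
  rw [f.vv_of (fixed_of_a h)]
  congr 1
  ext <;> simp [h]

theorem Fr.mem_V (f : Fr σ G) {v : G} : v ∈ f.V ↔ ∃ x, σ x = x ∧ f.vv x = v := by
  constructor
  · rintro ⟨u, hu, rfl⟩
    have := H1.U3.mem_center_iff.1 hu
    exact ⟨u.b, fixed_of_a this, (f.j_eq_vv this).symm⟩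
  · rintro ⟨x, hx, rfl⟩
    exact ⟨zz x hx, H1.U3.mem_center_iff.2 rfl, (f.vv_of hx).symm⟩

theorem Fr.vv_mem (f : Fr σ G) (x : F) : f.vv x ∈ f.V := by
  by_cases hx : σ x = x
  · exact f.mem_V.2 ⟨x, hx, rfl⟩
  · rw [Fr.vv, dif_neg hx]; exact one_mem _

theorem Fr.j_mem_V (f : Fr σ G) {u : US σ} : f.j u ∈ f.V ↔ u.a = 0 := by
  rw [Fr.V, mem_map_iff_mem f.j_inj, H1.U3.mem_center_iff]

theorem Fr.V_le_Q (f : Fr σ G) : f.V ≤ f.Q := map_le_range _ _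

theorem Fr.j_sq (f : Fr σ G) (u : US σ) : f.j u * f.j u = f.vv (nm σ u.a) := by
  rw [← map_mul, f.j_eq_vv (sq_a u), sq_b]; rfl

theorem Fr.V_sq (f : Fr σ G) {v : G} (hv : v ∈ f.V) : v * v = 1 := by
  obtain ⟨u, hu, rfl⟩ := hv
  rw [f.j_sq, H1.U3.mem_center_iff.1 hu, nm, mul_zero, f.vv_zero]

theorem Fr.V_comm (f : Fr σ G) {v : G} (hv : v ∈ f.V) (u : US σ) : v * f.j u = f.j u * v := by
  obtain ⟨r, hr, rfl⟩ := hv
  rw [← map_mul, ← map_mul, Subgroup.mem_center_iff.1 hr u]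

theorem Fr.j_cm (f : Fr σ G) (u r : US σ) :
    f.j u * f.j r * (f.j u)⁻¹ * (f.j r)⁻¹ = f.vv (bl σ u.a r.a) := by
  rw [← map_inv, ← map_inv, ← map_mul, ← map_mul, ← map_mul, f.j_eq_vv (by simp)]
  congr 1
  simp only [mul_b, mul_a, inv_a, inv_b, map_add, map_neg, bl]
  linear_combination u.h + r.h - (σ r.a * u.a) * two σ

theorem Fr.card_V (f : Fr σ G) : Nat.card f.V = f.q := by
  rw [Fr.V, card_map_of_injective f.j_inj, card_center, f.card_K]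

theorem Fr.card_Q (f : Fr σ G) : Nat.card f.Q = f.q ^ 3 := by
  have := Fintype.ofFinite F
  rw [← Nat.card_congr (MonoidHom.ofInjective f.j_inj).toEquiv,
    card_US (n := f.n) (by rw [← Nat.card_eq_fintype_card, f.hF])]
  rfl

theorem Fr.E_comm (f : Fr σ G) {a b : G} (ha : a ∈ f.E) (hb : b ∈ f.E) : a * b = b * a := by
  have h := f.E_sq _ (f.E.mul_mem ha hb)
  calc a * b = a * (a * b * (a * b)) * b := by rw [h, mul_one]
    _ = (a * a) * b * a * (b * b) := by group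
    _ = b * a := by rw [f.E_sq a ha, f.E_sq b hb]; group

theorem Fr.E_le_C (f : Fr σ G) : f.E ≤ f.C := fun _ hx _ hy => f.E_comm hy hx

theorem Fr.mem_C (f : Fr σ G) {e x : G} (he : e ∈ f.E) (h1 : e ≠ 1) : x ∈ f.C ↔ x * e = e * x := by
  rw [Fr.C, ← f.cen e he h1, mem_centralizer_singleton_iff]

theorem Fr.Q_le_U (f : Fr σ G) : f.Q ≤ f.U := by
  rintro _ ⟨u, rfl⟩; exact f.jU u

theorem Fr.Q_le_C (f : Fr σ G) : f.Q ≤ f.C := f.Q_le_U.trans f.U_le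

theorem Fr.mem_sup (f : Fr σ G) {X : Subgroup G} (hX : X ≤ f.C) {x : G} :
    x ∈ f.E ⊔ X ↔ ∃ e ∈ f.E, ∃ v ∈ X, x = e * v := by
  have h : f.E ≤ normalizer (X : Set G) := fun e he =>
    centralizer_le_normalizer _ fun y hy => (hX hy e he).symm
  constructor
  · intro hx
    rw [← SetLike.mem_coe, coe_mul_of_left_le_normalizer_right _ _ h] at hx
    obtain ⟨e, he, v, hv, rfl⟩ := hx
    exact ⟨e, he, v, hv, rfl⟩
  · rintro ⟨e, he, v, hv, rfl⟩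
    exact mul_mem_sup he hv

theorem Fr.card_sup (f : Fr σ G) {X : Subgroup G} (hX : X ≤ f.U) :
    Nat.card ↥(f.E ⊔ X) = Nat.card f.E * Nat.card X := by
  rw [← Nat.card_prod]
  refine (Nat.card_eq_of_bijective (fun p : f.E × X =>
    (⟨p.1 * p.2, mul_mem_sup p.1.2 p.2.2⟩ : ↥(f.E ⊔ X))) ⟨?_, ?_⟩).symm
  · rintro ⟨⟨e, he⟩, ⟨x, hx⟩⟩ ⟨⟨e', he'⟩, ⟨x', hx'⟩⟩ h
    have h1 : e * x = e' * x' := congrArg Subtype.val h
    have h2 : e'⁻¹ * e = 1 := f.disj _ (f.E.mul_mem (f.E.inv_mem he') he) (by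
      rw [show e'⁻¹ * e = x' * x⁻¹ by rw [inv_mul_eq_iff_eq_mul, ← mul_assoc, ← h1]; group]
      exact hX (X.mul_mem hx' (X.inv_mem hx)))
    obtain rfl : e' = e := inv_mul_eq_one.1 h2
    obtain rfl : x = x' := mul_left_cancel h1
    rfl
  · rintro ⟨y, hy⟩
    obtain ⟨e, he, x, hx, rfl⟩ := (f.mem_sup (hX.trans f.U_le)).1 hy
    exact ⟨(⟨e, he⟩, ⟨x, hx⟩), rfl⟩

theorem Fr.mem_A (f : Fr σ G) {x : G} : x ∈ f.A ↔ ∃ e ∈ f.E, ∃ v ∈ f.V, x = e * v :=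
  f.mem_sup (f.V_le_Q.trans f.Q_le_C)

theorem Fr.mem_T1 (f : Fr σ G) {x : G} : x ∈ f.T1 ↔ ∃ e ∈ f.E, ∃ u, x = e * f.j u := by
  rw [Fr.T1, f.mem_sup f.Q_le_C]
  exact ⟨fun ⟨e, he, _, ⟨u, rfl⟩, h⟩ => ⟨e, he, u, h⟩, fun ⟨e, he, u, h⟩ => ⟨e, he, _, ⟨u, rfl⟩, h⟩⟩

theorem Fr.card_A (f : Fr σ G) : Nat.card f.A = Nat.card f.E * f.q := by
  rw [Fr.A, f.card_sup (f.V_le_Q.trans f.Q_le_U), f.card_V]

theorem Fr.card_T1 (f : Fr σ G) : Nat.card f.T1 = Nat.card f.E * f.q ^ 3 := by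
  rw [Fr.T1, f.card_sup f.Q_le_U, f.card_Q]

theorem Fr.sq_mul (f : Fr σ G) {e x : G} (he : e ∈ f.E) (hx : x ∈ f.C) :
    e * x * (e * x) = x * x := by
  calc _ = e * (x * e) * x := by group
    _ = _ := by rw [← hx e he, ← mul_assoc, f.E_sq e he, one_mul]

theorem Fr.mem_A_of_sq (f : Fr σ G) {x : G} (hx : x ∈ f.T1) (h : x * x = 1) : x ∈ f.A := by
  obtain ⟨e, he, u, rfl⟩ := f.mem_T1.1 hx
  rw [f.sq_mul he (f.Q_le_C ⟨u, rfl⟩), f.j_sq, ← f.vv_zero] at h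
  exact f.mem_A.2 ⟨e, he, _, f.j_mem_V.2
    (nm_eq_zero.1 (f.vv_inj (nm_fixed _) (map_zero σ) h)), rfl⟩

theorem Fr.E_pg (f : Fr σ G) : IsPGroup 2 f.E := fun x =>
  ⟨1, Subtype.ext (by simpa [pow_two] using f.E_sq x x.2)⟩

theorem Fr.E_le_T (f : Fr σ G) : f.E ≤ f.T :=
  f.T_syl.le_of_le_normalizer f.E_pg f.E_le_C (f.T_syl.le.trans (centralizer_le_normalizer _))

theorem Fr.T1_le_T (f : Fr σ G) : f.T1 ≤ f.T :=
  sup_le f.E_le_T (by rintro _ ⟨u, rfl⟩; exact f.jT u)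

theorem Fr.T_le_D (f : Fr σ G) : f.T ≤ f.D := le_inf f.T_syl.le f.T_N

theorem Fr.d_mem_D (f : Fr σ G) (μ : Fˣ) : f.d μ ∈ f.D :=
  mem_inf.mpr ⟨f.U_le (f.dU μ), H9.mem_normalizer_of_conj_mem (by
    rintro _ ⟨u, rfl⟩; exact ⟨_, (f.d_j μ u).symm⟩)⟩

theorem Fr.T_dec (f : Fr σ G) {x : G} (hx : x ∈ f.T) : ∃ e ∈ f.E, ∃ u ∈ f.T ⊓ f.U, x = e * u := by
  obtain ⟨e, he, u, hu, rfl⟩ := f.dec x (f.T_syl.le hx)
  exact ⟨e, he, u, mem_inf.mpr ⟨by
    simpa using f.T.mul_mem (f.T.inv_mem (f.E_le_T he)) hx, hu⟩, rfl⟩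

theorem Fr.conj_U (f : Fr σ G) {x u : G} (hx : x ∈ f.C) (hu : u ∈ f.U) : x * u * x⁻¹ ∈ f.U := by
  obtain ⟨e, he, y, hy, rfl⟩ := f.dec x hx
  have h := f.U.mul_mem (f.U.mul_mem hy hu) (f.U.inv_mem hy)
  have : e * y * u * (e * y)⁻¹ = y * u * y⁻¹ := by
    calc _ = e * (y * u * y⁻¹) * e⁻¹ := by group
      _ = _ := by rw [f.U_le h e he]; group
  rwa [this]

theorem Fr.odd_mem_U (f : Fr σ G) {x : G} (hx : x ∈ f.C) (ho : Odd (orderOf x)) : x ∈ f.U := by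
  obtain ⟨e, he, y, hy, rfl⟩ := f.dec x hx
  obtain ⟨k, hk⟩ := ho
  have h := pow_orderOf_eq_one (e * y)
  have hc : Commute e y := f.U_le hy e he
  rw [hc.mul_pow, hk, pow_succ, pow_mul, pow_two, f.E_sq e he, one_pow, one_mul,
    mul_eq_one_iff_eq_inv] at h
  rw [f.disj e he (h ▸ f.U.inv_mem (f.U.pow_mem hy _)), one_mul]
  exact hy

theorem Fr.conj_j (f : Fr σ G) {g : G} (hg : g ∈ normalizer (f.Q : Set G)) (u : US σ) :
    g * f.j u * g⁻¹ = f.j (f.aut g u) := by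
  rw [Fr.aut, dif_pos hg]
  change _ = f.j ((MonoidHom.ofInjective f.j_inj).symm _)
  rw [MonoidHom.apply_ofInjective_symm]
  rfl

theorem Fr.aut_a (f : Fr σ G) (g : G) (u : US σ) : (f.aut g u).a = f.cc g * f.tt g u.a :=
  (exists_semilinear (f.aut g)).choose_spec.choose_spec.2.1 u

theorem Fr.cc_ne (f : Fr σ G) (g : G) : f.cc g ≠ 0 :=
  (exists_semilinear (f.aut g)).choose_spec.choose_spec.1

theorem Fr.tt_fixed (f : Fr σ G) (g : G) {x : F} (hx : σ x = x) : σ (f.tt g x) = f.tt g x := by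
  rw [← comm_sig, hx]

theorem Fr.conj_vv (f : Fr σ G) {g : G} (hg : g ∈ normalizer (f.Q : Set G)) {x : F} (hx : σ x = x) :
    g * f.vv x * g⁻¹ = f.vv (nm σ (f.cc g) * f.tt g x) := by
  rw [f.vv_of hx, f.conj_j hg, f.j_eq_vv ((aut_a_eq_zero _).2 rfl)]
  congr 1
  exact (exists_semilinear (f.aut g)).choose_spec.choose_spec.2.2 _ rfl

theorem Fr.NQ_le_NV (f : Fr σ G) : normalizer (f.Q : Set G) ≤ normalizer (f.V : Set G) :=
  fun g hg => H9.mem_normalizer_of_conj_mem fun v hv => by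
    obtain ⟨x, hx, rfl⟩ := f.mem_V.1 hv
    rw [f.conj_vv hg hx]; exact f.vv_mem _

theorem Fr.ct_unique (f : Fr σ G) {g : G} {c : F} {τ : RingAut F}
    (h : ∀ u : US σ, (f.aut g u).a = c * τ u.a) : f.cc g = c ∧ f.tt g = τ := by
  have h1 : ∀ a, f.cc g * f.tt g a = c * τ a := fun a => by
    have := h (lift σ a)
    rwa [f.aut_a, lift_a] at this
  have h2 : f.cc g = c := by simpa using h1 1
  exact ⟨h2, RingEquiv.ext fun a => mul_left_cancel₀ (f.cc_ne g) (by rw [h1, h2])⟩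

theorem Fr.aut_mul (f : Fr σ G) {g h : G} (hg : g ∈ normalizer (f.Q : Set G))
    (hh : h ∈ normalizer (f.Q : Set G)) (u : US σ) : f.aut (g * h) u = f.aut g (f.aut h u) :=
  f.j_inj (by rw [← f.conj_j (mul_mem hg hh), ← f.conj_j hg, ← f.conj_j hh]; group)

theorem Fr.ct_mul (f : Fr σ G) {g h : G} (hg : g ∈ normalizer (f.Q : Set G))
    (hh : h ∈ normalizer (f.Q : Set G)) :
    f.cc (g * h) = f.cc g * f.tt g (f.cc h) ∧ f.tt (g * h) = f.tt g * f.tt h :=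
  f.ct_unique fun u => by
    rw [f.aut_mul hg hh, f.aut_a, f.aut_a, map_mul, ← mul_assoc]; rfl

theorem Fr.tt_mul (f : Fr σ G) {g h : G} (hg : g ∈ normalizer (f.Q : Set G))
    (hh : h ∈ normalizer (f.Q : Set G)) : f.tt (g * h) = f.tt g * f.tt h := (f.ct_mul hg hh).2

theorem Fr.cc_mul (f : Fr σ G) {g h : G} (hg : g ∈ normalizer (f.Q : Set G))
    (hh : h ∈ normalizer (f.Q : Set G)) : f.cc (g * h) = f.cc g * f.tt g (f.cc h) :=
  (f.ct_mul hg hh).1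

theorem Fr.ct_j (f : Fr σ G) (u : US σ) : f.cc (f.j u) = 1 ∧ f.tt (f.j u) = 1 :=
  f.ct_unique fun r => by
    have h := f.conj_j (le_normalizer (H := f.Q) ⟨u, rfl⟩) r
    rw [← map_inv, ← map_mul, ← map_mul] at h
    rw [← f.j_inj h]
    simp

theorem Fr.ct_cen (f : Fr σ G) {g : G} (hg : g ∈ centralizer (f.Q : Set G)) :
    f.cc g = 1 ∧ f.tt g = 1 :=
  f.ct_unique fun r => by
    have h := f.conj_j (centralizer_le_normalizer _ hg) r
    rw [← hg _ ⟨r, rfl⟩, mul_inv_cancel_right] at h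
    rw [← f.j_inj h]
    simp

theorem Fr.ct_one (f : Fr σ G) : f.cc 1 = 1 ∧ f.tt 1 = 1 := f.ct_cen (one_mem _)

theorem Fr.tt_inv (f : Fr σ G) {g : G} (hg : g ∈ normalizer (f.Q : Set G)) :
    f.tt g⁻¹ = (f.tt g)⁻¹ :=
  eq_inv_of_mul_eq_one_left (by rw [← f.tt_mul (inv_mem hg) hg, inv_mul_cancel, f.ct_one.2])

theorem Fr.tt_pow (f : Fr σ G) {g : G} (hg : g ∈ normalizer (f.Q : Set G)) (k : ℕ) :
    f.tt (g ^ k) = f.tt g ^ k := by
  induction k with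
  | zero => simp [f.ct_one.2]
  | succ k ih => rw [pow_succ, f.tt_mul (pow_mem hg k) hg, ih, pow_succ]

theorem Fr.ct_d (f : Fr σ G) (μ : Fˣ) :
    f.cc (f.d μ) = σ μ ^ 2 / μ ∧ f.tt (f.d μ) = 1 ∧ nm σ (f.cc (f.d μ)) = nm σ (μ : F) := by
  have h := f.ct_unique (g := f.d μ) (c := σ μ ^ 2 / μ) (τ := 1) fun r => by
    rw [← f.j_inj ((f.d_j μ r).symm.trans (f.conj_j (f.d_mem_D μ).2 r))]
    rfl
  refine ⟨h.1, h.2, ?_⟩
  have := H7.Mu.σ_ne (σ := σ) μ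
  rw [h.1, nm, nm, map_div₀, map_pow, invol]
  field_simp

theorem Fr.cc_d_K (f : Fr σ G) {μ : Fˣ} (h : σ μ = μ) : f.cc (f.d μ) = μ := by
  rw [(f.ct_d μ).1, h]
  field_simp

theorem Fr.exists_d_cube (f : Fr σ G) {x : F} (hx : x ≠ 0) : ∃ μ : Fˣ, f.cc (f.d μ) = x ^ 3 := by
  have : σ x ≠ 0 := (map_ne_zero σ).2 hx
  refine ⟨Units.mk0 (x * σ x ^ 2) (by positivity), ?_⟩
  rw [(f.ct_d _).1, Units.val_mk0, map_mul, map_pow, invol]
  field_simp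

theorem Fr.exists_h0 (f : Fr σ G) : ∃ μ : Fˣ, nm σ (μ : F) = 1 ∧ f.cc (f.d μ) ≠ 1 ∧
    σ (f.cc (f.d μ)) ≠ f.cc (f.d μ) ∧ nm σ (f.cc (f.d μ)) = 1 := by
  obtain ⟨ω, hω⟩ := Ctx.ex (σ := σ)
  obtain ⟨l, hl, h0, h1, h2⟩ := f.exists_K (nm σ ω) (nm σ ω + 1)
  obtain ⟨k, hk, hν⟩ : ∃ k, σ k = k ∧ nm σ (ω + k) ≠ 1 := by
    by_cases h : nm σ ω = 1
    · obtain ⟨k, hk, k0, k1, -⟩ := f.exists_K 1 1
      refine ⟨k, hk, fun e => ?_⟩
      simp only [nm, map_add, hk] at e h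
      have : k * (k - 1) = 0 := by linear_combination e - h - k * hω - k * two σ
      rcases mul_eq_zero.1 this with h3 | h3
      · exact k0 h3
      · exact k1 (sub_eq_zero.1 h3)
    · exact ⟨0, map_zero σ, by rwa [add_zero]⟩
  set x := ω + k with hx
  have ht : x + σ x = 1 := by rw [hx, map_add, hk]; linear_combination hω + k * two σ
  have hx0 : x ≠ 0 := fun e => by rw [e] at ht; simp at ht
  have hσ : σ x ≠ 0 := (map_ne_zero σ).2 hx0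
  let μ : Fˣ := Units.mk0 (σ x / x) (div_ne_zero hσ hx0)
  have hμ : nm σ (μ : F) = 1 := by
    simp only [μ, Units.val_mk0, nm, map_div₀, invol]; field_simp
  have h3 : nm σ (f.cc (f.d μ)) = 1 := (f.ct_d μ).2.2.trans hμ
  have h4 : f.cc (f.d μ) ≠ 1 := fun e => by
    rw [(f.ct_d μ).1] at e
    simp only [μ, Units.val_mk0, map_div₀, invol] at e
    field_simp at e
    apply hν
    rw [nm]
    have e2 : σ x = 1 - x := by linear_combination ht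
    rw [e2] at e ⊢
    linear_combination (-1 : F) * e + (x ^ 3 - 2 * x ^ 2 + 2 * x - 1) * two σ
  refine ⟨μ, hμ, h4, fun e => h4 ?_, h3⟩
  rw [nm, e, ← pow_two] at h3
  exact eq_one_of_pow_two_pow σ (k := 1) h3

theorem Fr.cc_eq_one (f : Fr σ G) {g : G} (hg : g ∈ normalizer (f.Q : Set G))
    (h2 : ∃ k, g ^ 2 ^ k = 1) (h : f.tt g = 1) : f.cc g = 1 := by
  obtain ⟨k, hk⟩ := h2
  have : ∀ m : ℕ, f.cc (g ^ m) = f.cc g ^ m := fun m => by
    induction m with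
    | zero => simp [f.ct_one.1]
    | succ m ih => rw [pow_succ', f.cc_mul hg (pow_mem hg m), h, ih, pow_succ']; rfl
  exact eq_one_of_pow_two_pow σ (k := k) (by rw [← this, hk, f.ct_one.1])

end Cfsg.Agent.WA.Lk
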