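import Cfsg.Agent.WA.Lk0a
import Cfsg.Agent.H7.TwoTools

/-! Basic facts on the frame, part b. -/

set_option autoImplicit false
set_option linter.unusedSectionVars false

namespace Cfsg.Agent.WA.Lk

open Subgroup Cfsg.Agent.H1.U3 Cfsg.Agent.H8

variable {F : Type*} [Field F] [Finite F] {σ : F →+* F} [Ctx σ] {G : Type*} [Group G] [Finite G]

theorem sign_one {t : G} (hG : ∀ K : Subgroup G, K.index = 2 → t ∈ K) {Ω : Type*} [Fintype Ω]
    [DecidableEq Ω] [MulAction G Ω] : Equiv.Perm.sign (MulAction.toPermHom G Ω t) = 1 := by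
  by_contra h
  set f := Equiv.Perm.sign.comp (MulAction.toPermHom G Ω) with hf
  refine h (hG f.ker ?_)
  rw [index_ker]
  have : f.range = ⊤ := by
    rw [eq_top_iff]
    intro u _
    rcases Int.units_eq_one_or u with rfl | rfl
    · exact one_mem _
    · exact ⟨t, (Int.units_eq_one_or _).resolve_left h⟩
  rw [this, card_top, Nat.card_eq_fintype_card, Fintype.card_units_int]

theorem thompson {t : G} (hG : ∀ K : Subgroup G, K.index = 2 → t ∈ K) {H M : Subgroup G}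
    (hH : Odd H.index) (hMH : M ≤ H) (hM : M.relIndex H = 2) (ht : t * t = 1)
    {T : Subgroup G} (hT : IsPGroup 2 T) (hTt : ∀ x ∈ T, x * t = t * x) :
    ∃ g : G, g⁻¹ * t * g ∈ M ∧ ∀ x ∈ T, g⁻¹ * x * g ∈ H := by
  classical
  have : Fact (Nat.Prime 2) := ⟨Nat.prime_two⟩
  let := Fintype.ofFinite (G ⧸ M)
  set X : Set G := {g | g⁻¹ * t * g ∈ M} with hX
  set π := MulAction.toPermHom G (G ⧸ M) t with hπ
  have hπ2 : π ^ 2 = 1 := by rw [hπ, ← map_pow, pow_two, ht, map_one]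
  have h1 := sign_one hG (Ω := G ⧸ M)
  rw [← hπ, Equiv.Perm.sign_of_pow_two_eq_one hπ2] at h1
  have h2 : Even ((Fintype.card (G ⧸ M) - Fintype.card (Function.fixedPoints π)) / 2) := by
    by_contra h
    rw [(Nat.not_even_iff_odd.1 h).neg_one_pow] at h1
    exact absurd h1 (by decide)
  have e1 : (QuotientGroup.mk ⁻¹' (Function.fixedPoints π) : Set G) = X := by
    ext g
    simp only [Set.mem_preimage, Function.mem_fixedPoints_iff, hπ, MulAction.toPermHom_apply,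
      MulAction.toPerm_apply, MulAction.Quotient.smul_mk, smul_eq_mul, hX, Set.mem_ofPred_eq]
    rw [eq_comm, QuotientGroup.eq, mul_assoc]
  set F : Set (G ⧸ H) := QuotientGroup.mk '' X with hF
  have e2 : (QuotientGroup.mk ⁻¹' F : Set G) = X := by
    ext g
    constructor
    · rintro ⟨g', hg', e⟩
      have h3 : g'⁻¹ * g ∈ H := QuotientGroup.eq.1 e
      have h4 := (H9.conj_mem_iff_of_relIndex_two hM (hMH hg') (H.inv_mem h3)).2 hg'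
      have : (g'⁻¹ * g)⁻¹ * (g'⁻¹ * t * g') * (g'⁻¹ * g)⁻¹⁻¹ = g⁻¹ * t * g := by group
      rwa [this] at h4
    · intro hg
      exact ⟨g, hg, rfl⟩
  have c1 := QuotientGroup.card_preimage_mk M (Function.fixedPoints π)
  have c2 := QuotientGroup.card_preimage_mk H F
  rw [e1] at c1
  rw [e2] at c2
  have c3 : Nat.card M * 2 = Nat.card H := hM ▸ H9.card_mul_relIndex hMH
  have c4 : Nat.card (Function.fixedPoints π) = 2 * Nat.card F := by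
    have : Nat.card M * Nat.card (Function.fixedPoints π) = Nat.card M * (2 * Nat.card F) := by
      rw [← c1, c2, ← c3]; ring
    exact Nat.eq_of_mul_eq_mul_left Nat.card_pos this
  have c5 : Fintype.card (G ⧸ M) = 2 * H.index := by
    rw [← Nat.card_eq_fintype_card, ← hM, relIndex_mul_index hMH]; rfl
  have c6 : Fintype.card (Function.fixedPoints π) ≤ Fintype.card (G ⧸ M) := Fintype.card_subtype_le _
  rw [← Nat.card_eq_fintype_card (α := Function.fixedPoints π), c4, c5] at h2 c6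
  have c7 : ¬ 2 ∣ Nat.card F := by
    obtain ⟨a, ha⟩ := hH
    obtain ⟨b, hb⟩ := h2
    omega
  obtain ⟨y, ⟨g, hg, rfl⟩, hy⟩ := H9.exists_fixed_of_not_dvd hT F (by
    rintro x _ ⟨g, hg, rfl⟩
    refine ⟨x * g, ?_, rfl⟩
    change ((x : G) * g)⁻¹ * t * (x * g) ∈ M
    have : ((x : G) * g)⁻¹ * t * (x * g) = g⁻¹ * t * g := by
      calc _ = g⁻¹ * (x : G)⁻¹ * (t * x) * g := by group
        _ = _ := by rw [← hTt x x.2]; group
    rwa [this]) c7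
  refine ⟨g, hg, fun x hx => ?_⟩
  have := hy ⟨x, hx⟩
  have h5 : ((x * g : G) : G ⧸ H) = (g : G ⧸ H) := this
  rw [eq_comm, QuotientGroup.eq] at h5
  rwa [mul_assoc]


theorem Fr.ker' (f : Fr σ G) {g : G} (hg : g ∈ f.D) (h1 : f.cc g = 1) (h2 : f.tt g = 1) :
    ∃ y ∈ f.T1, ∃ z ∈ f.Z, g = y * z := by
  obtain ⟨e, he, u, z, hz, h⟩ := f.ker g hg.1 fun u =>
    ⟨_, f.conj_j hg.2 u, by rw [f.aut_a, h1, h2]; simp⟩
  exact ⟨_, f.mem_T1.2 ⟨e, he, u, rfl⟩, z, hz, h⟩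

theorem Fr.Z_comm (f : Fr σ G) {y z : G} (hy : y ∈ f.T1) (hz : z ∈ f.Z) : Commute y z := by
  obtain ⟨e, he, u, rfl⟩ := f.mem_T1.1 hy
  exact Commute.mul_left (f.U_le (f.ZU hz) e he) (f.Zj z hz u).symm

theorem Fr.T1_four (f : Fr σ G) {y : G} (hy : y ∈ f.T1) : y ^ 4 = 1 := by
  obtain ⟨e, he, u, rfl⟩ := f.mem_T1.1 hy
  rw [show 4 = 2 * 2 from rfl, pow_mul, pow_two (e * _), f.sq_mul he (f.Q_le_C ⟨u, rfl⟩), f.j_sq,
    pow_two, f.V_sq (f.vv_mem _)]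

theorem eq_one_of_three_two {z : G} (h3 : z ^ 3 = 1) {k : ℕ} (h2 : z ^ 2 ^ k = 1) : z = 1 := by
  have := Nat.dvd_gcd (orderOf_dvd_of_pow_eq_one h3) (orderOf_dvd_of_pow_eq_one h2)
  rwa [show Nat.gcd 3 (2 ^ k) = 1 from Nat.Coprime.pow_right k (by norm_num), Nat.dvd_one,
    orderOf_eq_one_iff] at this

theorem eq_one_of_odd_two {z : G} (h : Odd (orderOf z)) {k : ℕ} (h2 : z ^ 2 ^ k = 1) : z = 1 :=
  orderOf_eq_one_iff.1 (((Nat.coprime_two_right.2 h).pow_right k).eq_one_of_dvd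
    (orderOf_dvd_of_pow_eq_one h2))

theorem eq_one_of_odd_mul {y z : G} (hc : Commute y z) {k : ℕ} (hy : y ^ 2 ^ k = 1)
    (h1 : Odd (orderOf z)) (h2 : Odd (orderOf (y * z))) : y = 1 := by
  refine eq_one_of_odd_two ((h1.mul h2).of_dvd_nat (orderOf_dvd_of_pow_eq_one ?_)) hy
  have := hc.mul_pow (orderOf z * orderOf (y * z))
  rwa [pow_mul z, pow_orderOf_eq_one, one_pow, mul_one, mul_comm, pow_mul, pow_orderOf_eq_one, one_pow,
    eq_comm, mul_comm] at this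

theorem odd_conj {z : G} (h : Odd (orderOf z)) (g : G) : Odd (orderOf (g * z * g⁻¹)) :=
  h.of_dvd_nat (orderOf_dvd_of_pow_eq_one (by rw [conj_pow, pow_orderOf_eq_one]; group))

theorem cen_of_two {Z : Subgroup G} {c z : G} (hc : c ∈ centralizer (Z : Set G)) (hz : z ∈ Z)
    (ho : Odd (orderOf z)) (h2 : ∃ k, (c * z) ^ 2 ^ k = 1) : c * z ∈ centralizer (Z : Set G) := by
  obtain ⟨k, hk⟩ := h2
  rw [(show Commute c z from (hc z hz).symm).mul_pow] at hk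
  refine mul_mem hc ((zpowers_le.2 ?_ : zpowers (z ^ 2 ^ k) ≤ _) (mem_zpowers_pow_iff.2
    ((Nat.coprime_two_left.2 ho).pow_left k)))
  rw [eq_inv_of_mul_eq_one_right hk]
  exact inv_mem (pow_mem hc _)

theorem Fr.Z_two (f : Fr σ G) {z : G} (hz : z ∈ f.Z) {k : ℕ} (h : z ^ 2 ^ k = 1) : z = 1 :=
  eq_one_of_odd_two (f.Zo z hz) h

theorem Fr.mem_T1_of_two (f : Fr σ G) {g : G} (hg : g ∈ f.D) (h2 : ∃ k, g ^ 2 ^ k = 1)
    (h : f.tt g = 1) : g ∈ f.T1 := by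
  obtain ⟨y, hy, z, hz, rfl⟩ := f.ker' hg (f.cc_eq_one hg.2 h2 h) h
  obtain ⟨k, hk⟩ := h2
  have h1 : (y * z) ^ 2 ^ (k + 2) = 1 := by rw [pow_add, pow_mul, hk, one_pow]
  rw [(f.Z_comm hy hz).mul_pow, pow_add, mul_comm, pow_mul, show 2 ^ 2 = 4 from rfl, f.T1_four hy,
    one_pow, one_mul, show 4 * 2 ^ k = 2 ^ (k + 2) by ring] at h1
  rw [f.Z_two hz h1, mul_one]
  exact hy

theorem Fr.T1_le_C (f : Fr σ G) : f.T1 ≤ f.C := f.T1_le_T.trans f.T_syl.le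

theorem Fr.A_le_T1 (f : Fr σ G) : f.A ≤ f.T1 := sup_le_sup_left f.V_le_Q _

theorem Fr.A_sq (f : Fr σ G) {a : G} (ha : a ∈ f.A) : a * a = 1 := by
  obtain ⟨e, he, v, hv, rfl⟩ := f.mem_A.1 ha
  rw [f.sq_mul he (f.Q_le_C (f.V_le_Q hv)), f.V_sq hv]

theorem Fr.E_cen_Q (f : Fr σ G) : f.E ≤ centralizer (f.Q : Set G) := fun e he _ hx =>
  (f.Q_le_C hx e he).symm

theorem Fr.Z_cen_Q (f : Fr σ G) : f.Z ≤ centralizer (f.Q : Set G) := by
  rintro z hz _ ⟨u, rfl⟩; exact (f.Zj z hz u).symm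

theorem Fr.V_cen_Q (f : Fr σ G) : f.V ≤ centralizer (f.Q : Set G) := by
  rintro z hz _ ⟨u, rfl⟩; exact (f.V_comm hz u).symm

theorem Fr.cen_Q (f : Fr σ G) {g : G} (hg : g ∈ f.C) (hQ : g ∈ centralizer (f.Q : Set G)) :
    ∃ y ∈ f.A, ∃ z ∈ f.Z, g = y * z := by
  obtain ⟨y, hy, z, hz, rfl⟩ := f.ker' (mem_inf.mpr ⟨hg, centralizer_le_normalizer _ hQ⟩)
    (f.ct_cen hQ).1 (f.ct_cen hQ).2
  obtain ⟨e, he, u, rfl⟩ := f.mem_T1.1 hy
  have h1 : f.j u ∈ centralizer (f.Q : Set G) := by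
    have := mul_mem (mul_mem (inv_mem (f.E_cen_Q he)) hQ) (inv_mem (f.Z_cen_Q hz))
    simpa [mul_assoc] using this
  refine ⟨_, f.mem_A.2 ⟨e, he, _, ⟨u, Subgroup.mem_center_iff.2 fun r => f.j_inj ?_, rfl⟩, rfl⟩,
    z, hz, rfl⟩
  rw [map_mul, map_mul, h1 _ ⟨r, rfl⟩]

theorem Fr.conj_Z (f : Fr σ G) {g z : G} (hg : g ∈ f.D) (hz : z ∈ f.Z) : g * z * g⁻¹ ∈ f.Z := by
  obtain ⟨y, hy, z', hz', e⟩ := f.cen_Q (f.U_le (f.conj_U hg.1 (f.ZU hz)))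
    (H9.conj_mem_of_mem_normalizer (normalizer_le_normalizer_centralizer _ hg.2) (f.Z_cen_Q hz))
  rw [e, eq_one_of_odd_mul (f.Z_comm (f.A_le_T1 hy) hz') (k := 1) (by simpa [pow_two] using f.A_sq hy)
    (f.Zo z' hz') (e ▸ odd_conj (f.Zo z hz) g), one_mul]
  exact hz'

/-- `tt` as a homomorphism -/
noncomputable def Fr.ttH (f : Fr σ G) {X : Subgroup G} (hX : X ≤ f.T) : X →* RingAut F :=
  MonoidHom.mk' (fun x => f.tt x) fun a b => f.tt_mul (f.T_N (hX a.2)) (f.T_N (hX b.2))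

theorem Fr.ct_T1 (f : Fr σ G) {y : G} (hy : y ∈ f.T1) : f.cc y = 1 ∧ f.tt y = 1 := by
  obtain ⟨e, he, u, rfl⟩ := f.mem_T1.1 hy
  have h1 := f.ct_cen (f.E_cen_Q he)
  have h2 := f.ct_mul (centralizer_le_normalizer _ (f.E_cen_Q he)) (le_normalizer (H := f.Q) ⟨u, rfl⟩)
  rw [h2.1, h2.2, h1.1, h1.2, (f.ct_j u).1, (f.ct_j u).2]
  simp

theorem Fr.mem_T1_iff (f : Fr σ G) {x : G} (hx : x ∈ f.T) : x ∈ f.T1 ↔ f.tt x = 1 :=
  ⟨fun h => (f.ct_T1 h).2,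
    f.mem_T1_of_two (f.T_le_D hx) (H9.exists_pow_eq_one_of_mem f.T_syl.pgroup hx)⟩

theorem Fr.relIndex_T1 (f : Fr σ G) {X : Subgroup G} (hX : X ≤ f.T) :
    f.T1.relIndex X = Nat.card (f.ttH hX).range := by
  rw [← index_ker, relIndex]
  congr 1
  ext x
  exact f.mem_T1_iff (hX x.2)

theorem Fr.relIndex_dvd (f : Fr σ G) {X : Subgroup G} (hX : X ≤ f.T) :
    f.T1.relIndex X ∣ 2 * f.n := by
  have := Fintype.ofFinite F
  rw [f.relIndex_T1 hX, ← card_ringAut (F := F) (m := 2 * f.n)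
    (by rw [← Nat.card_eq_fintype_card, f.hF, pow_mul]; norm_num)]
  exact card_subgroup_dvd_card _

theorem Fr.num (f : Fr σ G) : 4 * f.n < f.q ^ 2 := by
  have h : ∀ k, 4 * (k + 2) < (2 ^ (k + 2)) ^ 2 := fun k => by
    have := Nat.lt_two_pow_self (n := k)
    have h2 : 1 ≤ 2 ^ k := Nat.one_le_two_pow
    rw [pow_add]
    nlinarith
  obtain ⟨k, hk⟩ := Nat.exists_eq_add_of_le' f.hn
  rw [Fr.q, hk]; exact h k

theorem Fr.relIndex_lt (f : Fr σ G) {X : Subgroup G} (hX : X ≤ f.T) :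
    2 * f.T1.relIndex X < f.q ^ 2 := by
  have := Nat.le_of_dvd (by have := f.hn; omega) (f.relIndex_dvd hX)
  have := f.num
  omega

theorem Fr.card_T (f : Fr σ G) : ∃ m, m ∣ 2 * f.n ∧ 2 * m < f.q ^ 2 ∧ f.T1.relIndex f.T = m ∧
    Nat.card f.T = Nat.card f.E * f.q ^ 3 * m :=
  ⟨_, f.relIndex_dvd le_rfl, f.relIndex_lt le_rfl, rfl, by
    rw [← f.card_T1, H9.card_mul_relIndex f.T1_le_T]⟩

theorem Fr.exists_gen (f : Fr σ G) : ∃ φ ∈ f.T ⊓ f.U, ∀ x ∈ f.T, ∃ i : ℕ, (φ ^ i)⁻¹ * x ∈ f.T1 := by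
  have : CharP F 2 := charP_two σ
  have := isCyclic_ringAut (F := F)
  obtain ⟨⟨_, ⟨y, hy⟩, rfl⟩, hg⟩ := IsCyclic.exists_monoid_generator (α := (f.ttH le_rfl).range)
  obtain ⟨e, he, φ, hφ, rfl⟩ := f.T_dec hy
  refine ⟨φ, hφ, fun x hx => ?_⟩
  obtain ⟨i, hi⟩ := hg ⟨_, ⟨x, hx⟩, rfl⟩
  have h1 : f.tt (e * φ) ^ i = f.tt x := congrArg Subtype.val hi
  have h2 := f.T_N (f.T.pow_mem hφ.1 i)
  rw [f.tt_mul (f.T_N (f.E_le_T he)) (f.T_N hφ.1), (f.ct_cen (f.E_cen_Q he)).2, one_mul] at h1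
  refine ⟨i, (f.mem_T1_iff (f.T.mul_mem (f.T.inv_mem (f.T.pow_mem hφ.1 i)) hx)).2 ?_⟩
  rw [f.tt_mul (inv_mem h2) (f.T_N hx), f.tt_inv h2, f.tt_pow (f.T_N hφ.1), h1, inv_mul_cancel]

theorem Fr.tt_cases (f : Fr σ G) {g : G} (hg : g ∈ normalizer (f.Q : Set G))
    (h : f.tt (g * g) = 1) : f.tt g = 1 ∨ f.tt g = sigAut σ :=
  eq_one_or_sig _ (by rw [pow_two, ← f.tt_mul hg hg, h])

theorem cases_of_fix {τ : RingAut F} (h : ∀ x, σ x = x → τ x = x) : τ = 1 ∨ τ = sigAut σ := by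
  obtain ⟨ω, hω⟩ := Ctx.ex (σ := σ)
  have h1 : τ ω + σ (τ ω) = 1 := by rw [← comm_sig, ← map_add, hω, map_one]
  have h2 : σ (τ ω) * τ ω = σ ω * ω := by rw [← comm_sig, ← map_mul, h _ (norm_fixed ω)]
  have h3 : (τ ω - ω) * (τ ω - σ ω) = 0 := by
    linear_combination (τ ω) * h1 - τ ω * hω - h2
  have k : ∀ a, τ a = (a - (a + σ a) * ω) + (a + σ a) * τ ω := fun a => by
    have e1 : σ (a + σ a) = a + σ a := by rw [map_add, invol, add_comm]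
    have e2 : σ (a - (a + σ a) * ω) = a - (a + σ a) * ω := by
      rw [map_sub, map_mul, e1]
      linear_combination (-(a + σ a)) * hω + ((a + σ a) * ω - a) * two σ
    conv_lhs => rw [show a = (a - (a + σ a) * ω) + (a + σ a) * ω by ring]
    rw [map_add, map_mul, h _ e1, h _ e2]
  rcases mul_eq_zero.1 h3 with h4 | h4
  · exact Or.inl (RingEquiv.ext fun a => by rw [k, sub_eq_zero.1 h4]; simp)
  · refine Or.inr (RingEquiv.ext fun a => ?_)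
    rw [k, sub_eq_zero.1 h4, sigAut_apply]
    linear_combination (a + σ a) * hω + (a - (a + σ a) * ω) * two σ

theorem Fr.tt_of_cen_V (f : Fr σ G) {g : G} (hg : g ∈ normalizer (f.Q : Set G))
    (h : g ∈ centralizer (f.V : Set G)) :
    nm σ (f.cc g) = 1 ∧ (f.tt g = 1 ∨ f.tt g = sigAut σ) := by
  have k : ∀ x, σ x = x → nm σ (f.cc g) * f.tt g x = x := fun x hx => by
    have := f.conj_vv hg hx
    rw [← h _ (f.vv_mem x), mul_inv_cancel_right] at this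
    exact (f.vv_inj hx (by rw [map_mul, nm_fixed, f.tt_fixed g hx]) this).symm
  have h1 : nm σ (f.cc g) = 1 := by simpa using k 1 (map_one σ)
  exact ⟨h1, cases_of_fix fun x hx => by simpa [h1] using k x hx⟩

theorem Fr.nm_cc_of_sig (f : Fr σ G) {g : G} (hg : g ∈ normalizer (f.Q : Set G))
    (h : f.tt g = sigAut σ) (h2 : f.cc (g * g) = 1) :
    nm σ (f.cc g) = 1 ∧ g ∈ centralizer (f.V : Set G) := by
  rw [f.cc_mul hg hg, h, sigAut_apply, mul_comm] at h2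
  refine ⟨h2, fun v hv => ?_⟩
  obtain ⟨x, hx, rfl⟩ := f.mem_V.1 hv
  have := f.conj_vv hg hx
  rw [show nm σ (f.cc g) = 1 from h2, h, sigAut_apply, hx, one_mul] at this
  exact (mul_inv_eq_iff_eq_mul.1 this).symm

/-- the action of an element of type `σ` on `Q_Fix` -/
theorem Fr.sig_gen (f : Fr σ G) {g : G} (hg : g ∈ normalizer (f.Q : Set G))
    (h : f.tt g = sigAut σ) {w : US σ} (h2 : (f.j w)⁻¹ * (g * g) ∈ centralizer (f.Q : Set G))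
    {u : US σ} {b : F} (hb : b + f.cc g * σ b = u.a) :
    g * f.j u * g⁻¹ * f.j u = f.vv (bl σ w.a b) := by
  have hw : f.j w ∈ normalizer (f.Q : Set G) := le_normalizer (H := f.Q) ⟨w, rfl⟩
  have h3 : f.cc (g * g) = 1 := by
    have e := (f.ct_mul hw (centralizer_le_normalizer _ h2)).1
    rwa [mul_inv_cancel_left, (f.ct_j w).1, (f.ct_j w).2, (f.ct_cen h2).1, one_mul, map_one] at e
  obtain ⟨h4, h5⟩ := f.nm_cc_of_sig hg h h3
  obtain ⟨p, hp⟩ := exists_a (σ := σ) b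
  set p' := f.aut g p with hp'
  have e1 : g * f.j p * g⁻¹ = f.j p' := f.conj_j hg p
  have e2 : p'.a = f.cc g * σ b := by rw [hp', f.aut_a, h, hp]; rfl
  have e3 : g * f.j p' * g⁻¹ = f.vv (bl σ w.a b) * f.j p := by
    have := h2 _ ⟨p, rfl⟩
    rw [← e1, ← hp, ← f.j_cm]
    calc _ = f.j w * ((f.j w)⁻¹ * (g * g) * f.j p) * (g * g)⁻¹ := by group
      _ = _ := by rw [← this]; group
  obtain ⟨v, hv, e4⟩ : ∃ v ∈ f.V, f.j u = f.j p * f.j p' * v :=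
    ⟨f.j ((p * p')⁻¹ * u), f.j_mem_V.2 (by simp [hp, e2, ← hb]), by
      rw [← map_mul, ← map_mul, mul_inv_cancel_left]⟩
  have e5 : f.j p' * f.j p' = f.j p * f.j p := by
    rw [f.j_sq, f.j_sq, e2, hp]
    congr 1
    simp only [nm, map_mul, invol] at h4 ⊢
    linear_combination (b * σ b) * h4
  have e6 : f.j p * f.j p ∈ f.V := f.j_sq p ▸ f.vv_mem _
  have e7 : g * f.j u * g⁻¹ = f.j p' * (f.vv (bl σ w.a b) * f.j p) * v := by
    rw [e4, ← e3, ← e1]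
    calc _ = g * f.j p * (g * f.j p * g⁻¹) * (v * g⁻¹) := by group
      _ = _ := by rw [(inv_mem h5) v hv]; group
  rw [e7, e4]
  calc _ = (f.j p' * f.vv (bl σ w.a b)) * f.j p * (v * f.j p) * f.j p' * v := by group
    _ = f.vv (bl σ w.a b) * (f.j p' * (f.j p * f.j p)) * (v * f.j p') * v := by
      rw [← f.V_comm (f.vv_mem _), f.V_comm hv]; group
    _ = f.vv (bl σ w.a b) * (f.j p * f.j p * (f.j p' * f.j p')) * (v * v) := by
      rw [← f.V_comm e6, f.V_comm hv]; group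
    _ = _ := by rw [e5, f.V_sq e6, f.V_sq hv]; group

theorem Fr.sig_inv (f : Fr σ G) {g : G} (hg : g ∈ normalizer (f.Q : Set G))
    (h : f.tt g = sigAut σ) (h2 : g * g ∈ centralizer (f.Q : Set G)) {u : US σ}
    (hu : f.cc g * σ u.a = u.a) : g * f.j u * g⁻¹ = (f.j u)⁻¹ := by
  obtain ⟨-, -, -, h3⟩ := exists_fix (f.nm_cc_of_sig hg h (f.ct_cen h2).1).1
  obtain ⟨b, hb⟩ := h3 _ hu
  have := f.sig_gen hg h (w := 1) (by simpa using h2) hb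
  rw [one_a, show bl σ 0 b = 0 by simp [bl], f.vv_zero] at this
  exact eq_inv_of_mul_eq_one_left this

theorem Fr.sig_conj (f : Fr σ G) {g : G} (hg : g ∈ normalizer (f.Q : Set G))
    (h : f.tt g = sigAut σ) (h2 : g * g ∈ centralizer (f.Q : Set G)) {v : G} (hv : v ∈ f.V) :
    ∃ u, f.j u * g * (f.j u)⁻¹ = g * v := by
  obtain ⟨a₀, h0, h3, -⟩ := exists_fix (f.nm_cc_of_sig hg h (f.ct_cen h2).1).1
  obtain ⟨x, hx, rfl⟩ := f.mem_V.1 hv
  obtain ⟨l, hl, e⟩ := exists_sqrt (σ := σ) (x := x / nm σ a₀) (by rw [map_div₀, hx, nm_fixed])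
  have h4 := f.sig_inv hg h h2 (u := lift σ (l * a₀)) (by rw [lift_a]; exact (h3 _).2 ⟨l, hl, rfl⟩)
  have h5 := f.j_sq (lift σ (l * a₀))
  have h6 : nm σ (l * a₀) = x := by
    have : nm σ a₀ ≠ 0 := fun e => h0 (nm_eq_zero.1 e)
    rw [← div_mul_cancel₀ x this, ← e]
    simp only [nm, map_mul, hl]; ring
  rw [lift_a, h6] at h5
  refine ⟨(lift σ (l * a₀))⁻¹, ?_⟩
  rw [map_inv, ← h4, ← h5, h4]
  nth_rewrite 1 [← h4]
  group

theorem Fr.ct_div (f : Fr σ G) {g h : G} (hg : g ∈ normalizer (f.Q : Set G))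
    (hh : h ∈ normalizer (f.Q : Set G)) (h1 : f.cc g = f.cc h) (h2 : f.tt g = f.tt h) :
    f.cc (g * h⁻¹) = 1 ∧ f.tt (g * h⁻¹) = 1 := by
  have e := (f.ct_mul hh (inv_mem hh))
  rw [mul_inv_cancel, f.ct_one.1, f.ct_one.2] at e
  rw [f.cc_mul hg (inv_mem hh), f.tt_mul hg (inv_mem hh), h1, h2]
  exact ⟨e.1.symm, e.2.symm⟩

theorem Fr.mem_QZ (f : Fr σ G) {g : G} (hg : g ∈ f.D) (hU : g ∈ f.U) (h1 : f.cc g = 1)
    (h2 : f.tt g = 1) : ∃ u, ∃ z ∈ f.Z, g = f.j u * z := by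
  obtain ⟨y, hy, z, hz, rfl⟩ := f.ker' hg h1 h2
  obtain ⟨e, he, u, rfl⟩ := f.mem_T1.1 hy
  have := f.disj e he (by
    simpa [mul_assoc] using f.U.mul_mem (f.U.mul_mem hU (f.U.inv_mem (f.ZU hz))) (f.U.inv_mem (f.jU u)))
  exact ⟨u, z, hz, by rw [this, one_mul]⟩

theorem Fr.sig_sq (f : Fr σ G) {g : G} (hg : g ∈ f.D) (h : f.tt g = sigAut σ)
    (h2 : g * g ∈ f.V) : g * g = 1 := by
  obtain ⟨x, hx, e⟩ := f.mem_V.1 h2
  obtain ⟨l, hl, l0, l1, -⟩ := f.exists_K 1 1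
  let μ := Units.mk0 l l0
  have hd := f.d_mem_D μ
  have c1 : f.cc (f.d μ) = l := f.cc_d_K hl
  have t1 := (f.ct_d μ).2.1
  have h3 := f.ct_div (mul_mem hd.2 hg.2) (mul_mem hg.2 hd.2)
    (by rw [f.cc_mul hd.2 hg.2, f.cc_mul hg.2 hd.2, c1, t1, h, sigAut_apply, hl, mul_comm]; rfl)
    (by rw [f.tt_mul hd.2 hg.2, f.tt_mul hg.2 hd.2, t1, one_mul, mul_one])
  obtain ⟨u, z, hz, e1⟩ := f.mem_QZ (mul_mem (mul_mem hd hg) (inv_mem (mul_mem hg hd))) (by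
    have := f.U.mul_mem (f.dU μ) (f.conj_U hg.1 (f.U.inv_mem (f.dU μ)))
    convert this using 1; group) h3.1 h3.2
  have hz' := f.conj_Z hg hz
  have e2 : f.vv (nm σ l * x) = f.j (u * f.aut g u) * (z * (g * z * g⁻¹)) * f.vv x := by
    have : _ = f.vv (nm σ l * x) := (f.conj_vv hd.2 hx).trans (by rw [c1, t1]; rfl)
    rw [← this, map_mul, ← f.conj_j hg.2, e]
    calc _ = (f.d μ * g * (g * f.d μ)⁻¹) * g * ((f.d μ * g * (g * f.d μ)⁻¹) * g) := by group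
      _ = f.j u * (z * (g * f.j u * g⁻¹)) * (g * z * g⁻¹) * (g * g) := by rw [e1]; group
      _ = _ := by rw [f.conj_j hg.2, f.Zj z hz, ← f.conj_j hg.2]; group
  have e3 : z * (g * z * g⁻¹) = 1 := by
    refine f.Z_two (f.Z.mul_mem hz hz') (k := 2) (f.T1_four (le_sup_right
      (a := f.E) (b := f.Q) ?_))
    have := f.Q.mul_mem (f.Q.mul_mem (f.Q.inv_mem (⟨u * f.aut g u, rfl⟩ : _ ∈ f.Q))
      (f.V_le_Q (f.vv_mem (nm σ l * x)))) (f.Q.inv_mem (f.V_le_Q (f.vv_mem x)))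
    rw [e2] at this
    simpa [mul_assoc] using this
  rw [e3, mul_one] at e2
  have e4 : (u * f.aut g u).a = 0 := f.j_mem_V.1 (by
    rw [eq_mul_inv_of_mul_eq e2.symm]
    exact f.V.mul_mem (f.vv_mem _) (f.V.inv_mem (f.vv_mem _)))
  rw [mul_a, f.aut_a, h, sigAut_apply] at e4
  have e5 := f.sig_inv hg.2 h (f.V_cen_Q h2) (u := u) (by linear_combination e4 - u.a * two σ)
  rw [map_mul, ← f.conj_j hg.2, e5, mul_inv_cancel, one_mul] at e2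
  have e6 := f.vv_inj (by rw [map_mul, nm_fixed, hx]) hx e2
  have e7 : nm σ l ≠ 1 := fun e7 => l1 (eq_one_of_pow_two_pow σ (k := 1) (by
    rwa [nm, hl, ← pow_two] at e7))
  have e8 : x = 0 := by
    by_contra h0
    exact e7 (mul_right_cancel₀ h0 (by rw [e6, one_mul]))
  rw [← e, e8, f.vv_zero]

theorem Fr.nonsq (f : Fr σ G) {s : G} (hs : f.TC s) (x : G) : x * x ≠ s := by
  obtain ⟨e, he, h1, hc⟩ := hs
  obtain ⟨g, rfl⟩ := isConj_iff.1 hc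
  intro h
  have h2 : g⁻¹ * x * g * (g⁻¹ * x * g) = e := by
    calc _ = g⁻¹ * (x * x) * g := by group
      _ = e := by rw [h]; group
  obtain ⟨e', he', u, hu, e1⟩ := f.dec (g⁻¹ * x * g) ((f.mem_C he h1).2 (by rw [← h2]; group))
  rw [e1, f.sq_mul he' (f.U_le hu)] at h2
  exact h1 (f.disj e he (h2 ▸ f.U.mul_mem hu hu))

theorem Fr.not_VC (f : Fr σ G) {s : G} (hs : f.TC s) : ¬ f.VC s := by
  rintro ⟨v, hv, -, hc⟩
  obtain ⟨g, rfl⟩ := isConj_iff.1 hc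
  obtain ⟨x, hx, rfl⟩ := f.mem_V.1 hv
  obtain ⟨a, rfl⟩ := exists_nm hx
  refine f.nonsq hs (g * f.j (lift σ a) * g⁻¹) ?_
  rw [← lift_a (σ := σ) a, ← f.j_sq, lift_a]
  group

theorem Fr.exists_d_vv (f : Fr σ G) {x y : F} (hx : σ x = x) (hy : σ y = y) (x0 : x ≠ 0)
    (y0 : y ≠ 0) : ∃ μ : Fˣ, σ μ = μ ∧ f.d μ * f.vv x * (f.d μ)⁻¹ = f.vv y := by
  obtain ⟨l, hl, e⟩ := exists_sqrt (σ := σ) (x := y / x) (by rw [map_div₀, hx, hy])
  have l0 : l ≠ 0 := fun h => div_ne_zero y0 x0 (by rw [← e, h]; simp)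
  refine ⟨Units.mk0 l l0, hl, ?_⟩
  rw [f.conj_vv (f.d_mem_D _).2 hx, (f.ct_d _).2.2, (f.ct_d _).2.1, Units.val_mk0, nm, hl, ← pow_two,
    e]
  congr 1
  exact div_mul_cancel₀ y x0

theorem Fr.VC_conj (f : Fr σ G) {s v : G} (hs : f.VC s) (hv : v ∈ f.V) (h1 : v ≠ 1) :
    IsConj v s := by
  obtain ⟨w, hw, w1, hc⟩ := hs
  obtain ⟨x, hx, rfl⟩ := f.mem_V.1 hv
  obtain ⟨y, hy, rfl⟩ := f.mem_V.1 hw
  obtain ⟨μ, -, e⟩ := f.exists_d_vv hx hy (fun h => h1 (by rw [h, f.vv_zero]))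
    (fun h => w1 (by rw [h, f.vv_zero]))
  exact (isConj_iff.2 ⟨_, e⟩).trans hc

theorem Fr.mem_E_of_central (f : Fr σ G) {x : G} (hx : x ∈ f.C) (h2 : x * x = 1)
    (hc : ∀ y ∈ f.C, y * x = x * y) : x ∈ f.E := by
  obtain ⟨y, hy, z, hz, rfl⟩ := f.cen_Q hx fun y hy => hc y (f.Q_le_C hy)
  have h3 := (f.Z_comm (f.A_le_T1 hy) hz).mul_pow 2
  rw [pow_two, pow_two, h2, f.A_sq hy, one_mul] at h3
  obtain rfl := f.Z_two hz (k := 1) h3.symm
  obtain ⟨e, he, v, hv, rfl⟩ := f.mem_A.1 hy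
  by_cases h1 : v = 1
  · simpa [h1] using he
  exfalso
  obtain ⟨a, ha, rfl⟩ := f.mem_V.1 hv
  have a0 : a ≠ 0 := fun h => h1 (by rw [h, f.vv_zero])
  obtain ⟨l, hl, l0, l1, -⟩ := f.exists_K a a
  obtain ⟨μ, -, e1⟩ := f.exists_d_vv ha hl a0 l0
  have := hc _ (f.d_mem_D μ).1
  rw [mul_one, ← mul_assoc, ← (f.d_mem_D μ).1 e he, mul_assoc, mul_assoc, mul_left_cancel_iff] at this
  rw [this, mul_inv_cancel_right] at e1
  exact l1 (f.vv_inj ha hl e1).symm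

theorem Fr.mem_NE (f : Fr σ G) {e g : G} (he : e ∈ f.E) (h1 : e ≠ 1) (h : g * e * g⁻¹ ∈ f.E) :
    g ∈ normalizer (f.E : Set G) := by
  have h2 : cj g f.C = f.C := by
    rw [Fr.C, ← f.cen e he h1, cj_centralizer_singleton, f.cen _ h (by simpa using h1), f.cen e he h1]
  refine H9.mem_normalizer_of_conj_mem fun x hx => f.mem_E_of_central
    (h2 ▸ conj_mem_cj g (f.E_le_C hx)) (by rw [conj_mul, f.E_sq x hx]; simp) fun y hy => ?_
  have := mem_cj.1 (h2.symm ▸ hy : y ∈ cj g f.C) x hx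
  calc _ = g * (g⁻¹ * y * g * x) * g⁻¹ := by group
    _ = _ := by rw [← this]; group

theorem Fr.mem_C_of_two (f : Fr σ G) {g : G} (hg : g ∈ normalizer (f.E : Set G))
    (h2 : ∃ k, g ^ 2 ^ k = 1) : g ∈ f.C := by
  have : Fact (Nat.Prime 2) := ⟨Nat.prime_two⟩
  obtain ⟨e, he, h1, hc, -⟩ := H9.exists_ne_one_centralized (H9.isPGroup_zpowers h2) f.E_pg
    (zpowers_le.2 hg) f.E_ne
  exact (f.mem_C he h1).2 (hc g (mem_zpowers g))

theorem Fr.mem_D_of_comm (f : Fr σ G) {g v : G} (hg : g ∈ f.C) (hv : v ∈ f.V) (h1 : v ≠ 1)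
    (h : g * v * g⁻¹ ∈ f.V) : g ∈ f.D := by
  obtain ⟨u, -, rfl⟩ := hv
  obtain ⟨u', -, e⟩ := h
  exact mem_inf.mpr ⟨hg, f.ti g (centralizer_le_normalizer _ hg) u u'
    (fun h => h1 (by rw [h, map_one])) e.symm⟩

theorem Fr.inv_iff (f : Fr σ G) : Nat.card f.E = 2 ↔ ∃ t, f.Inv t := by
  rw [Nat.card_eq_two_iff' (1 : f.E)]
  constructor
  · rintro ⟨t, h1, h2⟩
    exact ⟨t, t.2, fun h => h1 (Subtype.ext h), fun e he => or_iff_not_imp_left.2 fun h =>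
      congrArg Subtype.val (h2 ⟨e, he⟩ fun h' => h (congrArg Subtype.val h'))⟩
  · rintro ⟨t, h⟩
    exact ⟨⟨t, h.tE⟩, fun e => h.t1 (congrArg Subtype.val e), fun e he =>
      Subtype.ext ((h.E2 e e.2).resolve_left fun h' => he (Subtype.ext h'))⟩

theorem Fr.card_E_cases (f : Fr σ G) : Nat.card f.E = 2 ∨ 4 ≤ Nat.card f.E := by
  have : Fact (Nat.Prime 2) := ⟨Nat.prime_two⟩
  obtain ⟨k, hk⟩ := IsPGroup.iff_card.1 f.E_pg
  rcases k with _ | _ | k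
  · exact absurd (card_eq_one.1 hk) f.E_ne
  · exact Or.inl hk
  · right
    have : 1 ≤ 2 ^ k := Nat.one_le_two_pow
    rw [hk, pow_add, pow_add]; omega

theorem Fr.con_of_transfer (f : Fr σ G) {t : G} (ht : f.Inv t) {R R₀ : Subgroup G}
    (hR : IsSylowIn 2 R ⊤) (hle : R₀ ≤ R) (hi : R₀.relIndex R = 2)
    (h : ∀ g, g * t * g⁻¹ ∈ R₀ → cj g f.T ≤ R → False) : f.Con := by
  have : Fact (Nat.Prime 2) := ⟨Nat.prime_two⟩
  have h2 := f.inv_iff.2 ⟨t, ht⟩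
  by_cases hG : ∀ K : Subgroup G, K.index = 2 → t ∈ K
  · obtain ⟨g, h1, h3⟩ := thompson hG (H := R) (Nat.not_even_iff_odd.1 fun e =>
      hR.not_dvd_relIndex (by rw [relIndex_top_right]; exact e.two_dvd)) hle hi (f.E_sq t ht.tE)
      f.T_syl.pgroup fun x hx => (f.T_syl.le hx t ht.tE).symm
    refine (h g⁻¹ (by simpa using h1) ?_).elim
    rintro _ ⟨x, hx, rfl⟩
    simpa using h3 x hx
  push Not at hG
  obtain ⟨K, hK, htK⟩ := hG
  refine Or.inr ⟨h2, K, isComplement'_of_card_mul_and_disjoint (by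
    rw [h2, ← hK, index_mul_card]) (disjoint_def.2 fun {x} hx hx' => ?_)⟩
  exact (ht.E2 x hx).resolve_right fun e => htK (e ▸ hx')

theorem Fr.con_of_sc (f : Fr σ G) {R X : Subgroup G} (hR : IsSylowIn 2 R ⊤) (hle : X ≤ R)
    (h1 : X ≠ ⊥) (h2 : ∀ x ∈ X, x * x = 1)
    (h : ∀ x ∈ X, ∀ g, g * x * g⁻¹ ∈ R → g * x * g⁻¹ ∈ X) : f.Con :=
  Or.inl ⟨hR.toSylowTop, X, h1, ⟨⟨⟨fun a b => Subtype.ext (H9.comm_of_sq_eq_one
    (fun x hx => by rw [pow_two, h2 x hx]) a.2 b.2)⟩⟩, fun x hx => by rw [pow_two, h2 x hx]⟩, hle, h⟩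

end Cfsg.Agent.WA.Lk
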