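import Cfsg.Agent.WA.ILk0

/-! Case I, and the kernel `W` of `N(A)` in Case II. -/

set_option autoImplicit false
set_option linter.unusedSectionVars false

namespace Cfsg.Agent.WA.Lk

open Subgroup Cfsg.Agent.H1.U3 Cfsg.Agent.H8

variable {F : Type*} [Field F] [Finite F] {σ : F →+* F} [Ctx σ] {G : Type*} [Group G] [Finite G]

theorem sig_ne_one : sigAut σ ≠ 1 := fun h => by
  obtain ⟨ω, hω⟩ := Ctx.ex (σ := σ)
  have : σ ω = ω := DFunLike.congr_fun h ω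
  exact one_ne_zero (α := F) (by linear_combination -hω + this + ω * two σ)

theorem sig_mul_sig : sigAut σ * sigAut σ = 1 := RingEquiv.ext fun a => invol a

theorem Fr.TC_conj (f : Fr σ G) {s : G} (h : f.TC s) (g : G) : f.TC (g * s * g⁻¹) := by
  obtain ⟨e, he, h1, hc⟩ := h
  exact ⟨e, he, h1, hc.trans (isConj_iff.2 ⟨g, rfl⟩)⟩

theorem Fr.TC_sq (f : Fr σ G) {s : G} (h : f.TC s) : s * s = 1 := by
  obtain ⟨e, he, -, hc⟩ := h
  obtain ⟨g, rfl⟩ := isConj_iff.1 hc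
  rw [conj_mul, f.E_sq e he]; simp

theorem Fr.TC_E (f : Fr σ G) {e : G} (he : e ∈ f.E) (h1 : e ≠ 1) : f.TC e := ⟨e, he, h1, .refl e⟩

theorem Fr.A_cen (f : Fr σ G) {a x : G} (ha : a ∈ f.A) (hx : x ∈ f.C)
    (hV : x ∈ centralizer (f.V : Set G)) : a * x = x * a := by
  obtain ⟨e, he, v, hv, rfl⟩ := f.mem_A.1 ha
  rw [mul_assoc, hV v hv, ← mul_assoc, hx e he, mul_assoc]

theorem Fr.T1_cen_V (f : Fr σ G) : f.T1 ≤ centralizer (f.V : Set G) := fun x hx v hv => by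
  obtain ⟨e, he, u, rfl⟩ := f.mem_T1.1 hx
  rw [← mul_assoc, ← f.Q_le_C (f.V_le_Q hv) e he, mul_assoc, f.V_comm hv, mul_assoc]

theorem Fr.exists_two_V (f : Fr σ G) :
    ∃ v ∈ f.V, v ≠ 1 ∧ ∃ w ∈ f.V, w ≠ 1 ∧ v * w ≠ 1 := by
  have := f.four_le
  obtain ⟨v, hv, hv1, -⟩ := H9.exists_ne_ne_of_two_lt_card (H := f.V) (by rw [f.card_V]; omega) 1
  obtain ⟨w, hw, hw1, h⟩ := H9.exists_ne_ne_of_two_lt_card (H := f.V) (by rw [f.card_V]; omega) v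
  exact ⟨v, hv, hv1, w, hw, hw1, fun e => h (mul_left_cancel (e.trans (f.V_sq hv).symm))⟩

theorem Fr.con_one (f : Fr σ G) (h : ∀ s ∈ f.A, f.TC s → s ∈ f.E) : f.Con := by
  have : Fact (Nat.Prime 2) := ⟨Nat.prime_two⟩
  obtain ⟨e₁, he₁, e1⟩ := f.E.bot_or_exists_ne_one.resolve_left f.E_ne
  have hT : IsSylowIn 2 f.T ⊤ := IsSylowIn.of_normalizer le_top
    ⟨le_inf le_top le_normalizer, f.T_syl.pgroup, fun X h1 h2 h3 => f.T_syl.max X (fun x hx => by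
      have h4 := H9.conj_mem_of_mem_normalizer (h1 hx).2 (f.E_le_T he₁)
      have h5 := f.TC_conj (f.TC_E he₁ e1) x
      refine f.mem_C_of_two (f.mem_NE he₁ e1 (h _ (f.mem_A_of_sq ((f.mem_T1_iff h4).2
        (f.ct_cen ?_).2) (f.TC_sq h5)) h5)) (H9.exists_pow_eq_one_of_mem h2 hx)
      rintro _ ⟨u, rfl⟩
      have := f.T_syl.le (H9.conj_mem_of_mem_normalizer' (h1 hx).2 (f.jT u)) e₁ he₁
      calc _ = x * (x⁻¹ * f.j u * x * e₁) * x⁻¹ := by group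
        _ = _ := by rw [← this]; group) h2 h3⟩
  have k1 : ∀ s ∈ f.T, f.TC s → s ∉ f.E → f.tt s = sigAut σ := fun s hs h1 h2 =>
    (f.tt_cases (f.T_N hs) (by rw [f.TC_sq h1, f.ct_one.2])).resolve_left fun h3 =>
      h2 (h s (f.mem_A_of_sq ((f.mem_T1_iff hs).2 h3) (f.TC_sq h1)) h1)
  have k2 : ∀ s ∈ f.T, f.TC s → s ∉ f.E → ∃ g, ∃ e ∈ f.E, e ≠ 1 ∧ g * e * g⁻¹ = s ∧
      ∀ a ∈ f.A, g⁻¹ * a * g ∈ f.T := fun s hs h1 h2 => by
    obtain ⟨g, e, he, h3, h4, h5⟩ := f.into_T h1 (f.T_syl.pgroup.to_le (f.A_le_T1.trans f.T1_le_T))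
      fun a ha => mem_centralizer_singleton_iff.2 (f.A_cen ha (f.T_syl.le hs)
        (f.nm_cc_of_sig (f.T_N hs) (k1 s hs h1 h2) (by rw [f.TC_sq h1, f.ct_one.1])).2)
    exact ⟨g, e, he, h3, h4, fun a ha => by simpa using h5 (conj_mem_cj g⁻¹ ha)⟩
  have k3 : ∀ {g a b : G}, g⁻¹ * a * g ∈ f.T → g⁻¹ * b * g ∈ f.T →
      f.tt (g⁻¹ * a * g) = sigAut σ → f.tt (g⁻¹ * b * g) = sigAut σ →
      f.tt (g⁻¹ * (a * b) * g) ≠ sigAut σ := fun {g a b} ha hb h1 h2 h3 => by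
    have := f.tt_mul (f.T_N ha) (f.T_N hb)
    rw [h1, h2, sig_mul_sig, show g⁻¹ * a * g * (g⁻¹ * b * g) = g⁻¹ * (a * b) * g by group,
      h3] at this
    exact sig_ne_one this
  rcases f.card_E_cases with h2 | h4
  · obtain ⟨t, ht⟩ := f.inv_iff.1 h2
    have tU : t ∉ f.U := fun e => ht.t1 (f.disj t ht.tE e)
    refine f.con_of_transfer ht hT (R₀ := f.T ⊓ f.U) inf_le_left
      (H9.relIndex_eq_two_of (f.E_le_T ht.tE) (fun e => tU e.2) fun s hs h1 => ?_) fun g hg _ => ?_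
    · obtain ⟨e, he, u, hu, rfl⟩ := f.T_dec hs
      rcases ht.E2 e he with rfl | rfl
      · exact absurd (by rwa [one_mul]) h1
      · rwa [f.U_le hu.2 e he, mul_assoc, f.E_sq e he, mul_one]
    have h1 := f.TC_conj (f.TC_E ht.tE ht.t1) g
    have h3 : g * t * g⁻¹ ∉ f.E := fun e => ht.t1 (by simpa using f.disj _ e hg.2)
    generalize g * t * g⁻¹ = s at hg h1 h3
    obtain ⟨k, e, he, e1, rfl, h5⟩ := k2 s hg.1 h1 h3
    have h6 : ∀ v ∈ f.V, v ≠ 1 → f.tt (k⁻¹ * v * k) = sigAut σ := fun v hv v1 => by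
      have m1 := h5 v (mem_sup_right hv)
      have m2 : k⁻¹ * v * k * (k⁻¹ * v * k) = 1 := by
        calc _ = k⁻¹ * (v * v) * k := by group
          _ = 1 := by rw [f.V_sq hv]; group
      refine (f.tt_cases (f.T_N m1) (by rw [m2, f.ct_one.2])).resolve_left fun m3 => ?_
      have m4 := f.mem_A_of_sq ((f.mem_T1_iff m1).2 m3) m2
      obtain ⟨u, hu⟩ := f.sig_conj (f.T_N hg.1) (k1 _ hg.1 h1 h3) (by
        rw [f.TC_sq h1]; exact one_mem _) hv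
      have m5 := f.TC_conj (f.TC_conj h1 (f.j u)) k⁻¹
      rw [hu, show k⁻¹ * (k * e * k⁻¹ * v) * k⁻¹⁻¹ = e * (k⁻¹ * v * k) by group] at m5
      have m6 := f.E.mul_mem (f.E.inv_mem he) (h _ (f.A.mul_mem (mem_sup_left he) m4) m5)
      rw [inv_mul_cancel_left] at m6
      exact f.not_VC (f.TC_E m6 (by simpa [mul_eq_one_iff_eq_inv'] using v1)) ⟨v, hv, v1, isConj_iff.2 ⟨k⁻¹, by simp⟩⟩
    obtain ⟨v, hv, v1, w, hw, w1, h7⟩ := f.exists_two_V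
    exact k3 (h5 v (mem_sup_right hv)) (h5 w (mem_sup_right hw)) (h6 v hv v1) (h6 w hw w1)
      (h6 _ (f.V.mul_mem hv hw) h7)
  refine f.con_of_sc hT f.E_le_T f.E_ne f.E_sq fun x hx g hg => ?_
  by_cases x1 : x = 1
  · simp [x1]
  by_contra h3
  obtain ⟨k, e, he, -, h4, h5⟩ := k2 _ hg (f.TC_conj (f.TC_E hx x1) g) h3
  have h6 : ∀ v ∈ f.E, v ≠ 1 → f.tt (k⁻¹ * v * k) = sigAut σ := fun v hv v1 =>
    k1 _ (h5 v (mem_sup_left hv)) (by simpa using f.TC_conj (f.TC_E hv v1) k⁻¹) fun m =>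
      h3 (h4 ▸ H9.conj_mem_of_mem_normalizer
        ((inv_mem_iff).1 (f.mem_NE (g := k⁻¹) hv v1 (by simpa using m))) he)
  obtain ⟨w, hw, w1, h7⟩ := H9.exists_ne_ne_of_two_lt_card (H := f.E) (by omega) e₁
  exact k3 (h5 _ (mem_sup_left he₁)) (h5 w (mem_sup_left hw)) (h6 _ he₁ e1) (h6 w hw w1)
    (h6 _ (f.E.mul_mem he₁ hw) fun e => h7 (mul_left_cancel (e.trans (f.E_sq _ he₁).symm)))

theorem Fr.cen_A_le (f : Fr σ G) {y : G} (hy : y ∈ centralizer (f.A : Set G)) :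
    y ∈ f.D ∧ y ∈ centralizer (f.V : Set G) := by
  obtain ⟨v, hv, v1, -⟩ := f.exists_two_V
  exact ⟨f.mem_D_of_comm (fun e he => hy e (mem_sup_left he)) hv v1 (by
    rwa [← hy v (mem_sup_right hv), mul_inv_cancel_right]), fun v hv => hy v (mem_sup_right hv)⟩

theorem Fr.T1_cen_A (f : Fr σ G) : f.T1 ≤ centralizer (f.A : Set G) := fun _ hx _ ha =>
  f.A_cen ha (f.T1_le_C hx) (f.T1_cen_V hx)

theorem Fr.d_cen_A (f : Fr σ G) {μ : Fˣ} (h : nm σ (μ : F) = 1) :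
    f.d μ ∈ centralizer (f.A : Set G) := fun _ ha => f.A_cen ha (f.d_mem_D μ).1 (f.d_cen_V h)

theorem Fr.M_le_NT1 (f : Fr σ G) : normalizer (f.A : Set G) ≤ normalizer (f.T1 : Set G) := by
  intro g hg
  refine H9.mem_normalizer_of_conj_mem fun x hx => ?_
  have hn := normalizer_le_normalizer_centralizer _ hg
  have k : ∀ x ∈ f.T1, g * x * g⁻¹ ∈ centralizer (f.A : Set G) ∧ ∃ k, (g * x * g⁻¹) ^ 2 ^ k = 1 :=
    fun x hx => ⟨H9.conj_mem_of_mem_normalizer hn (f.T1_cen_A hx), 2, by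
      rw [conj_pow, show 2 ^ 2 = 4 from rfl, f.T1_four hx]; simp⟩
  obtain ⟨h1, h2⟩ := f.cen_A_le (k x hx).1
  refine f.mem_T1_of_two h1 (k x hx).2 ((f.tt_of_cen_V h1.2 h2).2.resolve_right fun h3 => ?_)
  obtain ⟨μ, m1, -, m2, -⟩ := f.exists_h0
  have hd := f.d_mem_D μ
  have m3 := f.T1.mul_mem (f.ta_conj (f.cen_A_le (H9.conj_mem_of_mem_normalizer' hn
    (f.d_cen_A m1))).1 hx).1 (f.T1.inv_mem hx)
  have m4 := k _ m3
  rw [show g * (g⁻¹ * f.d μ * g * x * (g⁻¹ * f.d μ * g)⁻¹ * x⁻¹) * g⁻¹ =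
    f.d μ * (g * x * g⁻¹) * (g * x * g⁻¹ * f.d μ)⁻¹ by group] at m4
  generalize g * x * g⁻¹ = y at *
  have n1 := mul_mem hd.2 h1.2
  have n2 := mul_mem h1.2 hd.2
  have m5 : f.tt (f.d μ * y * (y * f.d μ)⁻¹) = 1 := by
    rw [f.tt_mul n1 (inv_mem n2), f.tt_inv n2, f.tt_mul hd.2 h1.2, f.tt_mul h1.2 hd.2,
      (f.ct_d μ).2.1, one_mul, mul_one, mul_inv_cancel]
  have m6 := f.cc_mul (mul_mem n1 (inv_mem n2)) n2
  rw [inv_mul_cancel_right, f.cc_eq_one (mul_mem n1 (inv_mem n2)) m4.2 m5, m5, f.cc_mul hd.2 h1.2,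
    f.cc_mul h1.2 hd.2, (f.ct_d μ).2.1, h3, sigAut_apply, one_mul, mul_comm] at m6
  exact m2 (mul_left_cancel₀ (f.cc_ne y) m6).symm

theorem Fr.M_le_NQ (f : Fr σ G) : normalizer (f.A : Set G) ≤ normalizer (f.Q : Set G) :=
  fun g hg => f.mem_NQ (by rw [cj_eq_self (f.M_le_NT1 hg)]; exact le_sup_right) fun μ h x hx =>
    f.d_cen_A h x (cj_le_of_mem_normalizer hg le_sup_left hx)

theorem Fr.D_le_M (f : Fr σ G) : f.D ≤ normalizer (f.A : Set G) := fun g hg =>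
  H9.mem_normalizer_of_conj_mem fun a ha => f.mem_A_of_sq (f.ta_conj hg (f.A_le_T1 ha)).1 (by
    rw [conj_mul, f.A_sq ha]; simp)

theorem Fr.M_conj_Z (f : Fr σ G) {g z : G} (hg : g ∈ normalizer (f.A : Set G)) (hz : z ∈ f.Z) :
    g * z * g⁻¹ ∈ f.Z := by
  have h1 : g * z * g⁻¹ ∈ centralizer (f.T1 : Set G) := H9.conj_mem_of_mem_normalizer
    (normalizer_le_normalizer_centralizer _ (f.M_le_NT1 hg)) fun y hy => f.Z_comm hy hz
  obtain ⟨y, hy, z', hz', e⟩ := f.cen_Q (g := g * z * g⁻¹) (fun e he => h1 e (mem_sup_left he))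
    fun e he => h1 e (mem_sup_right he)
  rw [e, eq_one_of_odd_mul (f.Z_comm (f.A_le_T1 hy) hz') (k := 1) (by simpa [pow_two] using f.A_sq hy)
    (f.Zo z' hz') (e ▸ odd_conj (f.Zo z hz) g), one_mul]
  exact hz'

open Classical in
/-- the coordinate of `V` -/
noncomputable def Fr.co (f : Fr σ G) (v : G) : F :=
  if h : ∃ x, σ x = x ∧ f.vv x = v then h.choose else 0

theorem Fr.co_spec (f : Fr σ G) {v : G} (hv : v ∈ f.V) : σ (f.co v) = f.co v ∧ f.vv (f.co v) = v := by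
  rw [Fr.co, dif_pos (f.mem_V.1 hv)]
  exact (f.mem_V.1 hv).choose_spec

theorem Fr.co_vv (f : Fr σ G) {x : F} (hx : σ x = x) : f.co (f.vv x) = x :=
  f.vv_inj (f.co_spec (f.vv_mem x)).1 hx (f.co_spec (f.vv_mem x)).2

theorem Fr.co_one (f : Fr σ G) : f.co 1 = 0 := by rw [← f.vv_zero, f.co_vv (map_zero σ)]

theorem Fr.co_mul (f : Fr σ G) {v w : G} (hv : v ∈ f.V) (hw : w ∈ f.V) :
    f.co (v * w) = f.co v + f.co w := by
  obtain ⟨x, hx, rfl⟩ := f.mem_V.1 hv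
  obtain ⟨y, hy, rfl⟩ := f.mem_V.1 hw
  rw [← f.vv_add hx hy, f.co_vv hx, f.co_vv hy, f.co_vv (by rw [map_add, hx, hy])]

theorem Fr.co_conj (f : Fr σ G) {g v : G} (hg : g ∈ normalizer (f.Q : Set G)) (hv : v ∈ f.V) :
    f.co (g * v * g⁻¹) = nm σ (f.cc g) * f.tt g (f.co v) := by
  obtain ⟨x, hx, rfl⟩ := f.mem_V.1 hv
  rw [f.conj_vv hg hx, f.co_vv hx, f.co_vv (by rw [map_mul, nm_fixed, f.tt_fixed g hx])]

theorem Fr.cen_V_of_ct (f : Fr σ G) {g : G} (hg : g ∈ normalizer (f.Q : Set G)) (h1 : f.cc g = 1)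
    (h2 : f.tt g = 1) : g ∈ centralizer (f.V : Set G) := fun v hv => by
  obtain ⟨x, hx, rfl⟩ := f.mem_V.1 hv
  have := f.conj_vv hg hx
  rw [h1, h2, show nm σ 1 = 1 by simp [nm], one_mul] at this
  exact (mul_inv_eq_iff_eq_mul.1 this).symm

/-- the elements of `N(A)` that act trivially on `A / V` and `Q / V` -/
def Fr.W (f : Fr σ G) : Subgroup G where
  carrier := {g | g ∈ normalizer (f.A : Set G) ∧ (∀ a ∈ f.A, a * (g * a * g⁻¹) ∈ f.V) ∧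
    f.cc g = 1 ∧ f.tt g = 1}
  one_mem' := ⟨one_mem _, fun a ha => by simp [f.A_sq ha], f.ct_one⟩
  mul_mem' := fun {g h} hg hh => ⟨mul_mem hg.1 hh.1, fun a ha => by
      have := f.V.mul_mem (hg.2.1 a ha) (H9.conj_mem_of_mem_normalizer
        (f.NQ_le_NV (f.M_le_NQ hg.1)) (hh.2.1 a ha))
      convert this using 1
      calc _ = a * (g * (a * a) * (h * a * h⁻¹) * g⁻¹) := by rw [f.A_sq ha]; group
        _ = _ := by group, by
      rw [f.cc_mul (f.M_le_NQ hg.1) (f.M_le_NQ hh.1), hg.2.2.1, hh.2.2.1, map_one, mul_one], by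
      rw [f.tt_mul (f.M_le_NQ hg.1) (f.M_le_NQ hh.1), hg.2.2.2, hh.2.2.2, mul_one]⟩
  inv_mem' := fun {g} hg => ⟨inv_mem hg.1, fun a ha => by
      have := H9.conj_mem_of_mem_normalizer' (f.NQ_le_NV (f.M_le_NQ hg.1))
        (f.V.inv_mem (hg.2.1 a ha))
      convert this using 1
      rw [mul_inv_rev, inv_eq_of_mul_eq_one_right (f.A_sq ha), conj_inv,
        inv_eq_of_mul_eq_one_right (f.A_sq ha)]
      group, by
      simpa using f.ct_div (one_mem _) (f.M_le_NQ hg.1) (by rw [f.ct_one.1, hg.2.2.1])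
        (by rw [f.ct_one.2, hg.2.2.2])⟩

theorem Fr.W_NQ (f : Fr σ G) {g : G} (hg : g ∈ f.W) : g ∈ normalizer (f.Q : Set G) :=
  f.M_le_NQ hg.1

theorem Fr.W_cen_V (f : Fr σ G) {g : G} (hg : g ∈ f.W) : g ∈ centralizer (f.V : Set G) :=
  f.cen_V_of_ct (f.W_NQ hg) hg.2.2.1 hg.2.2.2

theorem Fr.conj_W (f : Fr σ G) {m g : G} (hm : m ∈ normalizer (f.A : Set G)) (hg : g ∈ f.W) :
    m * g * m⁻¹ ∈ f.W := by
  have h1 := f.M_le_NQ hm
  refine ⟨mul_mem (mul_mem hm hg.1) (inv_mem hm), fun a ha => ?_,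
    f.ct_div (mul_mem h1 (f.W_NQ hg)) h1 ?_ ?_⟩
  · have := H9.conj_mem_of_mem_normalizer (f.NQ_le_NV h1)
      (hg.2.1 _ (H9.conj_mem_of_mem_normalizer' hm ha))
    convert this using 1; group
  · rw [f.cc_mul h1 (f.W_NQ hg), hg.2.2.1, map_one, mul_one]
  · rw [f.tt_mul h1 (f.W_NQ hg), hg.2.2.2, mul_one]

theorem Fr.mem_W_of_cen (f : Fr σ G) {g : G} (hg : g ∈ centralizer (f.A : Set G)) (h1 : f.cc g = 1)
    (h2 : f.tt g = 1) : g ∈ f.W :=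
  ⟨centralizer_le_normalizer _ hg, fun a ha => by
    rw [← hg a ha, mul_inv_cancel_right, f.A_sq ha]; exact one_mem _, h1, h2⟩

theorem Fr.T1_le_W (f : Fr σ G) : f.T1 ≤ f.W := fun _ h =>
  f.mem_W_of_cen (f.T1_cen_A h) (f.ct_T1 h).1 (f.ct_T1 h).2

theorem Fr.Z_le_W (f : Fr σ G) : f.Z ≤ f.W := fun _ h =>
  f.mem_W_of_cen (fun _ ha => f.Z_comm (f.A_le_T1 ha) h) (f.ct_cen (f.Z_cen_Q h)).1
    (f.ct_cen (f.Z_cen_Q h)).2

/-- `g e g⁻¹ = e vv (ph g e)` -/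
noncomputable def Fr.ph (f : Fr σ G) (g e : G) : F := f.co (e * (g * e * g⁻¹))

theorem Fr.ph_K (f : Fr σ G) {g e : G} (hg : g ∈ f.W) (he : e ∈ f.E) : σ (f.ph g e) = f.ph g e :=
  (f.co_spec (hg.2.1 e (mem_sup_left he))).1

theorem Fr.ph_spec (f : Fr σ G) {g e : G} (hg : g ∈ f.W) (he : e ∈ f.E) :
    g * e * g⁻¹ = e * f.vv (f.ph g e) := by
  rw [Fr.ph, (f.co_spec (hg.2.1 e (mem_sup_left he))).2, ← mul_assoc e e, f.E_sq e he, one_mul]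

theorem Fr.ph_eq (f : Fr σ G) {g e : G} (he : e ∈ f.E) {x : F} (hx : σ x = x)
    (h : g * e * g⁻¹ = e * f.vv x) : f.ph g e = x := by
  rw [Fr.ph, h, ← mul_assoc e e, f.E_sq e he, one_mul, f.co_vv hx]

theorem Fr.ph_mul (f : Fr σ G) {g h e : G} (hg : g ∈ f.W) (hh : h ∈ f.W) (he : e ∈ f.E) :
    f.ph (g * h) e = f.ph g e + f.ph h e := by
  refine f.ph_eq he (by rw [map_add, f.ph_K hg he, f.ph_K hh he]) ?_
  rw [f.vv_add (f.ph_K hg he) (f.ph_K hh he), ← mul_assoc, ← f.ph_spec hg he]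
  calc _ = g * (h * e * h⁻¹) * g⁻¹ := by group
    _ = g * e * (f.vv (f.ph h e) * g⁻¹) := by rw [f.ph_spec hh he]; group
    _ = _ := by rw [inv_mem (f.W_cen_V hg) _ (f.vv_mem _)]; group

theorem Fr.ph_mul' (f : Fr σ G) {g e e' : G} (hg : g ∈ f.W) (he : e ∈ f.E) (he' : e' ∈ f.E) :
    f.ph g (e * e') = f.ph g e + f.ph g e' := by
  refine f.ph_eq (f.E.mul_mem he he') (by rw [map_add, f.ph_K hg he, f.ph_K hg he']) ?_
  rw [f.vv_add (f.ph_K hg he) (f.ph_K hg he'), ← conj_mul, f.ph_spec hg he, f.ph_spec hg he',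
    mul_assoc e, ← mul_assoc _ e', ← f.Q_le_C (f.V_le_Q (f.vv_mem _)) e' he']
  group

theorem Fr.ph_C (f : Fr σ G) {g e : G} (hg : g ∈ f.C) (he : e ∈ f.E) : f.ph g e = 0 :=
  f.ph_eq he (map_zero σ) (by rw [← hg e he, f.vv_zero]; group)

theorem Fr.mem_C_of_ph (f : Fr σ G) {g e : G} (hg : g ∈ f.W) (he : e ∈ f.E) (h1 : e ≠ 1)
    (h : f.ph g e = 0) : g ∈ f.C := by
  have := f.ph_spec hg he
  rw [h, f.vv_zero, mul_one] at this
  exact (f.mem_C he h1).2 (mul_inv_eq_iff_eq_mul.1 this)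

theorem Fr.ph_inv (f : Fr σ G) {g e : G} (hg : g ∈ f.W) (he : e ∈ f.E) :
    f.ph g⁻¹ e = f.ph g e := by
  have := f.ph_mul hg (inv_mem hg) he
  rw [mul_inv_cancel, f.ph_C (one_mem _) he] at this
  linear_combination -this - f.ph g e * two σ

theorem Fr.ph_conj (f : Fr σ G) {m g e : G} (hm : m ∈ f.D) (hg : g ∈ f.W) (he : e ∈ f.E) :
    f.ph (m * g * m⁻¹) e = nm σ (f.cc m) * f.tt m (f.ph g e) := by
  rw [Fr.ph, Fr.ph, ← f.co_conj hm.2 (hg.2.1 e (mem_sup_left he))]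
  congr 1
  calc _ = e * m * g * (m⁻¹ * e) * m * g⁻¹ * m⁻¹ := by group
    _ = _ := by rw [← f.C.inv_mem hm.1 e he, hm.1 e he]; group

theorem Fr.ph_conj_d (f : Fr σ G) {g e : G} {μ : Fˣ} (hμ : σ μ = μ) (hg : g ∈ f.W) (he : e ∈ f.E) :
    f.ph (f.d μ * g * (f.d μ)⁻¹) e = (μ : F) ^ 2 * f.ph g e := by
  rw [f.ph_conj (f.d_mem_D μ) hg he, f.cc_d_K hμ, (f.ct_d μ).2.1, nm, hμ, pow_two]; rfl

theorem Fr.exists_W (f : Fr σ G) {s : G} (hs : s ∈ f.A) (h : f.TC s) (hE : s ∉ f.E) :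
    ∃ p ∈ f.W, p ∉ f.C := by
  obtain ⟨g, e, he, e1, rfl, h1, -⟩ := f.lemL h (f.T_syl.pgroup.to_le f.T1_le_T)
    (fun x hx => mem_centralizer_singleton_iff.2 (f.T1_cen_A hx s hs).symm) f.T1_cen_V le_rfl
    fun x hx y hy => f.ta_cm hx hy ▸ f.vv_mem _
  have hg : g ∈ normalizer (f.A : Set G) := H9.mem_normalizer_of_conj_mem fun a ha =>
    f.mem_A_of_sq (h1 ▸ conj_mem_cj g (f.A_le_T1 ha)) (by rw [conj_mul, f.A_sq ha]; simp)
  have hQ := f.M_le_NQ hg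
  obtain ⟨l, hl, l0, l1, -⟩ := f.exists_K 1 1
  let μ := Units.mk0 l l0
  let ν := Units.mk0 (f.tt g l) ((map_ne_zero _).2 l0)
  have hμ := f.d_mem_D μ
  have hν := f.d_mem_D ν
  have k : ∀ a ∈ f.A, a * (f.d μ * a * (f.d μ)⁻¹) ∈ f.V := fun a ha => by
    obtain ⟨e, he, v, hv, rfl⟩ := f.mem_A.1 ha
    have := f.V.mul_mem hv (H9.conj_mem_of_mem_normalizer (f.NQ_le_NV hμ.2) hv)
    convert this using 1
    rw [← mul_assoc (f.d μ), ← hμ.1 e he]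
    calc _ = e * (v * e) * (f.d μ * v * (f.d μ)⁻¹) := by group
      _ = _ := by rw [← f.Q_le_C (f.V_le_Q hv) e he, ← mul_assoc e e, f.E_sq e he, one_mul]
  have k2 : ∀ x ∈ f.E, g * f.d μ * (f.d ν * g)⁻¹ * x * (g * f.d μ * (f.d ν * g)⁻¹)⁻¹ =
      g * (f.d μ * (g⁻¹ * x * g) * (f.d μ)⁻¹) * g⁻¹ := fun x hx => by
    calc _ = g * f.d μ * g⁻¹ * ((f.d ν)⁻¹ * x) * f.d ν * g * (f.d μ)⁻¹ * g⁻¹ := by group
      _ = _ := by rw [← f.C.inv_mem hν.1 x hx]; group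
  have h3 := f.ct_div (mul_mem hQ hμ.2) (mul_mem hν.2 hQ)
    (by rw [f.cc_mul hQ hμ.2, f.cc_mul hν.2 hQ, f.cc_d_K (μ := μ) hl,
      f.cc_d_K (μ := ν) (f.tt_fixed g hl), (f.ct_d ν).2.1, mul_comm]; rfl)
    (by rw [f.tt_mul hQ hμ.2, f.tt_mul hν.2 hQ, (f.ct_d ν).2.1, (f.ct_d μ).2.1, one_mul, mul_one])
  have hM := mul_mem (mul_mem hg (f.D_le_M hμ)) (inv_mem (mul_mem (f.D_le_M hν) hg))
  have hV := f.cen_V_of_ct (f.M_le_NQ hM) h3.1 h3.2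
  refine ⟨_, ⟨hM, fun a ha => ?_, h3⟩, fun hC => ?_⟩
  · obtain ⟨x, hx, v, hv, rfl⟩ := f.mem_A.1 ha
    have m1 := H9.conj_mem_of_mem_normalizer (f.NQ_le_NV hQ)
      (k _ (H9.conj_mem_of_mem_normalizer' hg (mem_sup_left hx)))
    rw [← conj_mul, ← k2 x hx, show g * (g⁻¹ * x * g) * g⁻¹ = x by group] at m1
    have m2 := f.V.mul_mem (f.V.mul_mem hv m1) hv
    convert m2 using 1
    rw [← conj_mul, ← hV v hv, mul_inv_cancel_right, f.Q_le_C (f.V_le_Q hv) x hx]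
    group
  · obtain ⟨x, hx, v, hv, e2⟩ := f.mem_A.1 hs
    have m1 := k2 x hx
    rw [← hC x hx, mul_inv_cancel_right] at m1
    have m2 : g⁻¹ * x * g = e * (g⁻¹ * v⁻¹ * g) := by
      rw [eq_mul_inv_of_mul_eq e2.symm]; group
    obtain ⟨y, hy, e3⟩ := f.mem_V.1
      (H9.conj_mem_of_mem_normalizer' (f.NQ_le_NV hQ) (f.V.inv_mem hv))
    have m3 : f.d μ * f.vv y * (f.d μ)⁻¹ = f.vv y := by
      have : g⁻¹ * x * g = f.d μ * (g⁻¹ * x * g) * (f.d μ)⁻¹ := by nth_rewrite 1 [m1]; group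
      rw [m2, ← e3, ← mul_assoc, ← hμ.1 e he, mul_assoc, mul_assoc, mul_left_cancel_iff] at this
      rw [mul_assoc, ← this]
    rw [f.conj_vv hμ.2 hy, f.cc_d_K (μ := μ) hl, (f.ct_d μ).2.1] at m3
    have m4 : nm σ l * y = y := f.vv_inj (by rw [map_mul, nm_fixed, hy]) hy m3
    have y0 : y ≠ 0 := fun h0 => hE (by
      rw [h0, f.vv_zero] at e3
      rw [e2, show v = 1 by simpa [mul_eq_one_iff_eq_inv'] using e3.symm, mul_one]; exact hx)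
    exact l1 (eq_one_of_pow_two_pow σ (k := 1) (by
      rw [nm, hl, ← pow_two] at m4
      exact mul_right_cancel₀ y0 (by rw [one_mul]; exact m4)))

end Cfsg.Agent.WA.Lk
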