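import Cfsg.Agent.WA.Lk1b
import Cfsg.Agent.H5.PBasic

/-! The tower over `E = {1, t}`: levels and coordinates (module Lk2a, see PLAN_LK.md). -/

set_option autoImplicit false
set_option linter.unusedSectionVars false
set_option linter.style.haveILetI false

namespace Cfsg.Agent.WA.Lk.X2a

open Subgroup Cfsg.Agent.H1.U3 Cfsg.Agent.H8

section gen

variable {G : Type*} [Group G]

theorem cen_conj {Q : Subgroup G} {g x : G} (hg : g ∈ normalizer (Q : Set G))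
    (hx : x ∈ centralizer (Q : Set G)) : g * x * g⁻¹ ∈ centralizer (Q : Set G) := by
  rw [mem_centralizer_iff] at hx ⊢
  intro y hy
  have h1 : g⁻¹ * y * g ∈ Q := by
    simpa using (mem_normalizer_iff.1 (inv_mem hg) y).1 hy
  calc y * (g * x * g⁻¹) = g * (g⁻¹ * y * g * x) * g⁻¹ := by group
    _ = _ := by rw [hx _ h1]; group

theorem conj_in {X : Subgroup G} {g x : G} (hg : g ∈ normalizer (X : Set G)) (hx : x ∈ X) :
    g * x * g⁻¹ ∈ X := (mem_normalizer_iff.1 hg x).1 hx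

theorem conj_in' {X : Subgroup G} {g x : G} (hg : g ∈ normalizer (X : Set G)) (hx : x ∈ X) :
    g⁻¹ * x * g ∈ X := by simpa using conj_in (inv_mem hg) hx

theorem mem_adj {X : Subgroup G} {s x : G} (hn : s ∈ normalizer (X : Set G)) (h2 : s * s = 1) :
    x ∈ X ⊔ zpowers s ↔ x ∈ X ∨ s * x ∈ X := by
  have hi : s⁻¹ = s := inv_eq_of_mul_eq_one_right h2
  constructor
  · intro hx
    obtain ⟨y, hy, k, rfl⟩ := (H5.mem_sup_zpowers hn).1 hx
    have h3 : s ^ (2 : ℤ) = 1 := by rw [zpow_two, h2]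
    rcases Int.even_or_odd' k with ⟨i, rfl | rfl⟩
    · left; rw [zpow_mul, h3, one_zpow, mul_one]; exact hy
    · right
      rw [zpow_add, zpow_mul, h3, one_zpow, one_mul, zpow_one, ← mul_assoc]
      simpa [hi] using conj_in hn hy
  · have hs : s ∈ X ⊔ zpowers s := mem_sup_right (mem_zpowers s)
    rintro (h | h)
    · exact mem_sup_left h
    · exact (mul_mem_cancel_left hs).1 (mem_sup_left h)

theorem pg_of {X : Subgroup G} (h : ∀ x ∈ X, ∃ k, x ^ 2 ^ k = 1) : IsPGroup 2 X := fun x => by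
  obtain ⟨k, hk⟩ := h x x.2
  exact ⟨k, Subtype.ext hk⟩

theorem pg_adj {X : Subgroup G} {s : G} (hX : IsPGroup 2 X) (hn : s ∈ normalizer (X : Set G))
    (h2 : s * s = 1) : IsPGroup 2 ↥(X ⊔ zpowers s) := by
  refine IsPGroup.to_sup_of_normal_left' hX (pg_of fun x hx => ⟨1, ?_⟩) (H5.zpowers_le_normalizer hn)
  obtain ⟨k, rfl⟩ := hx
  change (s ^ k) ^ 2 ^ 1 = 1
  rw [pow_one, pow_two, ← (Commute.refl s).mul_zpow, h2, one_zpow]

/-- an element of odd order acting trivially on `x` modulo an involution it centralizes -/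
theorem comm_of_odd {h x a : G} {k : ℕ} (hk : Odd k) (h1 : h ^ k = 1) (ha : a * a = 1)
    (hc : h * a = a * h) (e : h * x * h⁻¹ = x * a) : h * x = x * h := by
  have key : ∀ i : ℕ, h ^ i * x = x * a ^ i * h ^ i := by
    intro i
    induction i with
    | zero => simp
    | succ i ih =>
      have e1 : h * x = x * a * h := by rw [← e]; group
      have e2 : h * a ^ i = a ^ i * h := ((show Commute h a from hc).pow_right i).eq
      calc h ^ (i + 1) * x = h * (h ^ i * x) := by rw [pow_succ']; group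
        _ = h * x * a ^ i * h ^ i := by rw [ih]; group
        _ = x * a * (h * a ^ i) * h ^ i := by rw [e1]; group
        _ = _ := by rw [e2, pow_succ' a, pow_succ' h]; group
  obtain ⟨i, rfl⟩ := hk
  have h3 := key (2 * i + 1)
  rw [h1, pow_succ, pow_mul, pow_two, ha, one_pow] at h3
  have h4 : a = 1 := by simpa using h3.symm
  rw [h4, mul_one] at e
  exact mul_inv_eq_iff_eq_mul.1 e

/-- an additive map with kernel `N` on `P`, when `P / N` has exponent two -/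
theorem exists_quot.{u} {G : Type u} [Group G] {N P : Subgroup G} (hNP : N ≤ P) (hn : P ≤ normalizer (N : Set G))
    (h2 : ∀ x ∈ P, x * x ∈ N) : ∃ (M : Type u) (_ : AddCommGroup M) (π : G → M),
      (∀ a ∈ P, ∀ b ∈ P, π (a * b) = π a + π b) ∧ (∀ a ∈ P, π a = 0 ↔ a ∈ N) ∧
      (∀ a ∈ P, π a + π a = 0) := by
  classical
  haveI : (N.subgroupOf P).Normal := (normal_subgroupOf_iff_le_normalizer hNP).2 hn
  have hsq : ∀ x : P ⧸ N.subgroupOf P, x * x = 1 := fun x => by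
    obtain ⟨x, rfl⟩ := QuotientGroup.mk_surjective x
    rw [← QuotientGroup.mk_mul, QuotientGroup.eq_one_iff]
    exact h2 x x.2
  letI : CommGroup (P ⧸ N.subgroupOf P) :=
    { (inferInstance : Group (P ⧸ N.subgroupOf P)) with
      mul_comm := fun a b => by
        calc a * b = (a * b)⁻¹ := (inv_eq_of_mul_eq_one_right (hsq _)).symm
          _ = b * a := by
            rw [mul_inv_rev, inv_eq_of_mul_eq_one_right (hsq a), inv_eq_of_mul_eq_one_right (hsq b)] }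
  refine ⟨Additive (P ⧸ N.subgroupOf P), inferInstance,
    fun g => if h : g ∈ P then Additive.ofMul (QuotientGroup.mk ⟨g, h⟩) else 0, ?_, ?_, ?_⟩
  · intro a ha b hb
    simp only [dif_pos ha, dif_pos hb, dif_pos (mul_mem ha hb)]
    rfl
  · intro a ha
    simp only [dif_pos ha]
    exact QuotientGroup.eq_one_iff (N := N.subgroupOf P) ⟨a, ha⟩
  · intro a ha
    simp only [dif_pos ha]
    exact hsq (QuotientGroup.mk ⟨a, ha⟩)

end gen

variable {F : Type*} [Field F] [Finite F] {σ : F →+* F} [Ctx σ] {G : Type*} [Group G] [Finite G]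

/-- functions of weight two on `K × K` -/
theorem wt {g : F → F → F}
    (h1 : ∀ x x' y, σ x = x → σ x' = x' → σ y = y → g (x + x') y = g x y + g x' y)
    (h2 : ∀ x y y', σ x = x → σ y = y → σ y' = y' → g x (y + y') = g x y + g x y')
    (h3 : ∀ l x y, σ l = l → σ x = x → σ y = y → g (l * x) (l * y) = l ^ 2 * g x y)
    {x y : F} (hx : σ x = x) (hy : σ y = y) : g x y = x * y * g 1 1 := by
  have hW : ∀ l, σ l = l → ∀ x ∈ KK σ, l * x ∈ KK σ := fun l hl x hx => by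
    rw [X1.mem_KK] at hx ⊢; rw [map_mul, hl, hx]
  have o : (1 : F) ∈ KK σ := X1.mem_KK.2 (map_one σ)
  have p := fun (l x y : F) (hl : σ l = l) (hx : x ∈ KK σ) (hy : y ∈ KK σ) =>
    pol (g := g) hW (fun x hx x' hx' y hy => h1 x x' y hx hx' hy)
      (fun x hx y hy y' hy' => h2 x y y' hx hy hy') (fun l hl x hx y hy => h3 l x y hl hx hy) hl hx hy
  have a := (p x 1 y hx o hy).1
  have b := (p y 1 1 hy o o).2
  rw [mul_one] at a b
  rw [a, b, mul_assoc]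

variable {f : Fr σ G} {t : G} {m : ℕ} {B : Subgroup G}

theorem cQ_iff {g : G} : g ∈ centralizer (f.Q : Set G) ↔ ∀ u, f.j u * g = g * f.j u :=
  ⟨fun h u => h _ ⟨u, rfl⟩, fun h => by rintro _ ⟨u, rfl⟩; exact h u⟩

theorem cQ_V {g v : G} (hg : g ∈ centralizer (f.Q : Set G)) (hv : v ∈ f.V) : v * g = g * v :=
  hg v (f.V_le_Q hv)

theorem cQ_N {g : G} (hg : g ∈ centralizer (f.Q : Set G)) : g ∈ normalizer (f.Q : Set G) :=
  centralizer_le_normalizer _ hg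

theorem j_cQ {u : US σ} (h : f.j u ∈ centralizer (f.Q : Set G)) : u.a = 0 :=
  mem_center_iff.1 (Subgroup.mem_center_iff.2 fun r => f.j_inj (by
    rw [map_mul, map_mul]; exact cQ_iff.1 h r))

theorem d_N (f : Fr σ G) (μ : Fˣ) : f.d μ ∈ normalizer (f.Q : Set G) := (f.d_mem_D μ).2

theorem d_odd (f : Fr σ G) : ∃ k, Odd k ∧ ∀ μ, f.d μ ^ k = 1 := by
  refine ⟨Nat.card Fˣ, ?_, fun μ => by rw [← map_pow, pow_card_eq_one', map_one]⟩
  rw [Nat.card_units, f.hF]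
  have : 1 ≤ 4 ^ f.n := Nat.one_le_pow _ _ (by norm_num)
  refine Nat.Even.sub_odd this (Nat.even_pow.2 ⟨by norm_num, ?_⟩) odd_one
  have := f.hn
  omega

open Classical in
/-- the coordinate of an element of `V` -/
noncomputable def co (f : Fr σ G) (v : G) : F := if h : v ∈ f.V then (f.mem_V.1 h).choose else 0

theorem co_K (v : G) : σ (co f v) = co f v := by
  unfold co
  split_ifs with h
  · exact (f.mem_V.1 h).choose_spec.1
  · exact map_zero σ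

theorem vv_co {v : G} (h : v ∈ f.V) : f.vv (co f v) = v := by
  unfold co
  rw [dif_pos h]
  exact (f.mem_V.1 h).choose_spec.2

theorem co_vv {x : F} (hx : σ x = x) : co f (f.vv x) = x :=
  f.vv_inj (co_K _) hx (vv_co (f.vv_mem x))

theorem co_mul {v w : G} (hv : v ∈ f.V) (hw : w ∈ f.V) : co f (v * w) = co f v + co f w := by
  conv_lhs => rw [← vv_co hv, ← vv_co hw, ← f.vv_add (co_K v) (co_K w)]
  exact co_vv (by rw [map_add, co_K, co_K])

theorem co_one : co f 1 = 0 := by rw [← f.vv_zero, co_vv (map_zero σ)]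

theorem co_eq_zero {v : G} (hv : v ∈ f.V) : co f v = 0 ↔ v = 1 :=
  ⟨fun h => by rw [← vv_co hv, h, f.vv_zero], fun h => by rw [h, co_one]⟩

theorem co_conj {g v : G} (hg : g ∈ normalizer (f.Q : Set G)) (hv : v ∈ f.V) :
    co f (g * v * g⁻¹) = nm σ (f.cc g) * f.tt g (co f v) := by
  conv_lhs => rw [← vv_co hv, f.conj_vv hg (co_K v)]
  exact co_vv (by rw [map_mul, nm_fixed, f.tt_fixed g (co_K v)])

theorem d_wt {μ : Fˣ} (h : σ μ = μ) (x : F) :
    nm σ (f.cc (f.d μ)) * f.tt (f.d μ) x = (μ : F) ^ 2 * x := by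
  rw [f.cc_d_K h, (f.ct_d μ).2.1, X1.nm_K h]; rfl

theorem sq_inj (σ : F →+* F) [Ctx σ] {x y : F} (h : x ^ 2 = y ^ 2) : x = y := by
  have : (x + y) ^ 2 = 0 := by linear_combination h + (x * y + y ^ 2) * two σ
  exact (X1.add0 σ).1 (pow_eq_zero_iff two_ne_zero |>.1 this)

open Classical in
/-- square roots in the fixed field -/
noncomputable def rt (σ : F →+* F) [Ctx σ] (x : F) : F :=
  if h : σ x = x then (exists_sqrt h).choose else 0

theorem rt_K (x : F) : σ (rt σ x) = rt σ x := by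
  unfold rt
  split_ifs with h
  · exact (exists_sqrt h).choose_spec.1
  · exact map_zero σ

theorem rt_sq {x : F} (h : σ x = x) : rt σ x ^ 2 = x := by
  unfold rt
  rw [dif_pos h]
  exact (exists_sqrt h).choose_spec.2

theorem rt_add {x y : F} (hx : σ x = x) (hy : σ y = y) : rt σ (x + y) = rt σ x + rt σ y :=
  sq_inj σ (by
    rw [rt_sq (by rw [map_add, hx, hy])]
    linear_combination -rt_sq hx - rt_sq hy - rt σ x * rt σ y * two σ)

theorem rt_mul {l x : F} (hl : σ l = l) (hx : σ x = x) : rt σ (l ^ 2 * x) = l * rt σ x :=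
  sq_inj σ (by rw [rt_sq (by rw [map_mul, map_pow, hl, hx]), mul_pow, rt_sq hx])

theorem rt_eq_zero {x : F} (hx : σ x = x) : rt σ x = 0 ↔ x = 0 :=
  ⟨fun h => by rw [← rt_sq hx, h]; ring, fun h => by
    have := rt_sq hx
    rw [h] at this ⊢
    exact pow_eq_zero_iff two_ne_zero |>.1 this⟩

theorem exists_l (f : Fr σ G) : ∃ μ : Fˣ, σ μ = μ ∧ (μ : F) ^ 2 + 1 ≠ 0 := by
  obtain ⟨l, hl, l0, l1, -⟩ := f.exists_K 1 1
  refine ⟨Units.mk0 l l0, hl, fun h => l1 (sq_inj σ ?_)⟩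
  rw [one_pow]; exact (X1.add0 σ).1 h

theorem exists_wt {x y : F} (hx : σ x = x) (hy : σ y = y) (x0 : x ≠ 0) (y0 : y ≠ 0) :
    ∃ μ : Fˣ, σ μ = μ ∧ (μ : F) ^ 2 * x = y := by
  obtain ⟨l, hl, e⟩ := exists_sqrt (σ := σ) (x := y / x) (by rw [map_div₀, hx, hy])
  have l0 : l ≠ 0 := by
    rintro rfl
    exact div_ne_zero y0 x0 (by rw [← e]; ring)
  exact ⟨Units.mk0 l l0, hl, by rw [Units.val_mk0, e, div_mul_cancel₀ _ x0]⟩

section inv

variable (h : f.Inv t)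
include h

theorem t_sq : t * t = 1 := f.E_sq t h.tE

theorem t_inv : t⁻¹ = t := inv_eq_of_mul_eq_one_right (t_sq h)

theorem t_cQ : t ∈ centralizer (f.Q : Set G) := f.E_cen_Q h.tE

theorem t_V : t ∉ f.V := fun hv => h.t1 (f.disj t h.tE (f.Q_le_U (f.V_le_Q hv)))

theorem mem_C' {x : G} : x ∈ f.C ↔ x * t = t * x := f.mem_C h.tE h.t1

theorem TC_iff {s : G} : f.TC s ↔ IsConj t s :=
  ⟨fun ⟨e, he, h1, hc⟩ => ((h.E2 e he).resolve_left h1) ▸ hc, fun hc => ⟨t, h.tE, h.t1, hc⟩⟩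

theorem TC_sq {s : G} (hs : f.TC s) : s * s = 1 := by
  obtain ⟨g, rfl⟩ := isConj_iff.1 ((TC_iff h).1 hs)
  calc _ = g * (t * t) * g⁻¹ := by group
    _ = 1 := by rw [t_sq h]; group

theorem TC_conj {s : G} (hs : f.TC s) (g : G) : f.TC (g * s * g⁻¹) :=
  (TC_iff h).2 (((TC_iff h).1 hs).trans (isConj_iff.2 ⟨g, rfl⟩))

theorem TC_V {s : G} (hs : f.TC s) : s ∉ f.V := fun hv =>
  f.not_VC hs ⟨s, hv, by
    rintro rfl
    exact h.t1 (isConj_one_left.1 ((TC_iff h).1 hs)), IsConj.refl s⟩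

theorem mem_A' {x : G} : x ∈ f.A ↔ x ∈ f.V ∨ t * x ∈ f.V := by
  rw [f.mem_A]
  constructor
  · rintro ⟨e, he, v, hv, rfl⟩
    rcases h.E2 e he with rfl | rfl
    · left; rwa [one_mul]
    · right; rwa [← mul_assoc, t_sq h, one_mul]
  · rintro (h1 | h1)
    · exact ⟨1, one_mem _, x, h1, (one_mul x).symm⟩
    · exact ⟨t, h.tE, _, h1, by rw [← mul_assoc, t_sq h, one_mul]⟩

theorem card_E : Nat.card f.E = 2 := f.inv_iff.2 ⟨t, h⟩

omit h in
/-- the 2-elements of `C ∩ C(Q)` -/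
theorem mem_A_of {x : G} (hC : x ∈ f.C) (hQ : x ∈ centralizer (f.Q : Set G))
    (h2 : ∃ k, x ^ 2 ^ k = 1) : x ∈ f.A := by
  obtain ⟨y, hy, z, hz, rfl⟩ := f.cen_Q hC hQ
  obtain ⟨k, hk⟩ := h2
  have hc := f.Z_comm (f.A_le_T1 hy) hz
  have h3 : (y * z) ^ 2 ^ (k + 1) = 1 := by rw [pow_succ, pow_mul, hk, one_pow]
  rw [hc.mul_pow, pow_succ' 2, pow_mul y, pow_two y, f.A_sq hy, one_pow, one_mul, ← pow_succ'] at h3
  rw [f.Z_two hz h3, mul_one]
  exact hy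

end inv

/-- level `m + 1` of the tower -/
structure Lv (f : Fr σ G) (t : G) (m : ℕ) (B : Subgroup G) : Prop extends f.Inv t where
  comm : ∀ a ∈ B, ∀ b ∈ B, a * b = b * a
  cQ : B ≤ centralizer (f.Q : Set G)
  VB : f.V ≤ B
  inv : ∀ b ∈ B, t * b * t = b⁻¹
  exp : ∀ b ∈ B, b ^ 2 ^ m ∈ f.V
  om : ∀ b ∈ B, b * b = 1 → b ∈ f.V
  can : ∀ x ∈ centralizer (f.Q : Set G), t * x * t = x⁻¹ → x ^ 2 ^ (m + 1) = 1 →
    x ∈ B ∨ t * x ∈ f.V
  fus : ∀ b ∈ B, IsConj t (t * b)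
  dc : ∀ μ : Fˣ, nm σ (μ : F) = 1 → ∀ b ∈ B, f.d μ * b = b * f.d μ
  Zc : ∀ z ∈ f.Z, ∀ b ∈ B, z * b = b * z
  sur : ∀ v ∈ f.V, ∃ b ∈ B, b ^ 2 ^ m = v
  root : ∀ b ∈ B, b ^ 2 ^ m = 1 → ∃ c ∈ B, c * c = b

/-- the storey above level `m + 1` -/
structure Up (f : Fr σ G) (t : G) (m : ℕ) (B P : Subgroup G) : Prop extends Lv f t m B where
  pg : IsPGroup 2 P
  BP : B ≤ P
  PQ : P ≤ centralizer (f.Q : Set G)
  DN : f.D ≤ normalizer (P : Set G)
  cen : ∀ x ∈ P, x * t = t * x → x ∈ f.V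
  gam : ∀ x ∈ P, t * (x * t * x⁻¹) ∈ B
  onto : ∀ b ∈ B, ∃ x ∈ P, t * (x * t * x⁻¹) = b
  dP : ∀ μ : Fˣ, nm σ (μ : F) = 1 → ∀ x ∈ P, f.d μ * x = x * f.d μ
  ZP : ∀ z ∈ f.Z, ∀ x ∈ P, z * x = x * z

/-- coordinate on `B / B²` -/
noncomputable def β (f : Fr σ G) (m : ℕ) (b : G) : F := co f (b ^ 2 ^ m)

/-- the cocycle -/
def γ (t x : G) : G := t * (x * t * x⁻¹)

/-- coordinate on `P / B` -/
noncomputable def ξ (f : Fr σ G) (t : G) (m : ℕ) (x : G) : F := β f m (γ t x)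

theorem β_K (b : G) : σ (β f m b) = β f m b := co_K _

theorem ξ_K (b : G) : σ (ξ f t m b) = ξ f t m b := co_K _

theorem β_one : β f m 1 = 0 := by rw [β, one_pow, co_one]

namespace Lv

variable (h : Lv f t m B)
include h

theorem exp' {b : G} (hb : b ∈ B) : b ^ 2 ^ (m + 1) = 1 := by
  rw [pow_succ, pow_mul, pow_two, f.V_sq (h.exp b hb)]

theorem pgB : IsPGroup 2 B := pg_of fun _ hb => ⟨_, h.exp' hb⟩

theorem t_B : t ∉ B := fun hb => t_V h.toInv (h.om t hb (t_sq h.toInv))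

theorem γ_mul (x y : G) : γ t (x * y) = γ t x * (x * γ t y * x⁻¹) := by
  unfold γ
  calc _ = t * (x * (t * t) * y * t * y⁻¹ * x⁻¹) := by rw [t_sq h.toInv]; group
    _ = _ := by group

theorem conj_t (x : G) : x * t * x⁻¹ = t * γ t x := by
  rw [γ, ← mul_assoc t t, t_sq h.toInv, one_mul]

theorem γ_eq_one {x : G} : γ t x = 1 ↔ x ∈ f.C := by
  rw [mem_C' h.toInv, ← mul_inv_eq_iff_eq_mul, h.conj_t, mul_eq_left]

theorem γ_eq {x y : G} (e : γ t x = γ t y) : y⁻¹ * x ∈ f.C := by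
  rw [mem_C' h.toInv]
  have : x * t * x⁻¹ = y * t * y⁻¹ := by rw [h.conj_t, h.conj_t, e]
  calc y⁻¹ * x * t = y⁻¹ * (x * t * x⁻¹) * x := by group
    _ = _ := by rw [this]; group

theorem γ_B {b : G} (hb : b ∈ B) : γ t b = b⁻¹ * b⁻¹ := by
  rw [γ, ← mul_assoc, ← mul_assoc, h.inv b hb]

theorem γ_conj {g : G} (hg : g ∈ f.C) (x : G) : γ t (g * x * g⁻¹) = g * γ t x * g⁻¹ := by
  rw [h.γ_mul, h.γ_mul, h.γ_eq_one.2 hg, h.γ_eq_one.2 (inv_mem hg)]; group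

theorem TC_B {b : G} (hb : b ∈ B) : f.TC (t * b) := (TC_iff h.toInv).2 (h.fus b hb)

theorem t_N : t ∈ normalizer (B : Set G) :=
  H5.mem_normalizer_of_conj_mem fun y hy => by
    rw [t_inv h.toInv, h.inv y hy]; exact inv_mem hy

theorem normB {g : G} (hg : g ∈ normalizer (f.Q : Set G)) (hγ : γ t g ∈ B) :
    g ∈ normalizer (B : Set G) := by
  refine (inv_mem_iff (H := normalizer (B : Set G))).1 (H5.mem_normalizer_of_conj_mem fun x hx => ?_)
  have t2 := t_sq h.toInv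
  have e : t = g⁻¹ * (t * γ t g) * g := by rw [← h.conj_t]; group
  have e1 : t * γ t g * x * (t * γ t g) = x⁻¹ := by
    calc _ = t * (γ t g * x) * t * γ t g := by group
      _ = _ := by rw [h.inv _ (mul_mem hγ hx), mul_inv_rev, mul_assoc, inv_mul_cancel, mul_one]
  rcases h.can (g⁻¹ * x * g⁻¹⁻¹) (cen_conj (inv_mem hg) (h.cQ hx))
    (by
      calc _ = g⁻¹ * (t * γ t g) * g * (g⁻¹ * x * g⁻¹⁻¹) * (g⁻¹ * (t * γ t g) * g) := by rw [← e]
        _ = g⁻¹ * (t * γ t g * x * (t * γ t g)) * g := by group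
        _ = _ := by rw [e1]; group)
    (by rw [conj_pow, h.exp' hx]; group) with h1 | h1
  · exact h1
  · exfalso
    have h2 := h.VB (conj_in (f.NQ_le_NV hg) h1)
    have e2 : g * (t * (g⁻¹ * x * g⁻¹⁻¹)) * g⁻¹ = t * (γ t g * x) := by
      rw [← mul_assoc t (γ t g), ← h.conj_t]; group
    rw [e2] at h2
    exact h.t_B ((mul_mem_cancel_right (mul_mem hγ hx)).1 h2)

theorem D_N {g : G} (hg : g ∈ f.D) : g ∈ normalizer (B : Set G) :=
  h.normB hg.2 (by rw [h.γ_eq_one.2 hg.1]; exact one_mem _)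

theorem β_mul {a b : G} (ha : a ∈ B) (hb : b ∈ B) : β f m (a * b) = β f m a + β f m b := by
  rw [β, (show Commute a b from h.comm a ha b hb).mul_pow, co_mul (h.exp a ha) (h.exp b hb)]; rfl

theorem β_eq_zero {b : G} (hb : b ∈ B) : β f m b = 0 ↔ b ^ 2 ^ m = 1 := co_eq_zero (h.exp b hb)

theorem β_sq {b : G} (hb : b ∈ B) : β f m (b * b) = 0 := by
  rw [h.β_mul hb hb]; exact (X1.add0 σ).2 rfl

theorem β_inv {b : G} (hb : b ∈ B) : β f m b⁻¹ = β f m b := by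
  have := h.β_mul (inv_mem hb) hb
  rw [inv_mul_cancel, β_one] at this
  exact (X1.add0 σ).1 this.symm

theorem β_conj {g b : G} (hg : g ∈ normalizer (f.Q : Set G)) (hb : b ∈ B) :
    β f m (g * b * g⁻¹) = nm σ (f.cc g) * f.tt g (β f m b) := by
  rw [β, conj_pow, co_conj hg (h.exp b hb)]; rfl

theorem β_conj1 {g b : G} (hg : g ∈ centralizer (f.Q : Set G)) (hb : b ∈ B) :
    β f m (g * b * g⁻¹) = β f m b := by
  rw [β, conj_pow, ← cQ_V hg (h.exp b hb), mul_inv_cancel_right]; rfl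

theorem β_d {μ : Fˣ} (hμ : σ μ = μ) {b : G} (hb : b ∈ B) :
    β f m (f.d μ * b * (f.d μ)⁻¹) = (μ : F) ^ 2 * β f m b := by
  rw [h.β_conj (d_N f μ) hb, d_wt hμ]

theorem β_surj {x : F} (hx : σ x = x) : ∃ b ∈ B, β f m b = x := by
  obtain ⟨b, hb, e⟩ := h.sur _ (f.vv_mem x)
  exact ⟨b, hb, by rw [β, e, co_vv hx]⟩

theorem β_root {b : G} (hb : b ∈ B) (e : β f m b = 0) : ∃ c ∈ B, c * c = b :=
  h.root b hb ((h.β_eq_zero hb).1 e)

/-- the elements of `C(Q)` moving `t` inside `t B` -/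
def W0 : Subgroup G where
  carrier := {x | x ∈ centralizer (f.Q : Set G) ∧ γ t x ∈ B}
  one_mem' := ⟨one_mem _, by rw [h.γ_eq_one.2 (one_mem _)]; exact one_mem _⟩
  mul_mem' := fun {x y} hx hy => ⟨mul_mem hx.1 hy.1, by
    rw [h.γ_mul]; exact mul_mem hx.2 (conj_in (h.normB (cQ_N hx.1) hx.2) hy.2)⟩
  inv_mem' := fun {x} hx => ⟨inv_mem hx.1, by
    have e := h.γ_mul x x⁻¹
    rw [mul_inv_cancel, h.γ_eq_one.2 (one_mem _)] at e
    have e1 : γ t x⁻¹ = x⁻¹ * (γ t x)⁻¹ * x := by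
      rw [inv_eq_of_mul_eq_one_right e.symm]; group
    rw [e1]
    exact conj_in' (h.normB (cQ_N hx.1) hx.2) (inv_mem hx.2)⟩

theorem W0_N {x : G} (hx : x ∈ h.W0) : x ∈ normalizer (B : Set G) := h.normB (cQ_N hx.1) hx.2

theorem B_W0 : B ≤ h.W0 := fun b hb =>
  ⟨h.cQ hb, by rw [h.γ_B hb]; exact mul_mem (inv_mem hb) (inv_mem hb)⟩

theorem W0_conj {g x : G} (hg : g ∈ f.D) (hx : x ∈ h.W0) : g * x * g⁻¹ ∈ h.W0 :=
  ⟨cen_conj hg.2 hx.1, by rw [h.γ_conj hg.1]; exact conj_in (h.D_N hg) hx.2⟩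

theorem ξ_mul {x y : G} (hx : x ∈ h.W0) (hy : y ∈ h.W0) :
    ξ f t m (x * y) = ξ f t m x + ξ f t m y := by
  rw [ξ, h.γ_mul, h.β_mul hx.2 (conj_in (h.W0_N hx) hy.2), h.β_conj1 hx.1 hy.2]; rfl

theorem ξ_C {x : G} (hx : x ∈ f.C) : ξ f t m x = 0 := by rw [ξ, h.γ_eq_one.2 hx, β_one]

theorem ξ_B {b : G} (hb : b ∈ B) : ξ f t m b = 0 := by rw [ξ, h.γ_B hb, h.β_sq (inv_mem hb)]

theorem ξ_inv {x : G} (hx : x ∈ h.W0) : ξ f t m x⁻¹ = ξ f t m x := by
  have := h.ξ_mul (inv_mem hx) hx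
  rw [inv_mul_cancel, h.ξ_C (one_mem _)] at this
  exact (X1.add0 σ).1 this.symm

theorem ξ_conj {g x : G} (hg : g ∈ f.D) (hx : x ∈ h.W0) :
    ξ f t m (g * x * g⁻¹) = nm σ (f.cc g) * f.tt g (ξ f t m x) := by
  rw [ξ, h.γ_conj hg.1, h.β_conj hg.2 hx.2]; rfl

theorem ξ_d {μ : Fˣ} (hμ : σ μ = μ) {x : G} (hx : x ∈ h.W0) :
    ξ f t m (f.d μ * x * (f.d μ)⁻¹) = (μ : F) ^ 2 * ξ f t m x := by
  rw [h.ξ_conj (f.d_mem_D μ) hx, d_wt hμ]

theorem ξ_ker {x : G} (hx : x ∈ h.W0) (e : ξ f t m x = 0) : ∃ b ∈ B, b⁻¹ * x ∈ f.C := by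
  obtain ⟨c, hc, e1⟩ := h.β_root hx.2 e
  exact ⟨c⁻¹, inv_mem hc, h.γ_eq (by rw [h.γ_B (inv_mem hc), inv_inv, e1])⟩

end Lv

namespace Up

variable {P : Subgroup G} (h : Up f t m B P)
include h

theorem W0 {x : G} (hx : x ∈ P) : x ∈ h.toLv.W0 := ⟨h.PQ hx, h.gam x hx⟩

theorem ξ_ker {x : G} (hx : x ∈ P) : ξ f t m x = 0 ↔ x ∈ B := by
  refine ⟨fun e => ?_, h.ξ_B⟩
  obtain ⟨b, hb, hC⟩ := h.toLv.ξ_ker (h.W0 hx) e
  exact (mul_mem_cancel_left (inv_mem hb)).1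
    (h.VB (h.cen _ (mul_mem (inv_mem (h.BP hb)) hx) ((mem_C' h.toInv).1 hC)))

theorem ξ_surj {y : F} (hy : σ y = y) : ∃ x ∈ P, ξ f t m x = y := by
  obtain ⟨b, hb, e⟩ := h.β_surj hy
  obtain ⟨x, hx, e1⟩ := h.onto b hb
  exact ⟨x, hx, by rw [ξ, γ, e1, e]⟩

theorem sq_B {x : G} (hx : x ∈ P) : x * x ∈ B :=
  (h.ξ_ker (mul_mem hx hx)).1 (by rw [h.ξ_mul (h.W0 hx) (h.W0 hx)]; exact (X1.add0 σ).2 rfl)

theorem d_P (μ : Fˣ) {x : G} (hx : x ∈ P) : f.d μ * x * (f.d μ)⁻¹ ∈ P :=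
  conj_in (h.DN (f.d_mem_D μ)) hx

theorem t_D : t ∈ f.D := ⟨f.E_le_C h.tE, cQ_N (t_cQ h.toInv)⟩

theorem t_P {x : G} (hx : x ∈ P) : t * x * t ∈ P := by
  simpa only [t_inv h.toInv] using conj_in (h.DN h.t_D) hx

theorem txt (x : G) : t * x * t = γ t x * x := by rw [γ]; group

end Up

end Cfsg.Agent.WA.Lk.X2a
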