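import Cfsg.Agent.WA.Lk2a0

/-! The tower over `E = {1, t}`: the storey above a level (module Lk2a, see PLAN_LK.md). -/

set_option autoImplicit false
set_option linter.unusedSectionVars false

namespace Cfsg.Agent.WA.Lk.X2a

open Subgroup Cfsg.Agent.H1.U3 Cfsg.Agent.H8

section gen

variable {G : Type*} [Group G]

theorem cm_cen {c c' x y : G} (h1 : Commute c x) (h2 : Commute c y) (h3 : Commute c c')
    (h4 : Commute c' x) (h5 : Commute c' y) :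
    c * x * (c' * y) * (c * x)⁻¹ * (c' * y)⁻¹ = x * y * x⁻¹ * y⁻¹ := by
  have e1 := (((h1.mul_right h3).mul_right h2).mul_right h1.inv_right).eq
  have e2 := (((h4.mul_right h5).mul_right h4.inv_right).mul_right h5.inv_right).eq
  calc _ = c * (x * c' * y * x⁻¹) * c⁻¹ * y⁻¹ * c'⁻¹ := by group
    _ = x * c' * y * x⁻¹ * y⁻¹ * c'⁻¹ := by rw [e1]; group
    _ = c' * (x * y * x⁻¹ * y⁻¹) * c'⁻¹ := by rw [← h4.eq]; group
    _ = _ := by rw [e2]; group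

theorem mem_of_pow [Finite G] {S : Subgroup G} {x : G} {k : ℕ} (hk : k.Coprime (orderOf x))
    (h : x ^ k ∈ S) : x ∈ S :=
  (zpowers_le.2 h) (mem_zpowers_pow_iff.2 hk)

theorem two_mem [Finite G] {S : Subgroup G} {s z : G} (hs : s ∈ S) (hc : Commute s z)
    (h3 : Odd (orderOf z)) (h2 : ∃ k, (s * z) ^ 2 ^ k = 1) : s * z ∈ S := by
  obtain ⟨k, hk⟩ := h2
  refine mem_of_pow (k := orderOf z) (Nat.Coprime.coprime_dvd_right (orderOf_dvd_of_pow_eq_one hk)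
    (Nat.Coprime.pow_right _ (Nat.coprime_two_right.2 h3))) ?_
  rw [hc.mul_pow, pow_orderOf_eq_one, mul_one]
  exact pow_mem hs _

end gen

variable {F : Type*} [Field F] [Finite F] {σ : F →+* F} [Ctx σ] {G : Type*} [Group G] [Finite G]
variable {f : Fr σ G} {t : G} {m : ℕ} {B : Subgroup G}

theorem pgQ (f : Fr σ G) : IsPGroup 2 f.Q :=
  f.T_syl.pgroup.to_le (by rintro _ ⟨u, rfl⟩; exact f.jT u)

theorem lemL' (h : f.Inv t) {s : G} (hs : f.TC s) {X : Subgroup G} (hX : IsPGroup 2 X)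
    (hc : ∀ x ∈ X, s * x = x * s) (hV : X ≤ centralizer (f.V : Set G))
    (hsV : s ∈ centralizer (f.V : Set G)) (hsX : s ∉ X) (hcard : f.q ^ 3 ≤ Nat.card X)
    (hcm : ∀ x ∈ X, ∀ y ∈ X, x * y * x⁻¹ * y⁻¹ ∈ f.V) :
    ∃ g, g * t * g⁻¹ = s ∧ cj g f.T1 = X ⊔ zpowers s ∧ cj g f.V = f.V := by
  have s2 := TC_sq h hs
  have hn : s ∈ normalizer (X : Set G) := H5.mem_normalizer_of_conj_mem fun x hx => by
    rw [hc x hx, mul_inv_cancel_right]; exact hx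
  have dec : ∀ x ∈ X ⊔ zpowers s, ∃ c, ∃ y ∈ X, x = c * y ∧ Commute c s ∧ ∀ z, Commute s z → Commute c z := by
    intro x hx
    rcases (mem_adj hn s2).1 hx with h1 | h1
    · exact ⟨1, x, h1, (one_mul x).symm, Commute.one_left _, fun z _ => Commute.one_left _⟩
    · exact ⟨s, _, h1, by rw [← mul_assoc, s2, one_mul], Commute.refl _, fun z hz => hz⟩
  obtain ⟨g, e, he, h1, e1, e2, e3⟩ := f.lemL hs (pg_adj hX hn s2)
    (sup_le (fun x hx => mem_centralizer_singleton_iff.2 (hc x hx).symm)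
      (zpowers_le.2 (mem_centralizer_singleton_iff.2 rfl)))
    (sup_le hV (zpowers_le.2 hsV))
    (by
      rw [H5.card_sup_zpowers (p := 2) hn hsX (by rw [pow_two, s2]; exact one_mem _), f.card_T1,
        card_E h]
      omega)
    (fun x hx y hy => by
      obtain ⟨c, a, ha, rfl, c1, c2⟩ := dec x hx
      obtain ⟨c', b, hb, rfl, c3, c4⟩ := dec y hy
      rw [cm_cen (c2 a (hc a ha)) (c2 b (hc b hb)) (c2 c' c3.symm) (c4 a (hc a ha)) (c4 b (hc b hb))]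
      exact hcm a ha b hb)
  exact ⟨g, ((h.E2 e he).resolve_left h1) ▸ e1, e2, e3⟩

theorem d_C (f : Fr σ G) (μ : Fˣ) : f.d μ ∈ f.C := (f.d_mem_D μ).1

theorem Z_C {z : G} (hz : z ∈ f.Z) : z ∈ f.C := f.U_le (f.ZU hz)

theorem conj_d {g : G} (hg : g ∈ normalizer (f.Q : Set G)) (μ : Fˣ) :
    f.cc (g * f.d μ * g⁻¹) = f.tt g (f.cc (f.d μ)) ∧ f.tt (g * f.d μ * g⁻¹) = 1 := by
  have e := f.cc_mul hg (inv_mem hg)
  rw [mul_inv_cancel, f.ct_one.1] at e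
  rw [f.cc_mul (mul_mem hg (d_N f μ)) (inv_mem hg), f.tt_mul (mul_mem hg (d_N f μ)) (inv_mem hg),
    f.cc_mul hg (d_N f μ), f.tt_mul hg (d_N f μ), (f.ct_d μ).2.1, mul_one, f.tt_inv hg,
    mul_inv_cancel]
  exact ⟨by linear_combination -f.tt g (f.cc (f.d μ)) * e, rfl⟩

/-- `g d g⁻¹` is some `d ν` modulo the kernel of `cc`, `tt` -/
theorem conj_d' {g : G} (hg : g ∈ normalizer (f.Q : Set G)) {μ : Fˣ} (hμ : σ μ = μ) :
    ∃ ν : Fˣ, σ ν = ν ∧ f.cc (g * f.d μ * g⁻¹ * (f.d ν)⁻¹) = 1 ∧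
      f.tt (g * f.d μ * g⁻¹ * (f.d ν)⁻¹) = 1 := by
  have hν : σ (f.tt g μ) = f.tt g μ := f.tt_fixed g hμ
  have n0 : f.tt g μ ≠ 0 := by simp
  refine ⟨Units.mk0 _ n0, hν, f.ct_div (mul_mem (mul_mem hg (d_N f μ)) (inv_mem hg)) (d_N f _) ?_ ?_⟩
  · rw [(conj_d hg μ).1, f.cc_d_K hμ, f.cc_d_K hν]; rfl
  · rw [(conj_d hg μ).2, (f.ct_d _).2.1]

theorem ex_cm {g : G} (hg : g ∈ normalizer (f.Q : Set G)) (h1 : f.cc g ≠ 1) (h2 : f.tt g = 1)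
    (u : US σ) : ∃ r : US σ, ∃ v ∈ f.V, f.j u = v * (f.j r * (g * (f.j r)⁻¹ * g⁻¹)) := by
  have c0 : 1 - f.cc g ≠ 0 := sub_ne_zero.2 h1.symm
  obtain ⟨r, hr⟩ := exists_a (σ := σ) (u.a / (1 - f.cc g))
  refine ⟨r, f.j (u * (r * f.aut g r⁻¹)⁻¹), f.j_mem_V.2 ?_, ?_⟩
  · simp only [mul_a, inv_a, f.aut_a, h2, hr, RingAut.one_apply]
    field_simp
    ring
  · rw [← map_inv, f.conj_j hg, ← map_mul, ← map_mul, inv_mul_cancel_right]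

namespace Lv

variable (h : Lv f t m B)
include h

theorem trans0 {b : G} (hb : b ∈ B) : ∃ g ∈ normalizer (f.Q : Set G), γ t g = b := by
  have hs := h.TC_B hb
  have sQ : t * b ∈ centralizer (f.Q : Set G) := mul_mem (t_cQ h.toInv) (h.cQ hb)
  obtain ⟨g, e1, e2, -⟩ := lemL' h.toInv hs (pgQ f) (fun x hx => (sQ x hx).symm)
    (fun x hx v hv => (f.V_cen_Q hv x hx).symm) (fun v hv => cQ_V sQ hv)
    (by rintro ⟨u, e⟩; exact TC_V h.toInv hs (e ▸ f.j_mem_V.2 (j_cQ (e ▸ sQ))))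
    f.card_Q.ge (by rintro _ ⟨u, rfl⟩ _ ⟨r, rfl⟩; rw [f.j_cm]; exact f.vv_mem _)
  refine ⟨g, f.mem_NQ (e2 ▸ le_sup_left) fun μ hμ x hx => ?_,
    by rw [γ, e1, ← mul_assoc, t_sq h.toInv, one_mul]⟩
  rcases h.E2 _ (mem_cj.1 hx) with e | e
  · rw [show x = g * 1 * g⁻¹ by rw [← e]; group]; group
  · rw [show x = t * b by rw [← e1, ← e]; group, mul_assoc, ← h.dc μ hμ b hb, ← mul_assoc,
      ← (mem_C' h.toInv).1 (d_C f μ), mul_assoc]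

theorem γ_inv (g : G) : γ t g⁻¹ = g⁻¹ * (γ t g)⁻¹ * g := by
  have e := h.γ_mul g g⁻¹
  rw [mul_inv_cancel, h.γ_eq_one.2 (one_mem _)] at e
  rw [inv_eq_of_mul_eq_one_right e.symm]; group

theorem fix_conj {g y : G} (hg : g ∈ normalizer (f.Q : Set G)) (hγ : γ t g ∈ B) (hy : y ∈ f.C)
    (hB : ∀ b ∈ B, y * b = b * y) : g * y * g⁻¹ ∈ f.C := by
  have h1 : γ t g⁻¹ ∈ B := by rw [h.γ_inv]; exact conj_in' (h.normB hg hγ) (inv_mem hγ)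
  rw [← h.γ_eq_one, mul_assoc, h.γ_mul, h.γ_mul, h.γ_eq_one.2 hy, hB _ h1, h.γ_inv]
  group

theorem trans1 : ∃ k ∈ normalizer (f.Q : Set G), f.cc k = 1 ∧ f.tt k = 1 ∧ γ t k ∈ B ∧
    β f m (γ t k) ≠ 0 := by
  obtain ⟨b, hb, e⟩ := h.β_surj (map_one σ)
  obtain ⟨g, hg, e1⟩ := h.trans0 hb
  obtain ⟨μ, hμ, h0⟩ := exists_l f
  obtain ⟨ν, -, c1, c2⟩ := conj_d' (inv_mem hg) hμ
  have hd := conj_in (h.D_N (f.d_mem_D μ)) hb
  have e2 : γ t (g⁻¹ * f.d μ * g⁻¹⁻¹ * (f.d ν)⁻¹) =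
      g⁻¹ * (b⁻¹ * (f.d μ * b * (f.d μ)⁻¹)) * g⁻¹⁻¹ := by
    rw [h.γ_mul, h.γ_eq_one.2 (inv_mem (d_C f ν)), mul_assoc g⁻¹, h.γ_mul, h.γ_mul, h.γ_inv,
      h.γ_eq_one.2 (d_C f μ), inv_inv, e1]
    group
  refine ⟨_, mul_mem (mul_mem (mul_mem (inv_mem hg) (d_N f μ)) (inv_mem (inv_mem hg)))
    (inv_mem (d_N f ν)), c1, c2, ?_, ?_⟩
  · rw [e2]
    exact conj_in (inv_mem (h.normB hg (e1 ▸ hb))) (mul_mem (inv_mem hb) hd)
  · rw [e2, h.β_conj (inv_mem hg) (mul_mem (inv_mem hb) hd), h.β_mul (inv_mem hb) hd, h.β_inv hb,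
      h.β_d hμ hb, e, mul_one, add_comm]
    exact mul_ne_zero (fun e => f.cc_ne _ (nm_eq_zero.1 e)) ((map_ne_zero _).2 h0)

theorem fixQ {k : G} (hk : k ∈ normalizer (f.Q : Set G)) (c1 : f.cc k = 1) (c2 : f.tt k = 1)
    (hγ : γ t k ∈ B) : ∃ x ∈ h.W0, γ t x = γ t k := by
  obtain ⟨μ, hμ, h1, -, -⟩ := f.exists_h0
  have hy := mul_mem (mul_mem hk (d_N f μ)) (inv_mem hk)
  have hC := h.fix_conj hk hγ (d_C f μ) (h.dc μ hμ)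
  obtain ⟨a1, a2⟩ := f.ct_div hy (d_N f μ) (by rw [(conj_d hk μ).1, c2]; rfl)
    (by rw [(conj_d hk μ).2, (f.ct_d μ).2.1])
  obtain ⟨_, hy1, z, hz, e⟩ := f.ker' (mul_mem (show _ ∈ f.D from ⟨hC, hy⟩) (inv_mem (f.d_mem_D μ))) a1 a2
  obtain ⟨e', he, u, rfl⟩ := f.mem_T1.1 hy1
  obtain ⟨r, v, hv, e1⟩ := ex_cm (d_N f μ) h1 (f.ct_d μ).2.1 u
  have hc : e' * v * z ∈ centralizer (f.Q : Set G) :=
    mul_mem (mul_mem (f.E_cen_Q he) (f.V_cen_Q hv)) (f.Z_cen_Q hz)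
  have hz1 : Commute z (f.j r * (f.d μ * (f.j r)⁻¹ * (f.d μ)⁻¹)) := by
    have p : Commute z (f.j r) := f.Zj z hz r
    have q : Commute z (f.d μ) := f.Zd z hz μ
    exact p.mul_right ((q.mul_right p.inv_right).mul_right q.inv_right)
  have hx : (f.j r)⁻¹ * k ∈ normalizer (f.Q : Set G) :=
    mul_mem (inv_mem (le_normalizer ⟨r, rfl⟩)) hk
  have e2 : (f.j r)⁻¹ * k * f.d μ * ((f.j r)⁻¹ * k)⁻¹ = e' * v * z * f.d μ := by
    calc _ = (f.j r)⁻¹ * (k * f.d μ * k⁻¹ * (f.d μ)⁻¹) * f.d μ * f.j r := by group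
      _ = (f.j r)⁻¹ * (e' * v * (f.j r * (f.d μ * (f.j r)⁻¹ * (f.d μ)⁻¹) * z)) * f.d μ * f.j r := by
        rw [e, e1]; group
      _ = (f.j r)⁻¹ * (e' * v * z * f.j r) * f.d μ := by rw [← hz1.eq]; group
      _ = _ := by rw [← cQ_iff.1 hc r]; group
  have x1 : f.cc ((f.j r)⁻¹ * k) = 1 ∧ f.tt ((f.j r)⁻¹ * k) = 1 := by
    rw [← map_inv, f.cc_mul (le_normalizer ⟨_, rfl⟩) hk, f.tt_mul (le_normalizer ⟨_, rfl⟩) hk,
      (f.ct_j _).1, (f.ct_j _).2, c1, c2]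
    simp
  have e3 : γ t ((f.j r)⁻¹ * k) = γ t k := by
    rw [h.γ_mul, h.γ_eq_one.2 (inv_mem (f.Q_le_C ⟨r, rfl⟩)), ← map_inv, cQ_iff.1 (h.cQ hγ)]
    group
  refine ⟨_, ⟨cQ_iff.2 fun w => ?_, e3 ▸ hγ⟩, e3⟩
  generalize (f.j r)⁻¹ * k = x at hx e2 x1 ⊢
  obtain ⟨r, v', hv', e4⟩ := ex_cm (d_N f μ) h1 (f.ct_d μ).2.1 w
  have xV : x * v' * x⁻¹ = v' := by
    rw [← vv_co hv', f.conj_vv hx (co_K _), x1.1, x1.2]
    simp [nm]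
  obtain ⟨p, hp, e5⟩ : ∃ p ∈ f.V, x * f.j r * x⁻¹ = p * f.j r :=
    ⟨f.j (f.aut x r * r⁻¹), f.j_mem_V.2 (by simp [f.aut_a, x1.1, x1.2]), by
      rw [f.conj_j hx, ← map_mul, inv_mul_cancel_right]⟩
  have q1 : f.d μ * (p * f.j r)⁻¹ * (f.d μ)⁻¹ ∈ f.Q :=
    conj_in (d_N f μ) (inv_mem (mul_mem (f.V_le_Q hp) ⟨r, rfl⟩))
  have q2 : f.j r * (f.d μ * (f.j r)⁻¹ * (f.d μ)⁻¹) ∈ f.Q :=
    mul_mem ⟨r, rfl⟩ (conj_in (d_N f μ) (inv_mem ⟨r, rfl⟩))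
  have q3 := f.d_cen_V hμ p⁻¹ (inv_mem hp)
  refine (mul_inv_eq_iff_eq_mul.1 ?_).symm
  calc x * f.j w * x⁻¹ = (x * v' * x⁻¹) * ((x * f.j r * x⁻¹) *
        ((x * f.d μ * x⁻¹) * (x * f.j r * x⁻¹)⁻¹ * (x * f.d μ * x⁻¹)⁻¹)) := by rw [e4]; group
    _ = v' * (p * f.j r * (e' * v * z * (f.d μ * (p * f.j r)⁻¹ * (f.d μ)⁻¹) * (e' * v * z)⁻¹)) := by
        rw [xV, e5, e2]; group
    _ = v' * (p * f.j r * f.d μ * (f.j r)⁻¹ * (f.d μ * p)⁻¹) := by rw [← hc _ q1]; group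
    _ = v' * (p * (f.j r * (f.d μ * (f.j r)⁻¹ * (f.d μ)⁻¹)) * p⁻¹) := by
        rw [← f.d_cen_V hμ p hp]; group
    _ = _ := by rw [← f.V_cen_Q hp _ q2, e4]; group

theorem ξ_surj {y : F} (hy : σ y = y) : ∃ x ∈ h.W0, ξ f t m x = y := by
  by_cases y0 : y = 0
  · exact ⟨1, one_mem _, by rw [y0, h.ξ_C (one_mem _)]⟩
  obtain ⟨k, hk, c1, c2, hγ, h0⟩ := h.trans1
  obtain ⟨x, hx, e⟩ := h.fixQ hk c1 c2 hγ
  obtain ⟨μ, hμ, e1⟩ := exists_wt (β_K _) hy h0 y0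
  exact ⟨_, h.W0_conj (f.d_mem_D μ) hx, by rw [h.ξ_d hμ hx, ξ, e, e1]⟩

theorem γ_surj {b : G} (hb : b ∈ B) : ∃ x ∈ h.W0, γ t x = b := by
  obtain ⟨x, hx, e⟩ := h.ξ_surj (β_K (f := f) (m := m) b)
  obtain ⟨c, hc, e1⟩ := h.β_root (mul_mem hb (inv_mem hx.2)) (by
    rw [h.β_mul hb (inv_mem hx.2), h.β_inv hx.2]; exact (X1.add0 σ).2 e.symm)
  refine ⟨_, mul_mem (h.B_W0 (inv_mem hc)) hx, ?_⟩
  rw [h.γ_mul, h.γ_B (inv_mem hc), h.comm _ (inv_mem hc) _ hx.2, inv_inv, e1]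
  group

theorem W0_Z {x z : G} (hx : x ∈ h.W0) (hz : z ∈ f.Z) : x * z * x⁻¹ ∈ f.Z := by
  obtain ⟨y, hy, z', hz', e⟩ := f.cen_Q (h.fix_conj (cQ_N hx.1) hx.2 (Z_C hz) (h.Zc z hz))
    (cen_conj (cQ_N hx.1) (f.Z_cen_Q hz))
  rw [e, eq_one_of_odd_mul (f.Z_comm (f.A_le_T1 hy) hz') (k := 1) (by simpa [pow_two] using f.A_sq hy)
    (f.Zo z' hz') (e ▸ odd_conj (f.Zo z hz) x), one_mul]
  exact hz'

theorem ξ_cm {μ : Fˣ} (hμ : σ μ = μ) (h0 : (μ : F) ^ 2 + 1 ≠ 0) {y : F} (hy : σ y = y) :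
    ∃ x ∈ h.W0, ∀ x' ∈ h.W0, ξ f t m x' = ξ f t m x →
      ξ f t m x' + ξ f t m (f.d μ * x' * (f.d μ)⁻¹) = y := by
  obtain ⟨x, hx, e⟩ := h.ξ_surj (y := y / ((μ : F) ^ 2 + 1))
    (by rw [map_div₀, map_add, map_pow, map_one, hμ, hy])
  refine ⟨x, hx, fun x' hx' e1 => ?_⟩
  rw [h.ξ_d hμ hx', e1, e]
  field_simp
  ring

theorem W0_cZ {x z : G} (hx : x ∈ h.W0) (h2 : ∃ k, x ^ 2 ^ k = 1) (hz : z ∈ f.Z) : Commute z x := by
  obtain ⟨μ, hμ, h0⟩ := exists_l f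
  obtain ⟨y, hy, e⟩ := h.ξ_cm hμ h0 (ξ_K (f := f) (t := t) (m := m) x)
  have hy' := h.W0_conj (f.d_mem_D μ) hy
  have hw := mul_mem (mul_mem (inv_mem hy) hy') hx
  obtain ⟨b, hb, hC⟩ := h.ξ_ker hw (by
    rw [h.ξ_mul (mul_mem (inv_mem hy) hy') hx, h.ξ_mul (inv_mem hy) hy', h.ξ_inv hy, e y hy rfl]
    exact (X1.add0 σ).2 rfl)
  obtain ⟨a, ha, z', hz', e1⟩ := f.cen_Q hC (mul_mem (inv_mem (h.cQ hb)) hw.1)
  have c1 : y⁻¹ * (f.d μ * y * (f.d μ)⁻¹) ∈ centralizer (f.Z : Set G) := fun z hz => by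
    have p := f.Zd _ (h.W0_Z hy hz) μ
    have q := f.Zd _ hz μ
    calc z * (y⁻¹ * (f.d μ * y * (f.d μ)⁻¹)) = y⁻¹ * (y * z * y⁻¹ * f.d μ) * y * (f.d μ)⁻¹ := by group
      _ = y⁻¹ * f.d μ * y * (f.d μ)⁻¹ * (f.d μ * z) * (f.d μ)⁻¹ := by rw [p]; group
      _ = _ := by rw [← q]; group
  have c2 : b * a ∈ centralizer (f.Z : Set G) := fun z hz =>
    Commute.mul_right (h.Zc z hz b hb) (f.Z_comm (f.A_le_T1 ha) hz).symm
  have e2 : x = (y⁻¹ * (f.d μ * y * (f.d μ)⁻¹))⁻¹ * (b * a) * z' := by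
    rw [mul_assoc, mul_assoc b, ← e1]; group
  have := cen_of_two (mul_mem (inv_mem c1) c2) hz' (f.Zo z' hz') (e2 ▸ h2)
  rw [← e2] at this
  exact this z hz

theorem A_adj {a : G} (ha : a ∈ f.A) : a ∈ B ⊔ zpowers t :=
  (mem_adj h.t_N (t_sq h.toInv)).2 (((mem_A' h.toInv).1 ha).imp (fun e => h.VB e) fun e => h.VB e)

theorem exists_S0 : ∃ S : Subgroup G, (∀ x, x ∈ S ↔ x ∈ h.W0 ∧ ∃ k, x ^ 2 ^ k = 1) ∧
    ∀ x ∈ h.W0, ∃ s ∈ S, ∃ z ∈ f.Z, x = s * z := by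
  obtain ⟨S, hS⟩ := exists_isSylowIn 2 h.W0
  have hn : f.Z ≤ normalizer (S : Set G) := fun z hz => H5.mem_normalizer_of_conj_mem fun x hx => by
    rw [(h.W0_cZ (hS.le hx) (H5.IsPGroup_pow_eq_one hS.pgroup hx) hz).eq, mul_inv_cancel_right]
    exact hx
  have key : h.W0 ≤ S ⊔ f.Z := le_of_forall_isSylowIn_le fun p hp _ => by
    by_cases p2 : p = 2
    · exact ⟨S, p2 ▸ hS, le_sup_left⟩
    obtain ⟨R, hR⟩ := exists_isSylowIn p h.W0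
    refine ⟨R, hR, fun x hx => mem_sup_right ?_⟩
    have hW := hR.le hx
    obtain ⟨b, hb, hC⟩ := h.ξ_ker (mul_mem hW hW) (by rw [h.ξ_mul hW hW]; exact (X1.add0 σ).2 rfl)
    obtain ⟨a, ha, z, hz, e⟩ := f.cen_Q hC (mul_mem (inv_mem (h.cQ hb)) (mul_mem hW.1 hW.1))
    obtain ⟨k, hk⟩ := H5.IsPGroup_pow_eq_one (pg_adj h.pgB h.t_N (t_sq h.toInv))
      (mul_mem (mem_sup_left hb) (h.A_adj ha))
    obtain ⟨i, hi⟩ := H5.IsPGroup_pow_eq_one hR.pgroup hx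
    have c : Commute (b * a) z :=
      Commute.mul_left (h.Zc z hz b hb).symm (f.Z_comm (f.A_le_T1 ha) hz)
    refine mem_of_pow (k := 2 ^ (k + 1)) (Nat.Coprime.coprime_dvd_right (orderOf_dvd_of_pow_eq_one hi)
      (Nat.Coprime.pow _ _ ((Nat.coprime_primes Nat.prime_two hp).2 (Ne.symm p2)))) ?_
    rw [pow_succ', pow_mul, pow_two, show x * x = b * a * z by rw [mul_assoc, ← e]; group,
      c.mul_pow, hk, one_mul]
    exact pow_mem hz _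
  have dec : ∀ x ∈ h.W0, ∃ s ∈ S, ∃ z ∈ f.Z, x = s * z := fun x hx => by
    obtain ⟨s, hs, z, hz, e⟩ := (H5.mem_sup_of_le_normalizer_left hn).1 (key hx)
    exact ⟨s, hs, z, hz, e.symm⟩
  refine ⟨S, fun x => ⟨fun hx => ⟨hS.le hx, H5.IsPGroup_pow_eq_one hS.pgroup hx⟩, fun hx => ?_⟩, dec⟩
  obtain ⟨s, hs, z, hz, rfl⟩ := dec x hx.1
  exact two_mem hs (h.W0_cZ (hS.le hs) (H5.IsPGroup_pow_eq_one hS.pgroup hs) hz).symm (f.Zo z hz) hx.2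

theorem exists_up : ∃ P, Up f t m B P := by
  obtain ⟨S, hS, dec⟩ := h.exists_S0
  have SW : ∀ {x}, x ∈ S → x ∈ h.W0 := fun hx => ((hS _).1 hx).1
  have SA : ∀ {x}, x ∈ S → x ∈ f.C → x ∈ f.A := fun hx hC => mem_A_of hC (SW hx).1 ((hS _).1 hx).2
  have t2 := t_sq h.toInv
  have tC : t ∈ f.C := f.E_le_C h.tE
  have tS : t ∈ S := (hS t).2 ⟨⟨t_cQ h.toInv, by rw [h.γ_eq_one.2 tC]; exact one_mem _⟩,
    1, by rw [pow_one, pow_two, t2]⟩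
  have BS : B ≤ S := fun b hb => (hS b).2 ⟨h.B_W0 hb, _, h.exp' hb⟩
  have DS : ∀ {g x}, g ∈ f.D → x ∈ S → g * x * g⁻¹ ∈ S := fun hg hx => (hS _).2
    ⟨h.W0_conj hg (SW hx), ((hS _).1 hx).2.imp fun k hk => by rw [conj_pow, hk]; group⟩
  have dS : ∀ μ {x}, x ∈ S → f.d μ * x * (f.d μ)⁻¹ ∈ S := fun μ _ hx => DS (f.d_mem_D μ) hx
  have ker : ∀ {x}, x ∈ S → ξ f t m x = 0 → x ∈ B ∨ ∃ b ∈ B, x = t * b := fun {x} hx e => by
    obtain ⟨b, hb, hC⟩ := h.ξ_ker (SW hx) e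
    have h1 := mul_mem (mem_sup_left hb) (h.A_adj (SA (mul_mem (inv_mem (BS hb)) hx) hC))
    rw [mul_inv_cancel_left, mem_adj h.t_N t2] at h1
    exact h1.imp_right fun h2 => ⟨_, h2, by rw [← mul_assoc, t2, one_mul]⟩
  obtain ⟨M, _, π, pm, p0, p2⟩ := exists_quot BS (fun x hx => h.W0_N (SW hx)) fun x hx =>
    (ker (mul_mem hx hx) (by rw [h.ξ_mul (SW hx) (SW hx)]; exact (X1.add0 σ).2 rfl)).resolve_right
      fun ⟨b, hb, e⟩ => f.nonsq (h.TC_B hb) x e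
  have pi : ∀ {a}, a ∈ S → π a⁻¹ = π a := fun {a} ha => by
    have := pm _ (inv_mem ha) a ha
    rw [inv_mul_cancel, (p0 1 (one_mem _)).2 (one_mem _), ← p2 a ha] at this
    exact (add_right_cancel this).symm
  have pe : ∀ {a b}, a ∈ S → b ∈ S → (π a = π b ↔ a⁻¹ * b ∈ B) := fun {a b} ha hb => by
    rw [← p0 _ (mul_mem (inv_mem ha) hb), pm _ (inv_mem ha) b hb, pi ha, ← p2 a ha, add_right_inj]
    exact eq_comm
  have pc : ∀ {g a b}, g ∈ f.D → a ∈ S → b ∈ S → π a = π b → π (g * a * g⁻¹) = π (g * b * g⁻¹) :=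
    fun {g a b} hg ha hb e => (pe (DS hg ha) (DS hg hb)).2 (by
      rw [show (g * a * g⁻¹)⁻¹ * (g * b * g⁻¹) = g * (a⁻¹ * b) * g⁻¹ by group]
      exact conj_in (h.D_N hg) ((pe ha hb).1 e))
  have dt : ∀ μ {x}, x ∈ S → π (t * x) + π (f.d μ * (t * x) * (f.d μ)⁻¹) =
      π x + π (f.d μ * x * (f.d μ)⁻¹) := fun μ x hx => by
    rw [← mul_assoc (f.d μ), (mem_C' h.toInv).1 (d_C f μ), mul_assoc t, mul_assoc t, pm t tS x hx,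
      pm t tS _ (dS μ hx), add_add_add_comm, p2 t tS, zero_add]
  obtain ⟨μ, hμ, h0⟩ := exists_l f
  let P : Subgroup G :=
    { carrier := {x | x ∈ S ∧ ∃ y ∈ S, π x = π y + π (f.d μ * y * (f.d μ)⁻¹)}
      one_mem' := ⟨one_mem _, 1, one_mem _, by
        rw [mul_one, mul_inv_cancel, p2 1 (one_mem _), (p0 1 (one_mem _)).2 (one_mem _)]⟩
      mul_mem' := fun {a b} ⟨ha, x, hx, e⟩ ⟨hb, y, hy, e'⟩ => ⟨mul_mem ha hb, x * y, mul_mem hx hy, by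
        rw [← conj_mul, pm a ha b hb, pm x hx y hy, pm _ (dS μ hx) _ (dS μ hy), e, e',
          add_add_add_comm]⟩
      inv_mem' := fun {a} ⟨ha, x, hx, e⟩ => ⟨inv_mem ha, x, hx, by rw [pi ha, e]⟩ }
  have PS : P ≤ S := fun x hx => hx.1
  have Pe : ∀ {a b}, a ∈ S → b ∈ P → π a = π b → a ∈ P := fun ha ⟨_, y, hy, e⟩ e' =>
    ⟨ha, y, hy, e'.trans e⟩
  have BP : B ≤ P := fun b hb => Pe (BS hb) (one_mem _) (by
    rw [(p0 b (BS hb)).2 hb, (p0 1 (one_mem _)).2 (one_mem _)])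
  have tP : t ∉ P := fun ⟨_, y, hy, e⟩ => by
    have h1 := h.ξ_B ((pe tS (mul_mem hy (dS μ hy))).1 (by rw [e, pm y hy _ (dS μ hy)]))
    rw [h.ξ_mul (SW (inv_mem tS)) (SW (mul_mem hy (dS μ hy))), h.ξ_C (inv_mem tC),
      h.ξ_mul (SW hy) (SW (dS μ hy)), h.ξ_d hμ (SW hy)] at h1
    have h2 : ξ f t m y = 0 := (mul_eq_zero.1 (by linear_combination h1)).resolve_left h0
    have h3 : ∀ b ∈ B, π b + π (f.d μ * b * (f.d μ)⁻¹) = 0 := fun b hb => by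
      rw [(p0 b (BS hb)).2 hb, (p0 _ (dS μ (BS hb))).2 (conj_in (h.D_N (f.d_mem_D μ)) hb), add_zero]
    refine h.t_B ((p0 t tS).1 ?_)
    rcases ker hy h2 with hb | ⟨b, hb, rfl⟩
    · rw [e, h3 y hb]
    · rw [e, dt μ (BS hb), h3 b hb]
  have cases : ∀ {x}, x ∈ S → x ∈ P ∨ ∃ p ∈ P, x = t * p := fun {x} hx => by
    obtain ⟨y, hy, e⟩ := h.ξ_cm hμ h0 (ξ_K (f := f) (t := t) (m := m) x)
    obtain ⟨s, hs, z, hz, rfl⟩ := dec y hy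
    have e1 := e s (SW hs) (by
      rw [h.ξ_mul (SW hs) ⟨f.Z_cen_Q hz, by rw [h.γ_eq_one.2 (Z_C hz)]; exact one_mem _⟩,
        h.ξ_C (Z_C hz), add_zero])
    have hp : s * (f.d μ * s * (f.d μ)⁻¹) ∈ P := ⟨mul_mem hs (dS μ hs), s, hs, pm s hs _ (dS μ hs)⟩
    rcases ker (mul_mem hx (inv_mem hp.1)) (by
      rw [h.ξ_mul (SW hx) (SW (inv_mem hp.1)), h.ξ_inv (SW hp.1), h.ξ_mul (SW hs) (SW (dS μ hs)), e1]
      exact (X1.add0 σ).2 rfl) with hb | ⟨b, hb, e2⟩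
    · exact Or.inl ((mul_mem_cancel_right (inv_mem hp)).1 (BP hb))
    · exact Or.inr ⟨_, mul_mem (BP hb) hp, by rw [← mul_assoc t, ← e2, inv_mul_cancel_right]⟩
  have dP : ∀ ν {x}, x ∈ P → f.d ν * x * (f.d ν)⁻¹ ∈ P := fun ν x ⟨hx, y, hy, e⟩ =>
    ⟨dS ν hx, _, dS ν hy, by
      rw [pc (f.d_mem_D ν) hx (mul_mem hy (dS μ hy)) (by rw [e, pm y hy _ (dS μ hy)]), ← conj_mul,
        pm _ (dS ν hy) _ (dS ν (dS μ hy))]
      congr 2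
      calc _ = f.d (ν * μ) * y * (f.d (ν * μ))⁻¹ := by rw [map_mul]; group
        _ = _ := by rw [mul_comm, map_mul]; group⟩
  have cP : ∀ ν {y}, y ∈ S → y * (f.d ν * y * (f.d ν)⁻¹) ∈ P := fun ν y hy => by
    rcases cases hy with hp | ⟨p, hp, rfl⟩
    · exact mul_mem hp (dP ν hp)
    · exact Pe (mul_mem hy (dS ν hy)) (mul_mem hp (dP ν hp)) (by
        rw [pm _ hy _ (dS ν hy), dt ν hp.1, pm _ hp.1 _ (dS ν hp.1)])
  have kt : ∀ {k a}, k ∈ f.D → f.cc k = 1 → f.tt k = 1 → a ∈ S → π (k * a * k⁻¹) = π a :=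
    fun {k a} hk c1 c2 ha => by
      obtain ⟨_, hy, z, hz, rfl⟩ := f.ker' hk c1 c2
      obtain ⟨e, he, u, rfl⟩ := f.mem_T1.1 hy
      have e1 : e * f.j u * z * a * (e * f.j u * z)⁻¹ = e * a * e⁻¹ := by
        calc _ = e * (f.j u * (z * a) * z⁻¹) * (f.j u)⁻¹ * e⁻¹ := by group
          _ = e * (f.j u * a) * (f.j u)⁻¹ * e⁻¹ := by 
            rw [(h.W0_cZ (SW ha) ((hS _).1 ha).2 hz).eq]; group
          _ = _ := by rw [cQ_iff.1 (SW ha).1 u]; group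
      rw [e1]
      rcases h.E2 e he with rfl | rfl
      · rw [one_mul, inv_one, mul_one]
      · rw [pm _ (mul_mem tS ha) _ (inv_mem tS), pm _ tS a ha, pi tS, add_right_comm, p2 _ tS,
          zero_add]
  refine ⟨P, h, pg_of fun x hx => ((hS x).1 hx.1).2, BP, fun x hx => (SW hx.1).1, fun g hg => ?_,
    fun x hx e => ?_, fun x hx => (SW hx.1).2, fun b hb => ?_, fun ν hν x hx => ?_,
    fun z hz x hx => (h.W0_cZ (SW hx.1) ((hS _).1 hx.1).2 hz).eq⟩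
  · refine H5.mem_normalizer_of_conj_mem fun x ⟨hx, y, hy, e⟩ => ?_
    obtain ⟨ν, -, c1, c2⟩ := conj_d' hg.2 hμ
    have hy' := DS hg hy
    refine Pe (DS hg hx) (cP ν hy') ?_
    rw [pc hg hx (mul_mem hy (dS μ hy)) (by rw [e, pm y hy _ (dS μ hy)]), ← conj_mul,
      pm _ hy' _ (DS hg (dS μ hy)), pm _ hy' _ (dS ν hy'),
      ← kt (mul_mem (mul_mem (mul_mem hg (f.d_mem_D μ)) (inv_mem hg)) (inv_mem (f.d_mem_D ν))) c1 c2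
        (dS ν hy')]
    congr 2
    group
  · exact ((mem_A' h.toInv).1 (SA hx.1 ((mem_C' h.toInv).2 e))).resolve_right fun h1 =>
      tP ((mul_mem_cancel_right hx).1 (BP (h.VB h1)))
  · obtain ⟨x, hx, e⟩ := h.γ_surj hb
    obtain ⟨s, hs, z, hz, rfl⟩ := dec x hx
    rw [h.γ_mul, h.γ_eq_one.2 (Z_C hz), mul_one, mul_inv_cancel, mul_one] at e
    rcases cases hs with hp | ⟨p, hp, rfl⟩
    · exact ⟨s, hp, e⟩
    · refine ⟨t * p * t, Pe (mul_mem hs tS) hp ?_, ?_⟩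
      · rw [pm _ hs t tS, pm t tS p hp.1, add_right_comm, p2 t tS, zero_add]
      · rw [← e]
        change γ t _ = _
        rw [h.γ_mul (t * p), h.γ_eq_one.2 tC, mul_one, mul_inv_cancel, mul_one]
  · obtain ⟨k, hk, e⟩ := d_odd f
    have ha := SA (mul_mem (inv_mem hx.1) (dS ν hx.1)) (h.γ_eq (by
      rw [h.γ_conj (d_C f ν), h.dc ν hν _ (SW hx.1).2, mul_inv_cancel_right]))
    refine comm_of_odd hk (e ν) (f.A_sq ha) ?_ (mul_inv_cancel_left _ _).symm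
    obtain ⟨e', he, v, hv, e1⟩ := f.mem_A.1 ha
    rw [e1, ← mul_assoc, ← d_C f ν e' he, mul_assoc, ← f.d_cen_V hν v hv, mul_assoc]

end Lv

end Cfsg.Agent.WA.Lk.X2a
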