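import Cfsg.Agent.WA.Lk2a0

/-! The tower over `E = {1, t}`: a storey is abelian or the top (module Lk2a, see PLAN_LK.md). -/

set_option autoImplicit false
set_option linter.unusedSectionVars false

namespace Cfsg.Agent.WA.Lk.X2a

open Subgroup Cfsg.Agent.H1.U3 Cfsg.Agent.H8

variable {F : Type*} [Field F] [Finite F] {σ : F →+* F} [Ctx σ] {G : Type*} [Group G] [Finite G]

theorem form {X Y : Subgroup G} {a b : G → F} {L : G → G → F}
    (am : ∀ x ∈ X, ∀ x' ∈ X, a (x * x') = a x + a x') (bm : ∀ x ∈ Y, ∀ x' ∈ Y, b (x * x') = b x + b x')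
    (aK : ∀ x, σ (a x) = a x) (bK : ∀ x, σ (b x) = b x)
    (as : ∀ u, σ u = u → ∃ x ∈ X, a x = u) (bs : ∀ u, σ u = u → ∃ x ∈ Y, b x = u)
    (L1 : ∀ x ∈ X, ∀ x' ∈ X, ∀ y ∈ Y, L (x * x') y = L x y + L x' y)
    (L2 : ∀ x ∈ X, ∀ y ∈ Y, ∀ y' ∈ Y, L x (y * y') = L x y + L x y')
    (a0 : ∀ x ∈ X, ∀ y ∈ Y, a x = 0 → L x y = 0) (b0 : ∀ x ∈ X, ∀ y ∈ Y, b y = 0 → L x y = 0)
    (hd : ∀ μ : Fˣ, σ μ = μ → ∀ x ∈ X, ∀ y ∈ Y, ∃ x' ∈ X, ∃ y' ∈ Y, a x' = μ * a x ∧ b y' = μ * b y ∧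
      L x' y' = (μ : F) ^ 2 * L x y) :
    ∃ c, ∀ x ∈ X, ∀ y ∈ Y, L x y = a x * b y * c := by
  have wd : ∀ {x x' y y'}, x ∈ X → x' ∈ X → y ∈ Y → y' ∈ Y → a x = a x' → b y = b y' →
      L x y = L x' y' := fun {x x' y y'} hx hx' hy hy' e e' => by
    have h1 := mul_mem (inv_mem hx') hx
    have h2 := mul_mem (inv_mem hy') hy
    have e1 := am _ hx' _ h1
    have e2 := bm _ hy' _ h2
    have e3 := L1 _ hx' _ h1 y hy
    have e4 := L2 _ hx' _ hy' _ h2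
    rw [mul_inv_cancel_left] at e1 e2 e3 e4
    rw [e3, e4, a0 _ h1 y hy (by linear_combination e - e1), b0 _ hx' _ h2 (by linear_combination e' - e2),
      add_zero, add_zero]
  choose! s hs e using as
  choose! r hr e' using bs
  have ad : ∀ {x y : F}, σ x = x → σ y = y → σ (x + y) = x + y := fun hx hy => by rw [map_add, hx, hy]
  refine ⟨L (s 1) (r 1), fun x hx y hy => ?_⟩
  rw [← wt (σ := σ) (g := fun u v => L (s u) (r v)) (fun u u' v hu hu' hv => ?_)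
    (fun u v v' hu hv hv' => ?_) (fun l u v hl hu hv => ?_) (aK x) (bK y)]
  · exact wd hx (hs _ (aK x)) hy (hr _ (bK y)) (e _ (aK x)).symm (e' _ (bK y)).symm
  · rw [← L1 _ (hs u hu) _ (hs u' hu') _ (hr v hv)]
    exact wd (hs _ (ad hu hu')) (mul_mem (hs u hu) (hs u' hu')) (hr v hv) (hr v hv)
      (by rw [am _ (hs u hu) _ (hs u' hu'), e _ (ad hu hu'), e u hu, e u' hu']) rfl
  · rw [← L2 _ (hs u hu) _ (hr v hv) _ (hr v' hv')]
    exact wd (hs u hu) (hs u hu) (hr _ (ad hv hv')) (mul_mem (hr v hv) (hr v' hv')) rfl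
      (by rw [bm _ (hr v hv) _ (hr v' hv'), e' _ (ad hv hv'), e' v hv, e' v' hv'])
  · have h1 : σ (l * u) = l * u := by rw [map_mul, hl, hu]
    have h2 : σ (l * v) = l * v := by rw [map_mul, hl, hv]
    by_cases l0 : l = 0
    · rw [a0 _ (hs _ h1) _ (hr _ h2) (by rw [e _ h1, l0, zero_mul]), l0]; ring
    obtain ⟨x', hx', y', hy', e1, e2, e3⟩ := hd (Units.mk0 l l0) hl _ (hs u hu) _ (hr v hv)
    rw [Units.val_mk0] at e1 e2 e3
    rw [← e3]
    exact wd (hs _ h1) hx' (hr _ h2) hy' (by rw [e1, e _ h1, e u hu]) (by rw [e2, e' _ h2, e' v hv])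

variable {f : Fr σ G} {t : G} {m : ℕ} {B P : Subgroup G}

/-- commutator -/
def cm (x y : G) : G := x * y * x⁻¹ * y⁻¹

theorem cm_eq_one {x y : G} : cm x y = 1 ↔ x * y = y * x := by
  rw [cm, mul_inv_eq_one, mul_inv_eq_iff_eq_mul]

theorem cm_conj (g x y : G) : cm (g * x * g⁻¹) (g * y * g⁻¹) = g * cm x y * g⁻¹ := by
  unfold cm; group

theorem cm_mul_left (x x' y : G) : cm (x * x') y = x * cm x' y * x⁻¹ * cm x y := by
  unfold cm; group

theorem cm_mul_right (x y y' : G) : cm x (y * y') = cm x y * (y * cm x y' * y⁻¹) := by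
  unfold cm; group

theorem co_d {μ : Fˣ} (hμ : σ μ = μ) {v : G} (hv : v ∈ f.V) :
    co f (f.d μ * v * (f.d μ)⁻¹) = (μ : F) ^ 2 * co f v := by
  rw [co_conj (d_N f μ) hv, d_wt hμ]

theorem conj_V {x v : G} (hx : x ∈ centralizer (f.Q : Set G)) (hv : v ∈ f.V) : x * v * x⁻¹ = v := by
  rw [← cQ_V hx hv, mul_inv_cancel_right]

open Classical in
/-- the action of `K` through the torus -/
noncomputable def ac (f : Fr σ G) (l : F) (x : G) : G :=
  if h : l = 0 then 1 else f.d (Units.mk0 l h) * x * (f.d (Units.mk0 l h))⁻¹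

theorem ac_zero (x : G) : ac f 0 x = 1 := dif_pos rfl

theorem ac_mul (l : F) (x y : G) : ac f l (x * y) = ac f l x * ac f l y := by
  unfold ac; split_ifs <;> group

theorem ac_ac (l l' : F) (x : G) : ac f l (ac f l' x) = ac f (l * l') x := by
  by_cases h : l = 0
  · rw [h, zero_mul, ac_zero, ac_zero]
  by_cases h' : l' = 0
  · rw [h', mul_zero, ac_zero, ac, dif_neg h]; group
  rw [ac, ac, ac, dif_neg h, dif_neg h', dif_neg (mul_ne_zero h h'), Units.mk0_mul, map_mul]; group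

theorem ac_mem {X : Subgroup G} (hX : f.D ≤ normalizer (X : Set G)) (l : F) {x : G} (hx : x ∈ X) :
    ac f l x ∈ X := by
  unfold ac; split_ifs
  · exact one_mem _
  · exact conj_in (hX (f.d_mem_D _)) hx

theorem ac_wt {φ : G → F} {x : G} {k : ℕ} (hk : k ≠ 0) (h1 : φ 1 = 0) {c : F}
    (h : ∀ μ : Fˣ, σ μ = μ → φ (f.d μ * x * (f.d μ)⁻¹) = (μ : F) ^ k * c) {l : F} (hl : σ l = l) :
    φ (ac f l x) = l ^ k * c := by
  unfold ac; split_ifs with l0
  · rw [h1, l0, zero_pow hk, zero_mul]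
  · exact h _ hl

namespace Up

variable (h : Up f t m B P)
include h

theorem cm_B {x b : G} (hx : x ∈ P) (hb : b ∈ B) : cm x b ∈ B :=
  mul_mem (conj_in (h.W0_N (h.W0 hx)) hb) (inv_mem hb)

theorem cm_mul {x b b' : G} (hx : x ∈ P) (hb : b ∈ B) (hb' : b' ∈ B) :
    cm x (b * b') = cm x b * cm x b' := by
  rw [cm_mul_right, h.comm b hb _ (h.cm_B hx hb'), mul_inv_cancel_right]

theorem a_mul {x y : G} (hx : x ∈ P) (hy : y ∈ P) :
    rt σ (ξ f t m (x * y)) = rt σ (ξ f t m x) + rt σ (ξ f t m y) := by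
  rw [h.ξ_mul (h.W0 hx) (h.W0 hy), rt_add (ξ_K _) (ξ_K _)]

theorem a_surj {u : F} (hu : σ u = u) : ∃ x ∈ P, rt σ (ξ f t m x) = u := by
  obtain ⟨x, hx, e⟩ := h.ξ_surj (y := u ^ 2) (by rw [map_pow, hu])
  exact ⟨x, hx, sq_inj σ (by rw [rt_sq (ξ_K _), e])⟩

theorem a_ker {x : G} (hx : x ∈ P) : rt σ (ξ f t m x) = 0 ↔ x ∈ B :=
  (rt_eq_zero (ξ_K _)).trans (h.ξ_ker hx)

theorem a_d {μ : Fˣ} (hμ : σ μ = μ) {x : G} (hx : x ∈ P) :
    rt σ (ξ f t m (f.d μ * x * (f.d μ)⁻¹)) = μ * rt σ (ξ f t m x) := by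
  rw [h.ξ_d hμ (h.W0 hx), rt_mul hμ (ξ_K _)]

theorem b_mul {x y : G} (hx : x ∈ B) (hy : y ∈ B) :
    rt σ (β f m (x * y)) = rt σ (β f m x) + rt σ (β f m y) := by
  rw [h.β_mul hx hy, rt_add (β_K _) (β_K _)]

theorem b_surj {u : F} (hu : σ u = u) : ∃ x ∈ B, rt σ (β f m x) = u := by
  obtain ⟨x, hx, e⟩ := h.β_surj (x := u ^ 2) (by rw [map_pow, hu])
  exact ⟨x, hx, sq_inj σ (by rw [rt_sq (β_K _), e])⟩

theorem b_d {μ : Fˣ} (hμ : σ μ = μ) {x : G} (hx : x ∈ B) :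
    rt σ (β f m (f.d μ * x * (f.d μ)⁻¹)) = μ * rt σ (β f m x) := by
  rw [h.β_d hμ hx, rt_mul hμ (β_K _)]

theorem co_cm (hV : ∀ x ∈ P, ∀ y ∈ P, cm x y ∈ f.V) {x y z : G} (hx : x ∈ P) (hy : y ∈ P)
    (hz : z ∈ P) : co f (cm (x * y) z) = co f (cm x z) + co f (cm y z) ∧
      co f (cm x (y * z)) = co f (cm x y) + co f (cm x z) := by
  rw [cm_mul_left, cm_mul_right, conj_V (h.PQ hx) (hV y hy z hz), conj_V (h.PQ hy) (hV x hx z hz),
    co_mul (hV y hy z hz) (hV x hx z hz), co_mul (hV x hx y hy) (hV x hx z hz), add_comm]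
  exact ⟨rfl, rfl⟩

theorem ab_of (hc : ∀ x ∈ P, ∀ b ∈ B, x * b = b * x) : ∀ x ∈ P, ∀ y ∈ P, x * y = y * x := by
  have hV : ∀ x ∈ P, ∀ y ∈ P, cm x y ∈ f.V := fun x hx y hy => by
    have hB : cm x y ∈ B := (h.a_ker (mul_mem (mul_mem (mul_mem hx hy) (inv_mem hx)) (inv_mem hy))).1 (by
      rw [rt_eq_zero (ξ_K _), h.ξ_mul (h.W0 (mul_mem (mul_mem hx hy) (inv_mem hx))) (h.W0 (inv_mem hy)),
        h.ξ_mul (h.W0 (mul_mem hx hy)) (h.W0 (inv_mem hx)), h.ξ_mul (h.W0 hx) (h.W0 hy),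
        h.ξ_inv (h.W0 hx), h.ξ_inv (h.W0 hy)]
      linear_combination (ξ f t m x + ξ f t m y) * two σ)
    have e := cm_mul_left x x y
    rw [cm_eq_one.2 (hc y hy _ (h.sq_B hx)).symm, hc x hx _ hB, mul_inv_cancel_right] at e
    exact h.om _ hB e.symm
  obtain ⟨c, e⟩ := form (X := P) (Y := P) (L := fun x y => co f (cm x y))
    (fun x hx y hy => h.a_mul hx hy) (fun x hx y hy => h.a_mul hx hy) (fun _ => rt_K _) (fun _ => rt_K _)
    (fun _ => h.a_surj) (fun _ => h.a_surj) (fun x hx y hy z hz => (h.co_cm hV hx hy hz).1)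
    (fun x hx y hy z hz => (h.co_cm hV hx hy hz).2)
    (fun x hx y hy e => by rw [cm_eq_one.2 (hc y hy x ((h.a_ker hx).1 e)).symm, co_one])
    (fun x hx y hy e => by rw [cm_eq_one.2 (hc x hx y ((h.a_ker hy).1 e)), co_one])
    fun μ hμ x hx y hy => ⟨_, h.d_P μ hx, _, h.d_P μ hy, h.a_d hμ hx, h.a_d hμ hy, by
      rw [cm_conj, co_d hμ (hV x hx y hy)]⟩
  obtain ⟨x₁, h1, e1⟩ := h.a_surj (map_one σ)
  have c0 := e x₁ h1 x₁ h1
  rw [cm_eq_one.2 rfl, co_one, e1, one_mul, one_mul] at c0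
  intro x hx y hy
  exact cm_eq_one.1 ((co_eq_zero (hV x hx y hy)).1 (by rw [e x hx y hy, ← c0, mul_zero]))

omit h in
theorem top (h : Up f t 1 B P) (hsq : ∀ x ∈ P, x * x ∈ f.V)
    (hN : ∀ x ∈ P, ∀ b ∈ B, co f (cm x b) = rt σ (ξ f t 1 x) * rt σ (β f 1 b)) :
    ∃ y ξ κ, f.Top t P y ξ κ := by
  have VP : f.V ≤ P := h.VB.trans h.BP
  obtain ⟨M, _, π, pm, p0, p2⟩ := exists_quot VP (fun x hx => f.NQ_le_NV (cQ_N (h.PQ hx))) hsq
  have pi : ∀ {a}, a ∈ P → π a⁻¹ = π a := fun {a} ha => by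
    have := pm _ (inv_mem ha) a ha
    rw [inv_mul_cancel, (p0 1 (one_mem _)).2 (one_mem _), ← p2 a ha] at this
    exact (add_right_cancel this).symm
  have pe : ∀ {a b}, a ∈ P → b ∈ P → π a = π b → ∃ v ∈ f.V, b = a * v := fun {a b} ha hb e =>
    ⟨a⁻¹ * b, (p0 _ (mul_mem (inv_mem ha) hb)).1 (by rw [pm _ (inv_mem ha) b hb, pi ha, ← e, p2 a ha]),
      (mul_inv_cancel_left _ _).symm⟩
  have hV : ∀ x ∈ P, ∀ y ∈ P, cm x y ∈ f.V := fun x hx y hy => by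
    have h1 := mul_mem hx hy
    have h2 := mul_mem h1 (inv_mem hx)
    refine (p0 _ (mul_mem h2 (inv_mem hy))).1 ?_
    rw [pm _ h2 _ (inv_mem hy), pm _ h1 _ (inv_mem hx), pm x hx y hy, pi hx, pi hy,
      add_right_comm (π x), p2 x hx, zero_add, p2 y hy]
  have bV : ∀ {b}, b ∈ B → (rt σ (β f 1 b) = 0 ↔ b ∈ f.V) := fun {b} hb => by
    rw [rt_eq_zero (β_K _), h.β_eq_zero hb, pow_one, pow_two]
    exact ⟨h.om b hb, f.V_sq⟩
  set a : G → F := fun x => rt σ (ξ f t 1 x) with ha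
  set b : G → F := fun x => rt σ (β f 1 x) with hb
  have am : ∀ {x y}, x ∈ P → y ∈ P → a (x * y) = a x + a y := h.a_mul
  have bm : ∀ {x y}, x ∈ B → y ∈ B → b (x * y) = b x + b y := h.b_mul
  have a0 : ∀ {x}, x ∈ P → (a x = 0 ↔ x ∈ B) := h.a_ker
  have aK : ∀ x, σ (a x) = a x := fun _ => rt_K _
  have bK : ∀ x, σ (b x) = b x := fun _ => rt_K _
  have cP : ∀ l {x}, x ∈ P → ac f l x ∈ P := fun l _ => ac_mem h.DN l
  have cB : ∀ l {x}, x ∈ B → ac f l x ∈ B := fun l _ => ac_mem (fun _ => h.D_N) l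
  have aa : ∀ {l x}, σ l = l → x ∈ P → a (ac f l x) = l * a x := fun {l x} hl hx => by
    rw [ac_wt (φ := a) one_ne_zero ((a0 (one_mem _)).2 (one_mem _))
      (fun μ hμ => by rw [pow_one]; exact h.a_d hμ hx) hl, pow_one]
  have ba : ∀ {l x}, σ l = l → x ∈ B → b (ac f l x) = l * b x := fun {l x} hl hx => by
    rw [ac_wt (φ := b) one_ne_zero ((bV (one_mem _)).2 (one_mem _))
      (fun μ hμ => by rw [pow_one]; exact h.b_d hμ hx) hl, pow_one]
  have va : ∀ {l x}, σ l = l → x ∈ f.V → co f (ac f l x) = l ^ 2 * co f x := fun {l x} hl hx =>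
    ac_wt two_ne_zero co_one (fun μ hμ => co_d hμ hx) hl
  have ad : ∀ {x y : F}, σ x = x → σ y = y → σ (x + y) = x + y := fun hx hy => by rw [map_add, hx, hy]
  have add : ∀ {l l' x}, σ l = l → σ l' = l' → x ∈ P →
      π (ac f (l + l') x) = π (ac f l x * ac f l' x) := fun {l l' x} hl hl' hx => by
    obtain ⟨u, hu, rfl⟩ := exists_sqrt hl
    obtain ⟨v, hv, rfl⟩ := exists_sqrt hl'
    have hz : ac f u x * ac f v x * ac f (u + v) x ∈ B :=
      (a0 (mul_mem (mul_mem (cP u hx) (cP v hx)) (cP _ hx))).1 (by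
        rw [am (mul_mem (cP u hx) (cP v hx)) (cP _ hx), am (cP u hx) (cP v hx), aa hu hx, aa hv hx,
          aa (ad hu hv) hx]
        linear_combination (u + v) * a x * two σ)
    have h1 := mul_mem (cB u hz) (cB v hz)
    have h2 := (p0 _ (h.BP (mul_mem h1 (cB (u + v) hz)))).2 ((bV (mul_mem h1 (cB _ hz))).1 (by
      change b _ = 0
      rw [bm h1 (cB _ hz), bm (cB u hz) (cB v hz), ba hu hz, ba hv hz, ba (ad hu hv) hz]
      linear_combination (u + v) * b _ * two σ))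
    have h3 : ∀ l, π (ac f l (ac f u x * ac f v x * ac f (u + v) x)) =
        π (ac f (l * u) x) + π (ac f (l * v) x) + π (ac f (l * (u + v)) x) := fun l => by
      rw [ac_mul, ac_mul, ac_ac, ac_ac, ac_ac, pm _ (mul_mem (cP _ hx) (cP _ hx)) _ (cP _ hx),
        pm _ (cP _ hx) _ (cP _ hx)]
    rw [pm _ (h.BP h1) _ (h.BP (cB _ hz)), pm _ (h.BP (cB _ hz)) _ (h.BP (cB _ hz)), h3, h3, h3,
      mul_comm v u, mul_comm (u + v) u, mul_comm (u + v) v,
      show (u + v) * (u + v) = u ^ 2 + v ^ 2 by linear_combination u * v * two σ, ← pow_two,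
      ← pow_two] at h2
    rw [pm _ (cP _ hx) _ (cP _ hx)]
    have q1 := p2 _ (cP (u * v) hx)
    have q2 := p2 _ (cP (u * (u + v)) hx)
    have q3 := p2 _ (cP (v * (u + v)) hx)
    have q4 := p2 _ (cP (u ^ 2) hx)
    have q5 := p2 _ (cP (v ^ 2) hx)
    linear_combination (norm := abel_nf) h2 - q1 - q2 - q3 - q4 - q5
  obtain ⟨x₁, h1, e1⟩ : ∃ x ∈ P, a x = 1 := h.a_surj (map_one σ)
  have sP : ∀ l, ac f l x₁ ∈ P := fun l => cP l h1
  have sa : ∀ {l}, σ l = l → a (ac f l x₁) = l := fun hl => by rw [aa hl h1, e1, mul_one]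
  have dB : ∀ {x}, x ∈ P → x * (ac f (a x) x₁)⁻¹ ∈ B := fun {x} hx =>
    (a0 (mul_mem hx (inv_mem (sP _)))).1 (by
      have := am (mul_mem hx (inv_mem (sP (a x)))) (sP (a x))
      rw [inv_mul_cancel_right, sa (aK x)] at this
      linear_combination -this)
  have cw : ∀ {x x' y}, x ∈ P → x' ∈ P → y ∈ P → π x = π x' →
      co f (cm x y) = co f (cm x' y) ∧ co f (cm y x) = co f (cm y x') := fun {x x' y} hx hx' hy e => by
    obtain ⟨v, hv, rfl⟩ := pe hx hx' e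
    rw [(h.co_cm hV hx (VP hv) hy).1, (h.co_cm hV hy hx (VP hv)).2,
      cm_eq_one.2 (cQ_V (h.PQ hy) hv), cm_eq_one.2 (cQ_V (h.PQ hy) hv).symm, co_one, add_zero, add_zero]
    exact ⟨rfl, rfl⟩
  have ss : ∀ {l l'}, σ l = l → σ l' = l' → co f (cm (ac f l x₁) (ac f l' x₁)) = 0 := fun hl hl' => by
    rw [wt (σ := σ) (g := fun u v => co f (cm (ac f u x₁) (ac f v x₁))) (fun u u' v hu hu' hv => ?_)
      (fun u v v' hu hv hv' => ?_) (fun l u v hl hu hv => ?_) hl hl']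
    · simp only [cm_eq_one.2 rfl, co_one, mul_zero]
    · rw [(cw (sP _) (mul_mem (sP u) (sP u')) (sP v) (add hu hu' h1)).1,
        (h.co_cm hV (sP u) (sP u') (sP v)).1]
    · rw [(cw (sP _) (mul_mem (sP v) (sP v')) (sP u) (add hv hv' h1)).2,
        (h.co_cm hV (sP u) (sP v) (sP v')).2]
    · rw [← va hl (hV _ (sP u) _ (sP v)), ← ac_ac, ← ac_ac]
      generalize ac f u x₁ = p
      generalize ac f v x₁ = q
      unfold ac
      split_ifs
      all_goals simp only [cm_conj, cm_eq_one.2 rfl]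
  let y : G → F := fun x => b (x * (ac f (a x) x₁)⁻¹)
  have ym : ∀ {x z}, x ∈ P → z ∈ P → y (x * z) = y x + y z := fun {x z} hx hz => by
    obtain ⟨v, hv, e⟩ := pe (h.BP (mul_mem (dB hx) (dB hz))) (h.BP (dB (mul_mem hx hz))) (by
      rw [pm _ (h.BP (dB hx)) _ (h.BP (dB hz)), pm _ hx _ (inv_mem (sP _)), pm _ hz _ (inv_mem (sP _)),
        pm _ (mul_mem hx hz) _ (inv_mem (sP _)), pi (sP _), pi (sP _), pi (sP _), am hx hz,
        add (aK x) (aK z) h1, pm _ (sP _) _ (sP _), pm x hx z hz, add_add_add_comm])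
    change b _ = _
    rw [e, bm (mul_mem (dB hx) (dB hz)) (h.VB hv), bm (dB hx) (dB hz), show b v = 0 from (bV (h.VB hv)).2 hv,
      add_zero]
  have yB : ∀ {x}, x ∈ B → y x = b x := fun {x} hx => by
    change b _ = _
    rw [(a0 (h.BP hx)).2 hx, ac_zero, inv_one, mul_one]
  have dec : ∀ {x}, x ∈ P → ∃ c ∈ B, x = c * ac f (a x) x₁ ∧ b c = y x := fun {x} hx =>
    ⟨_, dB hx, (inv_mul_cancel_right _ _).symm, rfl⟩
  refine ⟨y, a, co f (x₁ * x₁), h.toInv, h.pg, VP, h.PQ, h.DN, h.ZP, co_K _, fun _ _ => bK _,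
    fun _ _ => aK _, fun _ hx _ hz => ym hx hz, fun _ hx _ hz => am hx hz, fun x hx => ?_,
    fun u v hu hv => ?_, fun x hx => ?_, fun x hx z hz => ?_, fun x hx => ?_, fun x hx => ?_,
    fun x hx e => h.inv x ((a0 hx).1 e)⟩
  · exact ⟨fun hv => ⟨(yB (h.VB hv)).trans ((bV (h.VB hv)).2 hv), (a0 hx).2 (h.VB hv)⟩,
      fun e => (bV ((a0 hx).1 e.2)).1 ((yB ((a0 hx).1 e.2)).symm.trans e.1)⟩
  · obtain ⟨c, hc, e⟩ : ∃ c ∈ B, b c = u := h.b_surj hu
    have e2 : a (c * ac f v x₁) = v := by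
      rw [am (h.BP hc) (sP v), sa hv, (a0 (h.BP hc)).2 hc, zero_add]
    refine ⟨_, mul_mem (h.BP hc) (sP v), ?_, e2⟩
    change b _ = _
    rw [e2, mul_inv_cancel_right, e]
  · obtain ⟨c, hc, e, e2⟩ := dec hx
    have e3 : x * x = c * c * cm (ac f (a x) x₁) c * ac f (a x) (x₁ * x₁) := by
      rw [ac_mul, mul_assoc c, h.comm c hc _ (h.cm_B (sP _) hc)]
      conv_lhs => rw [e]
      unfold cm; group
    have v1 := hsq c (h.BP hc)
    have v2 := hV _ (sP (a x)) c (h.BP hc)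
    rw [← vv_co (hsq x hx), e3, co_mul (mul_mem v1 v2) (by rw [ac_mul]; exact hsq _ (sP _)),
      co_mul v1 v2, va (aK x) (hsq _ h1), hN _ (sP _) c hc, ← e2, rt_sq (β_K _)]
    change f.vv (_ + a _ * b c + _) = _
    rw [sa (aK x), β, pow_one, pow_two c, mul_comm (a x), mul_comm (a x ^ 2)]
  · obtain ⟨c, hc, e, e2⟩ := dec hx
    obtain ⟨c', hc', e', e2'⟩ := dec hz
    have sy : ∀ {p q}, p ∈ P → q ∈ P → cm p q = cm q p := fun {p q} hp hq => by
      rw [← inv_eq_of_mul_eq_one_right (f.V_sq (hV p hp q hq))]; unfold cm; group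
    change cm x z = _
    rw [← vv_co (hV x hx z hz), ← e2, ← e2']
    conv_lhs => rw [e, e']
    rw [(h.co_cm hV (h.BP hc) (sP _) (mul_mem (h.BP hc') (sP _))).1,
      (h.co_cm hV (h.BP hc) (h.BP hc') (sP _)).2, (h.co_cm hV (sP _) (h.BP hc') (sP _)).2,
      ss (aK x) (aK z), cm_eq_one.2 (h.comm c hc c' hc'), co_one, sy (h.BP hc) (sP _),
      hN _ (sP _) c hc, hN _ (sP _) c' hc']
    change f.vv (0 + a _ * b c + (a _ * b c' + 0)) = _
    rw [sa (aK x), sa (aK z), zero_add, add_zero, mul_comm (a x), mul_comm (a z)]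
  · rw [h.txt, ym (h.BP (h.W0 hx).2) hx, yB (h.W0 hx).2, add_comm]; rfl
  · rw [h.txt, am (h.BP (h.W0 hx).2) hx, (a0 (h.BP (h.W0 hx).2)).2 (h.W0 hx).2, zero_add]

theorem down {i : ℕ} (hi : i + 1 ≤ m) (hA : ∀ x ∈ P, ∀ b ∈ B, cm x b ^ 2 ^ (i + 1) = 1) :
    (∀ x ∈ P, ∀ b ∈ B, cm x b ^ 2 ^ i = 1) ∨ ∃ y ξ κ, f.Top t P y ξ κ := by
  have hV : ∀ {x b}, x ∈ P → b ∈ B → cm x b ^ 2 ^ i ∈ f.V := fun hx hb =>
    h.om _ (pow_mem (h.cm_B hx hb) _) (by rw [← pow_two, ← pow_mul, ← pow_succ, hA _ hx _ hb])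
  have mp : ∀ {a b} (k : ℕ), a ∈ B → b ∈ B → (a * b) ^ k = a ^ k * b ^ k := fun k ha hb =>
    (show Commute _ _ from h.comm _ ha _ hb).mul_pow k
  have L2 : ∀ x ∈ P, ∀ y ∈ B, ∀ z ∈ B,
      co f (cm x (y * z) ^ 2 ^ i) = co f (cm x y ^ 2 ^ i) + co f (cm x z ^ 2 ^ i) :=
    fun x hx y hy z hz => by
      rw [h.cm_mul hx hy hz, mp _ (h.cm_B hx hy) (h.cm_B hx hz), co_mul (hV hx hy) (hV hx hz)]
  obtain ⟨c, e⟩ := form (X := P) (Y := B) (L := fun x y => co f (cm x y ^ 2 ^ i))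
    (fun x hx y hy => h.a_mul hx hy) (fun x hx y hy => h.b_mul hx hy) (fun _ => rt_K _) (fun _ => rt_K _)
    (fun _ => h.a_surj) (fun _ => h.b_surj)
    (fun x hx y hy z hz => by
      rw [cm_mul_left, mp _ (conj_in (h.W0_N (h.W0 hx)) (h.cm_B hy hz)) (h.cm_B hx hz), conj_pow,
        conj_V (h.PQ hx) (hV hy hz), co_mul (hV hy hz) (hV hx hz), add_comm])
    L2 (fun x hx y hy e => by rw [cm_eq_one.2 (h.comm x ((h.a_ker hx).1 e) y hy), one_pow, co_one])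
    (fun x hx y hy e => by
      obtain ⟨c, hc, rfl⟩ := h.β_root hy ((rt_eq_zero (β_K _)).1 e)
      rw [L2 x hx c hc c hc]; exact (X1.add0 σ).2 rfl)
    fun μ hμ x hx y hy => ⟨_, h.d_P μ hx, _, conj_in (h.D_N (f.d_mem_D μ)) hy, h.a_d hμ hx, h.b_d hμ hy,
      by rw [cm_conj, conj_pow, co_d hμ (hV hx hy)]⟩
  by_cases c0 : c = 0
  · exact Or.inl fun x hx b hb => (co_eq_zero (hV hx hb)).1 (by rw [e x hx b hb, c0, mul_zero])
  right
  have sq : ∀ x ∈ P, x ∉ B → β f m (x * x) = 0 := fun x hx hB => by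
    have := e x hx _ (h.sq_B hx)
    rw [cm_eq_one.2 (mul_assoc x x x).symm, one_pow, co_one] at this
    exact (rt_eq_zero (β_K _)).1 ((mul_eq_zero.1 ((mul_eq_zero.1 this.symm).resolve_right c0)).resolve_left
      (mt (h.a_ker hx).1 hB))
  obtain ⟨x, hx, e1⟩ := h.a_surj (map_one σ)
  have xB : x ∉ B := fun hb => one_ne_zero (e1.symm.trans ((h.a_ker hx).2 hb))
  have e1' : β f m (γ t x) = 1 := by rw [← one_pow 2, ← e1, rt_sq (ξ_K _)]; rfl
  have hy := h.gam x hx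
  change γ t x ∈ B at hy
  obtain ⟨r, rfl⟩ := Nat.exists_eq_add_of_le' hi
  have k1 : cm x (γ t x) ^ 2 ^ (r + i) * γ t x ^ 2 ^ (r + i + 1) = 1 := by
    have e2 : cm x (γ t x) * (γ t x * γ t x) * (x * x * (x * x)) = 1 := by
      have := h.inv _ (h.sq_B hx)
      rw [show t * (x * x) * t = t * x * (t * t) * x * t by rw [t_sq h.toInv]; group,
        show t * x * (t * t) * x * t = t * x * t * (t * x * t) by group, h.txt] at this
      rw [← mul_assoc (cm x _), mul_assoc _ (γ t x) (γ t x), ← h.comm _ hy _ hy, ← mul_assoc (cm x _),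
        ← h.comm _ hy _ (mul_mem (h.cm_B hx hy) hy), ← inv_mul_cancel (x * x), ← this]
      unfold cm; group
    have e3 := congrArg (· ^ 2 ^ (r + i)) e2
    have e4 := (h.β_eq_zero (h.sq_B hx)).1 (sq x hx xB)
    simp only [one_pow] at e3
    rwa [mp _ (mul_mem (h.cm_B hx hy) (mul_mem hy hy)) (mul_mem (h.sq_B hx) (h.sq_B hx)),
      mp _ (h.cm_B hx hy) (mul_mem hy hy), ← pow_two (γ t x), ← pow_two (x * x), ← pow_mul, ← pow_mul,
      ← pow_succ', show (x * x) ^ 2 ^ (r + i + 1) = 1 from e4, mul_one] at e3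
  obtain rfl : r = 0 := by
    by_contra r0
    obtain ⟨r, rfl⟩ := Nat.exists_eq_succ_of_ne_zero r0
    rw [show r.succ + i = i + 1 + r by omega, pow_add, pow_mul, hA x hx _ hy, one_pow, one_mul] at k1
    rw [(h.β_eq_zero hy).2 (by rw [← k1]; congr 2; omega)] at e1'
    exact zero_ne_one e1'
  simp only [zero_add] at *
  obtain rfl : c = 1 := by
    have := congrArg (co f) k1
    rw [co_mul (hV hx hy) (h.exp _ hy), co_one, e x hx _ hy, e1] at this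
    change 1 * rt σ (ξ f t _ x) * c + β f _ (γ t x) = 0 at this
    rw [e1, e1', one_mul, one_mul] at this
    exact (X1.add0 σ).1 this
  cases i with
  | zero =>
    refine top h (fun z hz => ?_) fun z hz b hb => by simpa using e z hz b hb
    by_cases hb : z ∈ B
    · simpa [pow_two] using h.exp z hb
    · exact h.om _ (h.sq_B hz) (by simpa [pow_two] using (h.β_eq_zero (h.sq_B hz)).1 (sq z hz hb))
  | succ i =>
    exfalso
    obtain ⟨l, hl, l0, l1, -⟩ := f.exists_K 1 1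
    obtain ⟨b, hb, e2⟩ := h.b_surj hl
    have hn := h.cm_B hx hb
    obtain ⟨c, hc, e3⟩ := h.root _ hn (hA x hx b hb)
    have e4 : cm x c * cm x c * (c * c * (c * c)) = 1 := by
      have := cm_mul_left x x b
      rw [cm_eq_one.2 (h.comm _ (h.sq_B hx) b hb)] at this
      rw [← h.cm_mul hx hc hc, e3, this]
      generalize cm x b = n
      unfold cm; group
    have e5 : cm x c ^ 2 ^ (i + 1) * c ^ 2 ^ (i + 1 + 1) = 1 := by
      have := congrArg (· ^ 2 ^ i) e4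
      simp only [one_pow] at this
      rwa [mp _ (mul_mem (h.cm_B hx hc) (h.cm_B hx hc)) (mul_mem (mul_mem hc hc) (mul_mem hc hc)),
        ← pow_two, ← pow_two (c * c), ← pow_two c, ← pow_mul, ← pow_mul, ← pow_mul, ← pow_succ',
        ← pow_succ'] at this
    have e6 := congrArg (co f) e5
    rw [co_mul (hV hx hc) (h.exp _ hc), co_one, e x hx _ hc, e1, one_mul, mul_one] at e6
    have e7 : β f (i + 1 + 1) c = l := by
      rw [β, pow_succ' 2 (i + 1), pow_mul, pow_two, e3, e x hx b hb, e1, e2, one_mul, mul_one]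
    change _ + β f _ c = 0 at e6
    have e8 := rt_sq (β_K (f := f) (m := i + 1 + 1) c)
    rw [(X1.add0 σ).1 e6, e7] at e8
    exact l1 (mul_left_cancel₀ l0 (by rw [← pow_two, e8, mul_one]))

theorem cases : (∀ x ∈ P, ∀ y ∈ P, x * y = y * x) ∨ ∃ y ξ κ, f.Top t P y ξ κ := by
  have key : ∀ i, i ≤ m → (∀ x ∈ P, ∀ b ∈ B, cm x b ^ 2 ^ i = 1) →
      (∀ x ∈ P, ∀ y ∈ P, x * y = y * x) ∨ ∃ y ξ κ, f.Top t P y ξ κ := fun i => by
    induction i with
    | zero => exact fun _ hA => Or.inl (h.ab_of fun x hx b hb => cm_eq_one.1 (by simpa using hA x hx b hb))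
    | succ i ih => exact fun hi hA => (h.down hi hA).elim (ih (by omega)) Or.inr
  refine key m le_rfl fun x hx b hb => (h.β_eq_zero (h.cm_B hx hb)).1 ?_
  rw [cm, h.β_mul (conj_in (h.W0_N (h.W0 hx)) hb) (inv_mem hb), h.β_conj1 (h.PQ hx) hb, h.β_inv hb]
  exact (X1.add0 σ).2 rfl

end Up

end Cfsg.Agent.WA.Lk.X2a
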