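import Cfsg.Agent.WA.Lk2a1

/-! The tower over `E = {1, t}`: an abelian storey (module Lk2a, see PLAN_LK.md). -/

set_option autoImplicit false
set_option linter.unusedSectionVars false

namespace Cfsg.Agent.WA.Lk.X2a

open Subgroup Cfsg.Agent.H1.U3 Cfsg.Agent.H8

variable {F : Type*} [Field F] [Finite F] {σ : F →+* F} [Ctx σ] {G : Type*} [Group G] [Finite G]
variable {f : Fr σ G} {t : G} {m : ℕ} {B P : Subgroup G}

theorem j_comm {u r : US σ} : f.j u * f.j r = f.j r * f.j u ↔ bl σ u.a r.a = 0 := by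
  rw [← mul_inv_eq_one, mul_inv_rev, ← mul_assoc, mul_assoc (f.j u * f.j r), ← mul_inv_rev,
    mul_inv_rev, ← mul_assoc, f.j_cm, ← f.vv_zero]
  exact ⟨f.vv_inj (bl_fixed _ _) (map_zero σ), fun e => by rw [e]⟩

theorem q_pos (f : Fr σ G) : 0 < f.q := lt_of_lt_of_le (by norm_num) f.four_le

theorem card_CQ (r : US σ) : f.q ^ 2 ≤ Nat.card ↥(f.Q ⊓ centralizer {f.j r}) := by
  have ta : ∀ u, f.ta (f.j u) = u.a := fun u => by simpa using f.ta_eq (one_mem _) u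
  have := X1.card_le' (X := f.Q) (N := f.Q ⊓ centralizer {f.j r}) (K := KK σ)
    (ψ := fun x => bl σ (f.ta x) r.a)
    (by rintro _ ⟨u, rfl⟩ _ ⟨w, rfl⟩; rw [← map_mul, ta, ta, ta, mul_a, X1.bl_add])
    (fun _ _ => bl_fixed _ _)
    (by
      rintro _ ⟨u, rfl⟩ e
      rw [ta] at e
      exact ⟨⟨u, rfl⟩, mem_centralizer_singleton_iff.2 (j_comm.2 e)⟩)
  rw [f.card_Q, f.card_K, pow_succ] at this
  exact Nat.le_of_mul_le_mul_right this (q_pos f)

namespace Up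

variable (h : Up f t m B P)
include h

theorem P_NQ : P ≤ normalizer (f.Q : Set G) := fun _ hx => cQ_N (h.PQ hx)

theorem Q_NP : f.Q ≤ normalizer (P : Set G) := fun _ hx => h.DN ⟨f.Q_le_C hx, le_normalizer hx⟩

theorem inf_C {X : Subgroup G} (h1 : f.V ≤ X) (h2 : X ≤ f.C) : P ⊓ X = f.V :=
  le_antisymm (fun x hx => h.cen x hx.1 ((mem_C' h.toInv).1 (h2 hx.2)))
    (le_inf (h.VB.trans h.BP) h1)

theorem card_P : f.q ^ 2 ≤ Nat.card P := by
  have := X1.card_ge' (X := P) (N := f.V) (K := KK σ) (ψ := ξ f t m)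
    (fun a ha b hb => h.ξ_mul (h.W0 ha) (h.W0 hb)) (fun k hk => h.ξ_surj hk)
    fun a ha => ⟨h.BP (h.VB ha), h.ξ_B (h.VB ha)⟩
  rwa [f.card_V, f.card_K, ← pow_two] at this

theorem mem_PQ {y : G} : y ∈ P ⊔ f.Q ↔ ∃ x ∈ P, ∃ u, x * f.j u = y := by
  rw [H5.mem_sup_of_le_normalizer_left h.Q_NP]
  exact ⟨fun ⟨x, hx, _, ⟨u, rfl⟩, e⟩ => ⟨x, hx, u, e⟩, fun ⟨x, hx, u, e⟩ => ⟨x, hx, _, ⟨u, rfl⟩, e⟩⟩

theorem pgPQ : IsPGroup 2 ↥(P ⊔ f.Q) := IsPGroup.to_sup_of_normal_left' h.pg (pgQ f) h.Q_NP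

variable (hab : ∀ a ∈ P, ∀ b ∈ P, a * b = b * a)
include hab

theorem comm_PQ {x y : G} (hx : x ∈ P) (hy : y ∈ P) {u r : US σ} (e : bl σ u.a r.a = 0) :
    x * f.j u * (y * f.j r) = y * f.j r * (x * f.j u) :=
  Commute.mul_left (Commute.mul_right (hab x hx y hy) (cQ_iff.1 (h.PQ hx) r).symm)
    (Commute.mul_right (cQ_iff.1 (h.PQ hy) u) (j_comm.2 e))

theorem not_TC {x : G} (hx : x ∈ P) (u : US σ) : ¬ f.TC (x * f.j u) := fun hs => by
  obtain ⟨r, r0, hr⟩ : ∃ r : US σ, r.a ≠ 0 ∧ bl σ u.a r.a = 0 := by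
    by_cases u0 : u.a = 0
    · exact ⟨lift σ 1, by simp, by rw [u0, X1.zero_bl]⟩
    · exact ⟨u, u0, (j_comm (f := f)).1 rfl⟩
  have hn : f.Q ⊓ centralizer {f.j r} ≤ normalizer (P : Set G) := inf_le_left.trans h.Q_NP
  have ab : ∀ a ∈ P ⊔ f.Q ⊓ centralizer {f.j r}, ∀ b ∈ P ⊔ f.Q ⊓ centralizer {f.j r},
      a * b = b * a := fun a ha b hb => by
    obtain ⟨a', ha', _, ⟨⟨v, rfl⟩, hv⟩, rfl⟩ := (H5.mem_sup_of_le_normalizer_left hn).1 ha
    obtain ⟨b', hb', _, ⟨⟨w, rfl⟩, hw⟩, rfl⟩ := (H5.mem_sup_of_le_normalizer_left hn).1 hb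
    have e1 := j_comm.1 (mem_centralizer_singleton_iff.1 hv)
    have e2 := j_comm.1 (mem_centralizer_singleton_iff.1 hw)
    refine h.comm_PQ hab ha' hb' (mul_left_cancel₀ r0 ?_)
    unfold bl at *
    linear_combination w.a * e1 + v.a * e2 +
      (r.a * σ v.a * w.a - r.a * σ v.a * w.a - σ r.a * v.a * w.a) * two σ
  have h1 := f.ab_lt (card_E h.toInv) hs (h.pgPQ.to_le (sup_le_sup_left inf_le_left _)) ab
    fun y hy => mem_centralizer_singleton_iff.2 (ab y hy _ (mul_mem (mem_sup_left hx)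
      (mem_sup_right ⟨⟨u, rfl⟩, mem_centralizer_singleton_iff.2 (j_comm.2 hr)⟩)))
  have h2 := H5.card_sup_mul_card_inf hn
  rw [h.inf_C (le_inf f.V_le_Q fun v hv => mem_centralizer_singleton_iff.2 (f.V_comm hv r))
    (inf_le_left.trans f.Q_le_C), f.card_V] at h2
  have h3 := Nat.mul_le_mul h.card_P (card_CQ (f := f) r)
  have h4 := Nat.mul_lt_mul_of_pos_right h1 (q_pos f)
  rw [h2, ← pow_succ] at h4
  rw [← pow_add] at h3
  exact absurd h3 (not_le.2 h4)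

theorem not_TC' (hm : m ≠ 0) {x : G} (hx : x ∈ P) {u : US σ} (hu : u.a ≠ 0) :
    ¬ f.TC (t * (x * f.j u)) := fun hs => by
  obtain ⟨m, rfl⟩ := Nat.exists_eq_succ_of_ne_zero hm
  have tQ := cQ_iff.1 (t_cQ h.toInv)
  have : ∀ a, ∃ y ∈ B, y * y = f.vv (bl σ u.a a) := fun a => by
    obtain ⟨b, hb, e⟩ := h.sur _ (f.vv_mem (bl σ u.a a))
    exact ⟨b ^ 2 ^ m, pow_mem hb _, by rw [← e, pow_succ, pow_mul, pow_two]⟩
  choose y hy e using this
  have BN : B ≤ normalizer (f.Q : Set G) := h.BP.trans h.P_NQ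
  have mem : ∀ r : US σ, y r.a * f.j r ∈ (B ⊔ f.Q) ⊓ centralizer {t * (x * f.j u)} := fun r => by
    refine ⟨mul_mem (mem_sup_left (hy _)) (mem_sup_right ⟨r, rfl⟩), mem_centralizer_singleton_iff.2 ?_⟩
    have e1 : t * y r.a = (y r.a)⁻¹ * t := by
      rw [← h.inv _ (hy _), mul_assoc, t_sq h.toInv, mul_one]
    have e2 : f.j u * f.j r = y r.a * y r.a * (f.j r * f.j u) := by rw [e, ← f.j_cm]; group
    have c1 : Commute (y r.a) x := hab _ (h.BP (hy _)) x hx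
    symm
    calc t * (x * f.j u) * (y r.a * f.j r) = t * x * (f.j u * y r.a) * f.j r := by group
      _ = t * (x * y r.a) * (f.j u * f.j r) := by rw [cQ_iff.1 (h.cQ (hy _)) u]; group
      _ = t * (x * (y r.a * y r.a * y r.a)) * (f.j r * f.j u) := by rw [e2]; group
      _ = t * (y r.a * y r.a * y r.a) * (x * f.j r) * f.j u := by
        rw [← ((c1.mul_left c1).mul_left c1).eq]; group
      _ = t * (y r.a * y r.a * y r.a) * t * (t * f.j r) * x * f.j u := by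
        rw [← cQ_iff.1 (h.PQ hx) r, mul_assoc _ t (t * _), ← mul_assoc t t, t_sq h.toInv]; group
      _ = (y r.a * y r.a * (y r.a * y r.a))⁻¹ * (y r.a * f.j r * (t * (x * f.j u))) := by
        rw [h.inv _ (mul_mem (mul_mem (hy _) (hy _)) (hy _)), ← tQ r]; group
      _ = _ := by rw [e, f.V_sq (f.vv_mem _), inv_one, one_mul]
  have dec : ∀ z ∈ (B ⊔ f.Q) ⊓ centralizer {t * (x * f.j u)}, ∃ b ∈ B, ∃ r, b * f.j r = z :=
    fun z hz => by
      obtain ⟨b, hb, _, ⟨r, rfl⟩, e⟩ := (H5.mem_sup_of_le_normalizer_right BN).1 hz.1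
      exact ⟨b, hb, r, e⟩
  have QV : ∀ r, f.j r ∈ centralizer (f.V : Set G) := fun r v hv => f.V_comm hv r
  have PV : P ≤ centralizer (f.V : Set G) := fun z hz v hv => cQ_V (h.PQ hz) hv
  obtain ⟨g, e1, e2, e3⟩ := lemL' h.toInv hs (X := (B ⊔ f.Q) ⊓ centralizer {t * (x * f.j u)})
    (h.pgPQ.to_le (inf_le_left.trans (sup_le_sup_right h.BP _)))
    (fun z hz => (mem_centralizer_singleton_iff.1 hz.2).symm)
    (fun z hz => by
      obtain ⟨b, hb, r, rfl⟩ := dec z hz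
      exact mul_mem (PV (h.BP hb)) (QV r))
    (mul_mem (fun v hv => cQ_V (t_cQ h.toInv) hv) (mul_mem (PV hx) (QV u)))
    (fun hz => by
      obtain ⟨b, hb, r, e⟩ := dec _ hz
      exact h.not_TC hab (h.BP hb) r (e ▸ hs))
    (by
      rw [← f.card_Q, ← Nat.card_congr (MonoidHom.ofInjective f.j_inj).toEquiv]
      refine Nat.card_le_card_of_injective (fun r => ⟨_, mem r⟩) fun r r' e => ?_
      have e1 : y r.a * f.j r = y r'.a * f.j r' := congrArg Subtype.val e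
      have e2 : (r * r'⁻¹).a = 0 := j_cQ (f := f) (by
        rw [map_mul, map_inv, show f.j r * (f.j r')⁻¹ = (y r.a)⁻¹ * y r'.a by
          rw [eq_inv_mul_iff_mul_eq, ← mul_assoc, e1, mul_inv_cancel_right]]
        exact h.cQ (mul_mem (inv_mem (hy _)) (hy _)))
      rw [mul_a, inv_a, ← sub_eq_add_neg, sub_eq_zero] at e2
      rw [e2] at e1
      exact f.j_inj (mul_left_cancel e1))
    fun z hz z' hz' => by
      obtain ⟨b, hb, r, rfl⟩ := dec z hz
      obtain ⟨b', hb', r', rfl⟩ := dec z' hz'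
      rw [cm_cen (cQ_iff.1 (h.cQ hb) r).symm (cQ_iff.1 (h.cQ hb) r').symm (h.comm b hb b' hb')
        (cQ_iff.1 (h.cQ hb') r).symm (cQ_iff.1 (h.cQ hb') r').symm, f.j_cm]
      exact f.vv_mem _
  obtain ⟨μ, -, c1, -, c2⟩ := f.exists_h0
  generalize f.cc (f.d μ) = c at c1 c2
  obtain ⟨r, hr⟩ := exists_a (σ := σ) ((1 + c) * u.a)
  have r2 : y r.a * f.j r * (y r.a * f.j r) = 1 := by
    calc _ = y r.a * (f.j r * y r.a) * f.j r := by group
      _ = y r.a * y r.a * (f.j r * f.j r) := by rw [cQ_iff.1 (h.cQ (hy _)) r]; group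
      _ = 1 := by
        rw [e, f.j_sq, show bl σ u.a r.a = nm σ r.a by
          simp only [hr, bl, nm, map_mul, map_add, map_one] at c2 ⊢
          linear_combination -(σ u.a * u.a) * c2, f.V_sq (f.vv_mem _)]
  have h1 := f.mem_A_of_sq (mem_cj.1 (e2 ▸ mem_sup_left (mem r))) (by
    calc _ = g⁻¹ * (y r.a * f.j r * (y r.a * f.j r)) * g := by group
      _ = 1 := by rw [r2]; group)
  rcases (mem_A' h.toInv).1 h1 with h2 | h2
  · have h3 := h.VB (e3 ▸ mem_cj.2 h2 : _ ∈ f.V)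
    have h4 := j_cQ (h.cQ ((mul_mem_cancel_left (hy _)).1 h3))
    rw [hr] at h4
    exact mul_ne_zero (fun e => c1 ((X1.add0 σ).1 e).symm) hu h4
  · have h3 : t * (x * f.j u) * (y r.a * f.j r) ∈ f.V := e3 ▸ mem_cj.2 (by
      rw [← e1]; convert h2 using 1; group)
    refine h.not_TC hab (mul_mem (h.BP (h.VB h3)) (h.BP (hy r.a))) r ?_
    rwa [mul_assoc, mul_assoc, r2, mul_one]

theorem next {x₀ : G} (hx₀ : x₀ ∈ P) (hB : x₀ ∉ B) (hs : f.TC (t * x₀)) : Lv f t (m + 1) P := by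
  have t2 := t_sq h.toInv
  have key : ∀ x ∈ P, f.TC (t * x) := fun x hx => by
    by_cases hb : x ∈ B
    · exact h.TC_B hb
    obtain ⟨μ, hμ, e⟩ := exists_wt (ξ_K _) (ξ_K _) (mt (h.ξ_ker hx₀).1 hB) (mt (h.ξ_ker hx).1 hb)
    have hd := h.d_P μ hx₀
    obtain ⟨p, hp, e1⟩ := h.onto _ ((h.ξ_ker (mul_mem hx (inv_mem hd))).1 (by
      rw [h.ξ_mul (h.W0 hx) (h.W0 (inv_mem hd)), h.ξ_inv (h.W0 hd), h.ξ_d hμ (h.W0 hx₀), e]
      exact (X1.add0 σ).2 rfl))
    have h1 := TC_conj h.toInv (TC_conj h.toInv hs (f.d μ)) p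
    convert h1 using 1
    calc t * x = t * (t * (p * t * p⁻¹)) * (f.d μ * x₀ * (f.d μ)⁻¹) := by rw [e1]; group
      _ = p * t * ((f.d μ * x₀ * (f.d μ)⁻¹) * p⁻¹) := by
        rw [← mul_assoc t t, t2, hab _ hd _ (inv_mem hp)]; group
      _ = p * (t * f.d μ) * x₀ * (f.d μ)⁻¹ * p⁻¹ := by group
      _ = _ := by rw [← (mem_C' h.toInv).1 (d_C f μ)]; group
  have inv : ∀ x ∈ P, t * x * t = x⁻¹ := fun x hx => by
    rw [eq_inv_iff_mul_eq_one, ← TC_sq h.toInv (key x hx)]; group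
  have ga : ∀ {x}, t * x * t = x⁻¹ → γ t x = x⁻¹ * x⁻¹ := fun e => by
    rw [γ, ← mul_assoc, ← mul_assoc, e]
  have sq : ∀ b ∈ B, ∃ p ∈ P, p * p = b := fun b hb => by
    obtain ⟨p, hp, e⟩ := h.onto b hb
    exact ⟨p⁻¹, inv_mem hp, (ga (inv p hp)).symm.trans e⟩
  have om : ∀ b ∈ P, b * b = 1 → b ∈ f.V := fun b hb e => h.cen b hb (by
    have := inv b hb
    rw [inv_eq_of_mul_eq_one_right e] at this
    calc b * t = t * b * t * t := by rw [this]
      _ = t * b := by rw [mul_assoc, t2, mul_one])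
  refine ⟨h.toInv, hab, h.PQ, h.VB.trans h.BP, inv, fun b hb => ?_, om, fun x hx e e1 => ?_,
    fun b hb => (TC_iff h.toInv).1 (key b hb), h.dP, h.ZP, fun v hv => ?_, fun b hb e => ?_⟩
  · rw [pow_succ', pow_mul, pow_two]; exact h.exp _ (h.sq_B hb)
  · rcases h.can (x * x) (mul_mem hx hx) (by
      calc _ = t * x * (t * t) * x * t := by rw [t2]; group
        _ = t * x * t * (t * x * t) := by group
        _ = _ := by rw [e, mul_inv_rev]) (by rw [← pow_two, ← pow_mul, ← pow_succ', e1]) with h1 | h1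
    · obtain ⟨p, hp, e2⟩ := sq _ h1
      obtain ⟨a, ha, z, hz, e3⟩ := f.cen_Q (h.γ_eq (x := x) (y := p) (by
        rw [ga e, ga (inv p hp), ← mul_inv_rev, ← mul_inv_rev, e2])) (mul_mem (inv_mem (h.PQ hp)) hx)
      have tN : t ∈ normalizer (P : Set G) := h.DN h.t_D
      have h2 : p * a ∈ P ⊔ zpowers t :=
        mul_mem (mem_sup_left hp) (sup_le_sup_right h.BP _ (h.A_adj ha))
      have e4 : x = p * a * z := by rw [mul_assoc, ← e3, mul_inv_cancel_left]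
      have h3 := two_mem h2 (Commute.mul_left (h.ZP z hz p hp).symm (f.Z_comm (f.A_le_T1 ha) hz))
        (f.Zo z hz) ⟨_, e4 ▸ e1⟩
      rw [← e4, mem_adj tN t2] at h3
      refine h3.imp_right fun h4 => om _ h4 ?_
      rw [← mul_assoc, e, inv_mul_cancel]
    · exact (f.nonsq (h.TC_B (h.VB h1)) x (by rw [← mul_assoc, t2, one_mul])).elim
  · obtain ⟨b, hb, e⟩ := h.sur v hv
    obtain ⟨p, hp, rfl⟩ := sq b hb
    exact ⟨p, hp, by rw [pow_succ', pow_mul, pow_two, e]⟩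
  · obtain ⟨c, hc, e1⟩ := h.root _ (h.sq_B hb) (by rwa [pow_succ', pow_mul, pow_two] at e)
    have h1 := om _ (mul_mem hb (inv_mem (h.BP hc))) (by
      calc _ = b * (c⁻¹ * b) * c⁻¹ := by group
        _ = b * b * (c * c)⁻¹ := by rw [hab _ (inv_mem (h.BP hc)) b hb]; group
        _ = 1 := by rw [e1, mul_inv_cancel])
    exact sq b ((mul_mem_cancel_right (inv_mem hc)).1 (h.VB h1))

theorem con (hT : ∀ x ∈ P, ∀ u, f.TC (t * (x * f.j u)) → x * f.j u ∈ B) : f.Con := by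
  have TN : f.T ≤ normalizer (P : Set G) := f.T_le_D.trans h.DN
  have TC : f.T ≤ f.C := f.T_syl.le
  have tT : t ∈ f.T := f.E_le_T h.tE
  have QT : f.Q ≤ f.T := by rintro _ ⟨u, rfl⟩; exact f.jT u
  have pgR : IsPGroup 2 ↥(P ⊔ f.T) := IsPGroup.to_sup_of_normal_left' h.pg f.T_syl.pgroup TN
  have ext : ∀ {s} {X : Subgroup G}, s ∈ P ⊔ f.T → f.TC s → X ≤ P ⊔ f.T → X ≤ centralizer {s} →
      Nat.card f.T ≤ Nat.card X → ∃ b ∈ B, s = t * b := fun {s X} hR hs h1 h2 h3 => by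
    obtain ⟨p, hp, y, hy, rfl⟩ := (H5.mem_sup_of_le_normalizer_left TN).1 hR
    have sN := mul_mem (h.P_NQ hp) (f.T_N hy)
    have s2 := TC_sq h.toInv hs
    rcases f.tt_cases sN (by rw [s2, f.ct_one.2]) with e | e
    · rw [f.tt_mul (h.P_NQ hp) (f.T_N hy), (f.ct_cen (h.PQ hp)).2, one_mul] at e
      obtain ⟨e', he, u, rfl⟩ := f.mem_T1.1 ((f.mem_T1_iff hy).2 e)
      rcases h.E2 e' he with rfl | rfl
      · exact (h.not_TC hab hp u (by rwa [one_mul] at hs)).elim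
      · have e1 : p * (e' * f.j u) = e' * (e' * p * e' * f.j u) := by
          rw [← mul_assoc e', ← mul_assoc e', ← mul_assoc e', t_sq h.toInv]; group
        exact ⟨_, hT _ (h.t_P hp) u (e1 ▸ hs), e1⟩
    · exfalso
      generalize p * y = s at *
      have sP : s ∈ normalizer (P : Set G) := sup_le le_normalizer TN hR
      have dec : ∀ z ∈ (P ⊔ f.Q) ⊓ X, ∃ x ∈ P, ∃ u, x * f.j u = z ∧ f.cc s * σ u.a = u.a :=
        fun z hz => by
          obtain ⟨x, hx, u, rfl⟩ := h.mem_PQ.1 hz.1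
          refine ⟨x, hx, u, rfl, ?_⟩
          have e1 := mem_centralizer_singleton_iff.1 (h2 hz.2)
          have e2 : f.j (f.aut s u * u⁻¹) = (s * x * s⁻¹)⁻¹ * x := by
            rw [map_mul, map_inv, ← f.conj_j sN]
            calc _ = (s * x * s⁻¹)⁻¹ * (s * (x * f.j u)) * s⁻¹ * (f.j u)⁻¹ := by group
              _ = _ := by rw [← e1]; group
          have e3 := j_cQ (e2 ▸ h.PQ (mul_mem (inv_mem (conj_in sP hx)) hx))
          rwa [mul_a, inv_a, f.aut_a, e, sigAut_apply, ← sub_eq_add_neg, sub_eq_zero] at e3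
      have h4 := f.ab_lt (card_E h.toInv) hs (h.pgPQ.to_le (inf_le_left (b := X)))
        (fun z hz z' hz' => by
          obtain ⟨x, hx, u, rfl, e1⟩ := dec z hz
          obtain ⟨x', hx', u', rfl, e2⟩ := dec z' hz'
          refine h.comm_PQ hab hx hx' ?_
          unfold bl
          linear_combination -σ u.a * e2 - σ u'.a * e1 + f.cc s * σ u.a * σ u'.a * two σ)
        (inf_le_right.trans h2)
      have a1 := H5.card_inf_mul_relIndex (P ⊔ f.Q) X
      have a2 := H5.card_mul_relIndex_of_le (sup_le_sup_left QT P)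
      have a3 := H5.card_sup_mul_card_inf TN
      have a4 := H5.card_sup_mul_card_inf h.Q_NP
      have r0 : (P ⊔ f.Q).relIndex (P ⊔ f.T) ≠ 0 := index_ne_zero_of_finite
      have a5 := relIndex_le_of_le_right h1 r0
      rw [h.inf_C (f.V_le_Q.trans QT) TC] at a3
      rw [h.inf_C f.V_le_Q f.Q_le_C, f.card_Q] at a4
      have a6 : f.q ^ 3 * (P ⊔ f.Q).relIndex (P ⊔ f.T) = Nat.card f.T :=
        Nat.eq_of_mul_eq_mul_left (Nat.card_pos (α := P)) (by rw [← a3, ← a2, ← mul_assoc, ← a4]; ring)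
      have a7 := Nat.mul_lt_mul_of_lt_of_le h4 a5 (Nat.pos_of_ne_zero r0)
      omega
  refine f.con_of_transfer h.toInv (R := P ⊔ f.T) (R₀ := P ⊔ f.T ⊓ f.U) ?_
    (sup_le_sup_left inf_le_left _) ?_ ?_
  · refine IsSylowIn.of_normalizer le_top ⟨le_inf le_top le_normalizer, pgR, fun S h1 h2 h3 => ?_⟩
    refine le_antisymm (fun g hg => ?_) h3
    have gN := (h1 hg).2
    obtain ⟨b, hb, e⟩ := ext (X := cj g f.T) (conj_in gN (mem_sup_right tT))
      (TC_conj h.toInv ((TC_iff h.toInv).2 (IsConj.refl t)) g)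
      (cj_le_of_mem_normalizer gN le_sup_right)
      (cj_centralizer_singleton g t ▸ cj_mono g fun x hx =>
        mem_centralizer_singleton_iff.2 ((mem_C' h.toInv).1 (TC hx))) (card_cj g _).ge
    obtain ⟨p, hp, e1⟩ := h.onto b hb
    have h4 : p⁻¹ * g ∈ S ⊓ f.C := ⟨S.mul_mem (S.inv_mem (h3 (mem_sup_left hp))) hg,
      h.γ_eq (by rw [γ, γ, e1, e, ← mul_assoc, t_sq h.toInv, one_mul])⟩
    rw [f.T_syl.max (S ⊓ f.C) inf_le_right (h2.to_le inf_le_left)
      (le_inf (le_sup_right.trans h3) TC)] at h4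
    exact (mul_mem_cancel_left (inv_mem (mem_sup_left hp))).1 (mem_sup_right h4)
  all_goals
    have nt : ∀ b ∈ B, t * b ∉ P ⊔ f.T ⊓ f.U := fun b hb hm => by
      obtain ⟨p, hp, y, hy, e⟩ := (H5.mem_sup_of_le_normalizer_left (inf_le_left.trans TN)).1 hm
      have e1 : t * y⁻¹ = b * p := by
        calc _ = t * (p * y)⁻¹ * p := by group
          _ = t * b⁻¹ * t⁻¹ * p := by rw [e]; group
          _ = _ := by rw [t_inv h.toInv, h.inv _ (inv_mem hb), inv_inv]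
      have h1 := h.cen _ (mul_mem (h.BP hb) hp)
        ((mem_C' h.toInv).1 (e1 ▸ TC (mul_mem tT (inv_mem hy.1))))
      exact h.t1 (f.disj t h.tE ((f.U.mul_mem_cancel_right (f.U.inv_mem hy.2)).1
        (e1 ▸ f.Q_le_U (f.V_le_Q h1))))
  · refine H9.relIndex_eq_two_of (mem_sup_right tT) (by simpa using nt 1 (one_mem _)) fun s hs h0 => ?_
    obtain ⟨p, hp, y, hy, rfl⟩ := (H5.mem_sup_of_le_normalizer_left TN).1 hs
    obtain ⟨e, he, u, hu, rfl⟩ := f.T_dec hy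
    rcases h.E2 e he with rfl | rfl
    · exact (h0 (mul_mem (mem_sup_left hp) (mem_sup_right (by rwa [one_mul])))).elim
    · rw [mul_assoc, mul_assoc, (mem_C' h.toInv).1 (TC hu.1), ← mul_assoc e, t_sq h.toInv, one_mul]
      exact mul_mem (mem_sup_left hp) (mem_sup_right hu)
  · intro g h1 h2
    obtain ⟨b, hb, e⟩ := ext ((sup_le_sup_left inf_le_left P : _ ≤ P ⊔ f.T) h1)
      (TC_conj h.toInv ((TC_iff h.toInv).2 (IsConj.refl t)) g) h2
      (cj_centralizer_singleton g t ▸ cj_mono g fun x hx =>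
        mem_centralizer_singleton_iff.2 ((mem_C' h.toInv).1 (TC hx))) (card_cj g _).ge
    exact nt b hb (e ▸ h1)

theorem step (h1 : ∀ x ∈ P, ∀ u : US σ, u.a ≠ 0 → ¬ f.TC (t * (x * f.j u))) :
    Lv f t (m + 1) P ∨ f.Con := by
  by_cases h2 : ∃ x ∈ P, x ∉ B ∧ f.TC (t * x)
  · obtain ⟨x, hx, hB, hs⟩ := h2
    exact Or.inl (h.next hab hx hB hs)
  · refine Or.inr (h.con hab fun x hx u hs => by_contra fun hB => h2 ⟨_, mul_mem hx ?_, hB, hs⟩)
    exact h.BP (h.VB (f.j_mem_V.2 (by_contra fun h0 => h1 x hx u h0 hs)))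

end Up

end Cfsg.Agent.WA.Lk.X2a
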