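import Cfsg.Agent.WA.Lk2a2
import Cfsg.Agent.WA.Lk2a3

/-! The tower over `E = {1, t}`: induction (module Lk2a, see PLAN_LK.md). -/

set_option autoImplicit false
set_option linter.unusedSectionVars false

namespace Cfsg.Agent.WA.Lk.X2a

open Subgroup Cfsg.Agent.H1.U3 Cfsg.Agent.H8

variable {F : Type*} [Field F] [Finite F] {σ : F →+* F} [Ctx σ] {G : Type*} [Group G] [Finite G]

theorem lv_zero (w : Two σ G) {t : G} (ht : w.Inv t) : Lv w.toFr t 0 w.V := by
  have t2 := t_sq ht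
  refine ⟨ht, fun a ha b hb => cQ_V (w.V_cen_Q hb) ha, w.V_cen_Q, le_rfl, fun b hb => ?_,
    fun b hb => by simpa using hb, fun b hb _ => hb, fun x hx e e1 => (mem_A' ht).1 ?_,
    fun b hb => (TC_iff ht).1 (w.TC_A ((mem_A' ht).2 (Or.inr ?_)) fun h => ?_),
    fun μ hμ b hb => (w.d_cen_V hμ b hb).symm, fun z hz b hb => (cQ_V (w.Z_cen_Q hz) hb).symm,
    fun v hv => ⟨v, hv, by simp⟩, fun b _ e => ⟨1, one_mem _, by simpa using e.symm⟩⟩
  · rw [← cQ_V (t_cQ ht) hb, mul_assoc, t2, mul_one, inv_eq_of_mul_eq_one_right (w.V_sq hb)]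
  · refine mem_A_of ((mem_C' ht).2 ?_) hx ⟨_, e1⟩
    rw [zero_add, pow_one, pow_two] at e1
    rw [inv_eq_of_mul_eq_one_right e1] at e
    calc x * t = t * x * t * t := by rw [e]
      _ = t * x := by rw [mul_assoc, t2, mul_one]
  · rwa [← mul_assoc, t2, one_mul]
  · exact t_V ht ((mul_mem_cancel_right hb).1 h)

theorem aa_TC (w : Two σ G) {t : G} (ht : w.Inv t)
    (h : w.c = 0 → ∀ g ∈ normalizer (w.S : Set G), cj g w.A = w.A) {s : G} (hs : s ∈ w.S)
    (hT : w.TC s) : w.aa s = 0 := by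
  obtain ⟨g, hg, e, he, h1, e1, -⟩ := w.fus hs hT
  obtain rfl := (ht.E2 e he).resolve_left h1
  have sA : s ∈ cj g w.A := e1 ▸ conj_mem_cj g (mem_sup_left he)
  have key : cj g w.A = w.A → w.aa s = 0 := fun e => (w.mem_A.1 (e ▸ sA)).2.2
  rcases w.cls hg with h2 | ⟨t', ht', -, p, hp, -, h2⟩ | h2 | h2
  · exact key h2
  · have gV := w.NS_le_NV hg
    have co := w.e_mul ht'.tE hp.1
    rcases (mem_A' ht).1 (mem_cj.1 h2) with h3 | h3
    · have h4 := conj_in gV h3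
      rw [show g * (g⁻¹ * (t' * p) * g) * g⁻¹ = t' * p by group] at h4
      have := ((w.kerV _ (w.V_le h4)).1 h4).1
      rw [co.1, hp.2.1, mul_one] at this
      exact (ht'.t1 this).elim
    · have h4 := conj_in gV h3
      rw [show g * (e * (g⁻¹ * (t' * p) * g)) * g⁻¹ = s * (t' * p) by rw [← e1]; group] at h4
      have := ((w.kerV _ (w.V_le h4)).1 h4).2.2
      rwa [w.aa_mul _ hs _ (mul_mem (w.ES ht'.tE) hp.1), co.2.2, hp.2.2, add_zero] at this
  · exact key (h h2.1 g hg)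
  · exact key (h h2.1 g hg)

theorem not_TC0 (w : Two σ G) {t : G} {B P : Subgroup G} (hU : Up w.toFr t 0 B P)
    (h : w.c = 0 → ∀ g ∈ normalizer (w.S : Set G), cj g w.A = w.A) {x : G} (hx : x ∈ P) {u : US σ}
    (hu : u.a ≠ 0) : ¬ w.TC (t * (x * w.j u)) := fun hT => by
  have hγ : γ t x ∈ w.V := by simpa using hU.exp _ (hU.W0 hx).2
  have hE : ∀ e ∈ w.E, x * e * x⁻¹ * e ∈ w.V := fun e he => by
    rcases hU.E2 e he with rfl | rfl
    · simp [one_mem]
    · rwa [hU.conj_t, ← cQ_V (t_cQ hU.toInv) hγ, mul_assoc, t_sq hU.toInv, mul_one]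
  have xS : x ∈ w.S := by
    obtain ⟨s, hs, z, hz, rfl⟩ := w.mem_W (H5.mem_normalizer_of_conj_mem fun y hy => by
      obtain ⟨e, he, v, hv, rfl⟩ := w.toFr.mem_A.1 hy
      rw [← conj_mul, conj_V (hU.PQ hx) hv, ← mul_inv_cancel_right (x * e * x⁻¹) e]
      exact mul_mem (mul_mem (mem_sup_right (hE e he)) (mem_sup_left (inv_mem he))) (mem_sup_right hv))
      hE (w.ct_cen (hU.PQ hx)).1 (w.ct_cen (hU.PQ hx)).2
    exact two_mem hs (w.Zc' z hz s hs).symm (w.Zo z hz) (H5.IsPGroup_pow_eq_one hU.pg hx)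
  have a0 : w.aa x = 0 := by
    by_contra a0
    obtain ⟨b, hb⟩ := exists_bl a0 (map_one σ)
    have := w.cm x xS _ (w.jS (lift σ b))
    rw [← cQ_iff.1 (hU.PQ hx), (w.on_j _).1, (w.on_j _).2.1, (w.on_j _).2.2, lift_a, hb,
      w.ce_one, mul_zero, zero_mul, zero_add, zero_add, mul_inv_cancel_right, mul_inv_cancel,
      ← w.vv_zero] at this
    exact zero_ne_one (w.vv_inj (map_zero σ) (map_one σ) this)
  have := aa_TC w hU.toInv h (mul_mem (w.ES hU.tE) (mul_mem xS (w.jS u))) hT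
  rw [(w.e_mul hU.tE (mul_mem xS (w.jS u))).2.2, w.aa_mul _ xS _ (w.jS u), a0, zero_add,
    (w.on_j u).2.2] at this
  exact hu this

theorem con_tower_of (w : Two σ G) (top : ∀ t P y ξ κ, w.Top t P y ξ κ → w.Con) (h2 : Nat.card w.E = 2)
    (h : w.c = 0 → ∀ g ∈ normalizer (w.S : Set G), cj g w.A = w.A) : w.Con := by
  obtain ⟨t, ht⟩ := w.inv_iff.1 h2
  by_contra hc
  have key : ∀ m, ∃ B, Lv w.toFr t m B := fun m => by
    induction m with
    | zero => exact ⟨_, lv_zero w ht⟩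
    | succ m ih =>
      obtain ⟨B, hB⟩ := ih
      obtain ⟨P, hP⟩ := hB.exists_up
      rcases hP.cases with hab | ⟨y, ξ, κ, h1⟩
      · refine ⟨P, (hP.step hab fun x hx u hu => ?_).resolve_right hc⟩
        by_cases hm : m = 0
        · subst hm; exact not_TC0 w hP h hx hu
        · exact hP.not_TC' hab hm hx hu
      · exact (hc (top _ _ _ _ _ h1)).elim
  obtain ⟨B, hB⟩ := key (Nat.card G)
  obtain ⟨b, hb, e⟩ := hB.β_surj (map_one σ)
  have h1 : orderOf b = 2 ^ (Nat.card G + 1) := orderOf_eq_prime_pow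
    (fun e1 => one_ne_zero (e.symm.trans ((hB.β_eq_zero hb).2 e1))) (hB.exp' hb)
  have h3 := Nat.le_of_dvd Nat.card_pos (h1 ▸ orderOf_dvd_natCard b)
  have h4 := Nat.lt_two_pow_self (n := Nat.card G + 1)
  omega

end Cfsg.Agent.WA.Lk.X2a
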