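import Cfsg.Agent.WA.Lk4c

/-! Module Lk2b, first part: the groups `Y = P Q` and `R = P T`. -/

set_option autoImplicit false
set_option linter.unusedSectionVars false
set_option linter.unusedVariables false

namespace Cfsg.Agent.WA.Lk

open Subgroup Cfsg.Agent.H1.U3 Cfsg.Agent.H8
open Cfsg.Agent.WA.Rw (conj_mem' conj_mem'' norm_of mem_c1 mem_cH)

variable {F : Type*} [Field F] [Finite F] {σ : F →+* F} [Ctx σ] {G : Type*} [Group G] [Finite G]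

namespace X2

open X4 (add_self bl_fix fillK)
open Rw (mem_sup' c_le_n)

theorem sig_ne : sigAut σ ≠ 1 := fun e => by
  obtain ⟨ω, hω⟩ := Ctx.ex (σ := σ)
  have : σ ω = ω := DFunLike.congr_fun e ω
  rw [this, add_self σ] at hω
  exact zero_ne_one hω

theorem sig_sig : sigAut σ * sigAut σ = 1 := RingEquiv.ext fun x => invol x

theorem frob (σ : F →+* F) [Ctx σ] (τ : RingAut F) : ∃ k : ℕ, ∀ x, τ x = x ^ k := by
  have := charP_two σ
  letI : Algebra (ZMod 2) F := ZMod.algebra _ _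
  obtain ⟨i, hi⟩ := FiniteField.exists_forall_apply_eq_pow (ZMod 2) 2 F ((ringAutEquiv F).symm τ)
  exact ⟨_, hi⟩

/-- `Y = P Q` -/
def YY (f : Fr σ G) (P : Subgroup G) : Subgroup G := P ⊔ f.Q

/-- `R = T P` -/
def RR (f : Fr σ G) (P : Subgroup G) : Subgroup G := f.T ⊔ P

/-- `⟨φ⟩ Y` -/
def MM (f : Fr σ G) (P : Subgroup G) (φ : G) : Subgroup G := zpowers φ ⊔ YY f P

variable {f : Fr σ G} {t a b g n p r s v x z φ : G} {P : Subgroup G} {y ξ : G → F} {κ : F}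

theorem vv_eq_one {c : F} (hc : σ c = c) (e : f.vv c = 1) : c = 0 := f.vv_inj hc (map_zero σ) (e.trans f.vv_zero.symm)

theorem tt_comm (ha : a ∈ normalizer (f.Q : Set G)) (hb : b ∈ normalizer (f.Q : Set G)) :
    f.tt (a * b * a⁻¹ * b⁻¹) = 1 := by
  have := charP_two σ
  have := isCyclic_ringAut (F := F)
  rw [f.tt_mul (mul_mem (mul_mem ha hb) (inv_mem ha)) (inv_mem hb), f.tt_mul (mul_mem ha hb) (inv_mem ha),
    f.tt_mul ha hb, f.tt_inv ha, f.tt_inv hb, mul_comm' (f.tt a), mul_inv_cancel_right, mul_inv_cancel]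

variable (h : f.Top t P y ξ κ)
include h

theorem t2 : t * t = 1 := f.E_sq t h.tE

theorem ti : t⁻¹ = t := inv_eq_of_mul_eq_one_left (t2 h)

theorem memC : g ∈ f.C ↔ g * t = t * g := f.mem_C h.tE h.t1

theorem pq (hx : x ∈ P) (u : US σ) : x * f.j u = f.j u * x := (mem_cH.1 (h.cQ hx) _ ⟨u, rfl⟩).symm

theorem tT : t ∈ f.T := f.E_le_T h.tE

theorem Tt (ha : a ∈ f.T) : a * t = t * a := (memC h).1 (f.T_syl.le ha)

theorem TNP : f.T ≤ normalizer (P : Set G) := f.T_le_D.trans h.DN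

theorem memY : g ∈ YY f P ↔ ∃ x ∈ P, ∃ u, x * f.j u = g := by
  rw [YY, mem_sup' (h.cQ.trans c_le_n)]
  exact ⟨fun ⟨x, hx, _, ⟨u, rfl⟩, e⟩ => ⟨x, hx, u, e⟩, fun ⟨x, hx, u, e⟩ => ⟨x, hx, _, ⟨u, rfl⟩, e⟩⟩

theorem memR : g ∈ RR f P ↔ ∃ a ∈ f.T, ∃ x ∈ P, a * x = g := mem_sup' (TNP h)

theorem PY : P ≤ YY f P := le_sup_left

theorem jY (u : US σ) : f.j u ∈ YY f P := mem_sup_right ⟨u, rfl⟩

theorem TR : f.T ≤ RR f P := le_sup_left

theorem YR : YY f P ≤ RR f P := sup_le le_sup_right fun _ ⟨u, e⟩ => TR h (e ▸ f.jT u)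

theorem tR : t ∈ RR f P := TR h (tT h)

theorem inv_c (hx : x ∈ P) : y x⁻¹ = y x ∧ ξ x⁻¹ = ξ x := by
  have h1 := h.y_mul x hx _ (inv_mem hx)
  have h2 := h.ξ_mul x hx _ (inv_mem hx)
  have h3 := (h.ker 1 (one_mem _)).1 (one_mem _)
  rw [mul_inv_cancel] at h1 h2
  exact ⟨by linear_combination h3.1 - h1 - y x * two σ, by linear_combination h3.2 - h2 - ξ x * two σ⟩

theorem quot_c (ha : a ∈ P) (hb : b ∈ P) : y (a * b⁻¹) = y a + y b ∧ ξ (a * b⁻¹) = ξ a + ξ b := by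
  rw [h.y_mul a ha _ (inv_mem hb), h.ξ_mul a ha _ (inv_mem hb), (inv_c h hb).1, (inv_c h hb).2]
  exact ⟨rfl, rfl⟩

theorem tP (hx : x ∈ P) : t * x * t ∈ P := by
  have := conj_mem' (TNP h (tT h)) hx
  rwa [ti h] at this

theorem tcm (hx : x ∈ P) : t * x * t * x⁻¹ ∈ P ∧ y (t * x * t * x⁻¹) = ξ x ∧ ξ (t * x * t * x⁻¹) = 0 := by
  obtain ⟨h1, h2⟩ := quot_c h (tP h hx) hx
  rw [h1, h2, h.ty x hx, h.tξ x hx]
  exact ⟨mul_mem (tP h hx) (inv_mem hx), by linear_combination y x * two σ, add_self σ _⟩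

theorem sqB (hx : x ∈ P) (h0 : ξ x = 0) : x * x = f.vv (y x ^ 2) := by
  rw [h.sq x hx, h0]; simp

theorem CP (hx : x ∈ P) (hc : x * t = t * x) : x ∈ f.V := by
  have e : t * x * t = x := by rw [← hc, mul_assoc, t2 h, mul_one]
  have h0 : ξ x = 0 := by
    have := h.ty x hx
    rw [e] at this
    exact left_eq_add.1 this
  have h1 := h.inv x hx h0
  rw [e] at h1
  have h2 := sqB h hx h0
  rw [mul_eq_one_iff_eq_inv.2 h1] at h2
  exact (h.ker x hx).2 ⟨pow_eq_zero_iff two_ne_zero |>.1 (vv_eq_one (by rw [map_pow, h.yK x hx]) h2.symm), h0⟩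

theorem mulV (hx : x ∈ P) {u : US σ} : x * f.j u ∈ f.V ↔ x ∈ f.V ∧ u.a = 0 := by
  refine ⟨fun e => ?_, fun e => mul_mem e.1 (f.j_mem_V.2 e.2)⟩
  have m : f.j u ∈ P := (mul_mem_cancel_left hx).1 (h.VP e)
  have a0 : u.a = 0 := by
    by_contra a0
    obtain ⟨β, hβ⟩ := exists_bl (σ := σ) a0 (map_one σ)
    obtain ⟨r, rfl⟩ := exists_a (σ := σ) β
    have := f.j_cm u r
    rw [pq h m r, hβ, mul_inv_cancel_right, mul_inv_cancel] at this
    exact one_ne_zero (vv_eq_one (map_one σ) this.symm)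
  exact ⟨(mul_mem_cancel_right (f.j_mem_V.2 a0)).1 e, a0⟩

theorem YV : YY f P ≤ centralizer (f.V : Set G) :=
  sup_le (h.cQ.trans (centralizer_le f.V_le_Q)) fun _ ⟨u, e⟩ => mem_cH.2 fun v hv => e ▸ f.V_comm hv u

theorem RNQ : RR f P ≤ normalizer (f.Q : Set G) := sup_le f.T_N (h.cQ.trans c_le_n)

theorem RNP : RR f P ≤ normalizer (P : Set G) := sup_le (TNP h) le_normalizer

theorem RNY : RR f P ≤ normalizer (YY f P : Set G) := le_normalizer_sup (RNP h) (RNQ h)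

theorem RNV : RR f P ≤ normalizer (f.V : Set G) := (RNQ h).trans f.NQ_le_NV

theorem Rpg : IsPGroup 2 (RR f P) := IsPGroup.to_sup_of_normal_right' f.T_syl.pgroup h.pg (TNP h)

theorem ctY (hg : g ∈ YY f P) : f.cc g = 1 ∧ f.tt g = 1 := by
  obtain ⟨x, hx, u, rfl⟩ := (memY h).1 hg
  obtain ⟨h1, h2⟩ := f.ct_mul (c_le_n (h.cQ hx)) (le_normalizer ⟨u, rfl⟩)
  rw [h1, h2, (f.ct_cen (h.cQ hx)).1, (f.ct_cen (h.cQ hx)).2, (f.ct_j u).1, (f.ct_j u).2]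
  simp

theorem ctt : f.cc t = 1 ∧ f.tt t = 1 := f.ct_cen (f.E_cen_Q h.tE)

theorem ttt (ha : a ∈ RR f P) : f.tt (t * a) = f.tt a := by rw [f.tt_mul (RNQ h (tR h)) (RNQ h ha), (ctt h).2, one_mul]

theorem cmYe (ha : a ∈ P) (hb : b ∈ P) (u w : US σ) : a * f.j u * (b * f.j w) * (a * f.j u)⁻¹ * (b * f.j w)⁻¹ =
    f.vv (y a * ξ b + y b * ξ a + bl σ u.a w.a) := by
  rw [f.vv_add (by rw [map_add, map_mul, map_mul, h.yK a ha, h.yK b hb, h.ξK a ha, h.ξK b hb]) (bl_fixed _ _),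
    ← h.cm a ha b hb, ← f.j_cm]
  have c1 : Commute a (f.j w) := pq h ha w
  have c2 : Commute b (f.j u) := pq h hb u
  have c3 : Commute a (f.j u) := pq h ha u
  have c4 : Commute b (f.j w) := pq h hb w
  calc _ = a * (f.j u * b) * f.j w * (f.j u)⁻¹ * (a⁻¹ * (f.j w)⁻¹) * b⁻¹ := by group
    _ = a * b * (f.j u * f.j w * (f.j u)⁻¹ * (f.j w)⁻¹ * (a⁻¹ * b⁻¹)) := by
      rw [← c2.eq, c1.inv_inv.eq]; group
    _ = _ := by
      rw [← (((((c3.mul_right c1).mul_right c3.inv_right).mul_right c1.inv_right).inv_left).mul_left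
        ((((c2.mul_right c4).mul_right c2.inv_right).mul_right c4.inv_right).inv_left)).eq]; group

theorem cmY (ha : a ∈ YY f P) (hb : b ∈ YY f P) : a * b * a⁻¹ * b⁻¹ ∈ f.V := by
  obtain ⟨a, a1, u, rfl⟩ := (memY h).1 ha
  obtain ⟨b, b1, w, rfl⟩ := (memY h).1 hb
  rw [cmYe h a1 b1]; exact f.vv_mem _

theorem sqYe (ha : a ∈ P) (u : US σ) : a * f.j u * (a * f.j u) = a * a * (f.j u * f.j u) := by
  calc _ = a * (f.j u * a) * f.j u := by group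
    _ = _ := by rw [← pq h ha]; group

theorem sqY (ha : a ∈ YY f P) : a * a ∈ f.V := by
  obtain ⟨a, a1, u, rfl⟩ := (memY h).1 ha
  rw [sqYe h a1, h.sq a a1, f.j_sq]; exact mul_mem (f.vv_mem _) (f.vv_mem _)

theorem VY : f.V ≤ YY f P := h.VP.trans (PY h)

theorem kerR (ha : a ∈ RR f P) (h1 : f.tt a = 1) : a ∈ YY f P ∨ t * a ∈ YY f P := by
  obtain ⟨b, hb, x, hx, rfl⟩ := (memR h).1 ha
  rw [f.tt_mul (f.T_N hb) (c_le_n (h.cQ hx)), (f.ct_cen (h.cQ hx)).2, mul_one] at h1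
  obtain ⟨e, he, u, rfl⟩ := f.mem_T1.1 ((f.mem_T1_iff hb).2 h1)
  rcases h.E2 e he with rfl | rfl
  · exact Or.inl (by rw [one_mul]; exact mul_mem (jY h u) (PY h hx))
  · exact Or.inr (by rw [← mul_assoc, ← mul_assoc, t2 h, one_mul]; exact mul_mem (jY h u) (PY h hx))

theorem memM (hφ : φ ∈ f.T) : g ∈ MM f P φ ↔ ∃ i : ℕ, ∃ b ∈ YY f P, φ ^ i * b = g := by
  rw [MM, mem_sup' (zpowers_le.2 (RNY h (TR h hφ)))]
  constructor
  · rintro ⟨a, ha, b, hb, rfl⟩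
    obtain ⟨i, rfl⟩ := mem_powers_iff_mem_zpowers.2 ha
    exact ⟨i, b, hb, rfl⟩
  · rintro ⟨i, b, hb, rfl⟩
    exact ⟨_, ⟨i, zpow_natCast φ i⟩, b, hb, rfl⟩

theorem YM : YY f P ≤ MM f P φ := le_sup_right

theorem φM : φ ∈ MM f P φ := mem_sup_left (mem_zpowers φ)

theorem MR (hφ : φ ∈ f.T) : MM f P φ ≤ RR f P := sup_le (zpowers_le.2 (TR h hφ)) (YR h)

theorem tM_U (hφ : φ ∈ f.T) (hU : φ ∈ f.U) : t ∉ MM f P φ := fun e => by
  obtain ⟨i, b, hb, e⟩ := (memM h hφ).1 e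
  obtain ⟨x, hx, u, rfl⟩ := (memY h).1 hb
  have xV : x ∈ f.V := CP h hx (Tt h (by
    rw [show x = (φ ^ i)⁻¹ * t * (f.j u)⁻¹ by rw [← e]; group]
    exact mul_mem (mul_mem (inv_mem (pow_mem hφ i)) (tT h)) (inv_mem (f.jT u))))
  exact h.t1 (f.disj t h.tE (e ▸ mul_mem (pow_mem hU i) (mul_mem (f.Q_le_U (f.V_le_Q xV)) (f.jU u))))

omit h in
/-- `φ` generates `T` modulo `T₁`, and `t ∉ ⟨φ⟩ Y` -/
structure Gen (f : Fr σ G) (P : Subgroup G) (t φ : G) : Prop where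
  T : φ ∈ f.T
  gen : ∀ x ∈ f.T, ∃ i : ℕ, (φ ^ i)⁻¹ * x ∈ f.T1
  tn : t ∉ MM f P φ

theorem exists_gen : ∃ φ, Gen f P t φ :=
  let ⟨φ, h1, h2⟩ := f.exists_gen
  ⟨φ, h1.1, h2, tM_U h h1.1 h1.2⟩

theorem cover (k : Gen f P t φ) (ha : a ∈ RR f P) : a ∈ MM f P φ ∨ t * a ∈ MM f P φ := by
  obtain ⟨b, hb, x, hx, rfl⟩ := (memR h).1 ha
  obtain ⟨i, hi⟩ := k.gen b hb
  have m := pow_mem (φM h (φ := φ)) i
  have m2 : (φ ^ i)⁻¹ * (b * x) ∈ RR f P := mul_mem (inv_mem (MR h k.T m)) ha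
  rcases kerR h m2 (by
    rw [← mul_assoc, f.tt_mul (f.T_N (f.T1_le_T hi)) (c_le_n (h.cQ hx)), (f.ct_T1 hi).2, (f.ct_cen (h.cQ hx)).2,
      mul_one]) with e | e
  · exact Or.inl ((mul_mem_cancel_left (inv_mem m)).1 (YM h e))
  · refine Or.inr ((mul_mem_cancel_left (inv_mem m)).1 ?_)
    rw [← mul_assoc, Tt h (inv_mem (pow_mem k.T i)), mul_assoc]
    exact YM h e

theorem tNM (hφ : φ ∈ f.T) : t ∈ normalizer (MM f P φ : Set G) :=
  le_normalizer_sup (A := zpowers t) (zpowers_le.2 (norm_of fun a ha => by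
    rw [← Tt h (zpowers_le.2 hφ ha), mul_inv_cancel_right]; exact ha)) (zpowers_le.2 (RNY h (tR h)))
    (mem_zpowers t)

theorem idxM (k : Gen f P t φ) (ha : a ∈ RR f P) (hb : b ∈ RR f P) (a1 : a ∉ MM f P φ) (b1 : b ∉ MM f P φ) :
    a * b ∈ MM f P φ := by
  have := mul_mem (conj_mem' (tNM h k.T) ((cover h k ha).resolve_left a1)) ((cover h k hb).resolve_left b1)
  rwa [show t * (t * a) * t⁻¹ * (t * b) = t * t * a * b by group, t2 h, one_mul] at this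

theorem tY : t ∉ YY f P := fun e => let ⟨_, k⟩ := exists_gen h; k.tn (YM h e)

theorem cmR (ha : a ∈ RR f P) (hb : b ∈ RR f P) : a * b * a⁻¹ * b⁻¹ ∈ YY f P := by
  obtain ⟨φ, k⟩ := exists_gen h
  have ab := mul_mem ha hb
  have ab' := mul_mem (inv_mem ha) (inv_mem hb)
  refine (kerR h (mul_mem (mul_mem ab (inv_mem ha)) (inv_mem hb)) (tt_comm (RNQ h ha) (RNQ h hb))).resolve_right
    fun e => k.tn ((mul_mem_cancel_right ?_).1 (YM h e))
  rw [mul_assoc]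
  by_cases a1 : a ∈ MM f P φ <;> by_cases b1 : b ∈ MM f P φ
  · exact mul_mem (mul_mem a1 b1) (mul_mem (inv_mem a1) (inv_mem b1))
  · exact idxM h k ab ab' (fun e => b1 ((mul_mem_cancel_left a1).1 e))
      fun e => b1 (inv_mem_iff.1 ((mul_mem_cancel_left (inv_mem a1)).1 e))
  · exact idxM h k ab ab' (fun e => a1 ((mul_mem_cancel_right b1).1 e))
      fun e => a1 (inv_mem_iff.1 ((mul_mem_cancel_right (inv_mem b1)).1 e))
  · exact mul_mem (idxM h k ha hb a1 b1) (idxM h k (inv_mem ha) (inv_mem hb) (fun e => a1 (inv_mem_iff.1 e))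
      fun e => b1 (inv_mem_iff.1 e))

theorem mul_tY (ha : t * a ∈ YY f P) (hb : t * b ∈ YY f P) : a * b ∈ YY f P := by
  have := mul_mem (conj_mem' (RNY h (tR h)) ha) hb
  rwa [show t * (t * a) * t⁻¹ * (t * b) = t * t * a * b by group, t2 h, one_mul] at this

theorem tpow (hφ : φ ∈ f.T) (i : ℕ) : (t * φ) ^ i = t ^ i * φ ^ i := (show Commute t φ from (Tt h hφ).symm).mul_pow i

theorem t_even (i : ℕ) : t ^ (2 * i) = 1 := by rw [pow_mul, pow_two, t2 h, one_pow]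

theorem t_odd (i : ℕ) : t ^ (2 * i + 1) = t := by rw [pow_succ, t_even h, one_mul]

theorem tt_odd (hφ : φ ∈ f.T) {i : ℕ} {τ : RingAut F} (hτ : τ * τ = 1) (e : f.tt φ ^ (2 * i + 1) = τ) :
    f.tt φ = 1 ∨ f.tt φ = sigAut σ := by
  obtain ⟨k, hk⟩ := f.T_syl.pgroup ⟨φ, hφ⟩
  have e1 : f.tt φ ^ 2 ^ k = 1 := by
    rw [← f.tt_pow (f.T_N hφ), show φ ^ 2 ^ k = 1 from congrArg Subtype.val hk, f.ct_one.2]
  refine eq_one_or_sig _ (orderOf_eq_one_iff.1 (Nat.eq_one_of_dvd_coprimes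
    (Nat.Coprime.pow_right k (Nat.coprime_two_right.2 (odd_two_mul_add_one i))) (orderOf_dvd_of_pow_eq_one ?_)
    (orderOf_dvd_of_pow_eq_one ?_)))
  · rw [← pow_mul, mul_comm, pow_mul, e, pow_two, hτ]
  · rw [← pow_mul, mul_comm, pow_mul, e1, one_pow]

theorem gen_t (k : Gen f P t φ) (h1 : f.tt φ ≠ 1) : Gen f P t (t * φ) := by
  have m := mul_mem (tT h) k.T
  refine ⟨m, fun x hx => ?_, fun e => ?_⟩
  · obtain ⟨i, hi⟩ := k.gen x hx
    refine ⟨i, ?_⟩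
    rw [tpow h k.T, (show Commute t φ from (Tt h k.T).symm).pow_pow i i |>.eq, mul_inv_rev, mul_assoc]
    exact mul_mem (inv_mem (pow_mem (le_sup_left (a := f.E) h.tE) i)) hi
  · obtain ⟨i, b, hb, e⟩ := (memM h m).1 e
    rw [tpow h k.T] at e
    obtain ⟨i, rfl | rfl⟩ := Nat.even_or_odd' i
    · rw [t_even h, one_mul] at e
      exact k.tn (e ▸ mul_mem (pow_mem (φM h) _) (YM h hb))
    · rw [t_odd h, mul_assoc, mul_eq_left] at e
      have e1 : f.tt φ ^ (2 * i + 1) = 1 := by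
        rw [← f.tt_pow (f.T_N k.T), eq_inv_of_mul_eq_one_left e, (ctY h (inv_mem hb)).2]
      rcases tt_odd h k.T (mul_one 1) e1 with e2 | e2
      · exact h1 e2
      · rw [e2, pow_succ, pow_mul, pow_two, sig_sig, one_pow, one_mul] at e1
        exact sig_ne e1

theorem both (k : Gen f P t φ) (k' : Gen f P t (t * φ)) (h1 : a ∈ MM f P φ) (h2 : a ∈ MM f P (t * φ)) :
    ∃ ψ ∈ f.T, ∃ b ∈ YY f P, ψ * ψ * b = a := by
  obtain ⟨i, b, hb, rfl⟩ := (memM h k.T).1 h1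
  obtain ⟨i, rfl | rfl⟩ := Nat.even_or_odd' i
  · exact ⟨φ ^ i, pow_mem k.T i, b, hb, by rw [two_mul, pow_add]⟩
  · have := pow_mem (φM h (φ := t * φ)) (2 * i + 1)
    rw [tpow h k.T, t_odd h] at this
    exact absurd ((mul_mem_cancel_right ((mul_mem_cancel_right (YM h hb)).1 h2)).1 this) k'.tn

theorem only (k : Gen f P t φ) (h1 : a ∈ MM f P φ) (h2 : a ∉ MM f P (t * φ)) (h3 : f.tt a = sigAut σ)
    (hb : b ∈ RR f P) : f.tt b = 1 ∨ f.tt b = sigAut σ := by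
  obtain ⟨i, c, hc, rfl⟩ := (memM h k.T).1 h1
  obtain ⟨i, rfl | rfl⟩ := Nat.even_or_odd' i
  · have := pow_mem (φM h (φ := t * φ)) (2 * i)
    rw [tpow h k.T, t_even h, one_mul] at this
    exact absurd (mul_mem this (YM h hc)) h2
  rw [f.tt_mul (f.T_N (pow_mem k.T _)) (RNQ h (YR h hc)), (ctY h hc).2, mul_one, f.tt_pow (f.T_N k.T)] at h3
  have e : f.tt φ ^ 2 = 1 := by
    rcases tt_odd h k.T sig_sig h3 with e | e <;> rw [e]
    exacts [one_pow 2, by rw [pow_two, sig_sig]]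
  have key : ∀ b ∈ MM f P φ, f.tt b = 1 ∨ f.tt b = sigAut σ := fun b hb => by
    obtain ⟨i, c, hc, rfl⟩ := (memM h k.T).1 hb
    rw [f.tt_mul (f.T_N (pow_mem k.T _)) (RNQ h (YR h hc)), (ctY h hc).2, mul_one, f.tt_pow (f.T_N k.T)]
    exact eq_one_or_sig _ (by rw [← pow_mul, mul_comm, pow_mul, e, one_pow])
  rcases cover h k hb with m | m
  · exact key b m
  · exact ttt h hb ▸ key _ m

end X2

end Cfsg.Agent.WA.Lk
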