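import Cfsg.Agent.WA.Lk2b1

/-! Module Lk2b, second part: the conjugates of `t` in `R`. -/

set_option autoImplicit false
set_option linter.unusedSectionVars false
set_option linter.unusedVariables false

namespace Cfsg.Agent.WA.Lk

open Subgroup Cfsg.Agent.H1.U3 Cfsg.Agent.H8
open Cfsg.Agent.WA.Rw (conj_mem' conj_mem'' norm_of mem_c1 mem_cH)

variable {F : Type*} [Field F] [Finite F] {σ : F →+* F} [Ctx σ] {G : Type*} [Group G] [Finite G]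

namespace X2

open X4 (add_self bl_fix fillK)
open Rw (mem_sup' c_le_n clt cle csup cnt_c mem_z')
open H2.SC (omZ)

/-- `a` acts trivially on `P / V` -/
def Tv (f : Fr σ G) (P : Subgroup G) (a : G) : Prop := ∀ x ∈ P, a * x * a⁻¹ * x⁻¹ ∈ f.V

/-- the elements of the coset `r Y` -/
def Rt (f : Fr σ G) (P : Subgroup G) (a : G) : Prop := a ∈ RR f P ∧ f.tt a = sigAut σ ∧ Tv f P a

variable {f : Fr σ G} {t a b g n p r s v x z φ : G} {P : Subgroup G} {y ξ : G → F} {κ : F}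

theorem TC_sq (hs : f.TC s) : s * s = 1 := by
  obtain ⟨e, he, -, c⟩ := hs
  obtain ⟨k, rfl⟩ := isConj_iff.1 c
  rw [show k * e * k⁻¹ * (k * e * k⁻¹) = k * (e * e) * k⁻¹ by group, f.E_sq e he]; group

theorem four_card {V X : Subgroup G} (hV : V ≤ X) (ha : a ∈ X) (hb : b ∈ X) (aN : a ∈ normalizer (V : Set G))
    (a2 : a * a = 1) (a1 : a ∉ V) (b1 : b ∉ V) (ab : a * b ∉ V) : 4 * Nat.card V ≤ Nat.card X := by
  have c1 := clt (A := V) (B := zpowers a ⊔ V) le_sup_right (mem_sup_left (mem_zpowers a)) a1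
  have c2 := clt (A := zpowers a ⊔ V) (B := X) (sup_le (zpowers_le.2 ha) hV) hb fun e => by
    obtain ⟨c, hc, v, hv, rfl⟩ := (mem_sup' (zpowers_le.2 aN)).1 e
    rcases mem_z' a2 hc with rfl | rfl
    · exact b1 (by rwa [one_mul])
    · exact ab (by rwa [← mul_assoc, a2, one_mul])
  omega

variable (h : f.Top t P y ξ κ)
include h

theorem TC_cj (g : G) : f.TC (g * t * g⁻¹) := ⟨t, h.tE, h.t1, isConj_iff.2 ⟨g, rfl⟩⟩

theorem exB (hb : b ∈ P) (h0 : ξ b = 0) : ∃ p ∈ P, t * p * t * p⁻¹ = b := by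
  obtain ⟨p, hp, -, p2⟩ := h.surj 0 (y b) (map_zero σ) (h.yK b hb)
  obtain ⟨m, m1, m2⟩ := tcm h hp
  obtain ⟨q1, q2⟩ := quot_c h m hb
  obtain ⟨c, hc, e⟩ := f.mem_V.1 ((h.ker _ (mul_mem m (inv_mem hb))).2
    ⟨by rw [q1, m1, p2, add_self σ], by rw [q2, m2, h0, add_zero]⟩)
  obtain ⟨l, hl, rfl⟩ := exists_sqrt hc
  obtain ⟨d, hd, rfl, d2⟩ := h.surj l 0 hl (map_zero σ)
  refine ⟨p * d, mul_mem hp hd, ?_⟩
  have c1 := mem_cH.1 (YV h (PY h hp)) _ (f.vv_mem (y d ^ 2))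
  have c2 := mem_cH.1 (YV h (PY h hb)) _ (f.vv_mem (y d ^ 2))
  calc _ = t * p * t * (t⁻¹ * d * t) * d⁻¹ * p⁻¹ := by group
    _ = t * p * t * p⁻¹ * (p * (d * d)⁻¹ * p⁻¹) := by rw [ti h, h.inv d hd d2]; group
    _ = t * p * t * p⁻¹ * b⁻¹ * (b * f.vv (y d ^ 2)) := by
      rw [sqB h hd d2, inv_eq_of_mul_eq_one_left (f.V_sq (f.vv_mem _)), ← c1]; group
    _ = b := by rw [← e, ← c2, ← mul_assoc, f.V_sq (f.vv_mem _), one_mul]

theorem invT (ha : t * a ∈ YY f P) (a2 : a * a = 1) : ∃ p ∈ P, p * t * p⁻¹ = a := by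
  obtain ⟨x, hx, u, e⟩ := (memY h).1 ha
  have ea : a = t * (x * f.j u) := by rw [e, ← mul_assoc, t2 h, one_mul]
  have c := Tt h (f.jT u)
  have e1 : t * x * t * x * (f.j u * f.j u) = 1 := by
    calc _ = t * x * t * (x * f.j u) * f.j u := by group
      _ = t * x * (t * f.j u) * x * f.j u := by rw [pq h hx]; group
      _ = a * a := by rw [← c, ea]; group
      _ = 1 := a2
  have m := mul_mem (tP h hx) hx
  have mV : t * x * t * x ∈ f.V := by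
    rw [eq_inv_of_mul_eq_one_left e1, f.j_sq]; exact inv_mem (f.vv_mem _)
  have h0 : ξ x = 0 := by
    have := ((h.ker _ m).1 mV).1
    rw [h.y_mul _ (tP h hx) x hx, h.ty x hx] at this
    linear_combination this - y x * two σ
  rw [h.inv x hx h0, inv_mul_cancel, one_mul, f.j_sq] at e1
  have uV := f.j_mem_V.2 (nm_eq_zero.1 (vv_eq_one (nm_fixed _) e1))
  obtain ⟨p, hp, e2⟩ := exB h (mul_mem hx (h.VP uV)) (by
    rw [h.ξ_mul x hx _ (h.VP uV), h0, ((h.ker _ (h.VP uV)).1 uV).2, add_zero])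
  exact ⟨p, hp, by rw [ea, ← e2, ← mul_assoc, ← mul_assoc, ← mul_assoc, t2 h, one_mul]⟩

theorem cardP : f.q ^ 3 ≤ Nat.card P := by
  choose x hx h1 h2 using fun a b : KK σ => h.surj a b a.2 b.2
  have := Nat.card_le_card_of_injective (fun w : KK σ × KK σ × f.V =>
    (⟨x w.1 w.2.1 * w.2.2, mul_mem (hx _ _) (h.VP w.2.2.2)⟩ : P)) (by
    rintro ⟨a, b, v⟩ ⟨a', b', v'⟩ e
    have e : x a b * v = x a' b' * v' := congrArg Subtype.val e
    have e1 := congrArg y e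
    have e2 := congrArg ξ e
    rw [h.y_mul _ (hx _ _) _ (h.VP v.2), h.y_mul _ (hx _ _) _ (h.VP v'.2), h1, h1, ((h.ker _ (h.VP v.2)).1 v.2).1,
      ((h.ker _ (h.VP v'.2)).1 v'.2).1, add_zero, add_zero] at e1
    rw [h.ξ_mul _ (hx _ _) _ (h.VP v.2), h.ξ_mul _ (hx _ _) _ (h.VP v'.2), h2, h2, ((h.ker _ (h.VP v.2)).1 v.2).2,
      ((h.ker _ (h.VP v'.2)).1 v'.2).2, add_zero, add_zero] at e2
    obtain rfl := Subtype.ext e1
    obtain rfl := Subtype.ext e2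
    rw [Subtype.ext (mul_left_cancel e)])
  rw [Nat.card_prod, Nat.card_prod, f.card_K, f.card_V] at this
  exact le_of_eq_of_le (by ring) this

theorem notY (hs : f.TC s) : s ∉ YY f P := fun e => by
  have c1 := csup (A := P) (B := f.Q) (h.cQ.trans c_le_n)
  have c2 := cle (A := P ⊓ f.Q) (B := f.V) fun x hx => by
    obtain ⟨u, rfl⟩ := hx.2
    exact f.j_mem_V.2 ((mulV h (inv_mem hx.1)).1 (by rw [inv_mul_cancel]; exact one_mem _)).2
  have c3 := cnt_c (Y := YY f P) (L := f.V) (e := s) fun a ha => cmY h ha e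
  have c4 := cardP h
  have c5 := f.four_le
  have c6 := f.card_T1
  rw [f.inv_iff.2 ⟨t, h.toInv⟩] at c6
  rw [f.card_Q] at c1
  rw [f.card_V] at c2 c3
  have c7 : f.q ^ 4 ≤ Nat.card ↥(YY f P ⊓ centralizer {s}) := by
    refine Nat.le_of_mul_le_mul_left (c := f.q * f.q) ?_ (by positivity)
    calc _ = f.q ^ 3 * f.q ^ 3 := by ring
      _ ≤ Nat.card ↥(YY f P) * f.q := by
        refine le_trans (Nat.mul_le_mul_right _ c4) (c1 ▸ Nat.mul_le_mul_left _ c2)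
      _ ≤ _ := by nlinarith
  have c8 : 2 * f.q ^ 3 < f.q ^ 4 := by
    rw [pow_succ _ 3, mul_comm 2]; exact Nat.mul_lt_mul_of_pos_left (by omega) (by positivity)
  obtain ⟨g, -, -, -, -, e1, -⟩ := f.lemL hs (X := YY f P ⊓ centralizer {s})
    ((Rpg h).to_le (inf_le_left.trans (YR h))) inf_le_right (inf_le_left.trans (YV h)) (by omega)
    fun a ha b hb => cmY h ha.1 hb.1
  rw [← e1, card_cj] at c7
  omega

theorem split (aP : a ∈ normalizer (P : Set G)) (aQ : a ∈ normalizer (f.Q : Set G)) (hx : x ∈ P) (u : US σ) :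
    a * (x * f.j u) * a⁻¹ * (x * f.j u)⁻¹ = a * x * a⁻¹ * x⁻¹ * f.j (f.aut a u * u⁻¹) := by
  calc _ = a * x * a⁻¹ * (a * f.j u * a⁻¹ * (f.j u)⁻¹ * x⁻¹) := by group
    _ = _ := by rw [f.conj_j aQ, ← map_inv, ← map_mul, ← pq h (inv_mem hx)]; group

theorem splitV (ha : a ∈ RR f P) (hx : x ∈ P) {u : US σ} (e : a * (x * f.j u) * a⁻¹ * (x * f.j u)⁻¹ ∈ f.V) :
    a * x * a⁻¹ * x⁻¹ ∈ f.V ∧ f.cc a * f.tt a u.a = u.a := by
  rw [split h (RNP h ha) (RNQ h ha) hx, mulV h (mul_mem (conj_mem' (RNP h ha) hx) (inv_mem hx)), mul_a, f.aut_a] at e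
  exact ⟨e.1, add_neg_eq_zero.1 e.2⟩

theorem TvY (ha : a ∈ YY f P) : Tv f P a := fun _ hx => cmY h ha (PY h hx)

theorem Tv_mul (ha : a ∈ RR f P) (h1 : Tv f P a) (h2 : Tv f P b) : Tv f P (a * b) := fun x hx => by
  rw [show a * b * x * (a * b)⁻¹ * x⁻¹ = a * (b * x * b⁻¹ * x⁻¹) * a⁻¹ * (a * x * a⁻¹ * x⁻¹) by group]
  exact mul_mem (conj_mem' (RNV h ha) (h2 x hx)) (h1 x hx)

theorem Tv_inv (ha : a ∈ RR f P) (h1 : Tv f P a) : Tv f P a⁻¹ := fun x hx => by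
  rw [show a⁻¹ * x * a⁻¹⁻¹ * x⁻¹ = a⁻¹ * (a * x * a⁻¹ * x⁻¹)⁻¹ * a by group]
  exact conj_mem'' (RNV h ha) (inv_mem (h1 x hx))

theorem tact (h1 : Tv f P (t * a)) (hx : x ∈ P) : ∃ v ∈ f.V, a * x * a⁻¹ * x⁻¹ = v * (t * x * t * x⁻¹) :=
  ⟨_, conj_mem' (RNV h (tR h)) (h1 x hx), by
    calc _ = t * t * a * x * a⁻¹ * x⁻¹ := by rw [t2 h, one_mul]
      _ = t * t * a * x * a⁻¹ * t⁻¹ * x⁻¹ * x * (t * x⁻¹) := by group
      _ = _ := by group⟩

theorem tact_c (h1 : Tv f P (t * a)) (hx : x ∈ P) :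
    y (a * x * a⁻¹ * x⁻¹) = ξ x ∧ ξ (a * x * a⁻¹ * x⁻¹) = 0 := by
  obtain ⟨v, hv, e⟩ := tact h h1 hx
  obtain ⟨m, m1, m2⟩ := tcm h hx
  obtain ⟨v1, v2⟩ := (h.ker v (h.VP hv)).1 hv
  rw [e, h.y_mul v (h.VP hv) _ m, h.ξ_mul v (h.VP hv) _ m, v1, v2, m1, m2]
  simp

theorem tact_zero (h1 : Tv f P (t * a)) (hx : x ∈ P) (e : a * x * a⁻¹ * x⁻¹ ∈ f.V) : ξ x = 0 :=
  (tact_c h h1 hx).1.symm.trans ((h.ker _ (h.VP e)).1 e).1

theorem not_both (h1 : Tv f P (t * a)) (h2 : Tv f P a) : False := by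
  obtain ⟨x, hx, -, e⟩ := h.surj 0 1 (map_zero σ) (map_one σ)
  exact one_ne_zero (e.symm.trans (tact_zero h h1 hx (h2 x hx)))

theorem cc_one (ha : a ∈ RR f P) (h1 : f.tt a = 1) : f.cc a = 1 := by
  obtain ⟨k, hk⟩ := Rpg h ⟨a, ha⟩
  exact f.cc_eq_one (RNQ h ha) ⟨k, congrArg Subtype.val hk⟩ h1

theorem sigV (ha : a ∈ RR f P) (h1 : f.tt a = sigAut σ) : nm σ (f.cc a) = 1 ∧ a ∈ centralizer (f.V : Set G) :=
  f.nm_cc_of_sig (RNQ h ha) h1 (cc_one h (mul_mem ha ha) (by rw [f.tt_mul (RNQ h ha) (RNQ h ha), h1, sig_sig]))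

theorem tt_div (ha : a ∈ RR f P) (hb : b ∈ RR f P) (e : f.tt a = f.tt b) : f.tt (a⁻¹ * b) = 1 := by
  rw [f.tt_mul (inv_mem (RNQ h ha)) (RNQ h hb), f.tt_inv (RNQ h ha), e, inv_mul_cancel]

theorem cc_eq (ha : a ∈ RR f P) (hb : b ∈ RR f P) (e : f.tt a = f.tt b) : f.cc a = f.cc b := by
  have m := mul_mem (inv_mem ha) hb
  have := f.cc_mul (RNQ h ha) (RNQ h m)
  rw [mul_inv_cancel_left, cc_one h m (tt_div h ha hb e), map_one, mul_one] at this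
  exact this.symm

theorem dich (ha : a ∈ RR f P) (h1 : f.tt a = sigAut σ) : Tv f P a ∨ Tv f P (t * a) := by
  have aV := mem_cH.1 (sigV h ha h1).2
  have cj : ∀ x ∈ P, a * x * a⁻¹ ∈ P := fun x hx => conj_mem' (RNP h ha) hx
  have cv : ∀ c, a * f.vv c * a⁻¹ = f.vv c := fun c => by rw [← aV _ (f.vv_mem c), mul_inv_cancel_right]
  have sq : ∀ x ∈ P, y (a * x * a⁻¹) ^ 2 + y (a * x * a⁻¹) * ξ (a * x * a⁻¹) + κ * ξ (a * x * a⁻¹) ^ 2 =
      y x ^ 2 + y x * ξ x + κ * ξ x ^ 2 := fun x hx => by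
    have K : ∀ x ∈ P, σ (y x ^ 2 + y x * ξ x + κ * ξ x ^ 2) = y x ^ 2 + y x * ξ x + κ * ξ x ^ 2 := fun x hx => by
      simp only [map_add, map_mul, map_pow, h.yK x hx, h.ξK x hx, h.κK]
    refine f.vv_inj (K _ (cj x hx)) (K x hx) ?_
    rw [← h.sq _ (cj x hx), ← cv, ← h.sq x hx]; group
  obtain ⟨b, hb, b1, b0⟩ := h.surj 1 0 (map_one σ) (map_zero σ)
  have b2 : ξ (a * b * a⁻¹) = 0 := by
    have tv : Tv f P (t * (a⁻¹ * t * a)) := TvY h (by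
      have := cmR h (tR h) (inv_mem ha)
      rwa [ti h, inv_inv, mul_assoc t, mul_assoc t] at this)
    have m := conj_mem' (RNP h (mul_mem (mul_mem (inv_mem ha) (tR h)) ha)) hb
    obtain ⟨c1, c2⟩ := tact_c h tv hb
    have mV := conj_mem' (RNV h ha) ((h.ker _ (mul_mem m (inv_mem hb))).2 ⟨c1.trans b0, c2⟩)
    exact tact_zero h (a := t) (by rw [t2 h]; exact TvY h (one_mem _)) (cj b hb) (by
      rwa [show a * (a⁻¹ * t * a * b * (a⁻¹ * t * a)⁻¹ * b⁻¹) * a⁻¹ = t * (a * b * a⁻¹) * t⁻¹ * (a * b * a⁻¹)⁻¹ by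
        group] at mV)
  have b3 : y (a * b * a⁻¹) = 1 := by
    have := sq b hb
    rw [b2, b1, b0] at this
    have e : (y (a * b * a⁻¹) + 1) ^ 2 = 0 := by linear_combination this + (y (a * b * a⁻¹) + 1) * two σ
    linear_combination (pow_eq_zero_iff two_ne_zero).1 e - two σ
  have xi : ∀ x ∈ P, ξ (a * x * a⁻¹) = ξ x := fun x hx => by
    have e1 := h.cm b hb x hx
    have e2 := h.cm _ (cj b hb) _ (cj x hx)
    rw [← X4.conj_cm, e1, cv, b1, b0, b2, b3] at e2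
    simp only [one_mul, mul_zero, add_zero] at e2
    exact (f.vv_inj (h.ξK x hx) (h.ξK _ (cj x hx)) e2).symm
  have d : ∀ x ∈ P, y (a * x * a⁻¹) = y x ∨ y (a * x * a⁻¹) = y x + ξ x := fun x hx => by
    have := sq x hx
    rw [xi x hx] at this
    have e : (y (a * x * a⁻¹) - y x) * (y (a * x * a⁻¹) - (y x + ξ x)) = 0 := by
      linear_combination this + (y x ^ 2 + y x * ξ x - y x * y (a * x * a⁻¹) - y (a * x * a⁻¹) * ξ x) * two σ
    exact (mul_eq_zero.1 e).imp sub_eq_zero.1 sub_eq_zero.1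
  by_cases hc : ∀ x ∈ P, y (a * x * a⁻¹) = y x
  · refine Or.inl fun x hx => (h.ker _ (mul_mem (cj x hx) (inv_mem hx))).2 ?_
    obtain ⟨q1, q2⟩ := quot_c h (cj x hx) hx
    rw [q1, q2, hc x hx, xi x hx]
    exact ⟨add_self σ _, add_self σ _⟩
  push Not at hc
  obtain ⟨p, hp, p1⟩ := hc
  have p2 := (d p hp).resolve_left p1
  refine Or.inr fun x hx => ?_
  have e : y (a * x * a⁻¹) = y x + ξ x := by
    refine (d x hx).elim (fun e => ?_) id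
    have := d _ (mul_mem hp hx)
    rw [show a * (p * x) * a⁻¹ = a * p * a⁻¹ * (a * x * a⁻¹) by group, h.y_mul _ (cj p hp) _ (cj x hx), h.y_mul p hp x hx,
      h.ξ_mul p hp x hx, p2, e] at this
    rcases this with e1 | e1
    · exact absurd (by linear_combination p2 + e1) p1
    · linear_combination e + e1
  rw [show t * a * x * (t * a)⁻¹ * x⁻¹ = t * (a * x * a⁻¹) * t⁻¹ * x⁻¹ by group, ti h]
  obtain ⟨q1, q2⟩ := quot_c h (tP h (cj x hx)) hx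
  refine (h.ker _ (mul_mem (tP h (cj x hx)) (inv_mem hx))).2 ?_
  rw [q1, q2, h.ty _ (cj x hx), h.tξ _ (cj x hx), e, xi x hx]
  exact ⟨by linear_combination (y x + ξ x) * two σ, add_self σ _⟩

theorem Rt_div (ha : Rt f P a) (hb : Rt f P b) : a⁻¹ * b ∈ YY f P :=
  (kerR h (mul_mem (inv_mem ha.1) hb.1) (tt_div h ha.1 hb.1 (ha.2.1.trans hb.2.1.symm))).resolve_right fun e =>
    not_both h (TvY h e) (Tv_mul h (inv_mem ha.1) (Tv_inv h ha.1 ha.2.2) hb.2.2)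

theorem Rt_mul (ha : Rt f P a) (hb : b ∈ YY f P) : Rt f P (a * b) :=
  ⟨mul_mem ha.1 (YR h hb), by rw [f.tt_mul (RNQ h ha.1) (RNQ h (YR h hb)), (ctY h hb).2, mul_one, ha.2.1],
    Tv_mul h ha.1 ha.2.2 (TvY h hb)⟩

theorem types (ha : a ∈ RR f P) (h1 : f.tt a = 1 ∨ f.tt a = sigAut σ) :
    a ∈ YY f P ∨ t * a ∈ YY f P ∨ Rt f P a ∨ Rt f P (t * a) := by
  rcases h1 with e | e
  · exact (kerR h ha e).imp_right Or.inl
  · exact Or.inr (Or.inr ((dich h ha e).imp (fun k => ⟨ha, e, k⟩) fun k => ⟨mul_mem (tR h) ha, (ttt h ha).trans e, k⟩))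

theorem types' (ha : a ∈ RR f P) (h1 : a * a ∈ YY f P) :
    a ∈ YY f P ∨ t * a ∈ YY f P ∨ Rt f P a ∨ Rt f P (t * a) :=
  types h ha (f.tt_cases (RNQ h ha) (ctY h h1).2)

theorem commBW {c : F} (hc : c ≠ 0) (ha : a ∈ P) (hb : b ∈ P) (a0 : ξ a = 0) (b0 : ξ b = 0) {u w : US σ}
    (hu : c * σ u.a = u.a) (hw : c * σ w.a = w.a) : a * f.j u * (b * f.j w) = b * f.j w * (a * f.j u) := by
  have := cmYe h ha hb u w
  rw [a0, b0, bl_fix hc hu hw, mul_zero, mul_zero, add_zero, add_zero, f.vv_zero, mul_inv_eq_one,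
    mul_inv_eq_iff_eq_mul] at this
  exact this

theorem rk (hs : f.TC s) (sV : s ∈ centralizer (f.V : Set G)) {c : F} (hc : c ≠ 0)
    (H : ∀ l, σ l = l → ∃ b ∈ P, ∃ w : US σ, ξ b = 0 ∧ y b = l ∧ c * σ w.a = w.a ∧
      b * f.j w * (b * f.j w) = 1 ∧ b * f.j w * s = s * (b * f.j w)) : False := by
  obtain ⟨l, l1, l0, l2, -⟩ := f.exists_K 1 1
  obtain ⟨a, ha, u, a0, a1, a2, a3, a4⟩ := H 1 (map_one σ)
  obtain ⟨b, hb, w, b0, b1, b2, b3, b4⟩ := H l l1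
  have ab := commBW h hc ha hb a0 b0 a2 b2
  have aY := mul_mem (PY h ha) (jY h u)
  have bY := mul_mem (PY h hb) (jY h w)
  have mem : ∀ g, g * g = 1 → g * s = s * g → g * (a * f.j u) = a * f.j u * g → g * (b * f.j w) = b * f.j w * g →
      g ∈ centralizer (f.V : Set G) → (∀ d ∈ centralizer {s} ⊓ centralizer {a * f.j u} ⊓ centralizer {b * f.j w} ⊓
        centralizer (f.V : Set G), d * g = g * d) → g ∈ omZ (centralizer {s} ⊓ centralizer {a * f.j u} ⊓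
          centralizer {b * f.j w} ⊓ centralizer (f.V : Set G)) := fun g g2 g1 g3 g4 g5 g6 =>
    ⟨⟨⟨⟨mem_c1.2 g1, mem_c1.2 g3⟩, mem_c1.2 g4⟩, g5⟩, g2, g6⟩
  have c1 := f.rank_le hs (X := omZ (centralizer {s} ⊓ centralizer {a * f.j u} ⊓ centralizer {b * f.j w} ⊓
    centralizer (f.V : Set G))) (fun x hx => hx.2.1) fun x hx => hx.1.1.1.1
  have c2 := clt (inf_le_left (b := YY f P)) (mem s (TC_sq hs) rfl a4.symm b4.symm sV fun d hd => mem_c1.1 hd.1.1.1)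
    fun e => notY h hs e.2
  have c3 := four_card (V := f.V) (X := omZ (centralizer {s} ⊓ centralizer {a * f.j u} ⊓ centralizer {b * f.j w} ⊓
      centralizer (f.V : Set G)) ⊓ YY f P) (fun v hv => ⟨mem v (f.V_sq hv) (mem_cH.1 sV v hv) (mem_cH.1 (YV h aY) v hv)
      (mem_cH.1 (YV h bY) v hv) (YV h (VY h hv)) fun d hd => (mem_cH.1 hd.2 v hv).symm, VY h hv⟩)
    ⟨mem _ a3 a4 rfl ab (YV h aY) fun d hd => mem_c1.1 hd.1.1.2, aY⟩
    ⟨mem _ b3 b4 ab.symm rfl (YV h bY) fun d hd => mem_c1.1 hd.1.2, bY⟩ (RNV h (YR h aY)) a3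
    (fun e => one_ne_zero (a1.symm.trans ((h.ker a ha).1 ((mulV h ha).1 e).1).1))
    (fun e => l0 (b1.symm.trans ((h.ker b hb).1 ((mulV h hb).1 e).1).1)) fun e => by
      rw [show a * f.j u * (b * f.j w) = a * (f.j u * b) * f.j w by group, ← pq h hb,
        show a * (b * f.j u) * f.j w = a * b * (f.j u * f.j w) by group, ← map_mul, mulV h (mul_mem ha hb)] at e
      have := ((h.ker _ (mul_mem ha hb)).1 e.1).1
      rw [h.y_mul a ha b hb, a1, b1] at this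
      exact l2 (by linear_combination this - two σ)
  have := f.four_le
  rw [f.inv_iff.2 ⟨t, h.toInv⟩] at c1
  rw [f.card_V] at c3
  omega

omit h in
theorem inv_comm (s2 : s * s = 1) (z2 : s * a * s⁻¹ * a⁻¹ * (s * a * s⁻¹ * a⁻¹) = 1) :
    s * a * s⁻¹ * a⁻¹ * s = s * (s * a * s⁻¹ * a⁻¹) := by
  have si : s⁻¹ = s := inv_eq_of_mul_eq_one_left s2
  calc _ = (s * a * s⁻¹ * a⁻¹)⁻¹ * s := by rw [inv_eq_of_mul_eq_one_left z2]
    _ = a * s * a⁻¹ := by group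
    _ = s * s * a * s * a⁻¹ := by rw [s2, one_mul]
    _ = _ := by rw [si]; group

theorem notTR (hs : f.TC s) (h1 : Rt f P (t * s)) : False := by
  have sR : s ∈ RR f P := (mul_mem_cancel_left (tR h)).1 h1.1
  have st := (ttt h sR).symm.trans h1.2.1
  obtain ⟨n1, sV⟩ := sigV h sR st
  obtain ⟨a₀, a0, f1, f2⟩ := exists_fix n1
  refine rk h hs sV (f.cc_ne s) fun l hl => ?_
  obtain ⟨m, hm, m2⟩ := exists_sqrt (σ := σ) (x := l ^ 2 / nm σ a₀) (by rw [map_div₀, map_pow, hl, nm_fixed])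
  have fx := (f1 (m * a₀)).2 ⟨m, hm, rfl⟩
  obtain ⟨β, hβ⟩ := f2 _ fx
  obtain ⟨u, rfl⟩ := exists_a (σ := σ) β
  obtain ⟨x, hx, -, rfl⟩ := h.surj 0 l (map_zero σ) hl
  obtain ⟨c1, c2⟩ := tact_c h h1.2.2 hx
  have mP := mul_mem (conj_mem' (RNP h sR) hx) (inv_mem hx)
  have e : (f.aut s u * u⁻¹).a = m * a₀ := by
    rw [mul_a, f.aut_a, st, sigAut_apply, ← hβ, inv_a]; linear_combination -u.a * two σ
  have z2 : s * x * s⁻¹ * x⁻¹ * f.j (f.aut s u * u⁻¹) * (s * x * s⁻¹ * x⁻¹ * f.j (f.aut s u * u⁻¹)) = 1 := by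
    rw [sqYe h mP, sqB h mP c2, f.j_sq, c1, e, show nm σ (m * a₀) = ξ x ^ 2 by
      rw [← div_mul_cancel₀ (ξ x ^ 2) (mt (nm_eq_zero (σ := σ)).1 a0), ← m2]; simp only [nm, map_mul, hm]; ring]
    exact f.V_sq (f.vv_mem _)
  refine ⟨_, mP, _, c2, c1, by rw [e, fx], z2, ?_⟩
  rw [← split h (RNP h sR) (RNQ h sR) hx] at z2 ⊢
  exact inv_comm (TC_sq hs) z2

theorem TCR (hs : f.TC s) (hR : s ∈ RR f P) : t * s ∈ YY f P ∨ Rt f P s := by
  rcases types' h hR (TC_sq hs ▸ one_mem _) with e | e | e | e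
  exacts [absurd e (notY h hs), Or.inl e, Or.inr e, (notTR h hs e).elim]

end X2

end Cfsg.Agent.WA.Lk
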