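import Cfsg.Agent.WA.Lk2b2

/-! Module Lk2b, third part: extremal conjugates of `t`. -/

set_option autoImplicit false
set_option linter.unusedSectionVars false
set_option linter.unusedVariables false

namespace Cfsg.Agent.WA.Lk

open Subgroup Cfsg.Agent.H1.U3 Cfsg.Agent.H8
open Cfsg.Agent.WA.Rw (conj_mem' conj_mem'' norm_of mem_c1 mem_cH)

variable {F : Type*} [Field F] [Finite F] {σ : F →+* F} [Ctx σ] {G : Type*} [Group G] [Finite G]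

namespace X2

open X4 (add_self bl_fix fillK conj_cm)
open Rw (mem_sup' c_le_n)

variable {f : Fr σ G} {t a b g n p r s v x z φ ψ : G} {P S : Subgroup G} {y ξ : G → F} {κ : F}

theorem not_fix (σ : F →+* F) [Ctx σ] (c : F) : ∃ α, c * σ α ≠ α := by
  by_contra hn
  push Not at hn
  obtain ⟨ω, hω⟩ := Ctx.ex (σ := σ)
  have c1 := hn 1
  have c2 := hn ω
  rw [map_one, mul_one] at c1
  rw [c1, one_mul] at c2
  rw [c2, add_self σ] at hω
  exact zero_ne_one hω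

theorem jT1 (u : US σ) : f.j u ∈ f.T1 ∧ f.ta (f.j u) = u.a :=
  ⟨mem_sup_right ⟨u, rfl⟩, by simpa using f.ta_eq (one_mem _) u⟩

theorem fillT {X Good : G → Prop} {K₀ : F → Prop} (mul : ∀ a b, X a → X b → X (a * b))
    (hG : ∀ α, ∃ x ∈ f.T1, f.ta x = α ∧ Good x)
    (idx : ∀ a ∈ f.T1, ∀ b ∈ f.T1, Good a → Good b → ¬ X a → ¬ X b → X (a * b))
    (hK : ∀ a ∈ f.T1, ∀ b ∈ f.T1, X a → X b → K₀ (bl σ (f.ta a) (f.ta b))) {c : F} (hc : σ c = c) : K₀ c := by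
  refine fillK f (L := fun α => ∃ x ∈ f.T1, f.ta x = α ∧ X x) ?_ (fun α β n1 n2 => ?_) ?_ hc
  · rintro _ _ ⟨a, ha, rfl, a1⟩ ⟨b, hb, rfl, b1⟩
    exact ⟨_, mul_mem ha hb, f.ta_mul ha hb, mul a b a1 b1⟩
  · obtain ⟨a, ha, rfl, a1⟩ := hG α
    obtain ⟨b, hb, rfl, b1⟩ := hG β
    exact ⟨_, mul_mem ha hb, f.ta_mul ha hb, idx a ha b hb a1 b1 (fun e => n1 ⟨a, ha, rfl, e⟩) fun e => n2 ⟨b, hb, rfl, e⟩⟩
  · rintro _ _ ⟨a, ha, rfl, a1⟩ ⟨b, hb, rfl, b1⟩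
    exact hK a ha b hb a1 b1

theorem cj_mul' (g a b : G) : g * (a * b) * g⁻¹ = g * a * g⁻¹ * (g * b * g⁻¹) := by group

theorem cj_comm (g : G) (e : a * b = b * a) : g * a * g⁻¹ * (g * b * g⁻¹) = g * b * g⁻¹ * (g * a * g⁻¹) := by
  rw [← cj_mul', e, cj_mul']

variable (h : f.Top t P y ξ κ)
include h

theorem tT1 (ha : a ∈ f.T1) : t * a ∈ f.T1 ∧ f.ta (t * a) = f.ta a := by
  have m : t ∈ f.T1 := mem_sup_left h.tE
  exact ⟨mul_mem m ha, by rw [f.ta_mul m ha, (f.ta_eq_zero m).2 (mem_sup_left h.tE), zero_add]⟩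

theorem V_Y (hG : ∀ α, ∃ x ∈ f.T1, f.ta x = α ∧ g * x * g⁻¹ ∈ RR f P) (hv : v ∈ f.V) : g * v * g⁻¹ ∈ YY f P := by
  obtain ⟨c, hc, rfl⟩ := f.mem_V.1 hv
  obtain ⟨β, rfl⟩ := exists_bl (σ := σ) (one_ne_zero (α := F)) hc
  obtain ⟨a, ha, a1, a2⟩ := hG 1
  obtain ⟨b, hb, rfl, b2⟩ := hG β
  rw [← a1, ← f.ta_cm ha hb, conj_cm]
  exact cmR h a2 b2

theorem V_V {Good : G → Prop} (hG : ∀ α, ∃ x ∈ f.T1, f.ta x = α ∧ Good x)
    (idx : ∀ a ∈ f.T1, ∀ b ∈ f.T1, Good a → Good b → g * a * g⁻¹ ∉ YY f P → g * b * g⁻¹ ∉ YY f P →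
      g * a * g⁻¹ * (g * b * g⁻¹) ∈ YY f P) : g ∈ normalizer (f.V : Set G) := norm_of fun v hv => by
  obtain ⟨c, hc, rfl⟩ := f.mem_V.1 hv
  refine fillT (X := fun a => g * a * g⁻¹ ∈ YY f P) (K₀ := fun c => g * f.vv c * g⁻¹ ∈ f.V)
    (fun a b a1 b1 => cj_mul' g a b ▸ mul_mem a1 b1) hG (fun a ha b hb a1 b1 a2 b2 => ?_) (fun a ha b hb a1 b1 => ?_) hc
  · rw [cj_mul']; exact idx a ha b hb a1 b1 a2 b2
  · rw [← f.ta_cm ha hb, conj_cm]; exact cmY h a1 b1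

theorem s2 (g : G) : g * t * g⁻¹ * (g * t * g⁻¹) = 1 := TC_sq (TC_cj h g)

theorem noab (hs : Rt f P (g * t * g⁻¹)) (hz : z ∈ RR f P) (z1 : Tv f P (t * z)) {X Good : G → Prop}
    (mul : ∀ a b, X a → X b → X (a * b)) (hG : ∀ α, ∃ x ∈ f.T1, f.ta x = α ∧ Good x)
    (idx : ∀ a ∈ f.T1, ∀ b ∈ f.T1, Good a → Good b → ¬ X a → ¬ X b → X (a * b))
    (hX : ∀ a ∈ f.T1, X a → g * a * g⁻¹ ∈ YY f P ∧ z * (g * a * g⁻¹) * z⁻¹ * (g * a * g⁻¹)⁻¹ ∈ f.V) : False := by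
  have key : ∀ a ∈ f.T1, X a → ∃ x ∈ P, ∃ u, ξ x = 0 ∧ f.cc (g * t * g⁻¹) * σ u.a = u.a ∧ x * f.j u = g * a * g⁻¹ :=
    fun a ha a1 => by
    obtain ⟨m, c⟩ := hX a ha a1
    obtain ⟨x, hx, u, e⟩ := (memY h).1 m
    have c2 := cj_comm g (Tt h (f.T1_le_T ha))
    rw [← e] at c c2
    have := (splitV h hs.1 hx (u := u) (by rw [← c2, mul_inv_cancel_right, mul_inv_cancel]; exact one_mem _)).2
    rw [hs.2.1, sigAut_apply] at this
    exact ⟨x, hx, u, tact_zero h z1 hx (splitV h hz hx c).1, this, e⟩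
  refine one_ne_zero (fillT (K₀ := fun c => c = 0) mul hG idx (fun a ha b hb a1 b1 => ?_) (map_one σ))
  obtain ⟨x, hx, u, x0, u0, e1⟩ := key a ha a1
  obtain ⟨x', hx', w, x1, w0, e2⟩ := key b hb b1
  have := commBW h (f.cc_ne _) hx hx' x0 x1 u0 w0
  rw [e1, e2, ← cj_mul', ← cj_mul', mul_left_inj, mul_right_inj] at this
  refine vv_eq_one (f := f) (bl_fixed _ _) ?_
  rw [← f.ta_cm ha hb, this]; group

section
variable (hT : ∀ a ∈ f.T1, g * a * g⁻¹ ∈ RR f P) (hs : Rt f P (g * t * g⁻¹))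
include hT hs

theorem ext_tt (ha : a ∈ f.T1) : f.tt (g * a * g⁻¹) = 1 ∨ f.tt (g * (t * a) * g⁻¹) = 1 := by
  have m := V_Y h (g := g) (fun α => let ⟨u, e⟩ := exists_a (σ := σ) α
    ⟨_, (jT1 u).1, (jT1 u).2.trans e, hT _ (jT1 u).1⟩) (f.sq_mem_V ha)
  rw [cj_mul'] at m
  refine (f.tt_cases (RNQ h (hT a ha)) (ctY h m).2).imp_right fun e => ?_
  rw [cj_mul', f.tt_mul (RNQ h hs.1) (RNQ h (hT a ha)), hs.2.1, e, sig_sig]

theorem ext_good (α : F) : ∃ x ∈ f.T1, f.ta x = α ∧ f.tt (g * x * g⁻¹) = 1 := by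
  obtain ⟨u, rfl⟩ := exists_a (σ := σ) α
  obtain ⟨m, e⟩ := jT1 (f := f) u
  rcases ext_tt h hT hs m with c | c
  exacts [⟨_, m, e, c⟩, ⟨_, (tT1 h m).1, (tT1 h m).2.trans e, c⟩]

theorem ext_idx (ha : a ∈ f.T1) (hb : b ∈ f.T1) (a1 : f.tt (g * a * g⁻¹) = 1) (b1 : f.tt (g * b * g⁻¹) = 1)
    (a2 : g * a * g⁻¹ ∉ YY f P) (b2 : g * b * g⁻¹ ∉ YY f P) : g * a * g⁻¹ * (g * b * g⁻¹) ∈ YY f P :=
  mul_tY h ((kerR h (hT a ha) a1).resolve_left a2) ((kerR h (hT b hb) b1).resolve_left b2)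

theorem extV : g ∈ normalizer (f.V : Set G) :=
  V_V h (ext_good h hT hs) fun a ha b hb => ext_idx h hT hs ha hb

theorem extY (ha : a ∈ f.T1) : g * a * g⁻¹ ∈ YY f P ∨ g * t * g⁻¹ * (g * a * g⁻¹) ∈ YY f P := by
  have key : ∀ a ∈ f.T1, f.tt (g * a * g⁻¹) = 1 → g * a * g⁻¹ ∈ YY f P := fun a ha a1 =>
    (kerR h (hT a ha) a1).resolve_right fun e => noab h hs (hT a ha) (TvY h e) (X := fun b => g * b * g⁻¹ ∈ YY f P)
      (fun a b a1 b1 => cj_mul' g a b ▸ mul_mem a1 b1) (ext_good h hT hs)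
      (fun a ha b hb a1 b1 a2 b2 => by rw [cj_mul']; exact ext_idx h hT hs ha hb a1 b1 a2 b2) fun b hb b1 => ⟨b1, by
        rw [← conj_cm, f.ta_cm ha hb]; exact conj_mem' (extV h hT hs) (f.vv_mem _)⟩
  exact (ext_tt h hT hs ha).imp (key a ha) fun e => cj_mul' g t a ▸ key _ (tT1 h ha).1 e

end

theorem cm_s (s2 : s * s = 1) (ca : s * a = a * s) (cb : s * b = b * s) (ha : a ∈ YY f P ∨ s * a ∈ YY f P)
    (hb : b ∈ YY f P ∨ s * b ∈ YY f P) : a * b * a⁻¹ * b⁻¹ ∈ f.V := by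
  have e1 : ∀ a b : G, s * b = b * s → s * a * b * (s * a)⁻¹ * b⁻¹ = s * (a * b * a⁻¹ * b⁻¹) * s⁻¹ := fun a b e => by
    calc _ = s * a * b * a⁻¹ * (b * s)⁻¹ := by group
      _ = _ := by rw [← e]; group
  have e2 : s * (a * b * a⁻¹ * b⁻¹) * s⁻¹ = a * b * a⁻¹ * b⁻¹ := by
    rw [conj_cm, ca, cb, mul_inv_cancel_right, mul_inv_cancel_right]
  have e3 : a * (s * b) * a⁻¹ * (s * b)⁻¹ = a * b * a⁻¹ * b⁻¹ := by
    rw [← e2, ← mul_assoc, ← ca]; group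
  rcases ha with ha | ha <;> rcases hb with hb | hb
  · exact cmY h ha hb
  · exact e3 ▸ cmY h ha hb
  · have := cmY h ha hb
    rwa [e1 a b cb, e2] at this
  · have := cmY h ha hb
    rwa [e1 a (s * b) (by rw [mul_assoc, cb]), e3, e2] at this

theorem sqM (k : Gen f P t φ) (ha : a ∈ RR f P) : a * a ∈ MM f P φ := by
  by_cases e : a ∈ MM f P φ
  exacts [mul_mem e e, idxM h k ha ha e e]

theorem expo (k : Gen f P t φ) (hψ : ψ ∈ f.T) (hb : b ∈ YY f P) (hr : Rt f P (ψ * ψ * b)) (rM : ψ * ψ * b ∈ MM f P φ)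
    (hT : ∀ a ∈ f.T, g * a * g⁻¹ ∈ RR f P) (hs : Rt f P (g * t * g⁻¹)) : False := by
  have hT1 := fun a ha => hT a (f.T1_le_T ha)
  have gV := extV h hT1 hs
  have ψ2 := mul_mem hψ hψ
  have t1 : f.tt (ψ * ψ) = sigAut σ := by
    have := hr.2.1
    rwa [f.tt_mul (f.T_N ψ2) (RNQ h (YR h hb)), (ctY h hb).2, mul_one] at this
  have ηV : g * (ψ * ψ) * g⁻¹ ∈ centralizer (f.V : Set G) :=
    conj_mem' (normalizer_le_normalizer_centralizer _ gV) (sigV h (TR h ψ2) t1).2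
  have ηM : g * (ψ * ψ) * g⁻¹ ∈ MM f P φ := cj_mul' g ψ ψ ▸ sqM h k (hT ψ hψ)
  have ηY : g * (ψ * ψ) * g⁻¹ ∈ YY f P ∨ g * t * g⁻¹ * (g * (ψ * ψ) * g⁻¹) ∈ YY f P := by
    rcases types h (hT _ ψ2) (f.tt_of_cen_V (RNQ h (hT _ ψ2)) ηV).2 with e | e | e | e
    · exact Or.inl e
    · exact absurd ((mul_mem_cancel_right ηM).1 (YM h e)) k.tn
    · exact Or.inr (by simpa [inv_eq_of_mul_eq_one_left (s2 h g)] using Rt_div h hs e)
    · exact absurd ((mul_mem_cancel_right ηM).1 ((mul_mem_cancel_left (inv_mem rM)).1 (YM h (Rt_div h hr e)))) k.tn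
  obtain ⟨α, hα⟩ := not_fix σ (f.cc (ψ * ψ))
  obtain ⟨u, rfl⟩ := exists_a (σ := σ) α
  have := conj_mem'' gV (cm_s h (s2 h g) (cj_comm g (Tt h ψ2).symm) (cj_comm g (Tt h (f.jT u)).symm) ηY
    (extY h hT1 hs (jT1 u).1))
  rw [← conj_cm, show ∀ w, g⁻¹ * (g * w * g⁻¹) * g = w from fun w => by group, ← one_mul (f.j u)] at this
  have := (splitV h (TR h ψ2) (one_mem _) this).2
  rw [t1, sigAut_apply] at this
  exact hα this

theorem NY (hn : n ∈ normalizer (RR f P : Set G)) (hs : Rt f P (n * t * n⁻¹)) : n ∈ normalizer (YY f P : Set G) := by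
  have hT := fun a (ha : a ∈ f.T1) => conj_mem' hn (TR h (f.T1_le_T ha))
  have nV := extV h hT hs
  have back : ∀ v, n * v * n⁻¹ ∈ f.V → v ∈ f.V := fun v e => by simpa [mul_assoc] using conj_mem'' nV e
  have si := inv_eq_of_mul_eq_one_left (s2 h n)
  have hP : ∀ p ∈ P, n * p * n⁻¹ ∈ YY f P := fun p hp => by
    have m := conj_mem' hn (YR h (PY h hp))
    have no : ¬ Tv f P (t * (n * p * n⁻¹)) := fun e => noab h hs m e
      (X := fun a => a ∈ f.Q ∧ n * a * n⁻¹ ∈ YY f P) (Good := fun a => a ∈ f.Q)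
      (fun a b a1 b1 => ⟨mul_mem a1.1 b1.1, cj_mul' n a b ▸ mul_mem a1.2 b1.2⟩)
      (fun α => let ⟨u, e⟩ := exists_a (σ := σ) α; ⟨_, (jT1 u).1, (jT1 u).2.trans e, u, rfl⟩)
      (fun a ha b hb a1 b1 a2 b2 => ⟨mul_mem a1 b1, by
        have := mul_mem (conj_mem' (RNY h hs.1) ((extY h hT hs ha).resolve_left fun e => a2 ⟨a1, e⟩))
          ((extY h hT hs hb).resolve_left fun e => b2 ⟨b1, e⟩)
        rwa [show ∀ s a b : G, s * (s * a) * s⁻¹ * (s * b) = s * s * (a * b) from fun s a b => by group, s2 h, one_mul,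
          ← cj_mul'] at this⟩) fun a ha a1 => ⟨a1.2, by
        rw [← conj_cm, ← mem_cH.1 (h.cQ hp) a a1.1]; simp⟩
    rcases types h m (f.tt_of_cen_V (RNQ h m) (conj_mem' (normalizer_le_normalizer_centralizer _ nV)
      (YV h (PY h hp)))).2 with e | e | e | e
    · exact e
    · exact absurd (TvY h e) no
    · have mY := Rt_div h hs e
      rw [si] at mY
      have c := back _ (by rw [cj_mul' n (t * p), cj_mul' n t p]; exact sqY h mY : n * (t * p * (t * p)) * n⁻¹ ∈ f.V)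
      have p0 : ξ p = 0 := by
        have := (mul_mem_cancel_right (inv_mem (sqY h (PY h hp)))).2 c
        refine tact_zero h (a := t) (by rw [t2 h]; exact TvY h (one_mem _)) hp ?_
        rwa [ti h, show t * p * t * p⁻¹ = t * p * (t * p) * (p * p)⁻¹ by group]
      obtain ⟨d, hd, rfl⟩ := exB h hp p0
      have := cmR h hs.1 (conj_mem' hn (YR h (PY h hd)))
      rwa [← conj_cm, ti h] at this
    · exact absurd e.2.2 no
  refine norm_of fun a ha => ?_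
  obtain ⟨p, hp, u, rfl⟩ := (memY h).1 ha
  rw [cj_mul']
  refine mul_mem (hP p hp) ((extY h hT hs (jT1 u).1).resolve_right fun e => ?_)
  refine not_both h (a := t) (by rw [t2 h]; exact TvY h (one_mem _)) fun x hx => back _ ?_
  have := cmY h e (hP x hx)
  rw [← cj_mul', ← conj_cm] at this
  rwa [show t * f.j u * x * (t * f.j u)⁻¹ * x⁻¹ = t * (f.j u * x) * (t * f.j u)⁻¹ * x⁻¹ by group, ← pq h hx,
    show t * (x * f.j u) * (t * f.j u)⁻¹ * x⁻¹ = t * x * t⁻¹ * x⁻¹ by group] at this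

section
variable (hg : g ∈ normalizer (RR f P : Set G)) (hs : Rt f P (g * t * g⁻¹))
include hg hs

theorem sw_t (ha : t * a ∈ YY f P) : Rt f P (g * a * g⁻¹) := by
  have := Rt_mul h hs (conj_mem' (NY h hg hs) ha)
  rwa [← cj_mul', ← mul_assoc t, t2 h, one_mul] at this

theorem sw_r (ha : Rt f P a) : ¬ Rt f P (g * a * g⁻¹) := fun e => by
  have := conj_mem'' (NY h hg hs) (Rt_div h hs e)
  rw [show g⁻¹ * ((g * t * g⁻¹)⁻¹ * (g * a * g⁻¹)) * g = t⁻¹ * a by group, ti h] at this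
  exact sig_ne (ha.2.1.symm.trans ((ttt h ha.1).symm.trans (ctY h this).2))

theorem sw_fix (ha : a ∈ RR f P) (h1 : f.tt a = 1 ∨ f.tt a = sigAut σ) (hb : b ∈ YY f P) (e : g * a * g⁻¹ = a * b) :
    a ∈ YY f P ∨ Rt f P (t * a) := by
  rcases types h ha h1 with c | c | c | c
  · exact Or.inl c
  · have := (sw_t h hg hs c).2.1
    rw [e, f.tt_mul (RNQ h ha) (RNQ h (YR h hb)), (ctY h hb).2, mul_one, ← ttt h ha, (ctY h c).2] at this
    exact absurd this.symm sig_ne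
  · exact absurd (e ▸ Rt_mul h c hb) (sw_r h hg hs c)
  · exact Or.inr c

theorem sw_B (hb : b ∈ P) (b0 : ξ b = 0) : ∃ w, f.cc (g * t * g⁻¹) * σ w.a = w.a ∧ g * b * g⁻¹ = f.j w := by
  obtain ⟨d, hd, rfl⟩ := exB h hb b0
  obtain ⟨x, hx, u, e⟩ := (memY h).1 (conj_mem' (NY h hg hs) (PY h hd))
  have c := split h (RNP h hs.1) (RNQ h hs.1) hx u
  obtain ⟨w, hw⟩ := f.V_le_Q (hs.2.2 x hx)
  have w0 := f.j_mem_V.1 (hw ▸ hs.2.2 x hx)
  rw [e, ← conj_cm, ti h, ← hw, ← map_mul] at c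
  refine ⟨_, ?_, c⟩
  have n1 := (sigV h hs.1 hs.2.1).1
  rw [mul_a, mul_a, w0, f.aut_a, hs.2.1, sigAut_apply, inv_a]
  simp only [map_add, map_zero, map_mul, map_neg, invol]
  unfold nm at n1
  linear_combination u.a * n1 + (u.a - f.cc (g * t * g⁻¹) * σ u.a) * two σ

theorem sw_notTC (h1 : f.TC g) (gV : g ∈ centralizer (f.V : Set G)) : False := by
  refine rk h h1 gV (f.cc_ne (g * t * g⁻¹)) fun l hl => ?_
  obtain ⟨b, hb, rfl, b0⟩ := h.surj l 0 hl (map_zero σ)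
  obtain ⟨w, w0, e⟩ := sw_B h hg hs hb b0
  have z2 : b⁻¹ * f.j w * (b⁻¹ * f.j w) = 1 := by
    rw [sqYe h (inv_mem hb), ← e, ← cj_mul', ← mem_cH.1 gV _ (sqY h (PY h hb))]; group
  refine ⟨_, inv_mem hb, w, (inv_c h hb).2.trans b0, (inv_c h hb).1, w0, z2, ?_⟩
  rw [pq h (inv_mem hb), ← e] at z2 ⊢
  exact inv_comm (TC_sq h1) z2

theorem sw_tt (ha : a ∈ RR f P) : f.tt (g * a * g⁻¹ * a⁻¹) = 1 ∨ f.tt (g * a * g⁻¹ * a⁻¹) = sigAut σ := by
  have gV := extV h (fun a ha => conj_mem' hg (TR h (f.T1_le_T ha))) hs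
  choose Γ Γ1 Γ2 using fun c => f.mem_V.1 (conj_mem' gV (f.vv_mem c))
  obtain ⟨a₀, a0, f1, -⟩ := exists_fix (sigV h hs.1 hs.2.1).1
  have iso : ∀ c, σ c = c → ∃ l, ∀ x ∈ P, ∀ x' ∈ P, ∀ u, x' * f.j u = g * x * g⁻¹ → Γ (c * ξ x) = l * bl σ a₀ u.a :=
    fun c hc => by
    obtain ⟨b, hb, rfl, b0⟩ := h.surj c 0 hc (map_zero σ)
    obtain ⟨w, w0, e⟩ := sw_B h hg hs hb b0
    obtain ⟨l, l1, l2⟩ := (f1 _).1 w0
    refine ⟨l, fun x hx x' hx' u e2 => f.vv_inj (Γ1 _) (by rw [map_mul, l1, bl_fixed]) ?_⟩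
    have c1 := h.cm b hb x hx
    have c2 := cmYe h (one_mem _) hx' w u
    have o := (h.ker 1 (one_mem _)).1 (one_mem _)
    rw [b0, mul_zero, add_zero] at c1
    rw [one_mul, e2, ← e, ← conj_cm, c1, o.1, o.2, l2] at c2
    rw [Γ2, c2]
    congr 1
    simp only [bl, map_mul, l1]; ring
  have mulΓ : ∀ c d, σ c = c → σ d = d → Γ (c * d) * Γ 1 = Γ c * Γ d := fun c d hc hd => by
    obtain ⟨l, hl⟩ := iso c hc
    obtain ⟨m, hm⟩ := iso 1 (map_one σ)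
    obtain ⟨x, hx, -, rfl⟩ := h.surj 0 d (map_zero σ) hd
    obtain ⟨z, hz, -, z1⟩ := h.surj 0 1 (map_zero σ) (map_one σ)
    obtain ⟨x', hx', u, e1⟩ := (memY h).1 (conj_mem' (NY h hg hs) (PY h hx))
    obtain ⟨z', hz', w, e2⟩ := (memY h).1 (conj_mem' (NY h hg hs) (PY h hz))
    have c1 := hl x hx x' hx' u e1
    have c2 := hl z hz z' hz' w e2
    have c3 := hm x hx x' hx' u e1
    have c4 := hm z hz z' hz' w e2
    rw [z1, mul_one] at c2 c4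
    rw [one_mul] at c3
    rw [c1, c2, c3, c4]; ring
  have Γ0 : Γ 1 ≠ 0 := fun e => by
    have := Γ2 1
    rw [e, f.vv_zero, eq_comm, mul_inv_eq_one, mul_eq_left] at this
    exact one_ne_zero (vv_eq_one (map_one σ) this)
  have powΓ : ∀ c, σ c = c → ∀ k : ℕ, Γ (c ^ k) * Γ 1 ^ k = Γ c ^ k * Γ 1 := fun c hc k => by
    induction k with
    | zero => simp
    | succ k ih =>
      have := mulΓ (c ^ k) c (by rw [map_pow, hc]) hc
      rw [pow_succ c, pow_succ, pow_succ]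
      linear_combination Γ 1 ^ k * this + Γ c * ih
  have m := conj_mem' hg ha
  obtain ⟨k, hk⟩ := frob σ (f.tt a)
  have rel : ∀ c, σ c = c → nm σ (f.cc (g * a * g⁻¹)) * f.tt (g * a * g⁻¹) (Γ c) * Γ 1 ^ k =
      Γ (nm σ (f.cc a)) * f.tt a (Γ c) := fun c hc => by
    have e1 := f.conj_vv (RNQ h m) (Γ1 c)
    rw [Γ2, show g * a * g⁻¹ * (g * f.vv c * g⁻¹) * (g * a * g⁻¹)⁻¹ = g * (a * f.vv c * a⁻¹) * g⁻¹ by group,
      f.conj_vv (RNQ h ha) hc, ← Γ2] at e1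
    have e2 := f.vv_inj (Γ1 _) (by rw [map_mul, nm_fixed, f.tt_fixed _ (Γ1 c)]) e1
    have e3 := mulΓ _ _ (nm_fixed (f.cc a)) (f.tt_fixed a hc)
    have e4 := powΓ c hc k
    rw [← hk, ← hk (Γ c)] at e4
    refine mul_right_cancel₀ Γ0 ?_
    rw [← e2]
    linear_combination Γ 1 ^ k * e3 + Γ (nm σ (f.cc a)) * e4
  have sur : ∀ c, σ c = c → ∃ d, σ d = d ∧ Γ d = c := fun c hc => by
    obtain ⟨d, hd, e⟩ := f.mem_V.1 (conj_mem'' gV (f.vv_mem c))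
    exact ⟨d, hd, f.vv_inj (Γ1 d) hc (by rw [Γ2, e]; group)⟩
  have eq : ∀ c, σ c = c → f.tt (g * a * g⁻¹) c = f.tt a c := fun c hc => by
    obtain ⟨d, hd, rfl⟩ := sur c hc
    obtain ⟨d1, hd1, e⟩ := sur 1 (map_one σ)
    have r1 := rel d1 hd1
    have r2 := rel d hd
    rw [e, map_one, map_one, mul_one, mul_one] at r1
    refine mul_left_cancel₀ (mul_ne_zero (mt (nm_eq_zero (σ := σ)).1 (f.cc_ne (g * a * g⁻¹))) (pow_ne_zero k Γ0)) ?_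
    linear_combination r2 - f.tt a (Γ d) * r1
  refine cases_of_fix fun c hc => ?_
  rw [f.tt_mul (RNQ h m) (inv_mem (RNQ h ha)), RingAut.mul_apply, eq _ (f.tt_fixed _ hc), ← RingAut.mul_apply,
    ← f.tt_mul (RNQ h ha) (inv_mem (RNQ h ha)), mul_inv_cancel, f.ct_one.2, RingAut.one_apply]

end

end X2

end Cfsg.Agent.WA.Lk
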