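import Cfsg.Agent.WA.ILk0
import Cfsg.Agent.H4.R4a

/-! Field and group lemmas for module Lk3a. -/

set_option autoImplicit false
set_option linter.unusedSectionVars false

namespace Cfsg.Agent.WA.Lk.X4

open Subgroup Cfsg.Agent.H1.U3 Cfsg.Agent.H8

variable {F : Type*} [Field F] [Finite F] {σ : F →+* F} [Ctx σ] {G : Type*} [Group G] [Finite G] {c : F} {g : F → F → F}

theorem dec (hc : σ c ≠ c) (z : F) : ∃ k l, σ k = k ∧ σ l = l ∧ z = k + l * c := by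
  have h2 := two σ
  have h0 : c + σ c ≠ 0 := fun h => hc (by linear_combination h - c * h2)
  refine ⟨z + (z + σ z) / (c + σ c) * c, (z + σ z) / (c + σ c), ?_, ?_, by linear_combination -((z + σ z) / (c + σ c) * c) * h2⟩
  · simp only [map_add, map_mul, map_div₀, invol, add_comm (σ c)]
    field_simp
    linear_combination (σ z * σ c - z * c) * h2
  · simp only [map_add, map_div₀, invol, add_comm]

theorem pol' (h1 : ∀ x x' y, g (x + x') y = g x y + g x' y) (h2 : ∀ x y y', g x (y + y') = g x y + g x y')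
    (h3 : ∀ l, σ l = l → ∀ x y, g (l * x) (l * y) = l ^ 2 * g x y) {l : F} (hl : σ l = l) (x y : F) :
    g (l * x) y = l * g x y ∧ g x (l * y) = l * g x y :=
  pol (W := ⊤) (fun _ _ _ _ => trivial) (fun x _ x' _ y _ => h1 x x' y) (fun x _ y _ y' _ => h2 x y y')
    (fun l hl x _ y _ => h3 l hl x y) hl trivial trivial

theorem exp (hc : σ c ≠ c) (h1 : ∀ x x' y, g (x + x') y = g x y + g x' y) (h2 : ∀ x y y', g x (y + y') = g x y + g x y')
    (h3 : ∀ l, σ l = l → ∀ x y, g (l * x) (l * y) = l ^ 2 * g x y) (x y : F) : ∃ k l k' l', σ k = k ∧ σ l = l ∧ σ k' = k' ∧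
      σ l' = l' ∧ x = k + l * c ∧ y = k' + l' * c ∧ g x y = k * k' * g 1 1 + k * l' * g 1 c + l * k' * g c 1 + l * l' * g c c := by
  obtain ⟨k, l, hk, hl, rfl⟩ := dec hc x
  obtain ⟨k', l', hk', hl', rfl⟩ := dec hc y
  refine ⟨k, l, k', l', hk, hl, hk', hl', rfl, rfl, ?_⟩
  have p := @pol' _ _ _ _ _ _ h1 h2 h3
  nth_rw 1 [← mul_one k, ← mul_one k']
  rw [h1, h2, h2, (p hk _ _).1, (p hk _ _).1, (p hl _ _).1, (p hl _ _).1, (p hk' _ _).2, (p hk' _ _).2, (p hl' _ _).2, (p hl' _ _).2]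
  ring

theorem rec (hn : nm σ c = 1) (h1 : ∀ x x' y, g (x + x') y = g x y + g x' y) (h2 : ∀ x y y', g x (y + y') = g x y + g x y')
    (h3 : ∀ l, σ l = l → ∀ x y, g (l * x) (l * y) = l ^ 2 * g x y) : g (c * 1) (c * c) = (c + σ c) * g c c + g c 1 := by
  rw [← (pol' h1 h2 h3 (by rw [map_add, invol, add_comm]) _ _).2, ← h2, mul_one]
  congr 1
  unfold nm at hn
  linear_combination -hn - two σ

theorem alt (hc : σ c ≠ c) (hn : nm σ c = 1) (h1 : ∀ x x' y, g (x + x') y = g x y + g x' y)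
    (h2 : ∀ x y y', g x (y + y') = g x y + g x y') (h3 : ∀ l, σ l = l → ∀ x y, g (l * x) (l * y) = l ^ 2 * g x y)
    (h4 : ∀ x, g x x = 0) (h5 : ∀ x y, g (c * x) (c * y) = c ^ 2 * g x y) (x y : F) : g x y = 0 := by
  have t := two σ
  have k1 := h4 (1 + c)
  have k2 := rec hn h1 h2 h3
  rw [h1, h2, h2, h4, h4] at k1
  rw [h5, h4] at k2
  have k3 : g 1 c = 0 := (mul_eq_zero.1 (show (c + 1) ^ 2 * g 1 c = 0 by linear_combination k1 + k2 + c * g 1 c * t)).resolve_left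
    fun h => hc (by rw [show c = 1 by linear_combination (pow_eq_zero_iff two_ne_zero).1 h - t, map_one])
  obtain ⟨k, l, k', l', -, -, -, -, -, -, e⟩ := exp hc h1 h2 h3 x y
  rw [e, h4, h4, k3, show g c 1 = 0 by linear_combination k1 - k3]; ring

theorem bil (hc : σ c ≠ c) (hn : nm σ c = 1) (h1 : ∀ x x' y, g (x + x') y = g x y + g x' y)
    (h2 : ∀ x y y', g x (y + y') = g x y + g x y') (h3 : ∀ l, σ l = l → ∀ x y, g (l * x) (l * y) = l ^ 2 * g x y)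
    (h4 : ∀ x y, σ (g x y) = g x y) (h5 : ∀ x y, g (c * x) (c * y) = g x y) : ∃ η, ∀ x y, g x y = bl σ (η * x) y := by
  have t := two σ
  have h0 : c + σ c ≠ 0 := fun h => hc (by linear_combination h - c * t)
  have k2 := rec hn h1 h2 h3
  have k3 := h5 1 1
  rw [h5] at k2
  rw [mul_one] at k3
  obtain ⟨η, e1, e2⟩ : ∃ η, σ η + η = g 1 1 ∧ σ η * c + σ c * η = g 1 c := by
    refine ⟨(g 1 c + c * g 1 1) / (c + σ c), ?_, ?_⟩ <;> simp only [map_add, map_mul, map_div₀, invol, h4, add_comm (σ c)] <;> field_simp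
    · linear_combination g 1 c * t
    · linear_combination c * σ c * g 1 1 * t
  refine ⟨η, fun x y => ?_⟩
  obtain ⟨k, l, k', l', hk, hl, hk', hl', rfl, rfl, e⟩ := exp hc h1 h2 h3 x y
  unfold nm at hn
  rw [e, k3, show g c 1 = g 1 c + (c + σ c) * g 1 1 by rw [← k3]; linear_combination -k2 - (c + σ c) * g c c * t, ← e1, ← e2]
  simp only [bl, map_add, map_mul, hk, hl, hk', hl']
  linear_combination -(l * l' * (σ η + η)) * hn + l * k' * (σ η * c + σ c * η) * t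

theorem quad {q : F → F} (hc : σ c ≠ c) (hn : nm σ c = 1) (h1 : ∀ x x' y, g (x + x') y = g x y + g x' y)
    (h2 : ∀ x y y', g x (y + y') = g x y + g x y') (h0 : ∀ x y, q (x + y) = q x + q y + g x y) (h3 : ∀ l, σ l = l → ∀ x, q (l * x) = l ^ 2 * q x)
    (h4 : ∀ x, σ (q x) = q x) (h5 : ∀ x, q (c * x) = q x) (x : F) : q x = q 1 * nm σ x := by
  have t := two σ
  have k : ∀ x y, g x y = q (x + y) - q x - q y := fun x y => by rw [h0]; ring
  obtain ⟨η, e⟩ := bil hc hn h1 h2 (fun l hl x y => by rw [k, k, ← mul_add, h3 l hl, h3 l hl, h3 l hl]; ring)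
    (fun x y => by simp only [k, map_sub, h4]) fun x y => by rw [k, k, ← mul_add, h5, h5, h5]
  have q0 : q 0 = 0 := by simpa using h3 0 (map_zero σ) 0
  have k1 := h0 1 1
  rw [e, one_add_one_eq_two, t, q0, bl, mul_one, mul_one, map_one, one_mul] at k1
  have k2 : σ η = η := by linear_combination -k1 - (q 1 + η) * t
  have h6 : c + 1 ≠ 0 := fun h => hc (by rw [show c = 1 by linear_combination h - t, map_one])
  have k3 : ∀ x, q x = η * nm σ x := fun x => by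
    obtain ⟨y, rfl⟩ : ∃ y, x = c * y + y := ⟨x / (c + 1), by field_simp⟩
    unfold nm at hn
    rw [h0, h5, e]
    simp only [bl, nm, map_add, map_mul, k2]
    linear_combination q y * t - η * σ y * y * hn - η * σ y * y * t
  rw [k3, k3 1, nm, nm, map_one, mul_one, mul_one]

theorem root {x : F} (hx : σ x = x) : ∃ l, l ^ 2 + l = x ∧ (σ l = l ∨ σ l = l + 1) := by
  have t := two σ
  let L : AddSubgroup F :=
    { carrier := {l | σ l = l ∨ σ l = l + 1}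
      add_mem' := by
        rintro a b (h | h) (k | k) <;> simp only [Set.mem_ofPred_eq, map_add, h, k]
        exacts [.inl trivial, .inr (by ring), .inr (by ring), .inl (by linear_combination t)]
      zero_mem' := .inl (map_zero σ)
      neg_mem' := by
        rintro a (h | h) <;> simp only [Set.mem_ofPred_eq, map_neg, h]
        exacts [.inl trivial, .inr (by linear_combination -t)] }
  let φ : L →+ KK σ := AddMonoidHom.mk' (fun l => ⟨l ^ 2 + l, show σ _ = _ by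
    rcases l.2 with h | h <;> rw [map_add, map_pow, h]; linear_combination (l.1 + 1) * t⟩) fun a b => Subtype.ext (by
      simp only [AddSubgroup.coe_add]; linear_combination a.1 * b.1 * t)
  have h1 : Nat.card φ.ker ≤ 2 := by
    refine (Nat.card_le_card_of_injective (β := ({0, 1} : Set F)) (fun l => ⟨l.1.1, ?_⟩) fun a b h => ?_).trans ?_
    · have e : l.1.1 ^ 2 + l.1.1 = 0 := congrArg Subtype.val l.2
      have : l.1.1 * (l.1.1 - 1) = 0 := by linear_combination e - l.1.1 * t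
      simpa [sub_eq_zero] using this
    · exact Subtype.ext (Subtype.ext (Subtype.mk.inj h))
    · rw [Nat.card_coe_set_eq, Set.ncard_pair zero_ne_one]
  obtain ⟨ω, hω⟩ := Ctx.ex (σ := σ)
  have h2 : KK σ < L := lt_of_le_of_ne (fun a h => .inl h) fun e => by
    have : σ ω = ω := e.ge (.inr (by linear_combination hω - ω * t))
    exact one_ne_zero (by rw [← hω, this]; linear_combination ω * t : (1 : F) = 0)
  obtain ⟨k, hk⟩ := AddSubgroup.card_dvd_of_le h2.le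
  have h3 : Nat.card (KK σ) < Nat.card L := Set.ncard_lt_ncard (SetLike.coe_ssubset_coe.2 h2)
  have h4 := φ.ker.card_mul_index
  have h5 : 0 < Nat.card (KK σ) := Nat.card_pos
  rw [AddSubgroup.index_ker] at h4
  obtain ⟨l, hl⟩ := (AddSubgroup.eq_top_of_le_card φ.range (by
    have : 2 ≤ k := by rw [hk] at h3; exact (Nat.lt_mul_iff_one_lt_right h5).1 h3
    nlinarith)).ge (AddSubgroup.mem_top ⟨x, hx⟩)
  exact ⟨l, congrArg Subtype.val hl, l.2⟩

/-- additive on a subgroup -/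
def Ad (Y : Subgroup G) (φ : G → F) : Prop := ∀ x ∈ Y, ∀ y ∈ Y, φ (x * y) = φ x + φ y

variable {A B Y W : Subgroup G} {a b φ : G → F} {x y : G}

theorem Ad.one (h : Ad Y φ) : φ 1 = 0 := by simpa using h 1 (one_mem _) 1 (one_mem _)

theorem Ad.inv (h : Ad Y φ) (hx : x ∈ Y) : φ x⁻¹ = -φ x :=
  eq_neg_of_add_eq_zero_left (by rw [← h _ (inv_mem hx) _ hx, inv_mul_cancel, h.one])

theorem Ad.mono (h : Ad Y φ) (k : A ≤ Y) : Ad A φ := fun x hx y hy => h x (k hx) y (k hy)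

/-- the kernel -/
def Ad.ker (h : Ad Y φ) : Subgroup G where
  carrier := {y | y ∈ Y ∧ φ y = 0}
  one_mem' := ⟨one_mem _, h.one⟩
  mul_mem' := fun hx hy => ⟨mul_mem hx.1 hy.1, by rw [h _ hx.1 _ hy.1, hx.2, hy.2, add_zero]⟩
  inv_mem' := fun hx => ⟨inv_mem hx.1, by rw [h.inv hx.1, hx.2, neg_zero]⟩

theorem desc1 (ha : Ad A a) (sa : ∀ x, ∃ y ∈ A, a y = x) (h1 : ∀ y ∈ A, ∀ u ∈ A, a u = 0 → φ (y * u) = φ y) :
    ∃ q : F → F, ∀ y ∈ A, q (a y) = φ y := by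
  choose s hs e using sa
  refine ⟨fun x => φ (s x), fun y hy => ?_⟩
  beta_reduce
  rw [← h1 _ (hs _) _ (mul_mem (inv_mem (hs (a y))) hy) (by rw [ha _ (inv_mem (hs _)) _ hy, ha.inv (hs _), e, neg_add_cancel]),
    mul_inv_cancel_left]

theorem desc {ψ : G → G → F} (ha : Ad A a) (hb : Ad B b) (sa : ∀ x, ∃ y ∈ A, a y = x) (sb : ∀ x, ∃ y ∈ B, b y = x)
    (h1 : ∀ u ∈ B, Ad A (ψ · u)) (h2 : ∀ y ∈ A, Ad B (ψ y)) (k1 : ∀ y ∈ A, ∀ u ∈ B, a y = 0 → ψ y u = 0)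
    (k2 : ∀ y ∈ A, ∀ u ∈ B, b u = 0 → ψ y u = 0) : ∃ g : F → F → F, (∀ x x' y, g (x + x') y = g x y + g x' y) ∧
      (∀ x y y', g x (y + y') = g x y + g x y') ∧ ∀ y ∈ A, ∀ u ∈ B, g (a y) (b u) = ψ y u := by
  choose s hs e using sa
  obtain k := fun x => desc1 (φ := ψ (s x)) hb sb fun y hy u hu e => by rw [h2 _ (hs x) _ hy _ hu, k2 _ (hs x) _ hu e, add_zero]
  choose g hg using k
  have k : ∀ y ∈ A, ∀ u ∈ B, g (a y) (b u) = ψ y u := fun y hy u hu => by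
    have m := mul_mem (inv_mem (hs (a y))) hy
    have := h1 u hu _ (hs (a y)) _ m
    beta_reduce at this
    rw [mul_inv_cancel_left, k1 _ m u hu (by rw [ha _ (inv_mem (hs _)) _ hy, ha.inv (hs _), e, neg_add_cancel]), add_zero] at this
    rw [hg _ u hu, this]
  refine ⟨g, fun x x' y => ?_, fun x y y' => ?_, k⟩
  · obtain ⟨u, hu, rfl⟩ := sb y
    rw [← e x, ← e x', ← ha _ (hs _) _ (hs _), k _ (mul_mem (hs _) (hs _)) u hu, k _ (hs _) u hu, k _ (hs _) u hu]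
    exact h1 u hu _ (hs _) _ (hs _)
  · obtain ⟨u, hu, rfl⟩ := sb y
    obtain ⟨u', hu', rfl⟩ := sb y'
    rw [← hb _ hu _ hu', hg _ _ (mul_mem hu hu'), hg _ _ hu, hg _ _ hu', h2 _ (hs _) _ hu _ hu']

theorem extend (hW : W ≤ A) (hA : A ≤ Y) (hs : ∀ y ∈ Y, y * y ∈ W) (ha : Ad A a) (h0 : ∀ y ∈ W, a y = 0) :
    ∃ φ, Ad Y φ ∧ (∀ y ∈ Y, ∃ x ∈ A, φ y = a x) ∧ ∀ y ∈ A, φ y = a y := by
  obtain ⟨X, ⟨h1, h2, h3⟩, hm⟩ := Set.Finite.exists_maximal (s := {X | W ≤ X ∧ X ≤ Y ∧ X ⊓ A ≤ W}) (Set.toFinite _)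
    ⟨W, le_rfl, hW.trans hA, inf_le_left⟩
  have n := H4.R4.nrm hA fun y hy => hW (hs y hy)
  have k : ∀ y, y ∈ Y → ∃ u ∈ A, ∃ x ∈ X, u * x = y := fun y hy => (H9.mem_sup_of_le_normalizer' (h2.trans n)).1 (by_contra fun e =>
    e (mem_sup_right (hm ⟨le_sup_of_le_left h1, sup_le h2 (zpowers_le.2 hy), fun v hv => by
      rcases H4.R4.two (H4.R4.nrm h2 (fun y hy => h1 (hs y hy)) hy) (h1 (hs y hy)) hv.1 with k | ⟨x, hx, rfl⟩
      · exact h3 ⟨k, hv.2⟩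
      · exact (e ((mul_mem_cancel_left (mem_sup_right hx)).1 (mem_sup_left hv.2))).elim⟩ le_sup_left (mem_sup_right (mem_zpowers y)))))
  choose! u hu x hx e using k
  have k : ∀ v ∈ A, ∀ z ∈ X, a (u (v * z)) = a v := fun v hv z hz => by
    have m := mul_mem (hA hv) (h2 hz)
    have := ha _ hv _ (mul_mem (inv_mem hv) (hu _ m))
    rwa [mul_inv_cancel_left, h0 _ (h3 (mem_inf.2 ⟨by
      rw [eq_mul_inv_of_mul_eq (e _ m), mul_assoc, inv_mul_cancel_left]; exact mul_mem hz (inv_mem (hx _ m)),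
      mul_mem (inv_mem hv) (hu _ m)⟩)), add_zero] at this
  refine ⟨fun y => a (u y), fun y hy z hz => ?_, fun y hy => ⟨_, hu y hy, rfl⟩, fun y hy => by simpa using k y hy 1 (one_mem _)⟩
  have c := H9.comm_mem_of_sq_mem hs (h2 (hx y hy)) (hA (hu z hz))
  have := k _ (mul_mem (hu y hy) (mul_mem (hW c) (hu z hz))) _ (mul_mem (hx y hy) (hx z hz))
  rw [ha _ (hu y hy) _ (mul_mem (hW c) (hu z hz)), ha _ (hW c) _ (hu z hz), h0 _ c, zero_add] at this
  rwa [show u y * (x y * u z * (x y)⁻¹ * (u z)⁻¹ * u z) * (x y * x z) = u y * x y * (u z * x z) by group, e y hy, e z hz] at this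

theorem twoPart {X Z : Subgroup G} (hZ : Z ≤ X) (hN : X ≤ normalizer (Z : Set G))
    (hc : ∀ x ∈ X, (∃ k, x ^ 2 ^ k = 1) → x ∈ centralizer (Z : Set G)) (h3 : ∀ z ∈ Z, Odd (orderOf z)) (h8 : ∀ x ∈ X, x ^ 8 ∈ Z) :
    ∃ P ≤ X, IsPGroup 2 P ∧ (∀ x ∈ X, ∃ p ∈ P, ∃ z ∈ Z, x = p * z) ∧ ∀ x ∈ X, (∃ k, x ^ 2 ^ k = 1) → x ∈ P := by
  have := Fact.mk Nat.prime_two
  obtain ⟨P, hP⟩ := exists_isSylowIn 2 X
  have : (Z.subgroupOf X).Normal := normal_subgroupOf_of_le_normalizer hN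
  have k : ∀ x ∈ X, ∃ p ∈ P, ∃ z ∈ Z, x = p * z := fun x hx => by
    obtain ⟨p, hp, e⟩ := ((hP.toSylow.mapSurjective (QuotientGroup.mk'_surjective (Z.subgroupOf X))).is_maximal' (Q := ⊤) (fun a => ⟨3, by
      obtain ⟨y, e⟩ := QuotientGroup.mk_surjective a.1
      exact Subtype.ext (show a.1 ^ 8 = 1 by rw [← e, ← QuotientGroup.mk_pow, QuotientGroup.eq_one_iff]; exact h8 y y.2)⟩) le_top).le
        (mem_top (QuotientGroup.mk ⟨x, hx⟩))
    exact ⟨p, hp, p⁻¹ * x, QuotientGroup.eq (s := Z.subgroupOf X).1 e, (mul_inv_cancel_left _ _).symm⟩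
  refine ⟨P, hP.le, hP.pgroup, k, fun x hx ⟨n, hn⟩ => ?_⟩
  obtain ⟨p, hp, z, hz, rfl⟩ := k x hx
  obtain ⟨m, hm⟩ := hP.pgroup ⟨p, hp⟩
  have e : z ^ 2 ^ (n + m) = 1 := by
    have := (show Commute p z from (hc p (hP.le hp) ⟨m, congrArg Subtype.val hm⟩ z hz).symm).mul_pow (2 ^ (n + m))
    rwa [pow_add, pow_mul, hn, one_pow, mul_comm (2 ^ n), pow_mul p, show p ^ 2 ^ m = 1 from congrArg Subtype.val hm, one_pow, one_mul,
      eq_comm, mul_comm, ← pow_add] at this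
  rwa [eq_one_of_odd_two (h3 z hz) e, mul_one]

theorem avg {d : Fˣ →* G} {χ : Fˣ → F} (hχ : ∀ μ ν, χ (μ * ν) = χ μ * χ ν) (h0 : ∀ μ, χ μ ≠ 0)
    (hd : ∀ μ, ∀ y ∈ Y, d μ * y * (d μ)⁻¹ ∈ Y) (ha : Ad Y a) : ∃ φ, Ad Y φ ∧ (∀ μ y, φ (d μ * y * (d μ)⁻¹) = χ μ * φ y) ∧
      (∀ y, (∀ μ, a (d μ * y * (d μ)⁻¹) = χ μ * a y) → φ y = a y) ∧
      ((∀ μ, σ (χ μ) = χ μ) → (∀ y ∈ Y, σ (a y) = a y) → ∀ y ∈ Y, σ (φ y) = φ y) := by
  classical
  have := Fintype.ofFinite F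
  refine ⟨fun y => ∑ μ, (χ μ)⁻¹ * a (d μ * y * (d μ)⁻¹), fun x hx y hy => ?_, fun ν y => ?_, fun y h => ?_, fun h k y hy => ?_⟩
  · rw [← Finset.sum_add_distrib]
    exact Finset.sum_congr rfl fun μ _ => by rw [← mul_add, ← ha _ (hd μ x hx) _ (hd μ y hy), conj_mul]
  · rw [Finset.mul_sum, ← Equiv.sum_comp (Equiv.mulRight ν) fun μ => χ ν * ((χ μ)⁻¹ * a (d μ * y * (d μ)⁻¹))]
    refine Finset.sum_congr rfl fun μ _ => ?_
    have := h0 ν
    simp only [Equiv.coe_mulRight, hχ, map_mul, mul_inv_rev, mul_assoc]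
    field_simp
  · simp only [h, inv_mul_cancel_left₀ (h0 _), Finset.sum_const, Finset.card_univ, Fintype.card_units, nsmul_eq_mul]
    rw [Nat.cast_pred Fintype.card_pos, FiniteField.cast_card_eq_zero]
    linear_combination -a y * two σ
  · rw [map_sum]
    exact Finset.sum_congr rfl fun μ _ => by rw [map_mul, map_inv₀, h, k _ (hd μ y hy)]

end Cfsg.Agent.WA.Lk.X4
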