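import Cfsg.Agent.WA.ILk1
import Cfsg.Agent.WA.Lk3a0

/-! Module Lk3a, first part: the translations. -/

set_option autoImplicit false
set_option linter.unusedSectionVars false

namespace Cfsg.Agent.WA.Lk.X4

open Subgroup Cfsg.Agent.H1.U3 Cfsg.Agent.H8

variable {F : Type*} [Field F] [Finite F] {σ : F →+* F} [Ctx σ] {G : Type*} [Group G] [Finite G] {w : Two σ G}
  {g h s y z e : G} {β γ : F}

/-- `g` acts on `S / P₀` as the translation by `β` -/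
def Tr (w : Two σ G) (g : G) (β : F) : Prop := g ∈ normalizer (w.S : Set G) ∧
  ∀ s ∈ w.S, w.ee (g * s * g⁻¹) = w.ee s ∧ w.aa (g * s * g⁻¹) = w.aa s + w.ce (w.ee s) * β

theorem cjS {S : Subgroup G} (hg : g ∈ normalizer (S : Set G)) (hs : s ∈ S) : g * s * g⁻¹ ∈ S := (mem_normalizer_iff.1 hg s).1 hs

theorem ce1 : w.ce 1 = 0 := Ad.one (Y := w.E) w.ce_mul

theorem exE (w : Two σ G) : ∃ e ∈ w.E, e ≠ 1 := (bot_or_exists_ne_one w.E).resolve_left w.E_ne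

theorem nm0 : nm σ (0 : F) = 0 := by simp [nm]

theorem Tr.mul (k : Tr w g β) (k' : Tr w h γ) : Tr w (g * h) (β + γ) := ⟨mul_mem k.1 k'.1, fun s hs => by
  obtain ⟨h1, h2⟩ := k.2 _ (cjS k'.1 hs)
  rw [show g * h * s * (g * h)⁻¹ = g * (h * s * h⁻¹) * g⁻¹ by group, h1, h2, (k'.2 s hs).1, (k'.2 s hs).2]
  exact ⟨rfl, by ring⟩⟩

theorem Tr.inv (k : Tr w g β) : Tr w g⁻¹ β := ⟨inv_mem k.1, fun s hs => by
  obtain ⟨h1, h2⟩ := k.2 _ (cjS (inv_mem k.1) hs)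
  rw [show g * (g⁻¹ * s * g⁻¹⁻¹) * g⁻¹ = s by group] at h1 h2
  exact ⟨h1.symm, by rw [h2, ← h1]; linear_combination -(w.ce (w.ee s) * β) * two σ⟩⟩

theorem trS (hs : s ∈ w.S) : Tr w s 0 := ⟨le_normalizer hs, fun r hr => by
  rw [(w.coord_conj hs hr).1, (w.coord_conj hs hr).2.2]; simp⟩

theorem trZ (hz : z ∈ w.Z) : Tr w z 0 :=
  ⟨centralizer_le_normalizer _ fun s hs => (w.Zc' z hz s hs).symm, fun r hr => by rw [w.Zc' z hz r hr]; simp⟩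

theorem Tr.uniq (k : Tr w g β) (k' : Tr w g γ) : β = γ := by
  obtain ⟨e, he, h1⟩ := exE w
  have := (k.2 e (w.ES he)).2.symm.trans (k'.2 e (w.ES he)).2
  rw [(w.on_E e he).1, add_right_inj] at this
  exact mul_left_cancel₀ (fun h => h1 (w.ce_inj e he h)) this

theorem DS (hy : y ∈ w.D) : y ∈ normalizer (w.S : Set G) := w.MS (w.D_le_M hy)

theorem nmK (a : F) : σ (nm σ a) = nm σ a := norm_fixed a

theorem blK (a b : F) : σ (bl σ a b) = bl σ a b := by simp only [bl, map_add, map_mul, invol]; ring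

theorem tt_ce (hy : y ∈ w.D) (he : e ∈ w.E) : w.tt y (w.ce e) = w.ce e := by
  obtain ⟨r, hr, r1, r2, r3⟩ := w.surj 1 (one_mem _) 1 0 (map_one σ)
  have h1 := w.cm e (w.ES he) r hr
  have h2 := w.cm _ (cjS (DS hy) (w.ES he)) _ (cjS (DS hy) hr)
  obtain ⟨a1, a2, a3⟩ := w.D_act y hy e (w.ES he)
  obtain ⟨b1, b2, b3⟩ := w.D_act y hy r hr
  obtain ⟨c1, c2, c3⟩ := w.on_E e he
  rw [a1, a2, a3, b1, b2, b3, show y * e * y⁻¹ * (y * r * y⁻¹) * (y * e * y⁻¹)⁻¹ * (y * r * y⁻¹)⁻¹ = y * (e * r * e⁻¹ * r⁻¹) * y⁻¹ by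
    group, h1] at h2
  simp only [c1, c2, c3, r1, r2, r3, ce1, bl, map_zero, map_one, mul_zero, mul_one, add_zero] at h2
  rw [w.conj_vv hy.2 (w.ceK e he)] at h2
  have := w.vv_inj (by rw [map_mul, nmK, ← comm_sig, w.ceK e he]) (by rw [map_mul, nmK, w.ceK e he]) h2
  exact mul_left_cancel₀ (mul_ne_zero ((map_ne_zero σ).2 (w.cc_ne y)) (w.cc_ne y)) (this.trans (mul_comm _ _))

theorem Tr.cjD (k : Tr w g β) (hy : y ∈ w.D) : Tr w (y * g * y⁻¹) (w.cc y * w.tt y β) :=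
  ⟨mul_mem (mul_mem (DS hy) k.1) (inv_mem (DS hy)), fun s hs => by
    have m := cjS (inv_mem (DS hy)) hs
    obtain ⟨a1, -, a3⟩ := w.D_act y hy _ m
    obtain ⟨b1, -, b3⟩ := w.D_act y hy _ (cjS k.1 m)
    rw [show y * (y⁻¹ * s * y⁻¹⁻¹) * y⁻¹ = s by group] at a1 a3
    rw [show y * g * y⁻¹ * s * (y * g * y⁻¹)⁻¹ = y * (g * (y⁻¹ * s * y⁻¹⁻¹) * g⁻¹) * y⁻¹ by group, b1, b3, (k.2 _ m).1, (k.2 _ m).2, a3,
      ← a1, map_add, map_mul, tt_ce hy (w.eeE s hs)]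
    exact ⟨rfl, by ring⟩⟩

theorem Tr.cjd (k : Tr w g β) (μ : Fˣ) : Tr w (w.d μ * g * (w.d μ)⁻¹) (w.cc (w.d μ) * β) := by
  simpa [(w.ct_d μ).2.1] using k.cjD (w.d_mem_D μ)

theorem Tr.cV (k : Tr w g β) (hc : w.c = 0) : g ∈ centralizer (w.V : Set G) := fun v hv => by
  obtain ⟨x, hx, rfl⟩ := w.mem_V.1 hv
  obtain ⟨a, rfl⟩ := exists_nm hx
  have h1 := w.sq _ (cjS k.1 (w.jS (lift σ a)))
  obtain ⟨a1, a2⟩ := k.2 _ (w.jS (lift σ a))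
  rw [a1, a2, conj_mul, w.j_sq, (w.on_j _).1, (w.on_j _).2.2, ce1, hc, lift_a] at h1
  exact (mul_inv_eq_iff_eq_mul.1 (by simpa using h1)).symm

theorem sqK (hs : s ∈ w.S) : σ ((w.ce (w.ee s) + w.c) * w.xx s + nm σ (w.aa s)) = (w.ce (w.ee s) + w.c) * w.xx s + nm σ (w.aa s) := by
  rw [map_add, map_mul, map_add, nmK, w.ceK _ (w.eeE s hs), w.cK, w.xxK s hs]

theorem sqV (hs : s ∈ w.S) : s * s ∈ w.V := w.mem_V.2 ⟨_, sqK hs, (w.sq s hs).symm⟩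

theorem Tr.xx (k : Tr w g β) (hc : w.c = 0) (hs : s ∈ w.S) :
    w.xx (g * s * g⁻¹) = w.xx s + bl σ β (w.aa s) + w.ce (w.ee s) * nm σ β := by
  have t := two σ
  have k1 : ∀ s ∈ w.S, w.ee s ≠ 1 → w.xx (g * s * g⁻¹) = w.xx s + bl σ β (w.aa s) + w.ce (w.ee s) * nm σ β := fun s hs h => by
    have h1 := w.sq _ (cjS k.1 hs)
    rw [conj_mul, ← k.cV hc _ (sqV hs), mul_inv_cancel_right, w.sq s hs] at h1
    have h2 := w.vv_inj (sqK hs) (sqK (cjS k.1 hs)) h1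
    rw [(k.2 s hs).1, (k.2 s hs).2, hc] at h2
    refine mul_left_cancel₀ (fun e => h (w.ce_inj _ (w.eeE s hs) e)) ?_
    simp only [nm, bl, map_add, map_mul, w.ceK _ (w.eeE s hs)] at h2 ⊢
    linear_combination -h2 - (w.ce (w.ee s) * (σ β * w.aa s + σ (w.aa s) * β) + w.ce (w.ee s) ^ 2 * σ β * β) * t
  by_cases h : w.ee s = 1
  swap; · exact k1 s hs h
  obtain ⟨e, he, h1⟩ := exE w
  obtain ⟨c1, c2, c3⟩ := w.on_E e he
  have a1 := k1 e (w.ES he) (by rwa [c1])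
  have a2 := k1 _ (mul_mem (w.ES he) hs) (by rwa [w.ee_mul _ (w.ES he) _ hs, c1, h, mul_one])
  rw [← conj_mul, w.xx_mul _ (cjS k.1 (w.ES he)) _ (cjS k.1 hs), a1, w.xx_mul _ (w.ES he) _ hs, w.ee_mul _ (w.ES he) _ hs,
    w.aa_mul _ (w.ES he) _ hs, c1, c2, c3, h, mul_one] at a2
  rw [h, ce1]
  simp only [bl, map_zero, zero_add] at a2 ⊢
  linear_combination a2

theorem Tr.nA (k : Tr w g 0) (hc : w.c = 0) : g ∈ normalizer (w.A : Set G) := H9.mem_normalizer_of_conj_mem fun s hs => by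
  obtain ⟨h1, h2, h3⟩ := w.mem_A.1 hs
  exact w.mem_A.2 ⟨cjS k.1 h1, by simp [k.xx hc h1, h2, bl, nm], by simp [(k.2 s h1).2, h3]⟩

theorem Tr.ker (k : Tr w g 0) (hc : w.c = 0) : ∃ s ∈ w.S, ∃ z ∈ w.Z, g = s * z := by
  obtain ⟨h1, h2⟩ := w.ct_unique (g := g) (c := 1) (τ := 1) fun u => by
    rw [← (w.on_j _).2.2, ← w.conj_j (w.MQ (k.nA hc)), (k.2 _ (w.jS u)).2, (w.on_j _).2.2]; simp
  refine w.mem_W (k.nA hc) (fun e he => ?_) h1 h2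
  have m := cjS k.1 (w.ES he)
  obtain ⟨c1, c2, c3⟩ := w.on_E e he
  rw [w.kerV _ (mul_mem m (w.ES he)), w.ee_mul _ m _ (w.ES he), w.xx_mul _ m _ (w.ES he), w.aa_mul _ m _ (w.ES he), k.xx hc (w.ES he),
    (k.2 _ (w.ES he)).1, (k.2 _ (w.ES he)).2, c1, c2, c3, w.E_sq e he]
  simp [bl, nm]

theorem EA (he : e ∈ w.E) : e ∈ w.A := mem_sup_left he

theorem tsA (hc : w.c = 0) (hg : g ∈ normalizer (w.S : Set G)) (he : e ∈ w.E) (h1 : w.ee (g * e * g⁻¹) ≠ 1) :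
    ∃ α, cj g w.A ≤ w.pt α :=
  (w.ts hc (cj_le_of_mem_normalizer hg fun s hs => (w.mem_A.1 hs).1) (by
    rintro _ ⟨s, hs, rfl⟩
    obtain ⟨a1, a2, a3⟩ := w.mem_A.1 hs
    rw [← map_mul, w.sq s a1, a2, a3, nm0, mul_zero, add_zero, w.vv_zero, map_one])).resolve_left fun k => h1 (k (conj_mem_cj g (EA he))).2.1

theorem exTr (hc : w.c = 0) (hg : g ∈ normalizer (w.S : Set G)) (h1 : ∀ s ∈ w.S, w.ee (g * s * g⁻¹) = w.ee s)
    (h2 : ∀ s ∈ w.S, w.ee s = 1 → w.aa (g * s * g⁻¹) = w.aa s) : ∃ β, Tr w g β := by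
  obtain ⟨e, he, e1⟩ := exE w
  obtain ⟨α, k⟩ := tsA hc hg he (by rwa [h1 e (w.ES he), (w.on_E e he).1])
  refine ⟨α, hg, fun s hs => ⟨h1 s hs, ?_⟩⟩
  have m := w.eeE s hs
  have m1 := mul_mem (w.ES m) hs
  have a1 := h2 _ m1 (by rw [w.ee_mul _ (w.ES m) _ hs, (w.on_E _ m).1, w.E_sq _ m])
  rw [← conj_mul, w.aa_mul _ (cjS hg (w.ES m)) _ (cjS hg hs), (k (conj_mem_cj g (EA m))).2.2, h1 _ (w.ES m), w.aa_mul _ (w.ES m) _ hs,
    (w.on_E _ m).1, (w.on_E _ m).2.2] at a1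
  linear_combination a1 - w.ce (w.ee s) * α * two σ

theorem memY1 (hs : s ∈ w.S) : s ∈ centralizer (w.P0 : Set G) ↔ w.ee s = 1 := by
  have k : ∀ p ∈ w.P0, p * s = s * p ↔ w.ce (w.ee s) * w.xx p = 0 := fun p hp => by
    have := w.cm p hp.1 s hs
    rw [hp.2.1, hp.2.2, ce1, bl] at this
    simp only [map_zero, zero_mul, mul_zero, add_zero, zero_add] at this
    rw [← mul_inv_eq_iff_eq_mul, ← mul_inv_eq_one, this, ← w.vv_zero]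
    exact ⟨w.vv_inj (by rw [map_mul, w.ceK _ (w.eeE s hs), w.xxK p hp.1]) (map_zero σ), congrArg _⟩
  refine ⟨fun h => ?_, fun h p hp => (k p hp).2 (by rw [h, ce1, zero_mul])⟩
  obtain ⟨r, hr, r1, r2, r3⟩ := w.surj 1 (one_mem _) 1 0 (map_one σ)
  exact w.ce_inj _ (w.eeE s hs) (by simpa [r2] using (k r ⟨hr, r1, r3⟩).1 (h r ⟨hr, r1, r3⟩))

end Cfsg.Agent.WA.Lk.X4
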