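import Cfsg.Agent.WA.Lk3a1

/-! Module Lk3a, second part: the group `Y`. -/

set_option autoImplicit false
set_option linter.unusedSectionVars false

namespace Cfsg.Agent.WA.Lk.X4

open Subgroup Cfsg.Agent.H1.U3 Cfsg.Agent.H8

variable {F : Type*} [Field F] [Finite F] {σ : F →+* F} [Ctx σ] {G : Type*} [Group G] [Finite G] {w : Two σ G}
  {g h s y z e : G} {β γ : F}

theorem cjC {P : Subgroup G} (hg : g ∈ normalizer (P : Set G)) (hs : s ∈ centralizer (P : Set G)) :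
    g * s * g⁻¹ ∈ centralizer (P : Set G) := by
  rw [← cj_eq_self hg, ← cj_centralizer]; exact conj_mem_cj g hs

/-- `Y₁ = P₀ Q` -/
def Y1 (w : Two σ G) : Subgroup G := w.S ⊓ centralizer (w.P0 : Set G)

theorem mY1 : s ∈ Y1 w ↔ s ∈ w.S ∧ w.ee s = 1 := and_congr_right fun h => memY1 h

theorem jY1 (u : US σ) : w.j u ∈ Y1 w := mY1.2 ⟨w.jS u, (w.on_j u).1⟩

theorem adA : Ad (Y1 w) w.aa := Ad.mono w.aa_mul inf_le_left

theorem suA (a : F) : ∃ y ∈ Y1 w, w.aa y = a := ⟨_, jY1 (lift σ a), by rw [(w.on_j _).2.2, lift_a]⟩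

theorem cjY1 (hg : g ∈ normalizer (w.S : Set G)) (hP : g ∈ normalizer (w.P0 : Set G)) (hs : s ∈ Y1 w) : g * s * g⁻¹ ∈ Y1 w :=
  ⟨cjS hg hs.1, cjC hP hs.2⟩

theorem eeI (hs : s ∈ w.S) (hy : y ∈ w.S) : s * y⁻¹ ∈ Y1 w ↔ w.ee s = w.ee y := by
  have := w.ee_mul _ (mul_mem hs (inv_mem hy)) _ hy
  rw [inv_mul_cancel_right] at this
  rw [mY1, this, mul_eq_right, and_iff_right (mul_mem hs (inv_mem hy))]

theorem dact (μ : Fˣ) (hs : s ∈ w.S) : w.ee (w.d μ * s * (w.d μ)⁻¹) = w.ee s ∧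
    w.xx (w.d μ * s * (w.d μ)⁻¹) = nm σ (w.cc (w.d μ)) * w.xx s ∧ w.aa (w.d μ * s * (w.d μ)⁻¹) = w.cc (w.d μ) * w.aa s := by
  simpa [(w.ct_d μ).2.1] using w.D_act _ (w.d_mem_D μ) s hs

theorem semi (hc : w.c = 0) (hg : g ∈ normalizer (w.S : Set G)) (hP : g ∈ normalizer (w.P0 : Set G)) {l : F} (hl : σ l = l) (l0 : l ≠ 0) :
    ∃ l', σ l' = l' ∧ l' ≠ 0 ∧ ∀ s ∈ Y1 w, ∀ r ∈ Y1 w, w.aa r = l * w.aa s → w.aa (g * r * g⁻¹) = l' * w.aa (g * s * g⁻¹) := by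
  obtain ⟨A0, hA⟩ := desc1 (φ := fun s => w.aa (g * s * g⁻¹)) adA suA fun y hy u hu h => by
    rw [← conj_mul, w.aa_mul _ (cjS hg hy.1) _ (cjS hg hu.1), (cjS hP (show u ∈ w.P0 from ⟨hu.1, (mY1.1 hu).2, h⟩)).2.2, add_zero]
  have ad : ∀ a b, A0 (a + b) = A0 a + A0 b := fun a b => by
    obtain ⟨y, hy, rfl⟩ := suA (w := w) a
    obtain ⟨u, hu, rfl⟩ := suA (w := w) b
    rw [← adA y hy u hu, hA _ (mul_mem hy hu), hA _ hy, hA _ hu, ← conj_mul, w.aa_mul _ (cjS hg hy.1) _ (cjS hg hu.1)]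
  have : ∀ x, ∃ x', σ x = x → σ x' = x' ∧ w.vv x' = g * w.vv x * g⁻¹ := fun x => by
    by_cases hx : σ x = x
    · obtain ⟨x', k⟩ := w.mem_V.1 (cjS (w.NS_le_NV hg) (w.mem_V.2 ⟨x, hx, rfl⟩))
      exact ⟨x', fun _ => k⟩
    · exact ⟨0, fun h => absurd h hx⟩
  choose B0 hB using this
  have hN : ∀ a, nm σ (A0 a) = B0 (nm σ a) := fun a => by
    have m := cjY1 hg hP (jY1 (lift σ a))
    have := w.sq _ m.1
    rw [(mY1.1 m).2, ce1, hc, conj_mul, w.j_sq, ← hA _ (jY1 _), (w.on_j _).2.2, lift_a, ← (hB _ (nmK a)).2, zero_add, zero_mul, zero_add] at this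
    exact w.vv_inj (nmK _) (hB _ (nmK a)).1 this.symm
  have k0 : A0 1 ≠ 0 := fun h => by
    have h1 := (hB _ (nmK 1)).2
    rw [← hN, h, nm0, w.vv_zero, eq_comm, conj_eq_one_iff, ← w.vv_zero] at h1
    simpa [nm] using w.vv_inj (nmK 1) (map_zero σ) h1
  have k1 : σ (A0 1) ≠ 0 := (map_ne_zero σ).2 k0
  obtain ⟨m1, m2⟩ := semilinear (σ := σ) (AddMonoidHom.mk' (fun a => (A0 1)⁻¹ * A0 a) fun a b => by rw [ad, mul_add])
    (fun x => (nm σ (A0 1))⁻¹ * B0 x) (inv_mul_cancel₀ k0) (fun x y hx hy => by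
      have hxy : σ (x + y) = x + y := by rw [map_add, hx, hy]
      rw [← mul_add, w.vv_inj (y := B0 x + B0 y) (hB _ hxy).1 (by rw [map_add, (hB x hx).1, (hB y hy).1]) (by
        rw [(hB _ hxy).2, w.vv_add (hB x hx).1 (hB y hy).1, (hB x hx).2, (hB y hy).2, conj_mul, w.vv_add hx hy])])
    fun a => by
      have := hN a
      simp only [nm, AddMonoidHom.mk'_apply, map_mul, map_inv₀] at this ⊢
      rw [← this]; field_simp
  simp only [AddMonoidHom.mk'_apply] at m1 m2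
  refine ⟨(A0 1)⁻¹ * A0 l, by rw [← m2 l hl, map_mul, map_inv₀, nmK, (hB l hl).1], fun h => ?_, fun s hs r hr h => ?_⟩
  · have := m1 l l⁻¹
    rw [h, mul_inv_cancel₀ l0, inv_mul_cancel₀ k0, zero_mul] at this
    exact one_ne_zero this
  · rw [← hA _ hs, ← hA _ hr, h]
    exact mul_left_cancel₀ (inv_ne_zero k0) (by rw [m1]; ring)

theorem exB (hc : w.c = 0) (hg : g ∈ normalizer (w.S : Set G)) (hP : g ∈ normalizer (w.P0 : Set G)) (hA : cj g w.A ≠ w.A) :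
    ∃ k β, β ≠ 0 ∧ Tr w k β := by
  obtain ⟨l, hl, l0, l1, -⟩ := w.exists_K 1 1
  obtain ⟨l', hl', l0', k⟩ := semi hc hg hP hl l0
  set d := w.d (Units.mk0 l l0)
  set d' := w.d (Units.mk0 l' l0')⁻¹
  have c1 : w.cc d = l := w.cc_d_K (μ := Units.mk0 l l0) hl
  have c2 : w.cc d' = l'⁻¹ := w.cc_d_K (μ := (Units.mk0 l' l0')⁻¹) (by simp [hl'])
  have D1 : d ∈ w.D := w.d_mem_D _
  have D2 : d' ∈ w.D := w.d_mem_D _
  have e1 : ∀ s, d' * (g * d * g⁻¹) * s * (d' * (g * d * g⁻¹))⁻¹ = d' * (g * (d * (g⁻¹ * s * g⁻¹⁻¹) * d⁻¹) * g⁻¹) * d'⁻¹ := fun s => by group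
  obtain ⟨β, t⟩ := exTr (g := d' * (g * d * g⁻¹)) hc (mul_mem (DS D2) (mul_mem (mul_mem hg (DS D1)) (inv_mem hg))) (fun s hs => by
    have m := cjS (inv_mem hg) hs
    have m1 := cjS (DS D1) m
    rw [e1, (dact _ (cjS hg m1)).1, ← eeI (cjS hg m1) hs]
    convert cjY1 hg hP ((eeI m1 m).2 (dact _ m).1) using 1
    group) fun s hs h => by
    have m := cjY1 (inv_mem hg) (inv_mem hP) (mY1.2 ⟨hs, h⟩)
    have m1 := cjY1 (DS D1) (w.M_le_NP (w.D_le_M D1)) m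
    rw [e1, (dact _ (cjS hg m1.1)).2.2, c2, k _ m _ m1 (by rw [(dact _ m.1).2.2, c1]), inv_mul_cancel_left₀ l0']
    congr 1; group
  refine ⟨_, β, fun h => hA (cj_eq_self ?_), t⟩
  subst h
  have n : g * d * g⁻¹ ∈ normalizer (w.A : Set G) := (mul_mem_cancel_left (w.D_le_M D2)).1 (t.nA hc)
  obtain ⟨e, he, e1⟩ := exE w
  have m := cjS (inv_mem hg) (w.ES he)
  have e2 : w.ee (g⁻¹ * e * g⁻¹⁻¹) ≠ 1 := fun h => e1 (by
    have := (mY1.1 (cjY1 hg hP (mY1.2 ⟨m, h⟩))).2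
    rwa [show g * (g⁻¹ * e * g⁻¹⁻¹) * g⁻¹ = e by group, (w.on_E e he).1] at this)
  obtain ⟨α, k⟩ := tsA hc (inv_mem hg) he e2
  have a1 := (k (conj_mem_cj g⁻¹ (EA he))).2.2
  have a2 := (k (conj_mem_cj g⁻¹ (cjS n (EA he)))).2.2
  rw [show g⁻¹ * (g * d * g⁻¹ * e * (g * d * g⁻¹)⁻¹) * g⁻¹⁻¹ = d * (g⁻¹ * e * g⁻¹⁻¹) * d⁻¹ by group, (dact _ m).1, (dact _ m).2.2, c1, a1] at a2
  have : α = 0 := by
    by_contra h
    exact l1 (mul_right_cancel₀ (mul_ne_zero (fun h => e2 (w.ce_inj _ (w.eeE _ m) h)) h) (a2.trans (one_mul _).symm))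
  rw [this, w.pt_zero] at k
  exact (inv_mem_iff).1 (mem_normalizer_of_cj_le k)

theorem Tr.scal (k : Tr w g β) {l : F} (hl : σ l = l) : ∃ g', Tr w g' (l * β) := by
  by_cases h : l = 0
  · exact ⟨1, by rw [h, zero_mul]; exact trS (one_mem _)⟩
  · exact ⟨_, w.cc_d_K (μ := Units.mk0 l h) hl ▸ k.cjd _⟩

theorem Tr.surj (k : Tr w g β) (h : β ≠ 0) (γ : F) : ∃ g, Tr w g γ := by
  obtain ⟨μ, -, -, h2, -⟩ := w.exists_h0
  obtain ⟨a, b, ha, hb, e⟩ := dec h2 (γ / β)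
  obtain ⟨g1, k1⟩ := k.scal ha
  obtain ⟨g2, k2⟩ := (k.cjd μ).scal hb
  exact ⟨_, by convert k1.mul k2 using 1; rw [← div_mul_cancel₀ γ h, e]; ring⟩

theorem s4 (hs : s ∈ w.S) : s ^ 4 = 1 := by rw [← w.V_sq (sqV hs)]; simp only [pow_succ, pow_zero, one_mul, mul_assoc]

theorem szp (hs : s ∈ w.S) (hz : z ∈ w.Z) (n : ℕ) : (s * z) ^ n = s ^ n * z ^ n := (Commute.symm (w.Zc' z hz s hs)).mul_pow n

theorem Tr.nZ (k : Tr w g β) (hc : w.c = 0) (hz : z ∈ w.Z) : g * z * g⁻¹ ∈ w.Z := by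
  obtain ⟨s, hs, z', hz', e⟩ := Tr.ker (g := g * z * g⁻¹) (by convert (k.mul (trZ hz)).mul k.inv using 1; linear_combination -β * two σ) hc
  rwa [e, eq_one_of_odd_mul (Commute.symm (w.Zc' z' hz' s hs)) (k := 2) (s4 hs) (w.Zo z' hz') (e ▸ odd_conj (w.Zo z hz) g), one_mul]

theorem Tr.cZ (k : Tr w g β) (hc : w.c = 0) (su : ∀ γ, ∃ g, Tr w g γ) (h2 : ∃ k, g ^ 2 ^ k = 1) : g ∈ centralizer (w.Z : Set G) := by
  obtain ⟨l, hl, l0, l1, -⟩ := w.exists_K 1 1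
  have l2 : l + 1 ≠ 0 := fun h => l1 (by linear_combination h - two σ)
  obtain ⟨g', k'⟩ := su (β / (l + 1))
  have k1 := (k'.cjd (Units.mk0 l l0)).mul k'.inv
  rw [w.cc_d_K (μ := Units.mk0 l l0) hl] at k1
  set d := w.d (Units.mk0 l l0)
  have hd : d ∈ centralizer (w.Z : Set G) := fun z hz => w.Zd z hz _
  have h1 : d * g' * d⁻¹ * g'⁻¹ ∈ centralizer (w.Z : Set G) := by
    rw [show d * g' * d⁻¹ * g'⁻¹ = d * (g' * d⁻¹ * g'⁻¹) by group]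
    exact mul_mem hd (cjC (H9.mem_normalizer_of_conj_mem fun z hz => k'.nZ hc hz) (inv_mem hd))
  obtain ⟨s, hs, z, hz, e⟩ := Tr.ker (g := (d * g' * d⁻¹ * g'⁻¹)⁻¹ * g) (by
    convert k1.inv.mul k using 1
    simp only [Units.val_mk0]
    field_simp
    linear_combination (-(β * (l + 1)) + β * l) * two σ) hc
  have e2 : g = d * g' * d⁻¹ * g'⁻¹ * s * z := by rw [mul_assoc _ s, ← e, mul_inv_cancel_left]
  have := cen_of_two (mul_mem h1 (show s ∈ centralizer (w.Z : Set G) from fun z hz => w.Zc' z hz s hs)) hz (w.Zo z hz) (e2 ▸ h2)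
  rwa [← e2] at this

/-- the second storey -/
structure St (w : Two σ G) (Y : Subgroup G) (b : G → F) : Prop where
  hc : w.c = 0
  pg : IsPGroup 2 Y
  tr : ∀ y ∈ Y, Tr w y (b y)
  cP : Y ≤ centralizer (w.P0 : Set G)
  su : ∀ x, ∃ y ∈ Y, b y = x
  ker : ∀ y ∈ Y, b y = 0 → y ∈ Y1 w
  le : Y1 w ≤ Y
  DN : w.D ≤ normalizer (Y : Set G)

theorem P0sq (hc : w.c = 0) (hs : s ∈ w.P0) : s * s = 1 := by
  rw [w.sq s hs.1, hs.2.1, hs.2.2, ce1, hc, nm0, add_zero, zero_add, zero_mul, w.vv_zero]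

theorem exH (w : Two σ G) : ∃ μ, w.cc (w.d μ) ≠ 1 ∧ w.d μ ∈ centralizer (w.P0 : Set G) := by
  obtain ⟨μ, -, h1, -, h3⟩ := w.exists_h0
  have D := w.d_mem_D μ
  refine ⟨μ * μ, fun h => h1 ?_, fun p hp => ?_⟩
  · rw [map_mul, w.cc_mul D.2 D.2, (w.ct_d μ).2.1] at h
    exact pow_eq_zero_iff two_ne_zero |>.1 (show (w.cc (w.d μ) - 1) ^ 2 = 0 by
      simp only [RingAut.one_apply] at h
      linear_combination h + (1 - w.cc (w.d μ)) * two σ) |> sub_eq_zero.1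
  · have m := cjS (DS D) hp.1
    have i := (inv_mem hp : p⁻¹ ∈ w.P0)
    obtain ⟨a1, a2, a3⟩ := dact μ hp.1
    obtain ⟨x, hx, e⟩ := w.mem_V.1 ((w.kerV _ (mul_mem m i.1)).2 (by
      rw [w.ee_mul _ m _ i.1, w.xx_mul _ m _ i.1, w.aa_mul _ m _ i.1, a1, a2, a3, h3, hp.2.1, hp.2.2, i.2.1, i.2.2,
        Ad.inv (Y := w.S) w.xx_mul hp.1]
      simp))
    have e1 := w.conj_vv D.2 hx
    rw [h3, (w.ct_d μ).2.1, one_mul, RingAut.one_apply] at e1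
    have e2 := w.V_sq (w.mem_V.2 ⟨x, hx, rfl⟩)
    nth_rewrite 1 [← e1] at e2
    rw [e] at e2
    rw [map_mul, ← mul_inv_eq_iff_eq_mul, eq_comm, ← mul_inv_eq_one, ← e2]
    group

theorem exSt (hc : w.c = 0) (su : ∀ γ, ∃ g, Tr w g γ) : ∃ Y b, St w Y b := by
  let W2 : Subgroup G :=
    { carrier := {g | ∃ β, Tr w g β}
      one_mem' := ⟨0, trS (one_mem _)⟩
      mul_mem' := fun ⟨_, h⟩ ⟨_, k⟩ => ⟨_, h.mul k⟩
      inv_mem' := fun ⟨_, h⟩ => ⟨_, h.inv⟩ }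
  have t := two σ
  have hZ : w.Z ≤ W2 ⊓ centralizer (w.P0 : Set G) := fun z hz => ⟨⟨0, trZ hz⟩, fun p hp => (w.Zc' z hz p hp.1).symm⟩
  obtain ⟨Y, h1, h2, h3, h4⟩ := twoPart hZ (fun g ⟨⟨β, k⟩, _⟩ => H9.mem_normalizer_of_conj_mem fun z hz => k.nZ hc hz)
    (fun g ⟨⟨β, k⟩, _⟩ => k.cZ hc su) w.Zo fun g ⟨⟨β, k⟩, _⟩ => by
    obtain ⟨s, hs, z, hz, e⟩ := Tr.ker (g := g * g) (by convert k.mul k using 1; linear_combination -β * t) hc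
    rw [show g ^ 8 = (g * g) ^ 4 by rw [← sq, ← pow_mul], e, szp hs hz, s4 hs, one_mul]
    exact pow_mem hz 4
  have : ∀ g, ∃ β, g ∈ W2 → Tr w g β := fun g => by
    by_cases h : g ∈ W2
    · exact h.imp fun _ k _ => k
    · exact ⟨0, fun k => absurd k h⟩
  choose b hb using this
  have p2 : ∀ y ∈ Y, ∃ k, y ^ 2 ^ k = 1 := fun y hy => (h2 ⟨y, hy⟩).imp fun k e => congrArg Subtype.val e
  refine ⟨Y, b, hc, h2, fun y hy => hb y (h1 hy).1, fun y hy => (h1 hy).2, fun x => ?_, fun y hy h => ⟨?_, (h1 hy).2⟩,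
    fun s hs => h4 s ⟨⟨0, trS hs.1⟩, hs.2⟩ ⟨2, s4 hs.1⟩, fun g hg => H9.mem_normalizer_of_conj_mem fun y hy => h4 _
      ⟨⟨_, (hb y (h1 hy).1).cjD hg⟩, cjC (w.M_le_NP (w.D_le_M hg)) (h1 hy).2⟩ ((p2 y hy).imp fun k e => by simp [e])⟩
  · obtain ⟨μ, m1, m2⟩ := exH w
    have l2 : w.cc (w.d μ) + 1 ≠ 0 := fun h => m1 (by linear_combination h - t)
    obtain ⟨g, k⟩ := su (x / (w.cc (w.d μ) + 1))
    have k1 := (k.cjd μ).mul k.inv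
    obtain ⟨p, hp, z, hz, e⟩ := h3 _ ⟨⟨_, k1⟩, by
      rw [show w.d μ * g * (w.d μ)⁻¹ * g⁻¹ = w.d μ * (g * (w.d μ)⁻¹ * g⁻¹) by group]
      refine mul_mem m2 (cjC (H9.mem_normalizer_of_conj_mem fun p hp => ⟨cjS k.1 hp.1, ?_⟩) (inv_mem m2))
      rw [(k.2 p hp.1).1, (k.2 p hp.1).2, hp.2.1, hp.2.2, ce1]; simp⟩
    refine ⟨p, hp, ?_⟩
    rw [← add_zero (b p), ((hb p (h1 hp).1).mul (trZ hz)).uniq (e ▸ k1)]
    field_simp
  · obtain ⟨s, hs, z, hz, e⟩ := Tr.ker (h ▸ hb y (h1 hy).1) hc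
    obtain ⟨k, hk⟩ := p2 y hy
    have this : z = 1 := w.Z_two hz (k := 2 + k) (by
      have h5 := szp hs hz 4
      rw [s4 hs, one_mul, ← e] at h5
      rw [pow_add, pow_mul, show 2 ^ 2 = 4 from rfl, ← h5, ← pow_mul, mul_comm, pow_mul, hk, one_pow])
    rwa [e, this, mul_one]

end Cfsg.Agent.WA.Lk.X4
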