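import Cfsg.Agent.WA.Lk1b

/-! The storey of order `q ^ 6`: coordinates. -/

set_option autoImplicit false
set_option linter.unusedSectionVars false

namespace Cfsg.Agent.WA.Lk.X3b

open Subgroup Cfsg.Agent.H1.U3 Cfsg.Agent.H8 X1

section field

variable {F : Type*} [Field F] [Finite F] {σ : F →+* F} [Ctx σ]

theorem ex_nK (σ : F →+* F) [Ctx σ] : ∃ l : F, σ l ≠ l := by
  obtain ⟨ω, h⟩ := Ctx.ex (σ := σ)
  exact ⟨ω, fun e => one_ne_zero (α := F) (by rw [e] at h; linear_combination -h + ω * two σ)⟩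

theorem nm_one : nm σ 1 = 1 := by simp [nm]

theorem nm_σ (a : F) : nm σ (σ a) = nm σ a := by rw [nm, nm, invol, mul_comm]

theorem nm_inv (A : F →+ F) (B : F → F) (hB : ∀ x y, σ x = x → σ y = y → B (x + y) = B x + B y)
    (hN : ∀ a, nm σ (A a) = B (nm σ a)) (hA : ∀ a, A (A a) = a) (a : F) : nm σ (A a) = nm σ a := by
  have c0 : A 1 ≠ 0 := fun h => one_ne_zero (α := F) (by rw [← hA 1, h, map_zero])
  have n0 : nm σ (A 1) ≠ 0 := fun h => c0 (nm0.1 h)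
  let A' : F →+ F := (AddMonoidHom.mulLeft (A 1)⁻¹).comp A
  have e : ∀ a, A a = A 1 * A' a := fun a => (mul_inv_cancel_left₀ c0 _).symm
  obtain ⟨h1, -⟩ := semilinear (σ := σ) A' (fun x => (nm σ (A 1))⁻¹ * B x) (inv_mul_cancel₀ c0)
    (fun x y hx hy => by rw [hB x y hx hy, mul_add]) fun a => by
      have := hN a
      rw [e a, nm_mul] at this
      exact (eq_inv_mul_iff_mul_eq₀ n0).2 this
  let τ0 : F →+* F := { A' with map_one' := inv_mul_cancel₀ c0, map_mul' := h1 }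
  let τ : RingAut F := RingEquiv.ofBijective τ0 (Finite.injective_iff_bijective.mp τ0.injective)
  have e' : ∀ a, A a = A 1 * τ a := e
  clear_value τ τ0
  generalize A 1 = c at e' c0
  have h2 : ∀ a, c * τ c * τ (τ a) = a := fun a => by rw [mul_assoc, ← map_mul, ← e', ← e', hA]
  have h3 : c * τ c = 1 := by simpa using h2 1
  rw [e', nm_mul]
  rcases eq_one_or_sig (σ := σ) τ (RingEquiv.ext fun a => by simpa [h3, pow_two] using h2 a) with h | h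
  · rw [h] at h3 ⊢
    rw [eq_one_of_pow_two_pow σ (c := c) (k := 1) (by simpa [pow_two] using h3), nm_one, one_mul]; rfl
  · rw [h, sigAut_apply] at h3 ⊢
    rw [nm_σ, nm, mul_comm _ c, h3, one_mul]

theorem alg2 (σ : F →+* F) [Ctx σ] {α b α' b' ζ ξ l : F} (h1 : α * b = 1) (h2 : α' * b' = l)
    (e1 : (ζ + α) * (ξ + b) = ζ * ξ) (e2 : (ζ + α') * (ξ + b') = ζ * ξ)
    (e3 : (ζ + (α + α')) * (ξ + (b + b')) = ζ * ξ) : l * l = l := by
  have t := two σ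
  have e4 : α * b' = α' * b := by linear_combination e3 - e1 - e2 - α' * b * t
  have e5 : α * b' * (α * b') = l := by linear_combination α * b' * e4 + α' * b' * h1 + h2
  have e6 : α * b' = l := by
    linear_combination (α * b') * e1 - e2 + (-(ζ * b') - α' * ξ - α * b') * h1 - (α * ξ) * e4 + h2
  rw [e6] at e5; exact e5

theorem alg1 {α β ζ l : F} (h1 : nm σ α = 1) (h2 : nm σ β = l) (e1 : nm σ (ζ + α) = nm σ ζ)
    (e2 : nm σ (ζ + β) = nm σ ζ) (e3 : nm σ (ζ + (α + β)) = nm σ ζ) : l * l = l := by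
  simp only [nm, map_add] at *
  exact alg2 σ h1 h2 e1 e2 e3

end field

variable {F : Type*} [Field F] [Finite F] {σ : F →+* F} [Ctx σ] {G : Type*} [Group G] [Finite G]
  {f : Fr σ G} {t : G} {Y W : Subgroup G} {a₁ a₂ : G → F}

/-- the split type -/
structure Sp (σ : F →+* F) (Y W : Subgroup G) (a₁ a₂ v₁ v₂ : G → F) : Prop where
  mul : ∀ x ∈ W, ∀ y ∈ W, v₁ (x * y) = v₁ x + v₁ y ∧ v₂ (x * y) = v₂ x + v₂ y
  fix : ∀ x ∈ W, σ (v₁ x) = v₁ x ∧ σ (v₂ x) = v₂ x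
  inj : ∀ x ∈ W, v₁ x = 0 → v₂ x = 0 → x = 1
  sq : ∀ y ∈ Y, v₁ (y * y) = nm σ (a₁ y) ∧ v₂ (y * y) = nm σ (a₂ y)

/-- the non-split type -/
structure Ns (σ : F →+* F) (Y W : Subgroup G) (a₁ a₂ w : G → F) : Prop where
  mul : ∀ x ∈ W, ∀ y ∈ W, w (x * y) = w x + w y
  inj : ∀ x ∈ W, w x = 0 → x = 1
  sq : ∀ y ∈ Y, w (y * y) = a₁ y * σ (a₂ y)

theorem Sp.symm {v₁ v₂ : G → F} (k : Sp σ Y W a₁ a₂ v₁ v₂) : Sp σ Y W a₂ a₁ v₂ v₁ :=
  ⟨fun x hx y hy => (k.mul x hx y hy).symm, fun x hx => (k.fix x hx).symm, fun x hx h1 h2 => k.inj x hx h2 h1,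
    fun y hy => (k.sq y hy).symm⟩

theorem Ns.symm {w : G → F} (k : Ns σ Y W a₁ a₂ w) : Ns σ Y W a₂ a₁ fun x => σ (w x) :=
  ⟨fun x hx y hy => by rw [k.mul x hx y hy, map_add], fun x hx h => k.inj x hx ((map_eq_zero σ).1 h),
    fun y hy => by rw [k.sq y hy, map_mul, invol, mul_comm]⟩

theorem add_one {X : Subgroup G} {b : G → F} (mul : ∀ x ∈ X, ∀ y ∈ X, b (x * y) = b x + b y) : b 1 = 0 := by
  have := mul 1 X.one_mem 1 X.one_mem
  rw [mul_one] at this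
  exact left_eq_add.1 this

theorem add_inv (σ : F →+* F) [Ctx σ] {X : Subgroup G} {b : G → F} (mul : ∀ x ∈ X, ∀ y ∈ X, b (x * y) = b x + b y)
    {x : G} (hx : x ∈ X) : b x⁻¹ = b x := by
  have := mul x⁻¹ (inv_mem hx) x hx
  rw [inv_mul_cancel, add_one mul] at this
  exact (add0 σ).1 this.symm

theorem aa (σ : F →+* F) [Ctx σ] (x : F) : x + x = 0 := (add0 σ).2 rfl

theorem Sp.ext {v₁ v₂ : G → F} (k : Sp σ Y W a₁ a₂ v₁ v₂) {x y : G} (hx : x ∈ W) (hy : y ∈ W) (h1 : v₁ x = v₁ y)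
    (h2 : v₂ x = v₂ y) : x = y :=
  inv_mul_eq_one.1 (k.inj _ (mul_mem (inv_mem hx) hy)
    (by rw [(k.mul _ (inv_mem hx) _ hy).1, add_inv σ (fun x hx y hy => (k.mul x hx y hy).1) hx, h1, aa σ])
    (by rw [(k.mul _ (inv_mem hx) _ hy).2, add_inv σ (fun x hx y hy => (k.mul x hx y hy).2) hx, h2, aa σ]))

theorem Ns.ext {w : G → F} (k : Ns σ Y W a₁ a₂ w) {x y : G} (hx : x ∈ W) (hy : y ∈ W) (h1 : w x = w y) : x = y :=
  inv_mul_eq_one.1 (k.inj _ (mul_mem (inv_mem hx) hy)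
    (by rw [k.mul _ (inv_mem hx) _ hy, add_inv σ k.mul hx, h1, aa σ]))

variable (h : f.Six t Y W a₁ a₂)
include h

theorem cases : (∃ v₁ v₂, Sp σ Y W a₁ a₂ v₁ v₂) ∨ ∃ w, Ns σ Y W a₁ a₂ w :=
  h.type.imp (fun ⟨v₁, v₂, a, b, c, d⟩ => ⟨v₁, v₂, a, b, c, d⟩) fun ⟨w, a, b, c⟩ => ⟨w, a, b, c⟩

theorem t2 : t * t = 1 := f.E_sq t h.tE

theorem tinv : t⁻¹ = t := inv_eq_of_mul_eq_one_right (t2 h)

theorem tT : t ∈ f.T := f.T1_le_T (mem_sup_left h.tE)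

omit h in
theorem cjY {g y : G} (hg : g ∈ normalizer (Y : Set G)) (hy : y ∈ Y) : g * y * g⁻¹ ∈ Y :=
  (mem_normalizer_iff.1 hg y).1 hy

theorem tY {y : G} (hy : y ∈ Y) : t * y * t ∈ Y := by
  have := cjY (h.TN (tT h)) hy
  rwa [tinv h] at this

theorem symm : f.Six t Y W a₂ a₁ :=
  { h with
    a₁_mul := h.a₂_mul, a₂_mul := h.a₁_mul, a₁_j := h.a₂_j, a₂_j := h.a₁_j
    ker := fun y hy => (h.ker y hy).trans and_comm
    surj := fun a b => (h.surj b a).imp fun y hy => ⟨hy.1, hy.2.symm⟩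
    swap := fun y hy => by
      rw [← h.swap _ (tY h hy), show t * (t * y * t) * t = t * t * y * (t * t) by group, t2 h, one_mul, mul_one]
    type := (cases h).imp (fun ⟨v₁, v₂, k⟩ => ⟨v₂, v₁, k.symm.1, k.symm.2, k.symm.3, k.symm.4⟩)
      fun ⟨_, k⟩ => ⟨_, k.symm.1, k.symm.2, k.symm.3⟩ }

theorem a_inv {y : G} (hy : y ∈ Y) : a₁ y⁻¹ = a₁ y := add_inv σ h.a₁_mul hy

theorem a_conj {x y : G} (hx : x ∈ Y) (hy : y ∈ Y) : a₁ (x * y * x⁻¹) = a₁ y := by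
  rw [h.a₁_mul _ (mul_mem hx hy) _ (inv_mem hx), h.a₁_mul _ hx _ hy, a_inv h hx]
  linear_combination aa σ (a₁ x)

theorem a_W {y : G} (hy : y ∈ W) : a₁ y = 0 := ((h.ker y (h.WY hy)).1 hy).1

theorem divW {x y : G} (hx : x ∈ Y) (hy : y ∈ Y) (h1 : a₁ x = a₁ y) (h2 : a₂ x = a₂ y) : x⁻¹ * y ∈ W :=
  (h.ker _ (mul_mem (inv_mem hx) hy)).2 ⟨by rw [h.a₁_mul _ (inv_mem hx) _ hy, a_inv h hx, h1, aa σ],
    by rw [h.a₂_mul _ (inv_mem hx) _ hy, a_inv (symm h) hx, h2, aa σ]⟩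

theorem sqW {y : G} (hy : y ∈ Y) : y * y ∈ W :=
  (h.ker _ (mul_mem hy hy)).2 ⟨by rw [h.a₁_mul _ hy _ hy, aa σ], by rw [h.a₂_mul _ hy _ hy, aa σ]⟩

theorem cmW {x y : G} (hx : x ∈ Y) (hy : y ∈ Y) : x⁻¹ * (y * x * y⁻¹) ∈ W :=
  divW h hx (mul_mem (mul_mem hy hx) (inv_mem hy)) (a_conj h hy hx).symm (a_conj (symm h) hy hx).symm

omit h in
theorem cm_add {b : G → F} (h : f.Six t Y W a₁ a₂) (mul : ∀ x ∈ W, ∀ y ∈ W, b (x * y) = b x + b y) {x y : G}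
    (hx : x ∈ Y) (hy : y ∈ Y) : b (x⁻¹ * (y * x * y⁻¹)) = b (x * y * (x * y)) + b (x * x) + b (y * y) := by
  rw [show x * y * (x * y) = x * x * (x⁻¹ * (y * x * y⁻¹)) * (y * y) by group,
    mul _ (mul_mem (sqW h hx) (cmW h hx hy)) _ (sqW h hy), mul _ (sqW h hx) _ (cmW h hx hy)]
  linear_combination -aa σ (b (x * x)) - aa σ (b (y * y))

theorem Sp.cm {v₁ v₂ : G → F} (k : Sp σ Y W a₁ a₂ v₁ v₂) {x y : G} (hx : x ∈ Y) (hy : y ∈ Y) :
    v₁ (x⁻¹ * (y * x * y⁻¹)) = bl σ (a₁ x) (a₁ y) := by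
  rw [cm_add h (fun x hx y hy => (k.mul x hx y hy).1) hx hy, (k.sq _ hx).1, (k.sq _ hy).1, (k.sq _ (mul_mem hx hy)).1,
    h.a₁_mul _ hx _ hy, nm_add]
  linear_combination aa σ (nm σ (a₁ x)) + aa σ (nm σ (a₁ y))

theorem Ns.cm {w : G → F} (k : Ns σ Y W a₁ a₂ w) {x y : G} (hx : x ∈ Y) (hy : y ∈ Y) :
    w (x⁻¹ * (y * x * y⁻¹)) = a₁ x * σ (a₂ y) + a₁ y * σ (a₂ x) := by
  rw [cm_add h k.mul hx hy, k.sq _ hx, k.sq _ hy, k.sq _ (mul_mem hx hy), h.a₁_mul _ hx _ hy, h.a₂_mul _ hx _ hy, map_add]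
  linear_combination aa σ (a₁ x * σ (a₂ x)) + aa σ (a₁ y * σ (a₂ y))

theorem W_sq {w : G} (hw : w ∈ W) : ∃ y ∈ Y, y * y = w := by
  rcases cases h with ⟨v₁, v₂, k⟩ | ⟨v, k⟩
  · obtain ⟨a, ha⟩ := exists_nm (k.fix w hw).1
    obtain ⟨b, hb⟩ := exists_nm (k.fix w hw).2
    obtain ⟨y, hy, rfl, rfl⟩ := h.surj a b
    exact ⟨y, hy, k.ext (sqW h hy) hw ((k.sq y hy).1.trans ha) ((k.sq y hy).2.trans hb)⟩
  · obtain ⟨y, hy, e1, e2⟩ := h.surj (v w) 1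
    exact ⟨y, hy, k.ext (sqW h hy) hw (by rw [k.sq y hy, e1, e2, map_one, mul_one])⟩

theorem cjW {g w : G} (hg : g ∈ normalizer (Y : Set G)) (hw : w ∈ W) : g * w * g⁻¹ ∈ W := by
  obtain ⟨y, hy, rfl⟩ := W_sq h hw
  rw [show g * (y * y) * g⁻¹ = g * y * g⁻¹ * (g * y * g⁻¹) by group]
  exact sqW h (cjY hg hy)

theorem NY_le : normalizer (Y : Set G) ≤ normalizer (W : Set G) := fun g hg =>
  mem_normalizer_of_cj_le (by rintro _ ⟨w, hw, rfl⟩; exact cjW h hg hw)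

theorem tnY : t ∉ Y := fun ht => by
  obtain ⟨u, e⟩ := h.CY t ht rfl
  exact h.t1 (f.disj t h.tE (e ▸ f.jU u))

/-- the involutions of `t Y` are conjugate under `Y` -/
theorem conj_t {y : G} (hy : y ∈ Y) (e : t * y * (t * y) = 1) : ∃ x ∈ Y, x * t * x⁻¹ = t * y := by
  have ti := tinv h
  have tW : ∀ w ∈ W, t * w * t ∈ W := fun w hw => by
    have := cjW h (h.TN (tT h)) hw
    rwa [ti] at this
  have mul : ∀ a ∈ W, ∀ b ∈ W, t * (a * b) * t * (a * b) = t * a * t * a * (t * b * t * b) := fun a ha b hb => by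
    calc t * (a * b) * t * (a * b) = t * a * (t * t) * b * t * a * b := by rw [t2 h]; group
      _ = t * a * t * ((t * b * t) * a) * b := by group
      _ = _ := by rw [h.Wc _ (tW b hb) a (h.WY ha)]; group
  have cV : ∀ w ∈ W, w * t = t * w → w ∈ f.V := fun w hw e => by
    obtain ⟨u, rfl⟩ := h.CY w (h.WY hw) e
    exact f.j_mem_V.2 ((h.a₁_j u).symm.trans (a_W h hw))
  have hR : (hom (ψ := fun a => t * a * t * a) mul).range = f.V := by
    refine eq_of_le_of_card_ge ?_ ?_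
    · rintro _ ⟨⟨a, ha⟩, rfl⟩
      refine cV _ (mul_mem (tW a ha) ha) ?_
      change t * a * t * a * t = t * (t * a * t * a)
      calc t * a * t * a * t = a * t * a * (t * t) := by rw [h.Wc _ (tW a ha) a (h.WY ha)]; group
        _ = t * t * a * t * a := by rw [t2 h]; group
        _ = _ := by group
    · have := card_le (N := f.V) (ψ := fun a => t * a * t * a) (K := (hom (ψ := fun a => t * a * t * a) mul).range) mul
        (fun a ha => ⟨⟨a, ha⟩, rfl⟩) fun a ha e => cV a ha (by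
          rw [mul_eq_one_iff_eq_inv, inv_eq_of_mul_eq_one_right (h.Wsq a ha)] at e
          calc a * t = t * (t * a * t) := by rw [← mul_assoc, ← mul_assoc, t2 h, one_mul]
            _ = _ := by rw [e])
      rw [h.cardW, f.card_V, pow_two] at this
      rw [f.card_V]
      exact Nat.le_of_mul_le_mul_left this (by have := f.four_le; omega)
  have e1 : t * y * t = y⁻¹ := eq_inv_of_mul_eq_one_left (by rw [← e]; group)
  have e2 : a₂ y = a₁ y := by rw [← h.swap y hy, e1, a_inv h hy]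
  obtain ⟨x, hx, x1, x2⟩ := h.surj 0 (a₁ y)
  have hy' := mul_mem (tY h hx) (inv_mem hx)
  have hw := divW h hy' hy (by rw [h.a₁_mul _ (tY h hx) _ (inv_mem hx), h.swap x hx, a_inv h hx, x1, x2, add_zero])
    (by rw [h.a₂_mul _ (tY h hx) _ (inv_mem hx), (symm h).swap x hx, a_inv (symm h) hx, x1, x2, zero_add, e2])
  set w := (t * x * t * x⁻¹)⁻¹ * y with hwd
  have e3 : t * y = x * t * x⁻¹ * w := by
    rw [hwd, ← mul_assoc, show x * t * x⁻¹ * (t * x * t * x⁻¹)⁻¹ = x * (t * t⁻¹) * x⁻¹ * t⁻¹ by group, ti, t2 h]; group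
  have e4 : w * t = t * w := by
    rw [e3] at e
    have e5 : x⁻¹ * w * x = w := by rw [mul_assoc, h.Wc w hw x hx]; group
    have e6 : t * w * t * w = 1 := by
      calc t * w * t * w = x⁻¹ * (x * t * x⁻¹ * (x * w * x⁻¹) * (x * t * x⁻¹ * (x * w * x⁻¹))) * x := by group
        _ = 1 := by rw [← h.Wc w hw x hx, mul_inv_cancel_right, e]; group
    rw [mul_eq_one_iff_eq_inv, inv_eq_of_mul_eq_one_right (h.Wsq w hw)] at e6
    calc w * t = t * (t * w * t) := by rw [← mul_assoc, ← mul_assoc, t2 h, one_mul]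
      _ = _ := by rw [e6]
  obtain ⟨⟨r, hr⟩, e5⟩ := hR.ge (cV w hw e4)
  have e5' : t * r * t * r = w := e5
  refine ⟨x * r, mul_mem hx (h.WY hr), ?_⟩
  rw [e3, mul_assoc _ _ w, ← h.Wc w hw _ (inv_mem hx), ← e5', mul_inv_rev, inv_eq_of_mul_eq_one_right (h.Wsq r hr)]
  calc x * r * t * (r * x⁻¹) = x * (t * t) * r * t * r * x⁻¹ := by rw [t2 h]; group
    _ = _ := by group

end Cfsg.Agent.WA.Lk.X3b
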