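import Cfsg.Agent.H7.Mu3
import Cfsg.Agent.H1.U3b
import Cfsg.Agent.H8.SylowIn
import Cfsg.Agent.H9.Fusion
import Cfsg.Prelude.Def_TwoFusion
import Cfsg.Prelude.Def_Transfer

/-! Definitions for the unitary component theorem in elementary abelian form (see PLAN_LK.md). -/

set_option autoImplicit false

namespace Cfsg.Agent.WA.Lk

open Subgroup Cfsg.Agent.H1.U3 Cfsg.Agent.H8

variable {F : Type*} [Field F] (σ : F →+* F)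

/-- the norm -/
def nm (a : F) : F := σ a * a

/-- the polar form of the norm -/
def bl (a b : F) : F := σ a * b + σ b * a

variable [Ctx σ]

/-- The frame: `C(e) = E × U` for `e ∈ E#`, `Q = j.range` a Sylow 2-subgroup of the unitary
component, `d` its split torus, `Z` its centre, `T` a Sylow 2-subgroup of `C(E)`. -/
structure Fr (G : Type*) [Group G] where
  n : ℕ
  hn : 2 ≤ n
  hF : Nat.card F = 4 ^ n
  j : US σ →* G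
  j_inj : Function.Injective j
  d : Fˣ →* G
  d_j : ∀ μ u, d μ * j u * (d μ)⁻¹ = j (H7.Mu.ac3 μ u)
  E : Subgroup G
  U : Subgroup G
  Z : Subgroup G
  T : Subgroup G
  E_ne : E ≠ ⊥
  E_sq : ∀ e ∈ E, e * e = 1
  cen : ∀ e ∈ E, e ≠ 1 → centralizer {e} = centralizer (E : Set G)
  U_le : U ≤ centralizer (E : Set G)
  dec : ∀ x ∈ centralizer (E : Set G), ∃ e ∈ E, ∃ u ∈ U, x = e * u
  disj : ∀ e ∈ E, e ∈ U → e = 1
  jU : ∀ u, j u ∈ U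
  dU : ∀ μ, d μ ∈ U
  ZU : Z ≤ U
  Zo : ∀ z ∈ Z, Odd (orderOf z)
  Zj : ∀ z ∈ Z, ∀ u, z * j u = j u * z
  Zd : ∀ z ∈ Z, ∀ μ, z * d μ = d μ * z
  ti : ∀ x ∈ normalizer (E : Set G), ∀ u u', u ≠ 1 → x * j u * x⁻¹ = j u' →
    x ∈ normalizer (j.range : Set G)
  ker : ∀ x ∈ centralizer (E : Set G), (∀ u, ∃ u', x * j u * x⁻¹ = j u' ∧ u'.a = u.a) →
    ∃ e ∈ E, ∃ u, ∃ z ∈ Z, x = e * j u * z
  T_syl : IsSylowIn 2 T (centralizer (E : Set G))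
  T_N : T ≤ normalizer (j.range : Set G)
  jT : ∀ u, j u ∈ T

variable {σ} {G : Type*} [Group G]

namespace Fr

variable (f : Fr σ G)

/-- the order of the fixed field -/
def q : ℕ := 2 ^ f.n
abbrev Q : Subgroup G := f.j.range
def V : Subgroup G := (center (US σ)).map f.j
abbrev C : Subgroup G := centralizer (f.E : Set G)
def A : Subgroup G := f.E ⊔ f.V
def T1 : Subgroup G := f.E ⊔ f.Q
def D : Subgroup G := f.C ⊓ normalizer (f.Q : Set G)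

open Classical in
/-- the element of `V` with coordinate `x` in the fixed field -/
noncomputable def vv (x : F) : G := if h : σ x = x then f.j (zz x h) else 1

open Classical in
/-- the automorphism of `US σ` induced by `g ∈ N(Q)` -/
noncomputable def aut (g : G) : MulAut (US σ) :=
  if h : g ∈ normalizer (f.Q : Set G) then
    ((MonoidHom.ofInjective f.j_inj).trans (f.Q.normalizerMonoidHom ⟨g, h⟩)).trans
      (MonoidHom.ofInjective f.j_inj).symm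
  else 1

/-- `g ∈ N(Q)` acts on `Q/V = F` as `a ↦ cc g * tt g a` -/
noncomputable def cc [Finite F] (g : G) : F := (exists_semilinear (f.aut g)).choose

noncomputable def tt [Finite F] (g : G) : RingAut F :=
  (exists_semilinear (f.aut g)).choose_spec.choose

/-- conjugates of the elements of `E#` -/
def TC (s : G) : Prop := ∃ e ∈ f.E, e ≠ 1 ∧ IsConj e s

/-- conjugates of the elements of `V#` -/
def VC (s : G) : Prop := ∃ v ∈ f.V, v ≠ 1 ∧ IsConj v s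

/-- the conclusion of the theorem -/
def Con : Prop :=
  (∃ (P : Sylow 2 G) (X : Subgroup G), X ≠ ⊥ ∧ IsElementaryAbelian 2 X ∧
    IsStronglyClosed X (P : Subgroup G)) ∨
  (Nat.card f.E = 2 ∧ ∃ H : Subgroup G, IsComplement' f.E H)

/-- `E = {1, t}` -/
structure Inv (t : G) : Prop where
  tE : t ∈ f.E
  t1 : t ≠ 1
  E2 : ∀ e ∈ f.E, e = 1 ∨ e = t

/-- level `k` of the homocyclic tower (`|E| = 2`) -/
structure Lev (t : G) (k : ℕ) (B : Subgroup G) : Prop extends f.Inv t where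
  k1 : 1 ≤ k
  comm : ∀ a ∈ B, ∀ b ∈ B, a * b = b * a
  cQ : B ≤ centralizer (f.Q : Set G)
  VB : f.V ≤ B
  inv : ∀ b ∈ B, t * b * t = b⁻¹
  exp : ∀ b ∈ B, b ^ 2 ^ k = 1
  card : Nat.card B = f.q ^ k
  om : ∀ b ∈ B, b * b = 1 → b ∈ f.V
  can : ∀ x ∈ centralizer (f.Q : Set G), t * x * t = x⁻¹ → x ^ 2 ^ k = 1 → x ∈ B ∨ t * x ∈ f.V
  fus : ∀ b ∈ B, IsConj t (t * b)
  dc : ∀ μ : Fˣ, nm σ (μ : F) = 1 → ∀ b ∈ B, f.d μ * b = b * f.d μ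
  Zc : ∀ z ∈ f.Z, ∀ b ∈ B, z * b = b * z

/-- the non-abelian top of the tower: `P` has order `q ^ 3`, `P / V = K × K`. -/
structure Top (t : G) (P : Subgroup G) (y ξ : G → F) (κ : F) : Prop extends f.Inv t where
  pg : IsPGroup 2 P
  VP : f.V ≤ P
  cQ : P ≤ centralizer (f.Q : Set G)
  DN : f.D ≤ normalizer (P : Set G)
  Zc : ∀ z ∈ f.Z, ∀ b ∈ P, z * b = b * z
  κK : σ κ = κ
  yK : ∀ x ∈ P, σ (y x) = y x
  ξK : ∀ x ∈ P, σ (ξ x) = ξ x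
  y_mul : ∀ a ∈ P, ∀ b ∈ P, y (a * b) = y a + y b
  ξ_mul : ∀ a ∈ P, ∀ b ∈ P, ξ (a * b) = ξ a + ξ b
  ker : ∀ x ∈ P, x ∈ f.V ↔ y x = 0 ∧ ξ x = 0
  surj : ∀ a b : F, σ a = a → σ b = b → ∃ x ∈ P, y x = a ∧ ξ x = b
  sq : ∀ x ∈ P, x * x = f.vv (y x ^ 2 + y x * ξ x + κ * ξ x ^ 2)
  cm : ∀ a ∈ P, ∀ b ∈ P, a * b * a⁻¹ * b⁻¹ = f.vv (y a * ξ b + y b * ξ a)
  ty : ∀ x ∈ P, y (t * x * t) = y x + ξ x
  tξ : ∀ x ∈ P, ξ (t * x * t) = ξ x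
  inv : ∀ x ∈ P, ξ x = 0 → t * x * t = x⁻¹

/-- the storey of order `q ^ 6` (`|E| = 2`): `Y / W = F × F`, `W` central of order `q ^ 2`. -/
structure Six (t : G) (Y W : Subgroup G) (a₁ a₂ : G → F) : Prop extends f.Inv t where
  pg : IsPGroup 2 Y
  WY : W ≤ Y
  Wc : ∀ w ∈ W, ∀ y ∈ Y, w * y = y * w
  Wsq : ∀ w ∈ W, w * w = 1
  cardW : Nat.card W = f.q ^ 2
  TN : f.T ≤ normalizer (Y : Set G)
  a₁_mul : ∀ x ∈ Y, ∀ y ∈ Y, a₁ (x * y) = a₁ x + a₁ y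
  a₂_mul : ∀ x ∈ Y, ∀ y ∈ Y, a₂ (x * y) = a₂ x + a₂ y
  ker : ∀ y ∈ Y, y ∈ W ↔ a₁ y = 0 ∧ a₂ y = 0
  surj : ∀ a b : F, ∃ y ∈ Y, a₁ y = a ∧ a₂ y = b
  jY : ∀ u, f.j u ∈ Y
  a₁_j : ∀ u, a₁ (f.j u) = u.a
  a₂_j : ∀ u, a₂ (f.j u) = u.a
  CY : ∀ y ∈ Y, y * t = t * y → y ∈ f.Q
  swap : ∀ y ∈ Y, a₁ (t * y * t) = a₂ y
  type : (∃ v₁ v₂ : G → F, (∀ x ∈ W, ∀ y ∈ W, v₁ (x * y) = v₁ x + v₁ y ∧ v₂ (x * y) = v₂ x + v₂ y) ∧
        (∀ x ∈ W, σ (v₁ x) = v₁ x ∧ σ (v₂ x) = v₂ x) ∧ (∀ x ∈ W, v₁ x = 0 → v₂ x = 0 → x = 1) ∧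
        ∀ y ∈ Y, v₁ (y * y) = nm σ (a₁ y) ∧ v₂ (y * y) = nm σ (a₂ y)) ∨
      ∃ w : G → F, (∀ x ∈ W, ∀ y ∈ W, w (x * y) = w x + w y) ∧ (∀ x ∈ W, w x = 0 → x = 1) ∧
        ∀ y ∈ Y, w (y * y) = a₁ y * σ (a₂ y)

end Fr

variable (σ) in
/-- Case II: the first storey `S = O₂(N(A))`-part with `S / V = E × K × F`. -/
structure Two [Finite F] (G : Type*) [Group G] extends Fr σ G where
  S : Subgroup G
  c : F
  ce : G → F
  ee : G → G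
  xx : G → F
  aa : G → F
  pg : IsPGroup 2 S
  ES : E ≤ S
  jS : ∀ u, j u ∈ S
  cK : σ c = c
  ceK : ∀ e ∈ E, σ (ce e) = ce e
  ce_mul : ∀ e ∈ E, ∀ e' ∈ E, ce (e * e') = ce e + ce e'
  ce_inj : ∀ e ∈ E, ce e = 0 → e = 1
  eeE : ∀ s ∈ S, ee s ∈ E
  xxK : ∀ s ∈ S, σ (xx s) = xx s
  ee_mul : ∀ s ∈ S, ∀ r ∈ S, ee (s * r) = ee s * ee r
  xx_mul : ∀ s ∈ S, ∀ r ∈ S, xx (s * r) = xx s + xx r
  aa_mul : ∀ s ∈ S, ∀ r ∈ S, aa (s * r) = aa s + aa r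
  kerV : ∀ s ∈ S, s ∈ toFr.V ↔ ee s = 1 ∧ xx s = 0 ∧ aa s = 0
  surj : ∀ e ∈ E, ∀ x a : F, σ x = x → ∃ s ∈ S, ee s = e ∧ xx s = x ∧ aa s = a
  on_E : ∀ e ∈ E, ee e = e ∧ xx e = 0 ∧ aa e = 0
  on_j : ∀ u, ee (j u) = 1 ∧ xx (j u) = 0 ∧ aa (j u) = u.a
  sq : ∀ s ∈ S, s * s = toFr.vv ((ce (ee s) + c) * xx s + nm σ (aa s))
  cm : ∀ s ∈ S, ∀ r ∈ S, s * r * s⁻¹ * r⁻¹ =
    toFr.vv (ce (ee s) * xx r + ce (ee r) * xx s + bl σ (aa s) (aa r))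
  Zc' : ∀ z ∈ Z, ∀ s ∈ S, z * s = s * z
  /-- `M = N(A)` normalizes `S`, `Q` and `P₀` -/
  MS : normalizer (toFr.A : Set G) ≤ normalizer (S : Set G)
  MQ : normalizer (toFr.A : Set G) ≤ normalizer (j.range : Set G)
  MP : ∀ g ∈ normalizer (toFr.A : Set G), ∀ s ∈ S, ee s = 1 → aa s = 0 →
    ee (g * s * g⁻¹) = 1 ∧ aa (g * s * g⁻¹) = 0
  M_dec : ∀ g ∈ normalizer (toFr.A : Set G), ∃ s ∈ S, s⁻¹ * g ∈ normalizer (E : Set G)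
  D_act : ∀ g ∈ toFr.D, ∀ s ∈ S, ee (g * s * g⁻¹) = ee s ∧
    xx (g * s * g⁻¹) = nm σ (toFr.cc g) * toFr.tt g (xx s) ∧
    aa (g * s * g⁻¹) = toFr.cc g * toFr.tt g (aa s)

namespace Two

variable [Finite F] (w : Two σ G)

/-- `P₀ = {(1, x, 0)}` -/
def P0 : Subgroup G where
  carrier := {s | s ∈ w.S ∧ w.ee s = 1 ∧ w.aa s = 0}
  one_mem' := ⟨w.S.one_mem, (w.on_E 1 w.E.one_mem).1, (w.on_E 1 w.E.one_mem).2.2⟩
  mul_mem' := fun {a b} ha hb => ⟨w.S.mul_mem ha.1 hb.1, by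
    rw [w.ee_mul a ha.1 b hb.1, ha.2.1, hb.2.1, one_mul], by
    rw [w.aa_mul a ha.1 b hb.1, ha.2.2, hb.2.2, add_zero]⟩
  inv_mem' := fun {a} ha => by
    have h1 := w.ee_mul a ha.1 _ (w.S.inv_mem ha.1)
    have h2 := w.aa_mul a ha.1 _ (w.S.inv_mem ha.1)
    rw [mul_inv_cancel] at h1 h2
    rw [(w.on_E 1 w.E.one_mem).1, ha.2.1, one_mul] at h1
    rw [(w.on_E 1 w.E.one_mem).2.2, ha.2.2, zero_add] at h2
    exact ⟨w.S.inv_mem ha.1, h1.symm, h2.symm⟩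

/-- `A_α = {(e, c_e N α, c_e α)}` -/
def pt (α : F) : Subgroup G where
  carrier := {s | s ∈ w.S ∧ w.xx s = w.ce (w.ee s) * nm σ α ∧ w.aa s = w.ce (w.ee s) * α}
  one_mem' := by
    have h := w.on_E 1 w.E.one_mem
    have h0 : w.ce 1 = 0 := by
      have := w.ce_mul 1 w.E.one_mem 1 w.E.one_mem
      rw [mul_one] at this
      exact left_eq_add.1 this
    exact ⟨w.S.one_mem, by rw [h.1, h.2.1, h0, zero_mul], by rw [h.1, h.2.2, h0, zero_mul]⟩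
  mul_mem' := fun {a b} ha hb => ⟨w.S.mul_mem ha.1 hb.1, by
    rw [w.xx_mul a ha.1 b hb.1, w.ee_mul a ha.1 b hb.1,
      w.ce_mul _ (w.eeE a ha.1) _ (w.eeE b hb.1), ha.2.1, hb.2.1, add_mul], by
    rw [w.aa_mul a ha.1 b hb.1, w.ee_mul a ha.1 b hb.1,
      w.ce_mul _ (w.eeE a ha.1) _ (w.eeE b hb.1), ha.2.2, hb.2.2, add_mul]⟩
  inv_mem' := fun {a} ha => by
    have hi := w.S.inv_mem ha.1
    have h := w.on_E 1 w.E.one_mem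
    have h1 := w.ee_mul a ha.1 _ hi
    have h2 := w.xx_mul a ha.1 _ hi
    have h3 := w.aa_mul a ha.1 _ hi
    rw [mul_inv_cancel] at h1 h2 h3
    rw [h.1] at h1
    rw [h.2.1] at h2
    rw [h.2.2] at h3
    have h4 : w.ee a⁻¹ = w.ee a :=
      mul_left_cancel (h1.symm.trans (w.E_sq _ (w.eeE a ha.1)).symm)
    refine ⟨hi, ?_, ?_⟩
    · rw [h4, ← ha.2.1]
      linear_combination -h2 - w.xx a * two σ
    · rw [h4, ← ha.2.2]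
      linear_combination -h3 - w.aa a * two σ

/-- the Sylow 2-subgroup `S T` of `N(A)` -/
def R : Subgroup G := w.S ⊔ w.T

end Two

end Cfsg.Agent.WA.Lk
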