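import Cfsg.Agent.H7.Mu4

/-! The group `SU₃(2ⁿ)`: Bruhat decomposition and trivial intersections. -/

set_option autoImplicit false
set_option linter.unusedSectionVars false

namespace Cfsg.Agent.WA.LkX

open Subgroup Matrix Cfsg.Agent.H1.U3 Cfsg.Agent.BS.Rec Cfsg.Agent.H7.Mu
open scoped commutatorElement

variable {F : Type*} [Field F] {σ : F →+* F} [Ctx σ] {q : ℕ} (hq : ∀ x, σ x = x ^ q)

theorem cm_inv_e3 {A : SU 3 F q} {v w : Fin 3 → F} (h : cm A *ᵥ v = w) : cm A⁻¹ *ᵥ w = v := by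
  rw [← h, mulVec_mulVec, ← cm_mul, inv_mul_cancel, cm_one, one_mulVec]

theorem bruhat1 {A : SU 3 F q} {c : F} (hc : c ≠ 0) (e : cm A *ᵥ e3 1 = e3 c) :
    ∃ μ u, A = δ hq μ * toSU hq u := by
  obtain ⟨u, hu⟩ := stab_e3 hq (A := (δ hq (Units.mk0 c hc))⁻¹ * A) (by
    rw [cm_mul, ← mulVec_mulVec, e]; exact cm_inv_e3 (δ_e3 hq _))
  exact ⟨Units.mk0 c hc, u, by rw [hu]; group⟩

theorem bruhat (A : SU 3 F q) : (∃ μ u, A = δ hq μ * toSU hq u) ∨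
    ∃ v μ u, A = toSU hq v * wSU hq * δ hq μ * toSU hq u := by
  rcases iso_cases (cm_iso hq A (iso_e3 one_ne_zero)).1 (cm_iso hq A (iso_e3 one_ne_zero)).2 with
    ⟨c, hc, e⟩ | ⟨c, v, hc, e⟩
  · exact Or.inl (bruhat1 hq hc e)
  · obtain ⟨u, hu⟩ := stab_e3 hq (A := (toSU hq v * wSU hq * δ hq (Units.mk0 c hc))⁻¹ * A) (by
      rw [cm_mul, ← mulVec_mulVec, e]
      refine cm_inv_e3 ?_
      rw [cm_mul, cm_mul, ← mulVec_mulVec, ← mulVec_mulVec, δ_e3, W_e3, cm_U, um_iv, mul_one]; rfl)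
    exact Or.inr ⟨v, Units.mk0 c hc, u, by rw [hu]; group⟩

theorem iv_inj {c : F} (hc : c ≠ 0) {u v : US σ} (h : iv c u = iv c v) : u = v :=
  US.ext (mul_left_cancel₀ hc (congrFun h 1)) (mul_left_cancel₀ hc (congrFun h 0))

/-- trivial intersection -/
theorem ti {A : SU 3 F q} {u v : US σ} (hu : u ≠ 1) (e : A * toSU hq u * A⁻¹ = toSU hq v) :
    ∃ μ s, A = δ hq μ * toSU hq s := by
  have h1 : cm (toSU hq u) *ᵥ (cm A⁻¹ *ᵥ e3 1) = cm A⁻¹ *ᵥ e3 1 := by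
    rw [show toSU hq u = A⁻¹ * toSU hq v * A by rw [← e]; group, mulVec_mulVec, ← cm_mul, mul_inv_cancel_right, cm_mul,
      ← mulVec_mulVec, cm_U, um_e3]
  rcases iso_cases (cm_iso hq A⁻¹ (iso_e3 one_ne_zero)).1 (cm_iso hq A⁻¹ (iso_e3 one_ne_zero)).2 with
    ⟨c, hc, e⟩ | ⟨c, s, hc, e⟩
  · obtain ⟨μ, s, h⟩ := bruhat1 hq hc e
    refine ⟨μ⁻¹, ac3 μ s⁻¹, ?_⟩
    rw [← δ_conj, ← inv_inv A, h, map_inv, map_inv]; group
  · rw [e, cm_U, um_iv] at h1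
    exact absurd (mul_eq_right.1 (iv_inj hc h1)) hu

theorem w_sq : wSU hq * wSU hq = 1 := cm_inj (by
  rw [cm_mul, cm_one]
  refine Matrix.ext_of_mulVec_single fun i => ?_
  rw [← mulVec_mulVec, cm_W, cm_W, one_mulVec]
  ext k; fin_cases k <;> rfl)

theorem w_ne {μ : Fˣ} {s : US σ} : wSU hq ≠ δ hq μ * toSU hq s := fun e => by
  have := W_e3 hq (1 : F)
  rw [e, cm_mul, ← mulVec_mulVec, cm_U, um_e3, δ_e3] at this
  simpa [e3, iv] using congrFun this 2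

theorem w_δ (μ : Fˣ) : wSU hq * δ hq μ * (wSU hq)⁻¹ = δ hq (Units.map (σ : F →* F) μ)⁻¹ :=
  mul_inv_eq_iff_eq_mul.mpr (cm_inj (by
    have := σ_ne (σ := σ) μ
    rw [cm_mul, cm_mul, cm_δ, cm_δ]
    refine Matrix.ext_of_mulVec_single fun i => ?_
    rw [← mulVec_mulVec, ← mulVec_mulVec, cm_W, cm_W]
    ext k; fin_cases k <;> fin_cases i <;> simp [dM, mulVec, dotProduct, Fin.sum_univ_three]
    field_simp))

/-- an element of `P` normalizing the opposite subgroup is trivial -/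
theorem opp {u v s : US σ} (hv : v ≠ 1) (e : (wSU hq)⁻¹ * toSU hq u * wSU hq * toSU hq v *
    ((wSU hq)⁻¹ * toSU hq u * wSU hq)⁻¹ = toSU hq s) : u = 1 := by
  obtain ⟨μ, r, h⟩ := ti hq hv e
  have h1 : cm (toSU hq u * wSU hq) *ᵥ e3 1 = cm (wSU hq * (δ hq μ * toSU hq r)) *ᵥ e3 1 := by rw [← h]; congr 2; group
  rw [cm_mul, cm_mul, cm_mul, ← mulVec_mulVec, ← mulVec_mulVec, ← mulVec_mulVec, W_e3, cm_U, cm_U, um_iv, um_e3, δ_e3,
    W_e3, mul_one] at h1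
  have h2 : (μ : F) = 1 := (congrFun h1 2).symm
  rw [h2] at h1
  exact iv_inj one_ne_zero h1

theorem δ_cen {μ : Fˣ} (h : σ μ ^ 2 / μ = 1) (B : SU 3 F q) : Commute (δ hq μ) B := by
  have h0 := σ_ne (σ := σ) μ
  have h1 : σ μ ^ 2 = μ := by rwa [div_eq_one_iff_eq μ.ne_zero] at h
  have h2 : (μ : F) ^ 2 = σ μ := by simpa using congrArg σ h1
  refine cen_of_scalar (c := (μ : F)) ?_ B
  rw [cm_δ]
  ext i j; fin_cases i <;> fin_cases j <;> simp [dM]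
  · rw [← h2]; field_simp
  · rw [inv_eq_iff_eq_inv, eq_comm, inv_eq_iff_eq_inv]
    refine (mul_left_cancel₀ h0 ?_)
    rw [mul_inv_cancel₀ h0]
    refine mul_left_cancel₀ μ.ne_zero ?_
    calc (μ : F) * (σ μ * μ) = σ μ * μ ^ 2 := by ring
      _ = _ := by rw [h2, ← pow_two, h1, mul_one]

end Cfsg.Agent.WA.LkX
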