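import Cfsg.Agent.WA.IG0
import Cfsg.Agent.WA.ITeP

/-! Sylow `2`-subgroups of Rudvalis type (S3204): definitions (see PLAN_RW.md). -/

set_option autoImplicit false

namespace Cfsg.Agent.WA.Rw

open Subgroup Cfsg.Agent.FT Cfsg.Agent.L0 Cfsg.Agent.H8
open Cfsg.Agent.BS (Invo)
open scoped commutatorElement

universe u

variable {G : Type u} [Group G]

/-- the elements that normalize `B` and centralize `X` modulo `B` -/
def cmod (B : Subgroup G) (X : Set G) : Subgroup G where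
  carrier := {w | w ∈ 𝐍(B) ∧ ∀ x ∈ X, ⁅x, w⁆ ∈ B}
  one_mem' := ⟨one_mem _, fun x _ => by simp⟩
  mul_mem' {a b} ha hb := ⟨mul_mem ha.1 hb.1, fun x hx => by
    rw [show ⁅x, a * b⁆ = ⁅x, a⁆ * (a * ⁅x, b⁆ * a⁻¹) by simp only [commutatorElement_def]; group]
    exact mul_mem (ha.2 x hx) ((mem_normalizer_iff.mp ha.1 _).mp (hb.2 x hx))⟩
  inv_mem' {a} ha := ⟨inv_mem ha.1, fun x hx => by
    rw [show ⁅x, a⁻¹⁆ = a⁻¹ * ⁅x, a⁆⁻¹ * a⁻¹⁻¹ by simp only [commutatorElement_def]; group]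
    exact (mem_normalizer_iff.mp (inv_mem ha.1) _).mp (inv_mem (ha.2 x hx))⟩

theorem mem_cmod {B : Subgroup G} {X : Set G} {w : G} : w ∈ cmod B X ↔ w ∈ 𝐍(B) ∧ ∀ x ∈ X, ⁅x, w⁆ ∈ B := Iff.rfl

theorem mem_cmod_single {B : Subgroup G} {x w : G} : w ∈ cmod B {x} ↔ w ∈ 𝐍(B) ∧ ⁅x, w⁆ ∈ B := by
  simp [mem_cmod]

theorem cmod_anti {B : Subgroup G} {X Y : Set G} (h : X ⊆ Y) : cmod B Y ≤ cmod B X :=
  fun _ hw => ⟨hw.1, fun x hx => hw.2 x (h hx)⟩

theorem conj_comm (g a b : G) : g * ⁅a, b⁆ * g⁻¹ = ⁅g * a * g⁻¹, g * b * g⁻¹⁆ := by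
  simp only [commutatorElement_def]; group

theorem cj_cmod (g : G) (B X : Subgroup G) : cj g (cmod B X) = cmod (cj g B) (cj g X) := by
  ext w
  rw [mem_cj, mem_cmod, mem_cmod, ← cj_normalizer, mem_cj]
  refine and_congr_right fun _ => ⟨fun h x hx => ?_, fun h x hx => ?_⟩
  · have := h _ (mem_cj.mp hx)
    rw [mem_cj]
    convert this using 1
    simp only [commutatorElement_def]; group
  · have := mem_cj.mp (h _ (conj_mem_cj g hx))
    convert this using 1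
    simp only [commutatorElement_def]; group

theorem norm_cmod {B X : Subgroup G} : 𝐍(B) ⊓ 𝐍(X) ≤ 𝐍(cmod B X) := fun g hg => by
  rw [← cj_eq_self_iff, cj_cmod, cj_eq_self (mem_inf.mp hg).1, cj_eq_self (mem_inf.mp hg).2]

/-- `⟨z⟩ < Z < D` is the start of the upper central series of the Sylow `2`-subgroup `T`, `W = C_T(D)`,
`D = Φ(W)` -/
structure Fr (T W D Z : Subgroup G) (z : G) : Prop where
  syl : IsSylowIn 2 T ⊤
  cT : #|T| = 2 ^ 14
  cW : #|W| = 2 ^ 11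
  cD : #|D| = 8
  cZ : #|Z| = 4
  iz : Invo z
  e1 : zpowers z = T ⊓ 𝐂(T)
  eZ : Z = T ⊓ cmod (zpowers z) T
  eD : D = T ⊓ cmod Z T
  c4 : #|(T ⊓ cmod D T : Subgroup G)| = 16
  eW : W = T ⊓ 𝐂(D)
  sq : ∀ w ∈ W, w * w ∈ D
  d16 : ∀ U, U ≤ W → 2 ^ 7 ≤ #|U| → D ≤ U

theorem cj_zpowers (g z : G) : cj g (zpowers z) = zpowers (g * z * g⁻¹) := MonoidHom.map_zpowers _ _

theorem Fr.cj {T W D Z : Subgroup G} {z : G} (h : Fr T W D Z z) (g : G) :
    Fr (cj g T) (cj g W) (cj g D) (cj g Z) (g * z * g⁻¹) where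
  syl := by simpa only [cj_top] using h.syl.cj g
  cT := by rw [card_cj, h.cT]
  cW := by rw [card_cj, h.cW]
  cD := by rw [card_cj, h.cD]
  cZ := by rw [card_cj, h.cZ]
  iz := h.iz.conj g
  e1 := by rw [← cj_zpowers, h.e1, cj_inf, cj_centralizer]
  eZ := by rw [← cj_zpowers, ← cj_cmod, ← cj_inf, ← h.eZ]
  eD := by rw [← cj_cmod, ← cj_inf, ← h.eD]
  c4 := by rw [← cj_cmod, ← cj_inf, card_cj, h.c4]
  eW := by rw [← cj_centralizer, ← cj_inf, ← h.eW]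
  sq w hw := by
    have := h.sq _ (mem_cj.mp hw)
    rw [mem_cj]
    convert this using 1
    group
  d16 U hU hc := by
    have := h.d16 (H8.cj g⁻¹ U) (by rw [cj_le_iff, inv_inv]; exact hU) (by rwa [card_cj])
    rwa [← cj_le_iff] at this

end Cfsg.Agent.WA.Rw
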