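import Cfsg.Agent.WA.ITQB

/-! Maximal `2`-locals with a TI quotient, type (a): the local lemma. -/

set_option autoImplicit false
set_option linter.unusedSectionVars false

namespace Cfsg.Agent.WA.TQ

open Subgroup Cfsg.Agent.FT Cfsg.Agent.L0 Cfsg.Agent.H8
open Cfsg.Agent.H7 (op op_le op_isPGroup le_normalizer_op)
open scoped commutatorElement

universe u

variable {G : Type u} [Group G] [Finite G] {M S U Q X P' : Subgroup G} {m u x y p : G}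

theorem ta_step (hQ : IsPGroup 2 Q) (hU : IsPGroup 2 U) (hUQ : U ≤ 𝐍(Q)) (hUX : U ≤ 𝐍(X)) (hX : X ≤ Q)
    (hd : ∀ u ∈ U, u ∈ Q → u = 1) (hn : ¬ Q ≤ X) : ∃ y ∈ Q, y ∉ X ∧ y ∈ 𝐍(X ⊔ U) := by
  obtain ⟨z, h1, h2, h3⟩ := H9.exists_mem_normalizer_not_mem (K := Q ⊔ U) (H := X ⊔ U)
    (hQ.to_sup_of_normal_left' hU hUQ).isNilpotent (sup_le_sup_right hX U) fun e => hn fun q hq => by
      obtain ⟨a, ha, b, hb, rfl⟩ := (H9.mem_sup_of_le_normalizer' hUX).1 (e (mem_sup_left hq))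
      rw [hd b hb ((mul_mem_cancel_left (hX ha)).1 hq), mul_one]; exact ha
  obtain ⟨a, ha, b, hb, rfl⟩ := (H9.mem_sup_of_le_normalizer' hUQ).1 h1
  exact ⟨a, ha, fun e => h2 (mul_mem_sup e hb), (mul_mem_cancel_right (le_normalizer (mem_sup_right hb))).1 h3⟩

theorem ta_comm (hUQ : U ≤ 𝐍(Q)) (hUX : U ≤ 𝐍(X)) (hX : X ≤ Q) (hd : ∀ u ∈ U, u ∈ Q → u = 1) (hy : y ∈ Q)
    (hn : y ∈ 𝐍(X ⊔ U)) (hu : u ∈ U) : ⁅y, u⁆ ∈ X := by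
  have h1 : ⁅y, u⁆ ∈ X ⊔ U :=
    mul_mem ((mem_normalizer_iff.1 hn u).1 (mem_sup_right hu)) (inv_mem (mem_sup_right hu))
  have h2 : ⁅y, u⁆ ∈ Q := by
    have := mul_mem hy ((mem_normalizer_iff.1 (hUQ hu) _).1 (inv_mem hy))
    simpa only [commutatorElement_def, mul_assoc] using this
  obtain ⟨a, ha, b, hb, e⟩ := (H9.mem_sup_of_le_normalizer' hUX).1 h1
  rw [← e] at h2 ⊢
  rw [hd b hb ((mul_mem_cancel_left (hX ha)).1 h2), mul_one]; exact ha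

/-- the hypotheses of the local lemma -/
structure LU (M U : Subgroup G) : Prop where
  loc : Loc M
  le : U ≤ M
  sq : ∀ u ∈ U, u * u = 1
  cv : U ≤ 𝐂(vv M)
  dis : ∀ u ∈ U, u ∈ op 2 M → u = 1
  fix : ∀ u ∈ U, u ≠ 1 → ∀ y ∈ op 2 M, y * u = u * y → y ∈ vv M
  card : #|vv M| ≤ #|U|
  four : ∃ a ∈ U, ∃ b ∈ U, a ≠ 1 ∧ b ≠ 1 ∧ a * b ≠ 1

namespace LU

theorem conj (h : LU M U) (hm : m ∈ M) : LU M (cj m U) where
  loc := h.loc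
  le := cj_le_of_mem hm h.le
  sq := by rintro _ ⟨a, ha, rfl⟩; exact GS.G0.sq_conj (h.sq a ha) m
  cv := by rw [← cj_eq_self (h.loc.norm_vv.ge hm), ← cj_centralizer]; exact cj_mono m h.cv
  dis := by
    rintro _ ⟨a, ha, rfl⟩ e
    rw [h.dis a ha ((mem_normalizer_iff.1 (le_normalizer_op M hm) a).2 e), map_one]
  fix := by
    rintro _ ⟨a, ha, rfl⟩ h1 y hy e
    change y * (m * a * m⁻¹) = m * a * m⁻¹ * y at e
    have h2 := h.fix a ha (fun e => h1 (by rw [e, map_one])) (m⁻¹ * y * m⁻¹⁻¹) (conj_mem_op (inv_mem hm) hy) (by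
      calc m⁻¹ * y * m⁻¹⁻¹ * a = m⁻¹ * (y * (m * a * m⁻¹)) * m := by group
        _ = _ := by rw [e]; group)
    simpa [mul_assoc] using h.loc.conj_mem hm h2
  card := by rw [card_cj]; exact h.card
  four := by
    obtain ⟨a, ha, b, hb, h1, h2, h3⟩ := h.four
    refine ⟨_, conj_mem_cj m ha, _, conj_mem_cj m hb, by simpa using h1, by simpa using h2, ?_⟩
    rw [conj_mul]; simpa using h3

theorem nQ (h : LU M U) : U ≤ 𝐍(op 2 M) := h.le.trans (le_normalizer_op M)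

theorem pg (h : LU M U) : IsPGroup 2 U := fun a => ⟨1, Subtype.ext (by simpa [pow_two] using h.sq a a.2)⟩

theorem uinv (h : LU M U) (hu : u ∈ U) : u⁻¹ = u := inv_eq_of_mul_eq_one_right (h.sq u hu)

theorem uconj (h : LU M U) (hu : u ∈ U) {v : G} (hv : v ∈ vv M) : u * v * u⁻¹ = v := by
  rw [← mem_centralizer_iff.1 (h.cv hu) v hv, mul_inv_cancel_right]

theorem commQ (h : LU M U) (hy : y ∈ op 2 M) (hu : u ∈ U) : ⁅y, u⁆ ∈ op 2 M := by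
  have := mul_mem hy (conj_mem_op (h.le hu) (inv_mem hy))
  simpa only [commutatorElement_def, mul_assoc] using this

theorem inverts (h : LU M U) (hu : u ∈ U) (y : G) : u * ⁅y, u⁆ * u⁻¹ = ⁅y, u⁆⁻¹ := by
  calc u * ⁅y, u⁆ * u⁻¹ = u * y * u * y⁻¹ * (u * u)⁻¹ := by rw [commutatorElement_def]; group
    _ = u * y * u⁻¹ * y⁻¹ := by rw [h.sq u hu, h.uinv hu]; group
    _ = _ := by rw [commutatorElement_def]; group

/-- the centralizer of `U` on `Q/V` -/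
def PP (h : LU M U) : Subgroup G where
  carrier := {y | y ∈ op 2 M ∧ ∀ u ∈ U, ⁅y, u⁆ ∈ vv M}
  one_mem' := ⟨one_mem _, fun u _ => by simp⟩
  mul_mem' {a b} ha hb := ⟨mul_mem ha.1 hb.1, fun u hu => by
    have e : ⁅a * b, u⁆ = a * ⁅b, u⁆ * a⁻¹ * ⁅a, u⁆ := by simp only [commutatorElement_def]; group
    rw [e, h.loc.qconj ha.1 (hb.2 u hu)]
    exact mul_mem (hb.2 u hu) (ha.2 u hu)⟩
  inv_mem' {a} ha := ⟨inv_mem ha.1, fun u hu => by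
    have e : ⁅a⁻¹, u⁆ = a⁻¹ * ⁅a, u⁆⁻¹ * a⁻¹⁻¹ := by simp only [commutatorElement_def]; group
    rw [e, h.loc.qconj (inv_mem ha.1) (inv_mem (ha.2 u hu))]
    exact inv_mem (ha.2 u hu)⟩

theorem PP_le (h : LU M U) : h.PP ≤ op 2 M := fun _ hy => hy.1

theorem vv_le (h : LU M U) : vv M ≤ h.PP := fun v hv => ⟨h.loc.vv_le hv, fun u hu => by
  rw [commutatorElement_eq_one_iff_mul_comm.2 (mem_centralizer_iff.1 (h.cv hu) v hv)]; exact one_mem _⟩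

theorem nP (h : LU M U) : U ≤ 𝐍(h.PP) := fun u hu => mem_normalizer_of_cj_le (by
  rintro _ ⟨y, hy, rfl⟩
  have := mul_mem (inv_mem (h.vv_le (hy.2 u hu))) hy
  simpa [commutatorElement_def, mul_assoc] using this)

theorem one (h : LU M U) (hy : y ∈ op 2 M) (hu : u ∈ U) (h1 : u ≠ 1) (hc : ⁅y, u⁆ ∈ vv M) : y ∈ h.PP := by
  refine ⟨hy, fun a ha => h.fix u hu h1 _ (h.commQ hy ha) ?_⟩
  have e1 : y * u * y⁻¹ = ⁅y, u⁆ * u := by rw [commutatorElement_def]; group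
  generalize ⁅y, u⁆ = v at hc e1
  have e2 : y⁻¹ * u * y = v⁻¹ * u := by
    calc y⁻¹ * u * y = y⁻¹ * v⁻¹ * y⁻¹⁻¹ * (y⁻¹ * (v * u) * y) := by group
      _ = _ := by rw [← e1, h.loc.qconj (inv_mem hy) (inv_mem hc)]; group
  have e3 : a * u = u * a := BS.comm_of_sq h.sq ha hu
  rw [← mul_inv_eq_iff_eq_mul]
  calc ⁅y, a⁆ * u * ⁅y, a⁆⁻¹ = y * a * (y⁻¹ * (a⁻¹ * (u * a)) * y) * a⁻¹ * y⁻¹ := by
        rw [commutatorElement_def]; group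
    _ = y * (a * v⁻¹ * a⁻¹) * (a * u) * a⁻¹ * y⁻¹ := by rw [← e3, inv_mul_cancel_left, e2]; group
    _ = y * v⁻¹ * y⁻¹ * (y * u * y⁻¹) := by rw [h.uconj ha (inv_mem hc), e3]; group
    _ = u := by rw [e1, h.loc.qconj hy (inv_mem hc)]; group

theorem psi_mul (x a b : G) : ⁅x, a * b⁆ = ⁅x, a⁆ * (a * ⁅x, b⁆ * a⁻¹) := by
  simp only [commutatorElement_def]; group

theorem cover (h : LU M U) (hx : x ∈ op 2 M) (hxP : x ∉ h.PP) (hψ : ∀ u ∈ U, ⁅x, u⁆ ∈ h.PP) (hp : p ∈ h.PP) :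
    ∃ u ∈ U, ⁅x, u⁆⁻¹ * p ∈ vv M := by
  obtain ⟨a, ha, -, -, h1, -⟩ := h.four
  have key : ∀ b ∈ op 2 M, ∀ c ∈ op 2 M, ⁅b, a⁆ = ⁅c, a⁆ → b⁻¹ * c ∈ vv M := fun b hb c hc e =>
    h.fix a ha h1 _ (mul_mem (inv_mem hb) hc) (by
      calc b⁻¹ * c * a = b⁻¹ * ⁅c, a⁆ * a * c := by rw [commutatorElement_def]; group
        _ = _ := by rw [← e, commutatorElement_def]; group)
  let f : U → vv M := fun u => ⟨⁅⁅x, (u : G)⁆, a⁆, (hψ u u.2).2 a ha⟩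
  have hf : Function.Injective f := fun u w e => by
    have h2 := key _ (hψ u u.2).1 _ (hψ w w.2).1 (congrArg Subtype.val e)
    have h3 : ⁅x, (u : G) * w⁆ = ⁅x, (u : G)⁆⁻¹ * ⁅x, (w : G)⁆ := by
      calc ⁅x, (u : G) * w⁆ = ⁅x, (u : G)⁆ * (u * ⁅x, (u : G)⁆ * (u : G)⁻¹) *
            (u * (⁅x, (u : G)⁆⁻¹ * ⁅x, (w : G)⁆) * (u : G)⁻¹) := by rw [psi_mul]; group
        _ = _ := by rw [h.inverts u.2, h.uconj u.2 h2]; group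
    by_contra hne
    refine hxP (h.one hx (mul_mem u.2 w.2) (fun e => hne (Subtype.ext ?_)) (h3 ▸ h2))
    rw [← h.uinv u.2, inv_eq_of_mul_eq_one_right e]
  obtain ⟨u, hu⟩ := (hf.bijective_of_nat_card_le h.card).2 ⟨⁅p, a⁆, hp.2 a ha⟩
  exact ⟨u, u.2, key _ (hψ u u.2).1 _ hp.1 (congrArg Subtype.val hu)⟩

theorem three (h : LU M U) (hx : x ∈ op 2 M) (hxP : x ∉ h.PP) (hψ : ∀ u ∈ U, ⁅x, u⁆ ∈ h.PP) (hy : y ∈ op 2 M)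
    (hu : u ∈ U) (h1 : u ≠ 1) (hc : ⁅y, u⁆ ∈ h.PP) : y ∈ h.PP ∨ x⁻¹ * y ∈ h.PP := by
  by_cases hV : ⁅y, u⁆ ∈ vv M
  · exact Or.inl (h.one hy hu h1 hV)
  right
  obtain ⟨w, hw, h2⟩ := h.cover hx hxP hψ hc
  have h3 : w * ⁅y, u⁆ * w⁻¹ = ⁅y, u⁆⁻¹ := by
    generalize ⁅y, u⁆ = p at h2
    calc w * p * w⁻¹ = w * ⁅x, w⁆ * w⁻¹ * (w * (⁅x, w⁆⁻¹ * p) * w⁻¹) := by group
      _ = ⁅x, w⁆⁻¹ * (⁅x, w⁆⁻¹ * p)⁻¹ * ⁅x, w⁆⁻¹⁻¹ * ⁅x, w⁆⁻¹ := by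
        rw [h.inverts hw, h.uconj hw h2, h.loc.vinv h2, inv_inv, mul_inv_cancel_right]
      _ = _ := by rw [h.loc.qconj (inv_mem (hψ w hw).1) (inv_mem h2)]; group
  have h4 : w = u := by
    by_contra hne
    refine hV (h.fix (u * w) (mul_mem hu hw) (fun e => hne ?_) _ hc.1 ?_)
    · rw [← h.uinv hu, inv_eq_of_mul_eq_one_right e]
    · rw [eq_comm, ← mul_inv_eq_iff_eq_mul]
      calc u * w * ⁅y, u⁆ * (u * w)⁻¹ = u * (w * ⁅y, u⁆ * w⁻¹) * u⁻¹ := by group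
        _ = (u * ⁅y, u⁆ * u⁻¹)⁻¹ := by rw [h3]; simp only [mul_inv_rev, inv_inv, mul_assoc]
        _ = _ := by rw [h.inverts hu, inv_inv]
  subst h4
  refine h.one (mul_mem (inv_mem hx) hy) hu h1 ?_
  have e : ⁅x⁻¹ * y, w⁆ = w * (x⁻¹ * (w⁻¹ * (⁅x, w⁆⁻¹ * ⁅y, w⁆) * w⁻¹⁻¹) * x⁻¹⁻¹) * w⁻¹ := by
    simp only [commutatorElement_def]; group
  rw [e, h.uconj (inv_mem hu) h2, h.loc.qconj (inv_mem hx) h2, h.uconj hu h2]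
  exact h2

theorem psi_mul' (h : LU M U) {a b : G} (ha : a ∈ U) :
    ⁅x, a * b⁆ = ⁅x, a⁆⁻¹⁻¹ * ⁅x, b⁆ * ⁅⁅x, b⁆⁻¹, a⁆ := by
  rw [psi_mul, commutatorElement_def ⁅x, b⁆⁻¹]; group

theorem idx (h : LU M U) : (∀ y ∈ op 2 M, ∀ u ∈ U, ⁅y, u⁆ ∈ h.PP) ∧
    ∀ a ∈ op 2 M, ∀ b ∈ op 2 M, a ∉ h.PP → b ∉ h.PP → a⁻¹ * b ∈ h.PP := by
  by_cases hQ : op 2 M ≤ h.PP
  · exact ⟨fun y hy u hu => hQ (h.commQ hy hu), fun a ha _ _ e => absurd (hQ ha) e⟩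
  obtain ⟨x, hx, hxP, hxn⟩ := ta_step (op_isPGroup M) h.pg h.nQ h.nP h.PP_le h.dis hQ
  have c1 : ∀ y ∈ op 2 M ⊓ 𝐍(h.PP ⊔ U), ∀ u ∈ U, ⁅y, u⁆ ∈ h.PP := fun y hy u hu =>
    ta_comm h.nQ h.nP h.PP_le h.dis hy.1 hy.2 hu
  have hψ := c1 x ⟨hx, hxn⟩
  obtain ⟨a, ha, b, hb, h1, h2, h3⟩ := h.four
  have c2 : ∀ y ∈ op 2 M ⊓ 𝐍(h.PP ⊔ U), ∀ z ∈ op 2 M ⊓ 𝐍(h.PP ⊔ U), y ∉ h.PP → z ∉ h.PP → y⁻¹ * z ∈ h.PP :=
    fun y hy z hz e1 e2 => by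
      have := mul_mem (inv_mem ((h.three hx hxP hψ hy.1 ha h1 (c1 y hy a ha)).resolve_left e1))
        ((h.three hx hxP hψ hz.1 ha h1 (c1 z hz a ha)).resolve_left e2)
      simpa [mul_assoc] using this
  have c3 : h.PP ≤ op 2 M ⊓ 𝐍(h.PP ⊔ U) := le_inf h.PP_le (le_sup_left.trans le_normalizer)
  have c4 : op 2 M ≤ op 2 M ⊓ 𝐍(h.PP ⊔ U) := by
    by_contra hn
    have hU : U ≤ 𝐍(op 2 M ⊓ 𝐍(h.PP ⊔ U)) := fun u hu => mem_normalizer_of_cj_le (by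
      rw [cj_inf, cj_eq_self (h.nQ hu), cj_eq_self (le_normalizer (le_normalizer (mem_sup_right hu)))])
    obtain ⟨y, hy, hy1, hy2⟩ := ta_step (op_isPGroup M) h.pg h.nQ hU inf_le_left h.dis hn
    have d1 : ∀ u ∈ U, ⁅y, u⁆ ∈ op 2 M ⊓ 𝐍(h.PP ⊔ U) := fun u hu => ta_comm h.nQ hU inf_le_left h.dis hy hy2 hu
    have d2 : ∀ u ∈ U, u ≠ 1 → ⁅y, u⁆ ∉ h.PP := fun u hu e1 e2 => hy1 (by
      rcases h.three hx hxP hψ hy hu e1 e2 with e | e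
      · exact c3 e
      · simpa using mul_mem (show x ∈ op 2 M ⊓ 𝐍(h.PP ⊔ U) from ⟨hx, hxn⟩) (c3 e))
    refine d2 _ (mul_mem ha hb) h3 ?_
    rw [h.psi_mul' ha]
    exact mul_mem (c2 _ (inv_mem (d1 a ha)) _ (d1 b hb) (fun e => d2 a ha h1 (inv_mem_iff.1 e)) (d2 b hb h2))
      (c1 _ (inv_mem (d1 b hb)) a ha)
  exact ⟨fun y hy => c1 y (c4 hy), fun y hy z hz => c2 y (c4 hy) z (c4 hz)⟩

theorem good (h : LU M U) (hV : vv M ≤ P')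
    (hi : ∀ a ∈ op 2 M, ∀ b ∈ op 2 M, a ∉ P' → b ∉ P' → a⁻¹ * b ∈ P') :
    ∃ s ∈ U, s ≠ 1 ∧ ∀ y ∈ op 2 M, ⁅y, s⁆ ∈ P' := by
  obtain ⟨a, ha, b, hb, h1, h2, h3⟩ := h.four
  by_cases hQ : op 2 M ≤ h.PP
  · exact ⟨a, ha, h1, fun y hy => hV ((hQ hy).2 a ha)⟩
  obtain ⟨x, hx, hxP⟩ := SetLike.not_le_iff_exists.1 hQ
  obtain ⟨s, hs, s1, s2⟩ : ∃ s ∈ U, s ≠ 1 ∧ ⁅x, s⁆ ∈ P' := by
    by_contra hc
    push Not at hc
    refine hc _ (mul_mem ha hb) h3 ?_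
    rw [h.psi_mul' ha]
    exact mul_mem (hi _ (inv_mem (h.commQ hx ha)) _ (h.commQ hx hb) (fun e => hc a ha h1 (inv_mem_iff.1 e))
      (hc b hb h2)) (hV ((inv_mem (h.idx.1 x hx b hb)).2 a ha))
  refine ⟨s, hs, s1, fun y hy => ?_⟩
  by_cases hyP : y ∈ h.PP
  · exact hV (hyP.2 s hs)
  have h4 := (h.idx.2 x hx y hy hxP hyP).2 s hs
  have e : ⁅y, s⁆ = x * ⁅x⁻¹ * y, s⁆ * x⁻¹ * ⁅x, s⁆ := by simp only [commutatorElement_def]; group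
  rw [e, h.loc.qconj hx h4]
  exact mul_mem (hV h4) s2

/-- the local lemma -/
theorem false (h : LU M U) : False := by
  obtain ⟨S, hS, hUS⟩ := exists_isSylowIn_ge h.pg h.le
  obtain ⟨S', hS', hne⟩ := h.loc.exists_ne S
  obtain ⟨m, hm, rfl⟩ := hS.exists_cj_eq hS'
  have h' := h.conj hm
  obtain ⟨s, hs, s1, s2⟩ := h.good h'.vv_le h'.idx.2
  obtain ⟨t, ht, t1, t2⟩ := h'.good h.vv_le h.idx.2
  exact h.loc.not_chain hS hS' hne.symm (hUS hs) (fun e => s1 (h.dis s hs e)) (cj_mono m hUS ht)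
    (fun e => t1 (h'.dis t ht e)) (F := h.PP ⊓ h'.PP) (inf_le_left.trans h.PP_le) (le_inf h.vv_le h'.vv_le)
    (fun y hy => ⟨⟨h.idx.1 y hy s hs, s2 y hy⟩, ⟨t2 y hy, h'.idx.1 y hy t ht⟩⟩)
    (fun y hy => ⟨hy.1.2 s hs, hy.2.2 t ht⟩) fun y hy =>
      ⟨commutatorElement_eq_one_iff_mul_comm.2 (mem_centralizer_iff.1 (h.cv hs) y hy),
        commutatorElement_eq_one_iff_mul_comm.2 (mem_centralizer_iff.1 (h'.cv ht) y hy)⟩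

end LU

end Cfsg.Agent.WA.TQ
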