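import Cfsg.Agent.WA.GoB
import Cfsg.Agent.WA.GMain

/-! Maximal `2`-locals with a TI quotient: definitions (see PLAN_TQ.md). -/

set_option autoImplicit false

namespace Cfsg.Agent.WA.TQ

open Subgroup Cfsg.Agent.FT Cfsg.Agent.L0 Cfsg.Agent.H8
open Cfsg.Agent.H7 (op)

universe u

variable {G : Type u} [Group G]

/-- `H` is `2`-closed -/
def Clo (H : Subgroup G) : Prop := ∀ P : Subgroup G, P ≤ H → IsPGroup 2 P → P ≤ op 2 H

/-- `V = Ω₁(O₂(M))` -/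
def vv (M : Subgroup G) : Subgroup G := closure {x | x ∈ op 2 M ∧ x * x = 1}

/-- a maximal `2`-local subgroup that is not `2`-closed, with the three properties -/
structure Loc (M : Subgroup G) : Prop where
  max : IsMaximalTwoLocal M
  ncl : ¬ Clo M
  cent : M ⊓ 𝐂(op 2 M) ≤ op 2 M
  ti : ∀ S S', IsSylowIn 2 S M → IsSylowIn 2 S' M → S ≠ S' → S ⊓ S' ≤ op 2 M
  inv : ∀ x ∈ op 2 M, x * x = 1 → ∃ S, IsSylowIn 2 S M ∧ S ≤ 𝐂[x]

/-- the hypothesis -/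
def Hyp (G : Type u) [Group G] : Prop := ∀ M : Subgroup G, IsMaximalTwoLocal M → ¬ Clo M → Loc M

/-- type (a): the Sylow `2`-subgroups of `M` centralize `V` -/
def TA (M : Subgroup G) : Prop := ∀ S, IsSylowIn 2 S M → S ≤ 𝐂(vv M)

/-- the configuration `S = AV` -/
structure Pr (S A V : Subgroup G) : Prop extends Go.Syl S A V where
  locA : Loc 𝐍(A)
  locV : Loc 𝐍(V)
  opA : op 2 𝐍(A) = A
  opV : op 2 𝐍(V) = V
  sylA : IsSylowIn 2 S 𝐍(A)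
  sylV : IsSylowIn 2 S 𝐍(V)
  card : #|A| = #|V|

/-- the conclusion -/
def Con (K : Type u) [Group K] : Prop :=
  (∃ (F : Type) (_ : Field F) (_ : Fintype F) (n : ℕ), 5 < Fintype.card F ∧
      (Fintype.card F = 2 ^ n + 1 ∨ Fintype.card F + 1 = 2 ^ n) ∧
      Nonempty (K ≃* Matrix.ProjectiveSpecialLinearGroup (Fin 2) F)) ∨
    (∃ (F : Type) (_ : Field F) (_ : Fintype F), Fintype.card F = 3 ∧
      Nonempty (K ≃* Matrix.ProjectiveSpecialLinearGroup (Fin 3) F)) ∨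
    Cfsg.Spor.IsoM11 K ∨
    (∃ (F : Type) (_ : Field F) (_ : Fintype F) (n : ℕ), 2 ≤ n ∧ Fintype.card F = 2 ^ n ∧
      (Nonempty (K ≃* Matrix.ProjectiveSpecialLinearGroup (Fin 2) F) ∨
        Nonempty (K ≃* Matrix.ProjectiveSpecialLinearGroup (Fin 3) F) ∨ Nonempty (K ≃* Cfsg.PSp 2 F))) ∨
    Cfsg.Lie.IsoSuzuki K ∨
    (∃ (F : Type) (_ : Field F) (_ : Fintype F) (n : ℕ), 2 ≤ n ∧ Fintype.card F = (2 ^ n) ^ 2 ∧
      Nonempty (K ≃* Cfsg.PSU 3 F (2 ^ n)))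

end Cfsg.Agent.WA.TQ
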