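import Cfsg.Agent.WA.YaG1

/-! The classes of involutions of `H`. -/

set_option autoImplicit false

namespace Cfsg.Agent.WA.Ya

open Subgroup Equiv

universe u

namespace G1

theorem conj2 {p q : Perm (Fin 6)} (hp : p * p = 1) (hq : q * q = 1) (h : p.support.card = q.support.card) :
    IsConj p q := by
  have : Fact (Nat.Prime 2) := ⟨Nat.prime_two⟩
  have h1 := Perm.cycleType_of_pow_prime_eq_one (p := 2) (σ := p) (by rw [pow_two, hp])
  have h2 := Perm.cycleType_of_pow_prime_eq_one (p := 2) (σ := q) (by rw [pow_two, hq])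
  have h3 := Perm.sum_cycleType p
  have h4 := Perm.sum_cycleType q
  rw [h1, Multiset.sum_replicate, smul_eq_mul] at h3
  rw [h2, Multiset.sum_replicate, smul_eq_mul] at h4
  rw [Perm.isConj_iff_cycleType_eq, h1, h2, show p.cycleType.card = q.cycleType.card by omega]

def SS : Fin 4 → Perm (Fin 6) := ![1, swap 0 1, swap 0 1 * swap 2 3, swap 0 1 * swap 2 3 * swap 4 5]
def RR : Fin 4 → P := ![1, r 0 1, r 0 1 * r 2 3, r 0 1 * r 2 3 * r 4 5]

theorem SS_sq : ∀ k, SS k * SS k = 1 := by decide +kernel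
theorem SS_card : ∀ k, (SS k).support.card = 2 * k.1 := by decide +kernel

theorem cls {p : Perm (Fin 6)} (hp : p * p = 1) : ∃ k, IsConj p (SS k) := by
  have : Fact (Nat.Prime 2) := ⟨Nat.prime_two⟩
  have h1 := Perm.cycleType_of_pow_prime_eq_one (p := 2) (σ := p) (by rw [pow_two, hp])
  have h3 := Perm.sum_cycleType p
  rw [h1, Multiset.sum_replicate, smul_eq_mul] at h3
  have h4 : p.support.card ≤ 6 := by simpa using Finset.card_le_univ p.support
  exact ⟨⟨p.cycleType.card, by omega⟩, conj2 hp (SS_sq _) (by rw [SS_card]; dsimp only; omega)⟩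

theorem lift (σ : Perm (Fin 6)) : ∃ h ∈ H, ∀ i, h (ev i) = ev (σ i) := by
  induction σ using Perm.swap_induction_on with
  | one => exact ⟨1, one_mem _, fun _ => rfl⟩
  | swap_mul f a b hab ih =>
    obtain ⟨h, hh, e⟩ := ih
    exact ⟨r a b * h, mul_mem (r_mem hab) hh, fun i => by rw [Perm.mul_apply, e, r_ev, Perm.mul_apply]⟩

def pt (j : Fin 6) (b : Bool) : Fin 12 := bif b then od j else ev j
def fb (i : Fin 6) (b : Bool) : P := bif b then fl i else 1
def Q (k : Fin 4) (a b c d e f : Bool) : P := RR k * (fb 0 a * fb 1 b * fb 2 c * fb 3 d * fb 4 e * fb 5 f)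
def ix (k : Fin 4) (a b c d e f : Bool) : ℕ :=
  64 * k.1 + a.toNat + 2 * b.toNat + 4 * c.toNat + 8 * d.toNat + 16 * e.toNat + 32 * f.toNat
def lt (c : Bool × Fin 6 × Fin 6) : P := if c.2.1 = c.2.2 then 1 else bif c.1 then r c.2.1 c.2.2 else y c.2.1 c.2.2
def wd (l : List (Bool × Fin 6 × Fin 6)) : P := (l.map lt).prod

theorem lt_mem (c : Bool × Fin 6 × Fin 6) : lt c ∈ H := by
  unfold lt
  split_ifs with h
  · exact one_mem _
  · cases c.1
    · exact y_mem _ _
    · exact r_mem h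
theorem wd_mem (l : List (Bool × Fin 6 × Fin 6)) : wd l ∈ H :=
  list_prod_mem fun x hx => by obtain ⟨c, -, rfl⟩ := List.mem_map.1 hx; exact lt_mem c

def tab : List (Fin 10 × List (Bool × Fin 6 × Fin 6)) := [
  (0, []), (0, []), (0, []), (0, []), (0, []), (0, [(true, 1, 2)]), (0, [(true, 0, 2)]), (0, []), (0, []),
  (0, [(true, 1, 3)]), (0, [(true, 0, 3)]), (0, []), (0, [(true, 1, 3), (true, 0, 2)]), (0, []), (0, []), (1, []),
  (0, []), (0, [(true, 1, 4)]), (0, [(true, 0, 4)]), (0, []), (0, [(true, 1, 4), (true, 0, 2)]), (0, []), (0, []),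
  (1, [(true, 3, 4)]), (0, [(true, 1, 4), (true, 0, 3)]), (0, []), (0, []), (1, [(true, 2, 4)]), (0, []),
  (1, [(true, 1, 4)]), (1, [(true, 0, 4)]), (0, []), (0, []), (0, [(true, 1, 5)]), (0, [(true, 0, 5)]), (0, []),
  (0, [(true, 1, 5), (true, 0, 2)]), (0, []), (0, []), (1, [(true, 3, 5)]), (0, [(true, 1, 5), (true, 0, 3)]),
  (0, []), (0, []), (1, [(true, 2, 5)]), (0, []), (1, [(true, 1, 5)]), (1, [(true, 0, 5)]), (0, []),
  (0, [(true, 1, 5), (true, 0, 4)]), (0, []), (0, []), (1, [(true, 3, 5), (true, 2, 4)]), (0, []),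
  (1, [(true, 3, 5), (true, 1, 4)]), (1, [(true, 3, 5), (true, 0, 4)]), (0, []), (0, []),
  (1, [(true, 2, 5), (true, 1, 4)]), (1, [(true, 2, 5), (true, 0, 4)]), (0, []), (1, [(true, 1, 5), (true, 0, 4)]),
  (0, []), (0, []), (2, []), (3, []), (0, []), (0, []), (3, [(false, 0, 2)]), (0, []), (0, []), (0, []), (0, []),
  (0, []), (0, []), (0, []), (0, []), (4, []), (0, []), (0, []), (4, [(false, 0, 2)]), (0, []), (0, []), (0, []),
  (0, []), (4, [(true, 3, 4)]), (0, []), (0, []), (4, [(false, 0, 2), (true, 3, 4)]), (4, [(true, 2, 4)]), (0, []),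
  (0, []), (4, [(false, 0, 2), (true, 2, 4)]), (0, []), (0, []), (0, []), (0, []), (0, []), (0, []), (0, []),
  (0, []), (4, [(true, 3, 5)]), (0, []), (0, []), (4, [(false, 0, 2), (true, 3, 5)]), (4, [(true, 2, 5)]), (0, []),
  (0, []), (4, [(false, 0, 2), (true, 2, 5)]), (0, []), (0, []), (0, []), (0, []), (4, [(true, 3, 5), (true, 2, 4)]),
  (0, []), (0, []), (4, [(false, 0, 2), (true, 3, 5), (true, 2, 4)]), (0, []), (0, []), (0, []), (0, []), (0, []),
  (0, []), (0, []), (0, []), (5, []), (0, []), (0, []), (5, [(false, 0, 2)]), (6, []), (0, []), (0, []),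
  (6, [(false, 0, 4)]), (0, []), (0, []), (0, []), (0, []), (0, []), (0, []), (0, []), (0, []), (6, [(false, 2, 4)]),
  (0, []), (0, []), (6, [(false, 0, 2)]), (0, []), (0, []), (0, []), (0, []), (0, []), (0, []), (0, []), (0, []),
  (0, []), (0, []), (0, []), (0, []), (0, []), (0, []), (0, []), (0, []), (0, []), (0, []), (0, []), (0, []),
  (0, []), (0, []), (0, []), (0, []), (0, []), (0, []), (0, []), (0, []), (0, []), (0, []), (0, []), (0, []),
  (7, []), (0, []), (0, []), (7, [(false, 0, 4)]), (0, []), (0, []), (0, []), (0, []), (0, []), (0, []), (0, []),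
  (0, []), (7, [(false, 2, 4)]), (0, []), (0, []), (7, [(false, 0, 2)]), (8, []), (0, []), (0, []), (9, []), (0, []),
  (0, []), (0, []), (0, []), (0, []), (0, []), (0, []), (0, []), (9, [(false, 0, 2)]), (0, []), (0, []),
  (8, [(false, 0, 2)]), (0, []), (0, []), (0, []), (0, []), (0, []), (0, []), (0, []), (0, []), (0, []), (0, []),
  (0, []), (0, []), (0, []), (0, []), (0, []), (0, []), (0, []), (0, []), (0, []), (0, []), (0, []), (0, []),
  (0, []), (0, []), (0, []), (0, []), (0, []), (0, []), (0, []), (0, []), (0, []), (0, []), (9, [(false, 0, 4)]),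
  (0, []), (0, []), (8, [(false, 0, 4)]), (0, []), (0, []), (0, []), (0, []), (0, []), (0, []), (0, []), (0, []),
  (8, [(false, 2, 4)]), (0, []), (0, []), (9, [(false, 2, 4)])]

theorem Q_ev : ∀ k a b c d e f j, Q k a b c d e f (ev j) = pt (SS k j) (![a, b, c, d, e, f] j) := by decide +kernel
theorem Q_al : ∀ k a b c d e f, al * Q k a b c d e f = Q k a b c d e f * al := by decide +kernel
theorem Q_rep : ∀ k a b c d e f, Perm.sign (Q k a b c d e f) = 1 → Q k a b c d e f * Q k a b c d e f = 1 →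
    Q k a b c d e f ≠ 1 → wd (tab.getD (ix k a b c d e f) (0, [])).2 * rep (tab.getD (ix k a b c d e f) (0, [])).1 =
      Q k a b c d e f * wd (tab.getD (ix k a b c d e f) (0, [])).2 := by decide +kernel

theorem pts' (a : Fin 12) : ∃ j b, a = pt j b := by
  obtain ⟨i, h | h⟩ := pts a
  · exact ⟨i, false, h⟩
  · exact ⟨i, true, h⟩
theorem pt_inj : ∀ i j a b, pt i a = pt j b → i = j := by decide +kernel
theorem al_pt : ∀ i a, al (pt i a) = pt i (!a) := by decide +kernel
theorem rep_mem : ∀ i, rep i ∈ H := by decide +kernel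
theorem rep_sq : ∀ i, rep i * rep i = 1 := by decide +kernel
theorem rep_ne : ∀ i, rep i ≠ 1 := by decide +kernel
theorem rep_card : ∀ i, (rep i).support.card = c27 i := by decide +kernel

end G1

open G1

theorem inv_rep {p : P} (hp : p ∈ H) (h2 : p * p = 1) (h1 : p ≠ 1) : ∃ i, ∃ h ∈ H, h * rep i * h⁻¹ = p := by
  have hc := (mem_H.1 hp).2
  choose π ε hπ using fun i => pts' (p (ev i))
  have hpt : ∀ i b, ∃ c, p (pt i b) = pt (π i) c := by
    intro i b
    cases b
    · exact ⟨_, hπ i⟩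
    · exact ⟨_, by rw [← al_pt, ← hπ]; exact app_od hc i⟩
  have inv : Function.Involutive π := by
    intro i
    obtain ⟨c, e⟩ := hpt (π i) (ε i)
    rw [← hπ, ← Perm.mul_apply, h2] at e
    exact (pt_inj i _ false c e).symm
  obtain ⟨k, hk⟩ := cls (p := inv.toPerm) (by ext1 i; exact inv i)
  obtain ⟨σ, hσ⟩ := isConj_iff.1 hk
  obtain ⟨h, hh, e⟩ := lift σ
  have hhc := (mem_H.1 hh).2
  have e' : ∀ i b, h (pt i b) = pt (σ i) b := by
    intro i b
    cases b
    · exact e i
    · exact (app_od hhc i).trans (by rw [e, al_ev]; rfl)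
  have hq : h * p * h⁻¹ ∈ H := mul_mem (mul_mem hh hp) (inv_mem hh)
  have eq : h * p * h⁻¹ = Q k (ε (σ⁻¹ 0)) (ε (σ⁻¹ 1)) (ε (σ⁻¹ 2)) (ε (σ⁻¹ 3)) (ε (σ⁻¹ 4)) (ε (σ⁻¹ 5)) := by
    refine ext' (mem_H.1 hq).2 (Q_al ..) fun j => ?_
    have e1 : h⁻¹ (ev j) = ev (σ⁻¹ j) := by
      rw [Perm.inv_eq_iff_eq, e]; simp
    rw [Q_ev, Perm.mul_apply, Perm.mul_apply, e1, hπ, e', ← hσ]
    congr 1
    fin_cases j <;> rfl
  have := Q_rep k _ _ _ _ _ _ (by rw [← eq]; exact (mem_H.1 hq).1) (by rw [← eq, conj_mul, h2]; simp)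
    (by rw [← eq]; simpa using h1)
  rw [← eq] at this
  generalize tab.getD _ _ = t at this
  refine ⟨t.1, h⁻¹ * wd t.2, mul_mem (inv_mem hh) (wd_mem _), ?_⟩
  rw [mul_assoc h⁻¹, this]; group

theorem w27 {G : Type u} [Group G] (C : Ch G) (h : C.Fus c27) : C.W27 := by
  intro p q hp hq p2 q2
  by_cases p1 : p = 1
  · subst p1
    rw [C.one, isConj_one_right]
    constructor
    · intro e; rw [C.inj q hq e]
    · intro e
      rw [Perm.support_one, Finset.card_empty, eq_comm, Perm.card_support_eq_zero] at e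
      rw [e, C.one]
  by_cases q1 : q = 1
  · subst q1
    rw [C.one, isConj_one_left]
    constructor
    · intro e; exact absurd (C.inj p hp e) p1
    · intro e
      rw [Perm.support_one, Finset.card_empty, Perm.card_support_eq_zero] at e
      exact absurd e p1
  obtain ⟨i, a, ha, rfl⟩ := inv_rep hp p2 p1
  obtain ⟨j, b, hb, rfl⟩ := inv_rep hq q2 q1
  rw [Perm.card_support_conj, Perm.card_support_conj, rep_card, rep_card, ← h i j, C.cj ha (rep_mem i),
    C.cj hb (rep_mem j)]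
  have c1 : IsConj (C.f (rep i)) (C.f a * C.f (rep i) * (C.f a)⁻¹) := isConj_iff.2 ⟨_, rfl⟩
  have c2 : IsConj (C.f (rep j)) (C.f b * C.f (rep j) * (C.f b)⁻¹) := isConj_iff.2 ⟨_, rfl⟩
  exact ⟨fun e => (c1.trans e).trans c2.symm, fun e => (c1.symm.trans e).trans c2⟩

end Cfsg.Agent.WA.Ya
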