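import Cfsg.Agent.WA.AlPres
import Cfsg.Agent.WA.AlSur
import Cfsg.Agent.S3277

/-! S3298: a self-centralizing four-group with a rotation gives `A₄` or `A₅`. -/

set_option autoImplicit false

namespace Cfsg.Agent.WA.Ya.R5

open Subgroup Equiv

abbrev P5 : Type := Perm (Fin 5)

def y5 : P5 := swap 0 1 * swap 2 3
def r5 : P5 := swap 0 2 * swap 1 3
def x5 : P5 := swap 0 2 * swap 0 1
def o5 : P5 := swap 0 4 * swap 0 1

theorem lab0 : ∀ r : P5, r * r = 1 → r * y5 = y5 * r → Perm.sign r = 1 → ∀ x : P5, x * r * x⁻¹ = y5 → x * y5 * x⁻¹ = r * y5 →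
    ∃ c : P5, c * y5 * c⁻¹ = y5 ∧ c * r * c⁻¹ = r5 ∧ c * x * c⁻¹ = x5 := by decide +kernel

theorem un5 : ∀ t : P5, t ^ 3 = 1 → t ≠ 1 → y5 * t * y5 = t⁻¹ →
    (t = o5 ∨ t = o5⁻¹ ∨ t = r5 * o5 * r5 ∨ t = r5 * o5⁻¹ * r5) ∧ ((t * x5) ^ 2 = 1 → t = o5) := by decide +kernel

theorem f5 : o5 ^ 3 = 1 ∧ o5 ≠ 1 ∧ y5 * o5 * y5 = o5⁻¹ ∧ Perm.sign o5 = 1 ∧
    ∃ c : P5, Perm.sign c = 1 ∧ c * y5 * c⁻¹ = o5 * x5 := by decide +kernel

theorem supp5 : ∀ p : P5, p * p = 1 → Perm.sign p = 1 → p ≠ 1 → ∃ c : P5, c * p * c⁻¹ = y5 := by decide +kernel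

theorem gen5 {p : P5} (hp : Perm.sign p = 1) : p ∈ closure ({y5, x5, o5} : Set P5) := by
  have := Al.closure_c3 (a := (0 : Fin 5)) (b := 1) (by decide) Finset.univ (by simp) (by simp)
    (p := ⟨p, Perm.mem_alternatingGroup.2 hp⟩) (Finset.subset_univ _)
  refine (closure_le ((closure ({y5, x5, o5} : Set P5)).subgroupOf _)).2 ?_ this
  rintro _ ⟨i, hi, h, -, rfl⟩
  have my : y5 ∈ closure ({y5, x5, o5} : Set P5) := subset_closure (by simp)
  have mx : x5 ∈ closure ({y5, x5, o5} : Set P5) := subset_closure (by simp)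
  have mo : o5 ∈ closure ({y5, x5, o5} : Set P5) := subset_closure (by simp)
  show (swap 0 i * swap 0 1 : P5) ∈ closure ({y5, x5, o5} : Set P5)
  fin_cases i
  · exact absurd rfl hi
  · exact absurd rfl h
  · exact mx
  · have : (swap 0 3 * swap 0 1 : P5) = y5 * x5⁻¹ * y5 := by decide
    exact this ▸ mul_mem (mul_mem my (inv_mem mx)) my
  · exact mo

theorem core {X : Type*} [Group X] [Finite X] {y r x : X} (y2 : y * y = 1) (r2 : r * r = 1) (c : r * y = y * r) (y1 : y ≠ 1)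
    (x3 : x ^ 3 = 1) (cr : x * r * x⁻¹ = y) (cy : x * y * x⁻¹ = r * y)
    (hC : ∀ g, g * y = y * g → g = 1 ∨ g = y ∨ g = r ∨ g = r * y) :
    (∀ g, g * y * g⁻¹ * y = y * (g * y * g⁻¹)) ∨ ∃ φ : X →* P5, Function.Injective φ ∧
      (∀ p, Perm.sign p = 1 → ∃ g, φ g = p) ∧ (∀ g, Perm.sign (φ g) = 1) ∧ φ y = y5 ∧ φ r = r5 ∧ φ x = x5 := by
  have : Fact (Nat.Prime 2) := ⟨Nat.prime_two⟩
  refine or_iff_not_imp_left.2 fun hn => ?_
  have r1 : r ≠ 1 := fun e => y1 (by rw [← cr, e]; group)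
  have ry : r * y ≠ 1 := fun e => y1 (by
    calc y = x⁻¹ * (x * y * x⁻¹) * x := by group
      _ = 1 := by rw [cy, e]; group)
  have ry2 : r * y * (r * y) = 1 := by rw [mul_assoc, ← mul_assoc y, ← c, mul_assoc, y2, mul_one, r2]
  have n1 : y ≠ r := fun e => ry (by rw [← e, y2])
  have n2 : y ≠ r * y := fun e => r1 (by simpa using e)
  have n3 : r ≠ r * y := fun e => y1 (by simpa using e)
  have hs : ((centralizer ({y} : Set X) : Subgroup X) : Set X) = {1, y, r, r * y} := by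
    ext g
    simp only [SetLike.mem_coe, mem_centralizer_singleton_iff, Set.mem_insert_iff, Set.mem_singleton_iff]
    refine ⟨hC g, ?_⟩
    rintro (rfl | rfl | rfl | rfl)
    · simp
    · rfl
    · exact c
    · rw [← mul_assoc, ← c]
  obtain ⟨e⟩ := S3277.result y (orderOf_eq_prime (by rw [pow_two, y2]) y1) (by
      show Nat.card ((centralizer ({y} : Set X) : Subgroup X) : Set X) = 4
      rw [hs, Nat.card_coe_set_eq, Set.ncard_insert_of_notMem (by simp [y1.symm, r1.symm, ry.symm]),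
        Set.ncard_insert_of_notMem (by simp [n1, n2]), Set.ncard_pair n3]) (fun g hg => by
      rcases hC g (mem_centralizer_singleton_iff.1 hg) with rfl | rfl | rfl | rfl <;> rw [pow_two]
      exacts [one_mul _, y2, r2, ry2]) (by
      rintro ⟨S, N, hN, hc⟩
      obtain ⟨k, hk⟩ := IsPGroup.iff_card.1 S.isPGroup'
      have h1 : x ^ 2 ^ k ∈ N := by rw [← hk, ← hc.symm.index_eq_card]; exact N.pow_index_mem x
      have h2 : x ∈ N := by
        have h3 : (2 ^ k).Coprime (orderOf x) :=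
          Nat.Coprime.pow_left _ (Nat.Coprime.coprime_dvd_right (orderOf_dvd_of_pow_eq_one x3) (by decide))
        obtain ⟨m, hm⟩ := exists_pow_eq_self_of_coprime h3
        rw [← hm]; exact pow_mem h1 m
      have h4 : r ∈ N := by
        have : r = x * (y * x⁻¹ * y⁻¹) := by rw [← mul_assoc, ← mul_assoc, cy, mul_inv_cancel_right]
        rw [this]; exact mul_mem h2 (hN.conj_mem _ (inv_mem h2) y)
      have h5 := orderOf_dvd_natCard N h4
      rw [orderOf_eq_prime (p := 2) (by rw [pow_two, r2]) r1, ← hc.index_eq_card] at h5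
      exact S.not_dvd_index h5) (fun E hE hel => by
      suffices h : E = ⊥ by rw [h, card_bot]; omega
      by_contra hb
      have cm : ∀ a ∈ E, ∀ b ∈ E, a * b = b * a := fun a ha b hb =>
        congrArg Subtype.val (hel.1.is_comm.comm (⟨a, ha⟩ : E) ⟨b, hb⟩)
      obtain ⟨⟨a, ha⟩, a1⟩ := ne_bot_iff_exists_ne_one.1 hb
      have a1' : a ≠ 1 := fun e => a1 (Subtype.ext e)
      obtain ⟨b, mb, b1, cb⟩ : ∃ b ∈ E, b ≠ 1 ∧ b * y = y * b := by
        by_cases h : a * y = y * a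
        · exact ⟨a, ha, a1', h⟩
        have ha' := hE.conj_mem a ha y
        refine ⟨a * (y * a * y⁻¹), mul_mem ha ha', fun e => h ?_, ?_⟩
        · have a2 := hel.2 a ha
          rw [pow_two, ← e, mul_right_inj] at a2
          rw [a2]; rw [← a2]; exact (mul_inv_eq_iff_eq_mul.1 a2.symm).symm
        · nth_rewrite 2 [cm a ha _ ha']
          rw [← mul_assoc y, ← mul_assoc y, ← mul_assoc y, y2, one_mul, inv_eq_of_mul_eq_one_right y2, mul_assoc, mul_assoc,
            y2, mul_one, mul_assoc]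
      have my : y ∈ E := by
        rcases hC b cb with rfl | rfl | rfl | rfl
        · exact absurd rfl b1
        · exact mb
        · rw [← cr]; exact hE.conj_mem _ mb x
        · have := hE.conj_mem _ mb x⁻¹
          rwa [← cy, show x⁻¹ * (x * y * x⁻¹) * x⁻¹⁻¹ = y by group] at this
      exact hn fun g => cm _ (hE.conj_mem y my g) y my)
  let ψ : X →* P5 := (alternatingGroup (Fin 5)).subtype.comp e.toMonoidHom
  have hi : Function.Injective ψ := Subtype.val_injective.comp e.injective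
  have sg : ∀ g, Perm.sign (ψ g) = 1 := fun g => Perm.mem_alternatingGroup.1 (e g).2
  obtain ⟨c1, h1⟩ := supp5 (ψ y) (by rw [← map_mul, y2, map_one]) (sg y) (fun h => y1 (hi (h.trans (map_one ψ).symm)))
  obtain ⟨c2, h2, h3, h4⟩ := lab0 (c1 * ψ r * c1⁻¹) (by rw [conj_mul, ← map_mul, r2]; simp)
    (by rw [← h1, conj_mul, conj_mul, ← map_mul, c, map_mul]) (by simp [sg]) (c1 * ψ x * c1⁻¹)
    (by rw [conj_inv, conj_mul, conj_mul, ← map_inv, ← map_mul, ← map_mul, cr, h1])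
    (by rw [← h1, conj_inv, conj_mul, conj_mul, conj_mul, ← map_inv, ← map_mul, ← map_mul, cy, map_mul])
  refine ⟨(MulAut.conj (c2 * c1)).toMonoidHom.comp ψ, (MulAut.conj (c2 * c1)).injective.comp hi, fun p hp => ?_, fun g => ?_, ?_, ?_, ?_⟩
  · refine ⟨e.symm ⟨(c2 * c1)⁻¹ * p * (c2 * c1), Perm.mem_alternatingGroup.2 (by
      rw [map_mul, map_mul, map_inv, hp, mul_one, inv_mul_cancel])⟩, ?_⟩
    show c2 * c1 * (e (e.symm _)).1 * (c2 * c1)⁻¹ = p
    rw [MulEquiv.apply_symm_apply]; group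
  · show Perm.sign (c2 * c1 * ψ g * (c2 * c1)⁻¹) = 1
    rw [map_mul, map_mul _ _ (ψ g), map_inv, sg, mul_one, mul_inv_cancel]
  · show c2 * c1 * ψ y * (c2 * c1)⁻¹ = _
    rw [← h2, ← h1]; group
  · show c2 * c1 * ψ r * (c2 * c1)⁻¹ = _
    rw [← h3]; group
  · show c2 * c1 * ψ x * (c2 * c1)⁻¹ = _
    rw [← h4]; group

end Cfsg.Agent.WA.Ya.R5
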