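import Cfsg.Agent.WA.YaS8

/-! S3298, module YaSR: the finite computations. -/

set_option autoImplicit false
set_option synthInstance.maxSize 4096
set_option maxRecDepth 100000

namespace Cfsg.Agent.WA.Ya.SR

open Subgroup Equiv S8

def cv (F G : ℕ → ℕ) : ℕ → ℕ
  | 0 => 2 * (F 0 * G 1) + F 0 * G 10 + 2 * (F 1 * G 0) + F 1 * G 2 + F 2 * G 1 + 2 * (F 3 * G 3) + 4 * (F 3 * G 4) + 4 * (F 4 * G 3) + 4 * (F 4 * G 4) + 4 * (F 4 * G 5) + 4 * (F 5 * G 4) + 2 * (F 5 * G 5) + 8 * (F 6 * G 6) + 4 * (F 6 * G 7) + 4 * (F 7 * G 6) + 8 * (F 7 * G 7) + 4 * (F 8 * G 9) + 4 * (F 9 * G 8) + F 10 * G 0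
  | 1 => 2 * (F 0 * G 0) + F 0 * G 2 + 2 * (F 1 * G 1) + F 1 * G 10 + F 2 * G 0 + 4 * (F 3 * G 4) + 2 * (F 3 * G 5) + 4 * (F 4 * G 3) + 4 * (F 4 * G 4) + 4 * (F 4 * G 5) + 2 * (F 5 * G 3) + 4 * (F 5 * G 4) + 4 * (F 6 * G 6) + 8 * (F 6 * G 7) + 8 * (F 7 * G 6) + 4 * (F 7 * G 7) + 4 * (F 8 * G 8) + 4 * (F 9 * G 9) + F 10 * G 1
  | 2 => 3 * (F 0 * G 1) + 3 * (F 1 * G 0) + F 2 * G 10 + 6 * (F 3 * G 5) + 12 * (F 4 * G 4) + 6 * (F 5 * G 3) + 12 * (F 6 * G 7) + 12 * (F 7 * G 6) + 4 * (F 8 * G 9) + 4 * (F 9 * G 8) + F 10 * G 2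
  | 3 => F 0 * G 3 + 2 * (F 0 * G 4) + 2 * (F 1 * G 4) + F 1 * G 5 + F 2 * G 5 + F 3 * G 0 + 4 * (F 3 * G 6) + F 3 * G 10 + 2 * (F 4 * G 0) + 2 * (F 4 * G 1) + 4 * (F 4 * G 6) + 4 * (F 4 * G 7) + F 5 * G 1 + F 5 * G 2 + 4 * (F 5 * G 7) + 4 * (F 6 * G 3) + 4 * (F 6 * G 4) + 2 * (F 6 * G 8) + 2 * (F 6 * G 9) + 4 * (F 7 * G 4) + 4 * (F 7 * G 5) + 2 * (F 7 * G 8) + 2 * (F 7 * G 9) + 2 * (F 8 * G 6) + 2 * (F 8 * G 7) + 2 * (F 9 * G 6) + 2 * (F 9 * G 7) + F 10 * G 3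
  | 4 => F 0 * G 3 + F 0 * G 4 + F 0 * G 5 + F 1 * G 3 + F 1 * G 4 + F 1 * G 5 + F 2 * G 4 + F 3 * G 0 + F 3 * G 1 + 2 * (F 3 * G 6) + 2 * (F 3 * G 7) + F 4 * G 0 + F 4 * G 1 + F 4 * G 2 + 4 * (F 4 * G 6) + 4 * (F 4 * G 7) + F 4 * G 10 + F 5 * G 0 + F 5 * G 1 + 2 * (F 5 * G 6) + 2 * (F 5 * G 7) + 2 * (F 6 * G 3) + 4 * (F 6 * G 4) + 2 * (F 6 * G 5) + 2 * (F 6 * G 8) + 2 * (F 6 * G 9) + 2 * (F 7 * G 3) + 4 * (F 7 * G 4) + 2 * (F 7 * G 5) + 2 * (F 7 * G 8) + 2 * (F 7 * G 9) + 2 * (F 8 * G 6) + 2 * (F 8 * G 7) + 2 * (F 9 * G 6) + 2 * (F 9 * G 7) + F 10 * G 4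
  | 5 => 2 * (F 0 * G 4) + F 0 * G 5 + F 1 * G 3 + 2 * (F 1 * G 4) + F 2 * G 3 + F 3 * G 1 + F 3 * G 2 + 4 * (F 3 * G 7) + 2 * (F 4 * G 0) + 2 * (F 4 * G 1) + 4 * (F 4 * G 6) + 4 * (F 4 * G 7) + F 5 * G 0 + 4 * (F 5 * G 6) + F 5 * G 10 + 4 * (F 6 * G 4) + 4 * (F 6 * G 5) + 2 * (F 6 * G 8) + 2 * (F 6 * G 9) + 4 * (F 7 * G 3) + 4 * (F 7 * G 4) + 2 * (F 7 * G 8) + 2 * (F 7 * G 9) + 2 * (F 8 * G 6) + 2 * (F 8 * G 7) + 2 * (F 9 * G 6) + 2 * (F 9 * G 7) + F 10 * G 5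
  | 6 => 2 * (F 0 * G 6) + F 0 * G 7 + F 1 * G 6 + 2 * (F 1 * G 7) + F 2 * G 7 + 2 * (F 3 * G 3) + 2 * (F 3 * G 4) + F 3 * G 8 + F 3 * G 9 + 2 * (F 4 * G 3) + 4 * (F 4 * G 4) + 2 * (F 4 * G 5) + 2 * (F 4 * G 8) + 2 * (F 4 * G 9) + 2 * (F 5 * G 4) + 2 * (F 5 * G 5) + F 5 * G 8 + F 5 * G 9 + 2 * (F 6 * G 0) + F 6 * G 1 + 4 * (F 6 * G 6) + 4 * (F 6 * G 7) + F 6 * G 10 + F 7 * G 0 + 2 * (F 7 * G 1) + F 7 * G 2 + 4 * (F 7 * G 6) + 4 * (F 7 * G 7) + F 8 * G 3 + 2 * (F 8 * G 4) + F 8 * G 5 + F 9 * G 3 + 2 * (F 9 * G 4) + F 9 * G 5 + F 10 * G 6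
  | 7 => F 0 * G 6 + 2 * (F 0 * G 7) + 2 * (F 1 * G 6) + F 1 * G 7 + F 2 * G 6 + 2 * (F 3 * G 4) + 2 * (F 3 * G 5) + F 3 * G 8 + F 3 * G 9 + 2 * (F 4 * G 3) + 4 * (F 4 * G 4) + 2 * (F 4 * G 5) + 2 * (F 4 * G 8) + 2 * (F 4 * G 9) + 2 * (F 5 * G 3) + 2 * (F 5 * G 4) + F 5 * G 8 + F 5 * G 9 + F 6 * G 0 + 2 * (F 6 * G 1) + F 6 * G 2 + 4 * (F 6 * G 6) + 4 * (F 6 * G 7) + 2 * (F 7 * G 0) + F 7 * G 1 + 4 * (F 7 * G 6) + 4 * (F 7 * G 7) + F 7 * G 10 + F 8 * G 3 + 2 * (F 8 * G 4) + F 8 * G 5 + F 9 * G 3 + 2 * (F 9 * G 4) + F 9 * G 5 + F 10 * G 7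
  | 8 => 3 * (F 0 * G 9) + 3 * (F 1 * G 8) + F 2 * G 9 + 3 * (F 3 * G 6) + 3 * (F 3 * G 7) + 6 * (F 4 * G 6) + 6 * (F 4 * G 7) + 3 * (F 5 * G 6) + 3 * (F 5 * G 7) + 3 * (F 6 * G 3) + 6 * (F 6 * G 4) + 3 * (F 6 * G 5) + 3 * (F 7 * G 3) + 6 * (F 7 * G 4) + 3 * (F 7 * G 5) + 3 * (F 8 * G 1) + F 8 * G 10 + 3 * (F 9 * G 0) + F 9 * G 2 + F 10 * G 8
  | 9 => 3 * (F 0 * G 8) + 3 * (F 1 * G 9) + F 2 * G 8 + 3 * (F 3 * G 6) + 3 * (F 3 * G 7) + 6 * (F 4 * G 6) + 6 * (F 4 * G 7) + 3 * (F 5 * G 6) + 3 * (F 5 * G 7) + 3 * (F 6 * G 3) + 6 * (F 6 * G 4) + 3 * (F 6 * G 5) + 3 * (F 7 * G 3) + 6 * (F 7 * G 4) + 3 * (F 7 * G 5) + 3 * (F 8 * G 0) + F 8 * G 2 + 3 * (F 9 * G 1) + F 9 * G 10 + F 10 * G 9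
  | _ => 0

def bt (m i : ℕ) : ℕ := Nat.mod (Nat.shiftRight m i) 2
def tb (m i : ℕ) : Bool := Nat.beq (bt m i) 1
/-- `g` is constant on the block `m` -/
def cn (m : ℕ) (g : ℕ → ℕ) (b : ℕ) : Bool := [0, 1, 2, 3, 4, 5, 6, 7, 8, 9].all fun k => !tb m k || Nat.beq (g k) (g b)
def dj (a b : ℕ) : Bool := Nat.beq (Nat.land a b) 0

theorem st1 : (List.range 1024).all (fun a => !tb a 2 || tb a 0 || tb a 1 || !cn a (cv (bt a) (bt a)) 2 ||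
    !cn a (cv (bt a) (cv (bt a) (bt a))) 2 || [4, 12, 36, 908, 932].contains a) = true := by decide +kernel

theorem st2 : [(12, 97), (36, 73), (908, 33), (932, 9)].all (fun t => (List.range 1024).all fun b => !tb b 0 || tb b 1 || !dj t.1 b ||
    !cn b (cv (bt t.1) (bt t.1)) 0 || !cn b (cv (bt t.1) (bt b)) 0 || !cn t.1 (cv (bt t.1) (bt b)) 2 || Nat.beq b t.2) = true := by
  decide +kernel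

theorem st3 : [908, 932].all (fun a => (List.range 1024).all fun b => !tb b 1 || tb b 0 || !dj a b ||
    !cn b (cv (bt a) (bt a)) 1 || !cn b (cv (bt a) (bt b)) 1 || !cn a (cv (bt a) (bt b)) 2 || Nat.beq b 82) = true := by
  decide +kernel

theorem st4 : [(12, 97, 1, 258, 514), (36, 73, 1, 258, 514), (12, 97, 4, 400, 656), (36, 73, 4, 400, 656)].all (fun t =>
    (List.range 1024).all fun b => !tb b t.2.2.1 || (tb b 1 && tb b 7) || !dj t.1 b || !dj t.2.1 b || !cn b (cv (bt t.1) (bt b)) t.2.2.1 ||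
    !cn t.1 (cv (bt t.1) (bt b)) 2 || !cn t.2.1 (cv (bt t.1) (bt b)) 0 || Nat.beq b t.2.2.2.1 || Nat.beq b t.2.2.2.2) = true := by
  decide +kernel

end Cfsg.Agent.WA.Ya.SR
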