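import Cfsg.Agent.WA.YaSR0

/-! S3298, module YaSR: the finite computations. -/

set_option autoImplicit false
set_option synthInstance.maxSize 4096
set_option maxRecDepth 100000

namespace Cfsg.Agent.WA.Ya.SR

open Subgroup Equiv S8

/-- class of an element of `A` (10 for the identity) -/
def cl (a : I3) : ℕ := (68960989671390440050529446441392309403600098532576075236316795353512478257930 >>>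
  (4 * (16 * a.1.1 + 4 * a.2.1.1 + a.2.2.1))) % 16
def rq : Fin 10 → I3 := ![(1, 0, 0), (1, 1, 0), (1, 1, 1), (2, 0, 0), (2, 1, 0), (2, 1, 1), (2, 2, 0), (2, 2, 1), (2, 2, 2), (3, 2, 2)]

theorem cv_eq (F G : ℕ → ℕ) (k : Fin 10) : ∑ a : I3, F (cl a) * G (cl (xa a (rq k))) = cv F G k := by
  simp only [Fintype.sum_prod_type, Fin.sum_univ_four]
  fin_cases k
  · show (((F 10 * G 0 + F 0 * G 1 + F 3 * G 4 + F 3 * G 4) + (F 0 * G 1 + F 1 * G 2 + F 4 * G 5 + F 4 * G 5) + (F 3 * G 4 + F 4 * G 5 + F 6 * G 7 + F 6 * G 7) + (F 3 * G 4 + F 4 * G 5 + F 6 * G 7 + F 6 * G 7)) + ((F 0 * G 10 + F 1 * G 0 + F 4 * G 3 + F 4 * G 3) + (F 1 * G 0 + F 2 * G 1 + F 5 * G 4 + F 5 * G 4) + (F 4 * G 3 + F 5 * G 4 + F 7 * G 6 + F 7 * G 6) + (F 4 * G 3 + F 5 * G 4 + F 7 * G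 6 + F 7 * G 6)) + ((F 3 * G 3 + F 4 * G 4 + F 6 * G 6 + F 6 * G 6) + (F 4 * G 4 + F 5 * G 5 + F 7 * G 7 + F 7 * G 7) + (F 6 * G 6 + F 7 * G 7 + F 8 * G 9 + F 9 * G 8) + (F 6 * G 6 + F 7 * G 7 + F 9 * G 8 + F 8 * G 9)) + ((F 3 * G 3 + F 4 * G 4 + F 6 * G 6 + F 6 * G 6) + (F 4 * G 4 + F 5 * G 5 + F 7 * G 7 + F 7 * G 7) + (F 6 * G 6 + F 7 * G 7 + F 9 * G 8 + F 8 * G 9) + (F 6 * G 6 + F 7 * G 7 + F 8 * G 9 + F 9 * G 8))) = 2 * (F 0 * G 1) + F 0 * G 10 + 2 * (F 1 * G 0) + F 1 * G 2 + F 2 * G 1 + 2 * (F 3 * G 3) + 4 * (F 3 * G 4) + 4 * (F 4 * G 3) + 4 * (F 4 * G 4) + 4 * (F 4 * G 5) + 4 * (F 5 * G 4) + 2 * (F 5 * G 5) + 8 * (F 6 * G 6) + 4 * (F 6 * G 7) + 4 * (F 7 * G 6) + 8 * (F 7 * G 7) + 4 * (F 8 * G 9) + 4 * (F 9 * G 8) + F 10 * G 0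
    omega
  · show (((F 10 * G 1 + F 0 * G 2 + F 3 * G 5 + F 3 * G 5) + (F 0 * G 0 + F 1 * G 1 + F 4 * G 4 + F 4 * G 4) + (F 3 * G 4 + F 4 * G 5 + F 6 * G 7 + F 6 * G 7) + (F 3 * G 4 + F 4 * G 5 + F 6 * G 7 + F 6 * G 7)) + ((F 0 * G 0 + F 1 * G 1 + F 4 * G 4 + F 4 * G 4) + (F 1 * G 10 + F 2 * G 0 + F 5 * G 3 + F 5 * G 3) + (F 4 * G 3 + F 5 * G 4 + F 7 * G 6 + F 7 * G 6) + (F 4 * G 3 + F 5 * G 4 + F 7 * G 6 + F 7 * G 6)) + ((F 3 * G 4 + F 4 * G 5 + F 6 * G 7 + F 6 * G 7) + (F 4 * G 3 + F 5 * G 4 + F 7 * G 6 + F 7 * G 6) + (F 6 * G 6 + F 7 * G 7 + F 8 * G 8 + F 9 * G 9) + (F 6 * G 6 + F 7 * G 7 + F 9 * G 9 + F 8 * G 8)) + ((F 3 * G 4 + F 4 * G 5 + F 6 * G 7 + F 6 * G 7) + (F 4 * G 3 + F 5 * G 4 + F 7 * G 6 + F 7 * G 6) + (F 6 * G 6 + F 7 * G 7 + F 9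 * G 9 + F 8 * G 8) + (F 6 * G 6 + F 7 * G 7 + F 8 * G 8 + F 9 * G 9))) = 2 * (F 0 * G 0) + F 0 * G 2 + 2 * (F 1 * G 1) + F 1 * G 10 + F 2 * G 0 + 4 * (F 3 * G 4) + 2 * (F 3 * G 5) + 4 * (F 4 * G 3) + 4 * (F 4 * G 4) + 4 * (F 4 * G 5) + 2 * (F 5 * G 3) + 4 * (F 5 * G 4) + 4 * (F 6 * G 6) + 8 * (F 6 * G 7) + 8 * (F 7 * G 6) + 4 * (F 7 * G 7) + 4 * (F 8 * G 8) + 4 * (F 9 * G 9) + F 10 * G 1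
    omega
  · show (((F 10 * G 2 + F 0 * G 1 + F 3 * G 5 + F 3 * G 5) + (F 0 * G 1 + F 1 * G 0 + F 4 * G 4 + F 4 * G 4) + (F 3 * G 5 + F 4 * G 4 + F 6 * G 7 + F 6 * G 7) + (F 3 * G 5 + F 4 * G 4 + F 6 * G 7 + F 6 * G 7)) + ((F 0 * G 1 + F 1 * G 0 + F 4 * G 4 + F 4 * G 4) + (F 1 * G 0 + F 2 * G 10 + F 5 * G 3 + F 5 * G 3) + (F 4 * G 4 + F 5 * G 3 + F 7 * G 6 + F 7 * G 6) + (F 4 * G 4 + F 5 * G 3 + F 7 * G 6 + F 7 * G 6)) + ((F 3 * G 5 + F 4 * G 4 + F 6 * G 7 + F 6 * G 7) + (F 4 * G 4 + F 5 * G 3 + F 7 * G 6 + F 7 * G 6) + (F 6 * G 7 + F 7 * G 6 + F 8 * G 9 + F 9 * G 8) + (F 6 * G 7 + F 7 * G 6 + F 9 * G 8 + F 8 * G 9)) + ((F 3 * G 5 + F 4 * G 4 + F 6 * G 7 + F 6 * G 7) + (F 4 * G 4 + F 5 * G 3 + F 7 * G 6 + F 7 * G 6) + (F 6 * G 7 + F 7 * G 6 + F 9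 * G 8 + F 8 * G 9) + (F 6 * G 7 + F 7 * G 6 + F 8 * G 9 + F 9 * G 8))) = 3 * (F 0 * G 1) + 3 * (F 1 * G 0) + F 2 * G 10 + 6 * (F 3 * G 5) + 12 * (F 4 * G 4) + 6 * (F 5 * G 3) + 12 * (F 6 * G 7) + 12 * (F 7 * G 6) + 4 * (F 8 * G 9) + 4 * (F 9 * G 8) + F 10 * G 2
    omega
  · show (((F 10 * G 3 + F 0 * G 4 + F 3 * G 6 + F 3 * G 6) + (F 0 * G 4 + F 1 * G 5 + F 4 * G 7 + F 4 * G 7) + (F 3 * G 6 + F 4 * G 7 + F 6 * G 8 + F 6 * G 9) + (F 3 * G 6 + F 4 * G 7 + F 6 * G 9 + F 6 * G 8)) + ((F 0 * G 3 + F 1 * G 4 + F 4 * G 6 + F 4 * G 6) + (F 1 * G 4 + F 2 * G 5 + F 5 * G 7 + F 5 * G 7) + (F 4 * G 6 + F 5 * G 7 + F 7 * G 9 + F 7 * G 8) + (F 4 * G 6 + F 5 * G 7 + F 7 * G 8 + F 7 * G 9)) + ((F 3 * G 10 + F 4 * G 0 + F 6 * G 3 + F 6 * G 3) + (F 4 * G 0 + F 5 *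 G 1 + F 7 * G 4 + F 7 * G 4) + (F 6 * G 3 + F 7 * G 4 + F 8 * G 6 + F 9 * G 6) + (F 6 * G 3 + F 7 * G 4 + F 9 * G 6 + F 8 * G 6)) + ((F 3 * G 0 + F 4 * G 1 + F 6 * G 4 + F 6 * G 4) + (F 4 * G 1 + F 5 * G 2 + F 7 * G 5 + F 7 * G 5) + (F 6 * G 4 + F 7 * G 5 + F 9 * G 7 + F 8 * G 7) + (F 6 * G 4 + F 7 * G 5 + F 8 * G 7 + F 9 * G 7))) = F 0 * G 3 + 2 * (F 0 * G 4) + 2 * (F 1 * G 4) + F 1 * G 5 + F 2 * G 5 + F 3 * G 0 + 4 * (F 3 * G 6) + F 3 * G 10 + 2 * (F 4 * G 0) + 2 * (F 4 * G 1) + 4 * (F 4 * G 6) + 4 * (F 4 * G 7) + F 5 * G 1 + F 5 * G 2 + 4 * (F 5 * G 7) + 4 * (F 6 * G 3) + 4 * (F 6 * G 4) + 2 * (F 6 * G 8) + 2 * (F 6 * G 9) + 4 * (F 7 * G 4) + 4 * (F 7 * G 5) + 2 * (F 7 * G 8) + 2 * (F 7 * G 9) + 2 * (F 8 * G 6) + 2 * (F 8 * G 7) + 2 * (F 9 * G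 6) + 2 * (F 9 * G 7) + F 10 * G 3
    omega
  · show (((F 10 * G 4 + F 0 * G 5 + F 3 * G 7 + F 3 * G 7) + (F 0 * G 3 + F 1 * G 4 + F 4 * G 6 + F 4 * G 6) + (F 3 * G 6 + F 4 * G 7 + F 6 * G 9 + F 6 * G 8) + (F 3 * G 6 + F 4 * G 7 + F 6 * G 8 + F 6 * G 9)) + ((F 0 * G 4 + F 1 * G 5 + F 4 * G 7 + F 4 * G 7) + (F 1 * G 3 + F 2 * G 4 + F 5 * G 6 + F 5 * G 6) + (F 4 * G 6 + F 5 * G 7 + F 7 * G 8 + F 7 * G 9) + (F 4 * G 6 + F 5 * G 7 + F 7 * G 9 + F 7 * G 8)) + ((F 3 * G 0 + F 4 * G 1 + F 6 * G 4 + F 6 * G 4) + (F 4 * G 10 + F 5 * G 0 + F 7 * G 3 + F 7 * G 3) + (F 6 * G 3 + F 7 * G 4 + F 8 * G 6 + F 9 * G 6) + (F 6 * G 3 + F 7 * G 4 + F 9 * G 6 + F 8 * G 6)) + ((F 3 * G 1 + F 4 * G 2 + F 6 * G 5 + F 6 * G 5) + (F 4 * G 0 + F 5 * G 1 + F 7 * G 4 + F 7 * G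 4) + (F 6 * G 4 + F 7 * G 5 + F 9 * G 7 + F 8 * G 7) + (F 6 * G 4 + F 7 * G 5 + F 8 * G 7 + F 9 * G 7))) = F 0 * G 3 + F 0 * G 4 + F 0 * G 5 + F 1 * G 3 + F 1 * G 4 + F 1 * G 5 + F 2 * G 4 + F 3 * G 0 + F 3 * G 1 + 2 * (F 3 * G 6) + 2 * (F 3 * G 7) + F 4 * G 0 + F 4 * G 1 + F 4 * G 2 + 4 * (F 4 * G 6) + 4 * (F 4 * G 7) + F 4 * G 10 + F 5 * G 0 + F 5 * G 1 + 2 * (F 5 * G 6) + 2 * (F 5 * G 7) + 2 * (F 6 * G 3) + 4 * (F 6 * G 4) + 2 * (F 6 * G 5) + 2 * (F 6 * G 8) + 2 * (F 6 * G 9) + 2 * (F 7 * G 3) + 4 * (F 7 * G 4) + 2 * (F 7 * G 5) + 2 * (F 7 * G 8) + 2 * (F 7 * G 9) + 2 * (F 8 * G 6) + 2 * (F 8 * G 7) + 2 * (F 9 * G 6) + 2 * (F 9 * G 7) + F 10 * G 4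
    omega
  · show (((F 10 * G 5 + F 0 * G 4 + F 3 * G 7 + F 3 * G 7) + (F 0 * G 4 + F 1 * G 3 + F 4 * G 6 + F 4 * G 6) + (F 3 * G 7 + F 4 * G 6 + F 6 * G 8 + F 6 * G 9) + (F 3 * G 7 + F 4 * G 6 + F 6 * G 9 + F 6 * G 8)) + ((F 0 * G 5 + F 1 * G 4 + F 4 * G 7 + F 4 * G 7) + (F 1 * G 4 + F 2 * G 3 + F 5 * G 6 + F 5 * G 6) + (F 4 * G 7 + F 5 * G 6 + F 7 * G 9 + F 7 * G 8) + (F 4 * G 7 + F 5 * G 6 + F 7 * G 8 + F 7 * G 9)) + ((F 3 * G 1 + F 4 * G 0 + F 6 * G 4 + F 6 * G 4) + (F 4 * G 0 + F 5 * G 10 + F 7 * G 3 + F 7 * G 3) + (F 6 * G 4 + F 7 * G 3 + F 8 * G 6 + F 9 * G 6) + (F 6 * G 4 + F 7 * G 3 + F 9 * G 6 + F 8 * G 6)) + ((F 3 * G 2 + F 4 * G 1 + F 6 * G 5 + F 6 * G 5) + (F 4 * G 1 + F 5 * G 0 + F 7 * G 4 + F 7 * G 4) + (F 6 * G 5 + F 7 * G 4 + F 9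 * G 7 + F 8 * G 7) + (F 6 * G 5 + F 7 * G 4 + F 8 * G 7 + F 9 * G 7))) = 2 * (F 0 * G 4) + F 0 * G 5 + F 1 * G 3 + 2 * (F 1 * G 4) + F 2 * G 3 + F 3 * G 1 + F 3 * G 2 + 4 * (F 3 * G 7) + 2 * (F 4 * G 0) + 2 * (F 4 * G 1) + 4 * (F 4 * G 6) + 4 * (F 4 * G 7) + F 5 * G 0 + 4 * (F 5 * G 6) + F 5 * G 10 + 4 * (F 6 * G 4) + 4 * (F 6 * G 5) + 2 * (F 6 * G 8) + 2 * (F 6 * G 9) + 4 * (F 7 * G 3) + 4 * (F 7 * G 4) + 2 * (F 7 * G 8) + 2 * (F 7 * G 9) + 2 * (F 8 * G 6) + 2 * (F 8 * G 7) + 2 * (F 9 * G 6) + 2 * (F 9 * G 7) + F 10 * G 5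
    omega
  · show (((F 10 * G 6 + F 0 * G 7 + F 3 * G 8 + F 3 * G 9) + (F 0 * G 6 + F 1 * G 7 + F 4 * G 9 + F 4 * G 8) + (F 3 * G 3 + F 4 * G 4 + F 6 * G 6 + F 6 * G 6) + (F 3 * G 4 + F 4 * G 5 + F 6 * G 7 + F 6 * G 7)) + ((F 0 * G 6 + F 1 * G 7 + F 4 * G 9 + F 4 * G 8) + (F 1 * G 6 + F 2 * G 7 + F 5 * G 8 + F 5 * G 9) + (F 4 * G 3 + F 5 * G 4 + F 7 * G 6 + F 7 * G 6) + (F 4 * G 4 + F 5 * G 5 + F 7 * G 7 + F 7 * G 7)) + ((F 3 * G 3 + F 4 * G 4 + F 6 * G 6 + F 6 * G 6) + (F 4 * G 3 + F 5 * G 4 + F 7 * G 6 + F 7 * G 6) + (F 6 * G 10 + F 7 * G 0 + F 8 * G 3 + F 9 * G 3) + (F 6 * G 0 + F 7 * G 1 + F 9 * G 4 + F 8 * G 4)) + ((F 3 * G 4 + F 4 * G 5 + F 6 * G 7 + F 6 * G 7) + (F 4 * G 4 + F 5 * G 5 + F 7 * G 7 + F 7 * G 7) + (F 6 * G 0 + F 7 * G 1 + F 9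 * G 4 + F 8 * G 4) + (F 6 * G 1 + F 7 * G 2 + F 8 * G 5 + F 9 * G 5))) = 2 * (F 0 * G 6) + F 0 * G 7 + F 1 * G 6 + 2 * (F 1 * G 7) + F 2 * G 7 + 2 * (F 3 * G 3) + 2 * (F 3 * G 4) + F 3 * G 8 + F 3 * G 9 + 2 * (F 4 * G 3) + 4 * (F 4 * G 4) + 2 * (F 4 * G 5) + 2 * (F 4 * G 8) + 2 * (F 4 * G 9) + 2 * (F 5 * G 4) + 2 * (F 5 * G 5) + F 5 * G 8 + F 5 * G 9 + 2 * (F 6 * G 0) + F 6 * G 1 + 4 * (F 6 * G 6) + 4 * (F 6 * G 7) + F 6 * G 10 + F 7 * G 0 + 2 * (F 7 * G 1) + F 7 * G 2 + 4 * (F 7 * G 6) + 4 * (F 7 * G 7) + F 8 * G 3 + 2 * (F 8 * G 4) + F 8 * G 5 + F 9 * G 3 + 2 * (F 9 * G 4) + F 9 * G 5 + F 10 * G 6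
    omega
  · show (((F 10 * G 7 + F 0 * G 6 + F 3 * G 9 + F 3 * G 8) + (F 0 * G 7 + F 1 * G 6 + F 4 * G 8 + F 4 * G 9) + (F 3 * G 4 + F 4 * G 3 + F 6 * G 6 + F 6 * G 6) + (F 3 * G 5 + F 4 * G 4 + F 6 * G 7 + F 6 * G 7)) + ((F 0 * G 7 + F 1 * G 6 + F 4 * G 8 + F 4 * G 9) + (F 1 * G 7 + F 2 * G 6 + F 5 * G 9 + F 5 * G 8) + (F 4 * G 4 + F 5 * G 3 + F 7 * G 6 + F 7 * G 6) + (F 4 * G 5 + F 5 * G 4 + F 7 * G 7 + F 7 * G 7)) + ((F 3 * G 4 + F 4 * G 3 + F 6 * G 6 + F 6 * G 6) + (F 4 * G 4 + F 5 * G 3 + F 7 * G 6 + F 7 * G 6) + (F 6 * G 0 + F 7 * G 10 + F 8 * G 3 + F 9 * G 3) + (F 6 * G 1 + F 7 * G 0 + F 9 * G 4 + F 8 * G 4)) + ((F 3 * G 5 + F 4 * G 4 + F 6 * G 7 + F 6 * G 7) + (F 4 * G 5 + F 5 * G 4 + F 7 * G 7 + F 7 * G 7) + (F 6 * G 1 + F 7 * G 0 + F 9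 * G 4 + F 8 * G 4) + (F 6 * G 2 + F 7 * G 1 + F 8 * G 5 + F 9 * G 5))) = F 0 * G 6 + 2 * (F 0 * G 7) + 2 * (F 1 * G 6) + F 1 * G 7 + F 2 * G 6 + 2 * (F 3 * G 4) + 2 * (F 3 * G 5) + F 3 * G 8 + F 3 * G 9 + 2 * (F 4 * G 3) + 4 * (F 4 * G 4) + 2 * (F 4 * G 5) + 2 * (F 4 * G 8) + 2 * (F 4 * G 9) + 2 * (F 5 * G 3) + 2 * (F 5 * G 4) + F 5 * G 8 + F 5 * G 9 + F 6 * G 0 + 2 * (F 6 * G 1) + F 6 * G 2 + 4 * (F 6 * G 6) + 4 * (F 6 * G 7) + 2 * (F 7 * G 0) + F 7 * G 1 + 4 * (F 7 * G 6) + 4 * (F 7 * G 7) + F 7 * G 10 + F 8 * G 3 + 2 * (F 8 * G 4) + F 8 * G 5 + F 9 * G 3 + 2 * (F 9 * G 4) + F 9 * G 5 + F 10 * G 7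
    omega
  · show (((F 10 * G 8 + F 0 * G 9 + F 3 * G 6 + F 3 * G 7) + (F 0 * G 9 + F 1 * G 8 + F 4 * G 6 + F 4 * G 7) + (F 3 * G 6 + F 4 * G 6 + F 6 * G 3 + F 6 * G 4) + (F 3 * G 7 + F 4 * G 7 + F 6 * G 4 + F 6 * G 5)) + ((F 0 * G 9 + F 1 * G 8 + F 4 * G 6 + F 4 * G 7) + (F 1 * G 8 + F 2 * G 9 + F 5 * G 6 + F 5 * G 7) + (F 4 * G 6 + F 5 * G 6 + F 7 * G 3 + F 7 * G 4) + (F 4 * G 7 + F 5 * G 7 + F 7 * G 4 + F 7 * G 5)) + ((F 3 * G 6 + F 4 * G 6 + F 6 * G 3 + F 6 * G 4) + (F 4 * G 6 + F 5 * G 6 + F 7 * G 3 + F 7 * G 4) + (F 6 * G 3 + F 7 * G 3 + F 8 * G 10 + F 9 * G 0) + (F 6 * G 4 + F 7 * G 4 + F 9 * G 0 + F 8 * G 1)) + ((F 3 * G 7 + F 4 * G 7 + F 6 * G 4 + F 6 * G 5) + (F 4 * G 7 + F 5 * G 7 + F 7 * G 4 + F 7 * G 5) + (F 6 * G 4 + F 7 * G 4 + F 9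 * G 0 + F 8 * G 1) + (F 6 * G 5 + F 7 * G 5 + F 8 * G 1 + F 9 * G 2))) = 3 * (F 0 * G 9) + 3 * (F 1 * G 8) + F 2 * G 9 + 3 * (F 3 * G 6) + 3 * (F 3 * G 7) + 6 * (F 4 * G 6) + 6 * (F 4 * G 7) + 3 * (F 5 * G 6) + 3 * (F 5 * G 7) + 3 * (F 6 * G 3) + 6 * (F 6 * G 4) + 3 * (F 6 * G 5) + 3 * (F 7 * G 3) + 6 * (F 7 * G 4) + 3 * (F 7 * G 5) + 3 * (F 8 * G 1) + F 8 * G 10 + 3 * (F 9 * G 0) + F 9 * G 2 + F 10 * G 8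
    omega
  · show (((F 10 * G 9 + F 0 * G 8 + F 3 * G 6 + F 3 * G 7) + (F 0 * G 8 + F 1 * G 9 + F 4 * G 6 + F 4 * G 7) + (F 3 * G 6 + F 4 * G 6 + F 6 * G 3 + F 6 * G 4) + (F 3 * G 7 + F 4 * G 7 + F 6 * G 4 + F 6 * G 5)) + ((F 0 * G 8 + F 1 * G 9 + F 4 * G 6 + F 4 * G 7) + (F 1 * G 9 + F 2 * G 8 + F 5 * G 6 + F 5 * G 7) + (F 4 * G 6 + F 5 * G 6 + F 7 * G 3 + F 7 * G 4) + (F 4 * G 7 + F 5 * G 7 + F 7 * G 4 + F 7 * G 5)) + ((F 3 * G 7 + F 4 * G 7 + F 6 * G 4 + F 6 * G 5) + (F 4 * G 7 + F 5 * G 7 + F 7 * G 4 + F 7 * G 5) + (F 6 * G 4 + F 7 * G 4 + F 8 * G 0 + F 9 * G 1) + (F 6 * G 5 + F 7 * G 5 + F 9 * G 1 + F 8 * G 2)) + ((F 3 * G 6 + F 4 * G 6 + F 6 * G 3 + F 6 * G 4) + (F 4 * G 6 + F 5 * G 6 + F 7 * G 3 + F 7 * G 4) + (F 6 * G 3 + F 7 * G 3 + F 9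 * G 10 + F 8 * G 0) + (F 6 * G 4 + F 7 * G 4 + F 8 * G 0 + F 9 * G 1))) = 3 * (F 0 * G 8) + 3 * (F 1 * G 9) + F 2 * G 8 + 3 * (F 3 * G 6) + 3 * (F 3 * G 7) + 6 * (F 4 * G 6) + 6 * (F 4 * G 7) + 3 * (F 5 * G 6) + 3 * (F 5 * G 7) + 3 * (F 6 * G 3) + 6 * (F 6 * G 4) + 3 * (F 6 * G 5) + 3 * (F 7 * G 3) + 6 * (F 7 * G 4) + 3 * (F 7 * G 5) + 3 * (F 8 * G 0) + F 8 * G 2 + 3 * (F 9 * G 1) + F 9 * G 10 + F 10 * G 9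
    omega


theorem av_rq : ∀ k, av (rq k) = rep k := by decide +kernel
theorem cl_lt : ∀ a : I3, (a = (0, 0, 0) ∧ cl a = 10) ∨ (a ≠ (0, 0, 0) ∧ cl a < 10) := by decide +kernel
def tv : Fin 3 → P := ![1, r 0 2 * r 1 3 * (r 2 4 * r 3 5), r 2 4 * r 3 5 * (r 0 2 * r 1 3)]
def tc (t : Fin 3) : ℕ := K.cp (tv t)
theorem tv_H (t : Fin 3) : tv t ∈ H := by
  have h : ∀ i j : Fin 6, i ≠ j → r i j ∈ H := fun i j h => G1.r_mem h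
  fin_cases t
  exacts [one_mem _, mul_mem (mul_mem (h _ _ (by decide)) (h _ _ (by decide))) (mul_mem (h _ _ (by decide)) (h _ _ (by decide))),
    mul_mem (mul_mem (h _ _ (by decide)) (h _ _ (by decide))) (mul_mem (h _ _ (by decide)) (h _ _ (by decide)))]
theorem cl_c : ∀ a : I3, ∀ k : Fin 10, cl a = k → ∃ t b, K.mu (K.mu (tc t) (bc b)) (ac (rq k)) = K.mu (ac a) (K.mu (tc t) (bc b)) := by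
  decide +kernel

theorem cl_rep (a : I3) (k : Fin 10) (h : cl a = k) : ∃ g ∈ H, g * rep k * g⁻¹ = av a := by
  obtain ⟨t, b, e⟩ := cl_c a k h
  have m := mul_mem (tv_H t) (bv_H b)
  refine ⟨_, m, mul_inv_eq_iff_eq_mul.2 (cpi (mul_mem m (av_rq k ▸ av_H _)) (mul_mem (av_H _) m) ?_)⟩
  rw [← av_rq, cpm m, cpm (av_H _), cpm (tv_H t), cp_av, cp_av, cp_bv]; exact e

end Cfsg.Agent.WA.Ya.SR
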