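import Mathlib.GroupTheory.Sylow
import Mathlib.Data.ZMod.Basic

/-! S3298, the `Sp₆(2)` branch: the thirty reflections of `W(D₆)` by tables. -/

set_option autoImplicit false

namespace Cfsg.Agent.WA.Ys

def cjT : ℕ := 0xef319d6e95b5e7273e116b16a31d0929062083bcce37aad2f69c9ee8c1ac5a8e64a0a418820c677ae7653ad2d7635ee8456a214e64246208338debbc9cab4bd9ac7ba305a8a43992818820d6f9dce2f694e958c18d73d6a4a08531c620837aef338bda72ad2306b1ee5a928290e618820a5653ce2f6e775b52dee6b21110ce629109082b49cb38bdbbcde96a7b9ac8c062398a44a020b5f7a94f9dad3198c14b6b1cf4a043290c7082f6dea72ef2b4ce2305a9ac7b928188a439820ef2d7a575bc66728c1ee52d8d4a0e610c85083bcbdab4deb389ca307b96a6b128398622902073d8dce14bad2728c39dd6ed7004e629062425ee6b3385aab49ca30ef37abd820398a4189288477a636f652e72e75eec66954a0012906231e30de9acbd96a9cbbc7bb38ad128080a4188e6ef21173ef6ad14bd6f196b2534a0e600462217bc8c1eebdab45ab7ace1ac9c92839820188a4ef37ace21173d8db5e9594d6a4a0e62900110fbcdeb388c1ee6b2f6ad2725a928398a40806231c85ce043ad272005ee6b16a4a39dd6ed7844e62933818ab49c8207b9ac5a928ef37abda304277a216f610e728c0016b16ae74e6c669573d28de8a4bd8629ca30081ac5abbc39b38ad1eeef10931ef6ad0438c1ee0056ad6f1929253637bc4a0e6bdab418a307b8205ab7ace0a49c9acef37ace10931c858c1ee6b001b5e9594c6252fbcdeb384a0e6292307b9ac082f6ad2721896aef37ace2f6ad272424c721443845cf6354b083bcdeb38bdab49c928398a418a307b9ac5a820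
def frT : ℕ := 0x90240a0280b02c0c0300d0340e0380c0b02d0b42e0b82e1384c2b0ad2b4ae2b8ae338ce4b92

/-- the index of `r k * r l * r k` -/
def cj (k l : Fin 30) : Fin 30 := ⟨(cjT >>> (5 * (30 * k.1 + l.1))) % 32 % 30, Nat.mod_lt _ (by decide)⟩
/-- the partner: same pair of blocks, other sign -/
def pa (k : Fin 30) : Fin 30 := ⟨(k.1 ^^^ 1) % 30, Nat.mod_lt _ (by decide)⟩
/-- the two further pairs of a frame through `k` -/
def f1 (k : Fin 30) : Fin 30 := ⟨(frT >>> (5 * (2 * k.1))) % 32 % 30, Nat.mod_lt _ (by decide)⟩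
def f2 (k : Fin 30) : Fin 30 := ⟨(frT >>> (5 * (2 * k.1 + 1))) % 32 % 30, Nat.mod_lt _ (by decide)⟩

/-- what is used of `C(d) ≅ W(D₆)`, when `D ∩ C(d)` consists of `d` and the thirty reflections -/
structure Loc {G : Type*} [Group G] (D : Set G) (d : G) (r : Fin 30 → G) : Prop where
  mem : ∀ x, (x ∈ D ∧ x * d = d * x) ↔ (x = d ∨ ∃ k, x = r k)
  ne : ∀ k, r k ≠ d
  inj : Function.Injective r
  sq : ∀ k, r k * r k = 1
  cj : ∀ k l, r k * r l * r k = r (cj k l)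
  prod : ∀ k, r k * r (pa k) * r (f1 k) * r (pa (f1 k)) * r (f2 k) * r (pa (f2 k)) = d
  sgn : ∃ χ : G → ℤˣ, (∀ g h, g * d = d * g → h * d = d * h → χ (g * h) = χ g * χ h) ∧ ∀ k, χ (r k) = -1
  cen : ∀ g, g * d = d * g → (∀ k, g * r k = r k * g) → g = 1 ∨ g = d
  ne1 : d ≠ 1

/-- a conjugacy class `D` with `Loc` at every point, whose centralizers contain Sylow 2-subgroups -/
structure Ctx (G : Type*) [Group G] where
  D : Set G
  α : G
  hD : ∀ x, x ∈ D ↔ IsConj α x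
  loc : ∀ d ∈ D, ∃ r, Loc D d r
  syl : ∃ S : Sylow 2 G, ∀ s ∈ (S : Subgroup G), s * α = α * s

end Cfsg.Agent.WA.Ys
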